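import Cfsg.Agent.Lib.BenderQ.Classify
import Cfsg.Agent.Lib.ClassicalGroups.HermGroup
import Cfsg.Agent.Lib.CITGraph.PSLEven

/-!
The groups of Bender type of order prime to three are the Suzuki groups.
-/

set_option autoImplicit false

namespace CfsgLib.ThreeFree

universe u

theorem three_dvd_sq_sub_one {q : ℕ} (hq : ¬ 3 ∣ q) : 3 ∣ q ^ 2 - 1 := by
  have h : q % 3 = 1 ∨ q % 3 = 2 := by omega
  have h2 : q ^ 2 % 3 = 1 := by
    rcases h with h | h <;> simp [Nat.pow_mod, h]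
  omega

theorem not_three_dvd_two_pow (n : ℕ) : ¬ 3 ∣ 2 ^ n := fun h =>
  absurd (Nat.prime_three.dvd_of_dvd_pow h) (by decide)

/-- The order of `PSU₃(q)` in even characteristic is divisible by three. -/
theorem three_dvd_card_psu {F : Type} [Field F] [Fintype F] {q : ℕ} (hF : Fintype.card F = q ^ 2)
    (hq2 : 2 ≤ q) (hq : ¬ 3 ∣ q) : 3 ∣ Nat.card (Cfsg.PSU 3 F q) := by
  have h := CfsgLib.ClassicalGroups.card_GU hF 3
  rw [← CfsgLib.ClassicalGroups.card_SU_mul hF (show 1 ≤ 3 by norm_num),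
    CfsgLib.ClassicalGroups.card_SU_eq_center_mul_PSU 3,
    CfsgLib.ClassicalGroups.card_center_SU hF (show 1 ≤ 3 by norm_num)] at h
  simp [Finset.prod_range_succ, parity_simps] at h
  by_contra hn
  have h2 := three_dvd_sq_sub_one hq
  have hg : Nat.gcd 3 (q + 1) = 1 ∨ Nat.gcd 3 (q + 1) = 3 :=
    (Nat.dvd_prime Nat.prime_three).1 (Nat.gcd_dvd_left _ _)
  have hc : Nat.card (Cfsg.PSU 3 F q) * Nat.gcd 3 (q + 1) = q ^ 3 * ((q ^ 2 - 1) * (q ^ 3 + 1)) := by
    refine Nat.eq_of_mul_eq_mul_right (show 0 < q + 1 by omega) ?_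
    linear_combination h
  rcases hg with hg | hg
  · rw [hg, mul_one] at hc
    exact hn (hc ▸ (h2.mul_right _).mul_left _)
  · have h3 : 3 ∣ q ^ 3 + 1 := by
      have h4 : 3 ∣ q + 1 := hg ▸ Nat.gcd_dvd_right 3 (q + 1)
      obtain ⟨k, hk⟩ := h4
      have hq' : q % 3 = 2 := by omega
      have : q ^ 3 % 3 = 2 := by simp [Nat.pow_mod, hq']
      omega
    rw [hg] at hc
    obtain ⟨a, ha⟩ := h2
    obtain ⟨b, hb⟩ := h3
    rw [ha, hb] at hc
    refine hn ⟨q ^ 3 * a * b, Nat.eq_of_mul_eq_mul_right (show 0 < 3 by norm_num) ?_⟩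
    rw [hc]; ring

/-- A group of Bender type of order prime to three is a Suzuki group. -/
theorem isoSuzuki_of_benderType {G : Type u} [Group G] [Finite G] (h : CfsgLib.BenderQ.IsBenderType G)
    (h3 : ¬ 3 ∣ Nat.card G) : Cfsg.Lie.IsoSuzuki G := by
  rcases h with ⟨F, _, _, ⟨n, hn, hF⟩, ⟨f⟩⟩ | h | ⟨F, _, _, n, hn, hF, ⟨f⟩⟩
  · refine absurd ?_ h3
    rw [Nat.card_congr f.toEquiv, CfsgLib.CITGraph.card_psl_two (by omega) hF]
    refine Dvd.dvd.mul_left ?_ _
    rw [mul_comm, pow_mul]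
    exact three_dvd_sq_sub_one (not_three_dvd_two_pow n)
  · exact h
  · refine absurd ?_ h3
    rw [Nat.card_congr f.toEquiv]
    exact three_dvd_card_psu hF (by
      have : 2 ^ 2 ≤ 2 ^ n := Nat.pow_le_pow_right (by norm_num) hn
      omega) (not_three_dvd_two_pow n)

end CfsgLib.ThreeFree
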