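import Cfsg.Agent.Lib.SFour.StrongControl
import Cfsg.Agent.Lib.SFour.Ctrl
import Cfsg.Agent.Lib.PLocal.Thompson
import Cfsg.Agent.Lib.Involutions.BrauerSuzuki
import Cfsg.Agent.Lib.Involutions.Fusion
import Cfsg.Agent.Lib.PLocal5.PGroupBasic
import Cfsg.Agent.Lib.PF.OddOrder
import Cfsg.Prelude.Def_TwoFusion

/-!
In a simple group of order prime to `3` a minimal normal subgroup of `N(W)` in `W = wUniv(S)` is a
strongly closed elementary abelian subgroup of order at least `8` whose normalizer is irreducible on it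
and controls fusion in it.
-/

set_option autoImplicit false
set_option linter.style.haveILetI false

namespace CfsgLib.ThreeFree

open Subgroup

universe u

variable {G : Type u} [Group G] [Finite G]

omit [Finite G] in
/-- The symmetric group of degree `4` is no section of a group of order prime to `3`. -/
theorem not_involves_symFour (h3 : ¬ 3 ∣ Nat.card G) : ¬ Cfsg.Involves (Equiv.Perm (Fin 4)) G := by
  rintro ⟨K, R, hn, ⟨e⟩⟩
  refine h3 (dvd_trans (dvd_trans ?_ (Subgroup.card_quotient_dvd_card (R.subgroupOf K)))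
    (Subgroup.card_subgroup_dvd_card K))
  rw [Nat.card_congr e.toEquiv, Nat.card_perm, Nat.card_fin]
  decide

/-- A non-abelian simple group has even order. -/
theorem even_card_of_simple [IsSimpleGroup G] (hnc : ∃ a b : G, a * b ≠ b * a) : 2 ∣ Nat.card G := by
  by_contra h2
  haveI := CfsgLib.PF.oddSolvable G (Nat.odd_iff.2 (by omega))
  obtain ⟨a, b, hab⟩ := hnc
  exact hab (IsSimpleGroup.comm_iff_isSolvable.2 inferInstance a b)

/-- The odd core of a non-abelian simple group is trivial. -/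
theorem pPrimeCore_eq_bot_of_simple [IsSimpleGroup G] (hnc : ∃ a b : G, a * b ≠ b * a) :
    Cfsg.pPrimeCore 2 G = ⊥ := by
  refine (Cfsg.pPrimeCore_normal 2 G).eq_bot_or_eq_top.resolve_right fun e => ?_
  have h := CfsgLib.PCore.pPrimeCore_coprime (p := 2) (G := G)
  rw [e, Subgroup.card_top] at h
  exact Nat.not_coprime_of_dvd_of_dvd Nat.one_lt_two (even_card_of_simple hnc) dvd_rfl h

/-- An involution of `S` without other conjugates in `S` does not exist in a non-abelian simple group. -/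
theorem false_of_isolated [IsSimpleGroup G] (hnc : ∃ a b : G, a * b ≠ b * a) (S : Sylow 2 G) {a : G}
    (ha : orderOf a = 2) (hiso : ∀ g : G, g * a * g⁻¹ ∈ (S : Subgroup G) → g * a * g⁻¹ = a) : False := by
  have hz := CfsgLib.Involutions.zstar G a (CfsgLib.Involutions.isIsolated_of_sylow S ha hiso)
  have hc : a ∈ center G := mem_center_iff.2 fun g => by
    have h := hz g
    rw [pPrimeCore_eq_bot_of_simple hnc, mem_bot] at h
    exact mul_inv_eq_iff_eq_mul.1 (mul_inv_eq_one.1 h)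
  obtain ⟨x, y, hxy⟩ := hnc
  rcases (inferInstance : (center G).Normal).eq_bot_or_eq_top with e | e
  · rw [e, mem_bot] at hc
    simp [hc] at ha
  · exact hxy ((mem_center_iff.1 (e.ge (mem_top y))) x)

/-- The strongly closed subgroup. -/
theorem exists_closed [IsSimpleGroup G] (hnc : ∃ a b : G, a * b ≠ b * a) (h3 : ¬ 3 ∣ Nat.card G)
    (S : Sylow 2 G) :
    ∃ A : Subgroup G, Cfsg.IsElementaryAbelian 2 A ∧ Cfsg.IsStronglyClosed A (S : Subgroup G) ∧
      8 ≤ Nat.card A ∧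
      (∀ V : Subgroup G, V ≤ A → normalizer (A : Set G) ≤ normalizer (V : Set G) → V = ⊥ ∨ V = A) ∧
      ∀ a ∈ A, ∀ g : G, g * a * g⁻¹ ∈ A →
        ∃ m ∈ normalizer (A : Set G), m * a * m⁻¹ = g * a * g⁻¹ := by
  classical
  haveI : Fact (Nat.Prime 2) := ⟨Nat.prime_two⟩
  obtain ⟨W, hW, hWlo, hWhi, hctrl⟩ := CfsgLib.SFour.exists_char_controls
    (fun _ W h1 h2 h3 => CfsgLib.SFour.exists_ctrl W h1 h2 h3) (not_involves_symFour h3) S
  set W' := W.map (S : Subgroup G).subtype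
  set M := normalizer (W' : Set G)
  have hW'S : W' ≤ (S : Subgroup G) := map_subtype_le _
  have hel : Cfsg.IsElementaryAbelian 2 W' := by
    rw [CfsgLib.PLocal.centerThompsonOf_eq] at hWhi
    obtain ⟨hcom, hsq⟩ := CfsgLib.PLocal.omegaOne_centerJ_elemAb 2 (S : Subgroup G)
    exact ⟨⟨⟨fun a b => Subtype.ext (congrArg Subtype.val
      (hcom.is_comm.comm ⟨a, hWhi a.2⟩ ⟨b, hWhi b.2⟩) :)⟩⟩, fun a ha => hsq a (hWhi ha)⟩
  have hSM : (S : Subgroup G) ≤ M := fun x hx => by
    have key : ∀ x ∈ (S : Subgroup G), ∀ w ∈ W', x * w * x⁻¹ ∈ W' := by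
      rintro x hx _ ⟨w, hw, rfl⟩
      exact ⟨⟨x, hx⟩ * w * ⟨x, hx⟩⁻¹, (inferInstance : W.Normal).conj_mem w hw _, rfl⟩
    exact mem_normalizer_iff.2 fun w => ⟨key x hx w, fun hw => by
      simpa [mul_assoc] using key x⁻¹ (inv_mem hx) _ hw⟩
  haveI : Nontrivial (S : Subgroup G) :=
    (Subgroup.nontrivial_iff_ne_bot _).2 (S.ne_bot_of_dvd_card (even_card_of_simple hnc))
  have hW1 : W' ≠ ⊥ := by
    obtain ⟨z, -, hz, hzo⟩ := CfsgLib.PGroupBasic.exists_central_orderOf_eq S.2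
      (⊤ : Subgroup (S : Subgroup G)) top_ne_bot
    intro hbot
    have hz' : (z : G) ∈ W' := hWlo (subset_closure ⟨⟨z, hz, rfl⟩, by
      have := pow_orderOf_eq_one z
      rw [hzo] at this
      exact congrArg Subtype.val this⟩)
    rw [hbot, mem_bot] at hz'
    rw [show z = 1 from Subtype.ext hz', orderOf_one] at hzo
    omega
  -- a minimal normal subgroup
  haveI : Finite (Subgroup G) := Finite.of_injective _ SetLike.coe_injective
  obtain ⟨A, ⟨hA1, hA2, hA3⟩, hmin⟩ := Set.Finite.exists_minimal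
    (s := {A : Subgroup G | A ≠ ⊥ ∧ A ≤ W' ∧ M ≤ normalizer (A : Set G)}) (Set.toFinite _)
    ⟨W', hW1, le_rfl, le_rfl⟩
  have hAS : A ≤ (S : Subgroup G) := hA2.trans hW'S
  have hconj : ∀ m ∈ M, ∀ a ∈ A, m * a * m⁻¹ ∈ A := fun m hm a ha =>
    (mem_normalizer_iff.1 (hA3 hm) a).1 ha
  have hfusS : ∀ a ∈ A, ∀ g : G, g * a * g⁻¹ ∈ (S : Subgroup G) →
      ∃ m ∈ M, g * a * g⁻¹ = m * a * m⁻¹ := by
    intro a ha g hg
    obtain ⟨-, h⟩ := hctrl {a} (Set.singleton_subset_iff.2 (hAS ha))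
    obtain ⟨x, hx, hxa⟩ := h g (by rw [Set.image_singleton, Set.singleton_subset_iff]; exact hg)
    exact ⟨x, hx, hxa a rfl⟩
  have hirr : ∀ V : Subgroup G, V ≤ A → M ≤ normalizer (V : Set G) → V = ⊥ ∨ V = A := fun V hV hMV =>
    or_iff_not_imp_left.2 fun hne => le_antisymm hV (hmin ⟨hne, hV.trans hA2, hMV⟩ hV)
  have hAel : Cfsg.IsElementaryAbelian 2 A :=
    ⟨⟨⟨fun a b => Subtype.ext (congrArg Subtype.val
      (hel.1.is_comm.comm ⟨a, hA2 a.2⟩ ⟨b, hA2 b.2⟩) :)⟩⟩, fun a ha => hel.2 a (hA2 ha)⟩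
  refine ⟨A, hAel, ⟨hAS, fun a ha g hg => ?_⟩, ?_, fun V hV hN => hirr V hV (hA3.trans hN),
    fun a ha g hg => ?_⟩
  · obtain ⟨m, hm, he⟩ := hfusS a ha g hg
    rw [he]
    exact hconj m hm a ha
  swap
  · obtain ⟨m, hm, he⟩ := hfusS a ha g (hAS hg)
    exact ⟨m, hA3 hm, he.symm⟩
  -- the order
  obtain ⟨k, hk⟩ := IsPGroup.iff_card.1 (IsPGroup.to_le S.2 hAS)
  by_contra h8
  obtain ⟨a, ha, ha1⟩ := (Subgroup.bot_or_exists_ne_one A).resolve_left hA1
  have hord : ∀ b ∈ A, b ≠ 1 → orderOf b = 2 := fun b hb hb1 => orderOf_eq_prime (hAel.2 b hb) hb1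
  by_cases hfix : ∃ b ∈ A, b ≠ 1 ∧ ∀ m ∈ M, m * b * m⁻¹ = b
  · obtain ⟨b, hb, hb1, hmb⟩ := hfix
    refine false_of_isolated hnc S (hord b hb hb1) fun g hg => ?_
    obtain ⟨m, hm, he⟩ := hfusS b hb g hg
    exact he.trans (hmb m hm)
  push Not at hfix
  have hk2 : k = 2 := by
    have hk3 : k < 3 := by
      by_contra h
      exact h8 (hk ▸ (Nat.pow_le_pow_right two_pos (not_lt.1 h) : 2 ^ 3 ≤ 2 ^ k))
    interval_cases k
    · exact absurd (Subgroup.eq_bot_of_card_eq A hk) hA1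
    · exfalso
      obtain ⟨m, hm, hne⟩ := hfix a ha ha1
      refine hne ?_
      have h1 : Subgroup.zpowers a = A := Subgroup.eq_of_le_of_card_ge (zpowers_le.2 ha)
        (by rw [hk, Nat.card_zpowers, hord a ha ha1]; norm_num)
      obtain ⟨j, hj⟩ := h1.ge (hconj m hm a ha)
      rcases Int.even_or_odd j with ⟨i, hi⟩ | ⟨i, hi⟩
      · have : a ^ j = 1 := by rw [hi, ← two_mul, zpow_mul, show a ^ (2 : ℤ) = a ^ (2 : ℕ) from zpow_natCast a 2,
          hAel.2 a ha, one_zpow]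
        exact absurd (conj_eq_one_iff.1 (hj.symm.trans this)) ha1
      · rw [← hj]
        show a ^ j = a
        rw [hi, zpow_add_one, zpow_mul, show a ^ (2 : ℤ) = a ^ (2 : ℕ) from zpow_natCast a 2, hAel.2 a ha,
          one_zpow, one_mul]
    · rfl
  rw [hk2] at hk
  -- the three involutions form one orbit
  let X := {b : G // b ∈ A ∧ b ≠ 1}
  letI : MulAction M X :=
    { smul := fun m b => ⟨(m : G) * b * (m : G)⁻¹, hconj m m.2 b b.2.1, fun e => b.2.2 (conj_eq_one_iff.1 e)⟩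
      one_smul := fun b => Subtype.ext (by show (1 : G) * b * (1 : G)⁻¹ = b; group)
      mul_smul := fun m n b => Subtype.ext (by
        show ((m : G) * n) * b * ((m : G) * n)⁻¹ = m * (n * b * (n : G)⁻¹) * (m : G)⁻¹
        group) }
  have hX : Nat.card X = 3 := by
    haveI := Fintype.ofFinite A
    rw [Nat.card_congr (show X ≃ {b : A // b ≠ 1} from
      { toFun := fun b => ⟨⟨b, b.2.1⟩, fun e => b.2.2 (congrArg Subtype.val e)⟩
        invFun := fun b => ⟨b.1, b.1.2, fun e => b.2 (Subtype.ext e)⟩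
        left_inv := fun _ => rfl
        right_inv := fun _ => rfl }), Nat.card_eq_fintype_card, Fintype.card_subtype_compl,
      Fintype.card_subtype_eq, ← Nat.card_eq_fintype_card, hk]
    norm_num
  have hbig : ∀ b : X, 2 ≤ Nat.card (MulAction.orbit M b) := fun b => by
    obtain ⟨m, hm, hne⟩ := hfix b b.2.1 b.2.2
    haveI : Nontrivial (MulAction.orbit M b) := ⟨⟨b, MulAction.mem_orbit_self b⟩,
      ⟨(⟨m, hm⟩ : M) • b, MulAction.mem_orbit b _⟩, fun e =>
        hne (congrArg (fun x : MulAction.orbit M b => ((x : X) : G)) e).symm⟩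
    exact Finite.one_lt_card
  have horb : MulAction.orbit M (⟨a, ha, ha1⟩ : X) = Set.univ := by
    refine Set.eq_univ_of_forall fun b => by_contra fun hb => ?_
    have hd : Disjoint (MulAction.orbit M (⟨a, ha, ha1⟩ : X)) (MulAction.orbit M b) :=
      (MulAction.orbit.eq_or_disjoint _ _).resolve_left fun e => hb (e ▸ MulAction.mem_orbit_self b)
    have h := Set.ncard_le_ncard (Set.subset_univ
      (MulAction.orbit M (⟨a, ha, ha1⟩ : X) ∪ MulAction.orbit M b)) (Set.toFinite _)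
    rw [Set.ncard_union_eq hd, Set.ncard_univ, hX, ← Nat.card_coe_set_eq, ← Nat.card_coe_set_eq] at h
    have := hbig ⟨a, ha, ha1⟩
    have := hbig b
    omega
  have hidx : (MulAction.stabilizer M (⟨a, ha, ha1⟩ : X)).index = 3 := by
    rw [MulAction.index_stabilizer M (⟨a, ha, ha1⟩ : X), horb, Set.ncard_univ, hX]
  exact h3 ((hidx ▸ Subgroup.index_dvd_card _).trans (Subgroup.card_subgroup_dvd_card M))

end CfsgLib.ThreeFree
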