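import Cfsg.Agent.Lib.SuzukiGroup.Subgroups
import Cfsg.Agent.Lib.SuzukiGroup.Automorphisms
import Cfsg.Agent.Lib.AutPSL.FieldGalois

/-!
Facts on the Suzuki group `Sz(q)` in its matrix model: the centre `Z` of the unitriangular Sylow
2-subgroup, its centralisers and normaliser, fixed points on the ovoid, generation by two conjugates of
`Z`, and the automorphisms fixing or normalising `Z`.
-/

set_option autoImplicit false
set_option linter.unusedSectionVars false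

open scoped MatrixGroups Matrix Pointwise

namespace CfsgLib.ThreeFree.SzModel

open Cfsg.Lie CfsgLib.SuzukiGroup

section Centre

variable {F : Type*} [Field F] [Fintype F] [CharP F 2] {e : ℕ} (P : Params F e)

/-- The elements `u(0, b)`. -/
def zsub : Subgroup ↥(Sz F e) where
  carrier := {g | ∃ b : F, g = uEl P 0 b}
  mul_mem' := by
    rintro _ _ ⟨b, rfl⟩ ⟨b', rfl⟩
    exact ⟨b + b', by rw [uEl_mul]; simp⟩
  one_mem' := ⟨0, (uEl_zero P).symm⟩
  inv_mem' := by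
    rintro _ ⟨b, rfl⟩
    exact ⟨b, by rw [uEl_inv]; simp⟩

theorem uEl_mem_zsub (b : F) : uEl P 0 b ∈ zsub P := ⟨b, rfl⟩

theorem zsub_le_unip : zsub P ≤ unip P := by
  rintro _ ⟨b, rfl⟩
  exact ⟨0, b, rfl⟩

theorem card_zsub : Nat.card ↥(zsub P) = Fintype.card F := by
  rw [← Nat.card_eq_fintype_card]
  refine (Nat.card_eq_of_bijective (fun b : F => (⟨uEl P 0 b, b, rfl⟩ : ↥(zsub P))) ⟨?_, ?_⟩).symm
  · intro b b' h
    exact (uEl_inj P (congrArg Subtype.val h)).2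
  · rintro ⟨_, b, rfl⟩
    exact ⟨b, rfl⟩

theorem zsub_commute {z u : ↥(Sz F e)} (hz : z ∈ zsub P) (hu : u ∈ unip P) : z * u = u * z := by
  obtain ⟨b, rfl⟩ := hz
  obtain ⟨a, c, rfl⟩ := hu
  exact (uEl_comm_iff P 0 b a c).2 (by simp)

theorem mem_zsub_iff (hq : 2 < Fintype.card F) {g : ↥(Sz F e)} :
    g ∈ zsub P ↔ g ∈ unip P ∧ ∀ u ∈ unip P, g * u = u * g := by
  refine ⟨fun h => ⟨zsub_le_unip P h, fun u hu => zsub_commute P h hu⟩, ?_⟩
  rintro ⟨⟨a, b, rfl⟩, hc⟩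
  refine ⟨b, ?_⟩
  rcases eq_or_ne a 0 with rfl | ha
  · rfl
  exfalso
  have h1 := (uEl_comm_iff P a b 1 0).1 (hc _ ⟨1, 0, rfl⟩)
  rw [map_one, mul_one, one_mul] at h1
  have ha1 : a = 1 := (theta_fix P h1.symm).resolve_left ha
  obtain ⟨c, hc0, hc1⟩ := exists_ne_zero_one hq
  have h2 := (uEl_comm_iff P a b c 0).1 (hc _ ⟨c, 0, rfl⟩)
  rw [ha1, map_one, one_mul, mul_one] at h2
  exact (theta_fix P h2).elim hc0 hc1

theorem orderOf_zsub {z : ↥(Sz F e)} (hz : z ∈ zsub P) (h1 : z ≠ 1) : orderOf z = 2 := by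
  obtain ⟨b, rfl⟩ := hz
  exact orderOf_uEl_zero P fun e0 => h1 (by rw [e0, uEl_zero])

theorem mem_zsub_of_orderOf {u : ↥(Sz F e)} (hu : u ∈ unip P) (h2 : orderOf u = 2) : u ∈ zsub P := by
  rcases unip_cases P hu (fun e0 => by rw [e0, orderOf_one] at h2; omega) with ⟨-, b, -, rfl⟩ | ⟨h4, -⟩
  · exact ⟨b, rfl⟩
  · omega

theorem centralizer_zsub {z : ↥(Sz F e)} (hz : z ∈ zsub P) (h1 : z ≠ 1) :
    Subgroup.centralizer {z} = unip P :=
  le_antisymm (centralizer_le_unip P (zsub_le_unip P hz) h1)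
    fun _ hu => Subgroup.mem_centralizer_singleton_iff.2 (zsub_commute P hz hu).symm

theorem borel_conj_zsub {g z : ↥(Sz F e)} (hg : g ∈ borel (F := F) (e := e)) (hz : z ∈ zsub P) :
    g * z * g⁻¹ ∈ zsub P := by
  obtain ⟨a, b, x, rfl⟩ := borel_form P hg
  obtain ⟨w, rfl⟩ := hz
  refine ⟨P.θ x * w, ?_⟩
  rw [mul_assoc (uEl P a b), dEl_mul_uEl, mul_zero, mul_inv_rev, ← mul_assoc, ← mul_assoc,
    mul_inv_cancel_right, (uEl_comm_iff P a b 0 (P.θ x * w)).2 (by simp), mul_inv_cancel_right]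

theorem normalizer_zsub : Subgroup.normalizer (zsub P : Set ↥(Sz F e)) = borel (F := F) (e := e) := by
  refine le_antisymm (fun g hg => ?_) fun g hg => Subgroup.mem_normalizer_iff.2 fun z =>
    ⟨borel_conj_zsub P hg, fun h => ?_⟩
  · exact conj_unip_ne P ⟨0, 1, rfl⟩ (fun h => one_ne_zero ((uEl_eq_one P).1 h).2)
      (zsub_le_unip P ((Subgroup.mem_normalizer_iff.1 hg _).1 (uEl_mem_zsub P 1)))
  · simpa [mul_assoc] using borel_conj_zsub P (inv_mem hg) h

include P in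
theorem isCoatom_borel : IsCoatom (borel (F := F) (e := e)) := by
  refine ⟨fun h => jEl_notMem_borel P (h.ge (Subgroup.mem_top _)), fun M hM => ?_⟩
  obtain ⟨hle, hne⟩ := lt_iff_le_and_ne.1 hM
  obtain ⟨g, hgM, hg⟩ := SetLike.not_le_iff_exists.1 fun h => hne (le_antisymm hle h)
  obtain ⟨a, b, h, hh, rfl⟩ := bruhat P hg
  have hj : jEl P ∈ M := by
    have := mul_mem (mul_mem (inv_mem (hle (uEl_mem_borel P a b))) hgM) (inv_mem (hle hh))
    simpa [mul_assoc] using this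
  refine eq_top_iff.2 fun x _ => ?_
  by_cases hx : x ∈ borel (F := F) (e := e)
  · exact hle hx
  · obtain ⟨c, d, k, hk, rfl⟩ := bruhat P hx
    exact mul_mem (mul_mem (hle (uEl_mem_borel P c d)) hj) (hle hk)

theorem torus_le_borel : torus P ≤ borel (F := F) (e := e) := by
  rintro _ ⟨x, rfl⟩
  exact dEl_mem_borel P x

theorem torus_decomp {g : ↥(Sz F e)} (hg : g ∈ borel (F := F) (e := e)) :
    ∃ u ∈ unip P, ∃ h ∈ torus P, g = u * h := by
  obtain ⟨a, b, x, rfl⟩ := borel_form P hg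
  exact ⟨_, ⟨a, b, rfl⟩, _, dEl_mem_torus P x, rfl⟩

theorem torus_inf_unip : torus P ⊓ unip P = ⊥ := by
  refine (Subgroup.eq_bot_iff_forall _).2 ?_
  rintro _ ⟨⟨x, rfl⟩, hu⟩
  have hx : x = 1 :=
    borel_decomp_mem_unip P (a := 0) (b := 0) (by rw [uEl_zero, one_mul]; exact hu)
  rw [hx, map_one]

theorem torus_fpf {h u : ↥(Sz F e)} (hh : h ∈ torus P) (h1 : h ≠ 1) (hu : u ∈ unip P)
    (hc : Commute h u) : u = 1 := by
  obtain ⟨x, rfl⟩ := hh
  have hx : x ≠ 1 := fun e0 => h1 (by rw [e0, map_one])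
  have hm : u ∈ Subgroup.centralizer {dEl P x} := Subgroup.mem_centralizer_singleton_iff.2 hc.eq.symm
  rw [centralizer_dEl P hx] at hm
  exact (Subgroup.eq_bot_iff_forall _).1 (torus_inf_unip P) u ⟨hm, hu⟩

theorem torus_trans {z z' : ↥(Sz F e)} (hz : z ∈ zsub P) (h1 : z ≠ 1) (hz' : z' ∈ zsub P)
    (h1' : z' ≠ 1) : ∃ h ∈ torus P, h * z * h⁻¹ = z' := by
  obtain ⟨b, rfl⟩ := hz
  obtain ⟨b', rfl⟩ := hz'
  have hb : b ≠ 0 := fun e0 => h1 (by rw [e0, uEl_zero])
  have hb' : b' ≠ 0 := fun e0 => h1' (by rw [e0, uEl_zero])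
  obtain ⟨y, hy⟩ := (theta_bijective P).2 (b' / b)
  have hy0 : y ≠ 0 := fun e0 => div_ne_zero hb' hb (by rw [← hy, e0, map_zero])
  refine ⟨_, dEl_mem_torus P (Units.mk0 y hy0), ?_⟩
  rw [dEl_mul_uEl, mul_inv_cancel_right, mul_zero, Units.val_mk0, hy, div_mul_cancel₀ b' hb]

theorem torus_inverted {h : ↥(Sz F e)} (hh : h ∈ torus P) : jEl P * h * (jEl P)⁻¹ = h⁻¹ := by
  obtain ⟨x, rfl⟩ := hh
  exact jEl_conj_dEl P x

/-- A non-trivial element of the torus fixes two points. -/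
theorem torus_smul_eq {h : ↥(Sz F e)} (hh : h ∈ torus P) (h1 : h ≠ 1)
    (x : ↥(Sz F e) ⧸ borel (F := F) (e := e)) :
    h • x = x ↔ x = QuotientGroup.mk 1 ∨ x = QuotientGroup.mk (jEl P) := by
  constructor
  · intro hfix
    by_cases hx : x = QuotientGroup.mk 1
    · exact Or.inl hx
    refine Or.inr ?_
    obtain ⟨a, b, rfl⟩ := exists_rep P x hx
    obtain ⟨y, rfl⟩ := hh
    have hy : y ≠ 1 := fun e0 => h1 (by rw [e0, map_one])
    rw [MulAction.Quotient.smul_mk, smul_eq_mul] at hfix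
    change ((dEl P y * (uEl P a b * jEl P) : ↥(Sz F e)) : ↥(Sz F e) ⧸ borel (F := F) (e := e)) = _ at hfix
    have e1 : dEl P y * (uEl P a b * jEl P) =
        uEl P ((y : F) * y / P.θ y * a) (P.θ y * b) * jEl P * dEl P y⁻¹ := by
      rw [← mul_assoc, dEl_mul_uEl, mul_assoc _ (jEl P), jEl_mul_dEl, inv_inv, mul_assoc]
    rw [e1] at hfix
    have e2 : (uEl P ((y : F) * y / P.θ y * a) (P.θ y * b) * jEl P * dEl P y⁻¹ :
        ↥(Sz F e) ⧸ borel (F := F) (e := e)) = QuotientGroup.mk (uEl P ((y : F) * y / P.θ y * a) (P.θ y * b) * jEl P) :=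
      (QuotientGroup.eq.2 (by rw [inv_mul_cancel_left]; exact dEl_mem_borel P _)).symm
    rw [e2] at hfix
    obtain ⟨k1, k2⟩ := rep_inj P hfix
    have ha : a = 0 := by
      by_contra ha
      exact hy (Units.ext (scale_eq_one P y.ne_zero (mul_right_cancel₀ ha (k1.trans (one_mul a).symm))))
    have hb : b = 0 := by
      by_contra hb
      exact hy (Units.ext ((theta_eq_one P).1 (mul_right_cancel₀ hb (k2.trans (one_mul b).symm))))
    rw [ha, hb, uEl_zero, one_mul]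
  · rintro (rfl | rfl)
    · rw [MulAction.Quotient.smul_mk, smul_eq_mul, mul_one]
      exact QuotientGroup.eq.2 (by simpa using inv_mem (torus_le_borel P hh))
    · rw [MulAction.Quotient.smul_mk, smul_eq_mul]
      refine QuotientGroup.eq.2 ?_
      rw [mul_inv_rev, jEl_inv, mul_assoc]
      have := torus_inverted P (inv_mem hh)
      rw [inv_inv, jEl_inv] at this
      rw [← mul_assoc, this]
      exact torus_le_borel P hh

end Centre

section Large

variable {F : Type*} [Field F] [Fintype F] [CharP F 2] {m : ℕ}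
  (hm : 1 ≤ m) (hF : Fintype.card F = 2 ^ (2 * m + 1)) (P : Params F (2 ^ (m + 1)))

include hm hF

/-- An element of `zsub` fixes one point. -/
theorem zsub_smul_eq {z : ↥(Sz F (2 ^ (m + 1)))} (hz : z ∈ zsub P) (h1 : z ≠ 1)
    (x : ↥(Sz F (2 ^ (m + 1))) ⧸ borel (F := F) (e := 2 ^ (m + 1))) :
    z • x = x ↔ x = QuotientGroup.mk 1 := by
  refine ⟨?_, ?_⟩
  · refine QuotientGroup.induction_on x fun g hfix => ?_
    rw [MulAction.Quotient.smul_mk, smul_eq_mul] at hfix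
    have h2 : g⁻¹ * z * g ∈ borel (F := F) (e := 2 ^ (m + 1)) := by
      have := inv_mem (QuotientGroup.eq.1 hfix)
      simpa [mul_assoc] using this
    have h4 : orderOf (g⁻¹ * z * g) ∣ 4 :=
      orderOf_dvd_four P (k := g) (by
        rw [show g * (g⁻¹ * z * g) * g⁻¹ = z by group]; exact zsub_le_unip P hz)
    have hu := mem_unip_of_even P hF hm h2 h4
    exact QuotientGroup.eq.2 (by
      rw [mul_one]
      exact conj_unip_ne P (zsub_le_unip P hz) h1 (by rwa [inv_inv]))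
  · rintro rfl
    rw [MulAction.Quotient.smul_mk, smul_eq_mul, mul_one]
    exact QuotientGroup.eq.2 (by simpa using inv_mem (unip_le_borel P (zsub_le_unip P hz)))

/-- A subgroup containing two conjugates of `zsub` is everything. -/
theorem zsub_gen {g : ↥(Sz F (2 ^ (m + 1)))} (hg : g ∉ borel (F := F) (e := 2 ^ (m + 1)))
    {M : Subgroup ↥(Sz F (2 ^ (m + 1)))} (hM : zsub P ≤ M) (hgM : ∀ z ∈ zsub P, g * z * g⁻¹ ∈ M) :
    M = ⊤ := by
  have hu1 : uEl P (0 : F) 1 ≠ 1 := fun h => one_ne_zero ((uEl_eq_one P).1 h).2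
  have hcard : Fintype.card F ∣ Nat.card ↥M := card_zsub P ▸ Subgroup.card_dvd_of_le hM
  have h8 := eight_le hF hm
  rcases subgroup_cases P hF hm M with (⟨k, hk⟩ | ⟨g', hg', hle⟩) | ⟨k, L, l, -, hlc, hld, heq⟩
  · exfalso
    have key : ∀ x : ↥(Sz F (2 ^ (m + 1))), x ∈ M → orderOf x ∣ 4 → k * x * k⁻¹ ∈ unip P :=
      fun x hx h4 => mem_unip_of_even P hF hm (hk x hx) (by
        rwa [show k * x * k⁻¹ = (MulAut.conj k).toMonoidHom x from rfl,
          orderOf_injective (MulAut.conj k).toMonoidHom (MulAut.conj k).injective])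
    have h2 : orderOf (uEl P (0 : F) 1) ∣ 4 := by rw [orderOf_uEl_zero P one_ne_zero]; norm_num
    have hkB : k ∈ borel (F := F) (e := 2 ^ (m + 1)) :=
      conj_unip_ne P ⟨0, 1, rfl⟩ hu1 (key _ (hM (uEl_mem_zsub P 1)) h2)
    have hkg : k * g ∈ borel (F := F) (e := 2 ^ (m + 1)) := by
      refine conj_unip_ne P ⟨0, 1, rfl⟩ hu1 ?_
      have := key _ (hgM _ (uEl_mem_zsub P 1)) (by
        rwa [show g * uEl P 0 1 * g⁻¹ = (MulAut.conj g).toMonoidHom (uEl P 0 1) from rfl,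
          orderOf_injective (MulAut.conj g).toMonoidHom (MulAut.conj g).injective])
      simpa [mul_assoc, mul_inv_rev] using this
    exact hg (by simpa using mul_mem (inv_mem hkB) hkg)
  · exfalso
    have hdvd := hcard.trans (Subgroup.card_dvd_of_le hle)
    have hg1 : g' ≠ 1 := fun e0 => hg' (by rw [e0, orderOf_one]; exact one_dvd 4)
    rcases trichotomy P hg1 with ⟨k, hk⟩ | ⟨k, y, hy, hk⟩ | hf
    · exact hg' (orderOf_dvd_four P hk)
    · have hC : (Subgroup.centralizer {g'}).map (MulAut.conj k).toMonoidHom = torus P := by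
        rw [centralizer_map_conj, hk, centralizer_dEl P hy]
      have hN : Nat.card ↥(Subgroup.normalizer
          (Subgroup.centralizer {g'} : Set ↥(Sz F (2 ^ (m + 1))))) = 2 * (Fintype.card F - 1) := by
        rw [← card_normalizer_torus P hF hm, ← hC, ← Subgroup.map_equiv_normalizer_eq,
          Subgroup.card_map_of_injective (f := (MulAut.conj k).toMonoidHom) (MulAut.conj k).injective]
      rw [hN] at hdvd
      have h4 : 4 ∣ 2 * (Fintype.card F - 1) :=
        (show 4 ∣ Fintype.card F from hF ▸ ⟨2 ^ (2 * m + 1 - 2), by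
          rw [show 4 = 2 ^ 2 from rfl, ← pow_add]; congr 1; omega⟩).trans hdvd
      have h2 : 2 ∣ Fintype.card F := even_card
      omega
    · rw [fpf_card_normalizer P hF hm hf] at hdvd
      have h8' : 8 ∣ 4 * Nat.card ↥(Subgroup.centralizer {g'}) :=
        (show 8 ∣ Fintype.card F from hF ▸ ⟨2 ^ (2 * m + 1 - 3), by
          rw [show 8 = 2 ^ 3 from rfl, ← pow_add]; congr 1; omega⟩).trans hdvd
      have hA : 2 ∣ 2 ^ (m + 1) := dvd_pow_self 2 (by omega)
      have hq : 2 ∣ 2 ^ (2 * m + 1) := dvd_pow_self 2 (by omega)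
      have hAB := toA_mul_toB m
      rcases fpf_card P hF hm hf with h | h <;> rw [h] at h8'
      · unfold toA at h8'
        omega
      · have h2 : 2 ∣ toB m := by omega
        have h3 : 2 ∣ toA m * toB m := h2.mul_left _
        rw [hAB] at h3
        have h5 : 2 ∣ (2 ^ (2 * m + 1)) ^ 2 := dvd_pow hq two_ne_zero
        omega
  · have hcM : Nat.card ↥M = Nat.card ↥L ^ 2 * (Nat.card ↥L - 1) * (Nat.card ↥L ^ 2 + 1) := by
      rw [← card_subGroup P L, ← heq,
        Subgroup.card_map_of_injective (f := (MulAut.conj k).toMonoidHom) (MulAut.conj k).injective]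
    rw [hF, hcM, hlc] at hcard
    have hl : l = 2 * m + 1 := by
      by_contra hne
      have hlo : Odd l := Odd.of_dvd_nat ⟨m, rfl⟩ hld
      obtain ⟨c, hc⟩ := hld
      have hc3 : 3 ≤ c := by
        have hco : Odd c := (Nat.odd_mul.1 ⟨m, hc.symm⟩).2
        obtain ⟨d, rfl⟩ := hco
        rcases Nat.eq_zero_or_pos d with rfl | hd
        · omega
        · omega
      have hcop : Nat.Coprime (2 ^ (2 * m + 1)) (((2 ^ l - 1) * ((2 ^ l) ^ 2 + 1))) := by
        refine Nat.Coprime.pow_left _ (Nat.coprime_two_left.2 ?_)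
        have h2l : 2 ∣ 2 ^ l := dvd_pow_self 2 hlo.pos.ne'
        have h22 : 2 ∣ (2 ^ l) ^ 2 := dvd_pow h2l two_ne_zero
        have := Nat.one_le_two_pow (n := l)
        exact Nat.odd_mul.2 ⟨Nat.odd_iff.2 (by omega), Nat.odd_iff.2 (by omega)⟩
      rw [mul_assoc] at hcard
      have h := hcop.dvd_of_dvd_mul_right hcard
      rw [← pow_mul, Nat.pow_dvd_pow_iff_le_right (by norm_num)] at h
      nlinarith
    refine Subgroup.eq_top_of_card_eq M ?_
    rw [hcM, hlc, hl, card_sz P, hF]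

/-- An automorphism whose order is a power of two is inner. -/
theorem aut_two_inner (P : Params F (2 ^ (m + 1))) {α : MulAut ↥(Sz F (2 ^ (m + 1)))} {k : ℕ}
    (hα : α ^ 2 ^ k = 1) : ∃ g, α = MulAut.conj g := by
  have hc : Nat.card (Cfsg.Out ↥(Sz F (2 ^ (m + 1)))) = 2 * m + 1 := by
    rw [card_out hm hF P, CfsgLib.FieldGalois.card_ringAut hF]
  haveI := Cfsg.innNormal ↥(Sz F (2 ^ (m + 1)))
  have h1 : (QuotientGroup.mk α : Cfsg.Out ↥(Sz F (2 ^ (m + 1)))) = 1 := by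
    have hco : Nat.Coprime (2 ^ k) (2 * m + 1) :=
      Nat.Coprime.pow_left _ (Nat.coprime_two_left.2 ⟨m, rfl⟩)
    refine orderOf_eq_one_iff.1 (Nat.eq_one_of_dvd_coprimes hco ?_ (hc ▸ orderOf_dvd_natCard _))
    refine orderOf_dvd_of_pow_eq_one ?_
    rw [← QuotientGroup.mk_pow, hα, QuotientGroup.mk_one]
  obtain ⟨g, hg⟩ := (QuotientGroup.eq_one_iff α).1 h1
  exact ⟨g, hg.symm⟩

/-- On `zsub` an automorphism normalising the unitriangular group is semilinear. -/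
theorem aut_zsub (α : MulAut ↥(Sz F (2 ^ (m + 1))))
    (hα : ∀ u ∈ unip P, α u ∈ unip P) :
    ∃ (σ : F ≃+* F) (c : F), c ≠ 0 ∧ ∀ b, α (uEl P 0 b) = uEl P 0 (c * σ b) := by
  obtain ⟨g, hn⟩ := exists_normalised hm hF P α
  obtain ⟨σ, hσ⟩ := normalised_eq_fieldAut hm hF P hn
  have hu1 : uEl P (0 : F) 1 ≠ 1 := fun h => one_ne_zero ((uEl_eq_one P).1 h).2
  have hgB : g ∈ borel (F := F) (e := 2 ^ (m + 1)) := by
    refine conj_unip_ne P (hα _ ⟨0, 1, rfl⟩)
      (fun e0 => hu1 (α.injective (e0.trans (map_one α).symm))) ?_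
    show (MulAut.conj g * α) (uEl P 0 1) ∈ unip P
    rw [hn.2.2]
    exact ⟨0, 1, rfl⟩
  obtain ⟨a, b₀, x, -, hw⟩ := conj_borel_scale P (inv_mem hgB)
  refine ⟨σ, P.θ x, by simp, fun b => ?_⟩
  have h2 : g * α (uEl P 0 b) * g⁻¹ = uEl P 0 (σ b) := by
    show (MulAut.conj g * α) (uEl P 0 b) = _
    rw [hσ, fieldAut_uEl, map_zero]
  rw [← hw, ← h2]
  group

/-- An automorphism fixing `zsub` is conjugation by a unitriangular element. -/
theorem aut_fix_zsub {α : MulAut ↥(Sz F (2 ^ (m + 1)))} (hα : ∀ z ∈ zsub P, α z = z) :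
    ∃ u ∈ unip P, α = MulAut.conj u := by
  obtain ⟨g, hn⟩ := exists_normalised hm hF P α
  obtain ⟨σ, hσ⟩ := normalised_eq_fieldAut hm hF P hn
  have hu1 : uEl P (0 : F) 1 ≠ 1 := fun h => one_ne_zero ((uEl_eq_one P).1 h).2
  have hfix : g * uEl P 0 1 * g⁻¹ = uEl P 0 1 := by
    have h := hn.2.2
    rwa [MulAut.mul_apply, hα _ (uEl_mem_zsub P 1), MulAut.conj_apply] at h
  have hg : g ∈ unip P := centralizer_le_unip P ⟨0, 1, rfl⟩ hu1
    (Subgroup.mem_centralizer_singleton_iff.2 (mul_inv_eq_iff_eq_mul.1 hfix))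
  have hs : σ = 1 := RingEquiv.ext fun b => by
    have h : (MulAut.conj g * α) (uEl P 0 b) = uEl P 0 (σ b) := by rw [hσ, fieldAut_uEl, map_zero]
    rw [MulAut.mul_apply, hα _ (uEl_mem_zsub P b), MulAut.conj_apply,
      ← zsub_commute P (uEl_mem_zsub P b) hg, mul_inv_cancel_right] at h
    exact ((uEl_inj P h).2).symm
  refine ⟨g⁻¹, inv_mem hg, ?_⟩
  rw [hs, map_one] at hσ
  rw [map_inv]
  exact eq_inv_of_mul_eq_one_right hσ

/-- Automorphisms normalising the unitriangular group, none inducing a non-trivial scalar on `zsub`,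
induce at most `2 m + 1` maps there. -/
theorem aut_range {Γ : Subgroup (MulAut ↥(Sz F (2 ^ (m + 1))))}
    (hΓ : ∀ α ∈ Γ, ∀ u ∈ unip P, α u ∈ unip P)
    (hno : ∀ α ∈ Γ, ∀ h ∈ torus P, (∀ z ∈ zsub P, α z = h * z * h⁻¹) → h = 1) :
    (Set.range fun (α : ↥Γ) (z : ↥(zsub P)) => (α : MulAut ↥(Sz F (2 ^ (m + 1)))) z).ncard
      ≤ 2 * m + 1 := by
  classical
  have hex : ∀ α : ↥Γ, ∃ σ : F ≃+* F, ∃ c : F, c ≠ 0 ∧
      ∀ b, (α : MulAut ↥(Sz F (2 ^ (m + 1)))) (uEl P 0 b) = uEl P 0 (c * σ b) :=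
    fun α => aut_zsub hm hF P _ (hΓ α α.2)
  choose σ c hc hσ using hex
  -- two elements with the same field automorphism induce the same map
  have key : ∀ α β : ↥Γ, σ α = σ β → ∀ z : ↥(zsub P),
      (α : MulAut ↥(Sz F (2 ^ (m + 1)))) z = (β : MulAut ↥(Sz F (2 ^ (m + 1)))) z := by
    intro α β he
    obtain ⟨y, hy⟩ := (theta_bijective P).2 ((σ β).symm (c α / c β))
    have hy0 : y ≠ 0 := fun e0 => div_ne_zero (hc α) (hc β) (by
      rw [e0, map_zero] at hy
      have := congrArg (σ β) hy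
      rw [map_zero, RingEquiv.apply_symm_apply] at this
      exact this.symm)
    set δ : MulAut ↥(Sz F (2 ^ (m + 1))) := (β : MulAut ↥(Sz F (2 ^ (m + 1))))⁻¹ * α
    have hδ : ∀ b, δ (uEl P 0 b) = dEl P (Units.mk0 y hy0) * uEl P 0 b * (dEl P (Units.mk0 y hy0))⁻¹ := by
      intro b
      rw [dEl_mul_uEl, mul_inv_cancel_right, mul_zero, Units.val_mk0, hy]
      apply (β : MulAut ↥(Sz F (2 ^ (m + 1)))).injective
      show (β : MulAut ↥(Sz F (2 ^ (m + 1)))) ((β : MulAut ↥(Sz F (2 ^ (m + 1))))⁻¹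
        ((α : MulAut ↥(Sz F (2 ^ (m + 1)))) (uEl P 0 b))) = _
      rw [MulAut.apply_inv_self, hσ, hσ, map_mul, RingEquiv.apply_symm_apply, he, ← mul_assoc,
        mul_div_cancel₀ _ (hc β)]
    have h1 : dEl P (Units.mk0 y hy0) = 1 := by
      refine hno δ (mul_mem (inv_mem β.2) α.2) _ (dEl_mem_torus P _) ?_
      rintro z ⟨b, rfl⟩
      exact hδ b
    rintro ⟨z, b, rfl⟩
    have h2 := hδ b
    rw [h1, one_mul, inv_one, mul_one] at h2
    have h3 := congrArg (β : MulAut ↥(Sz F (2 ^ (m + 1)))) h2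
    show (α : MulAut ↥(Sz F (2 ^ (m + 1)))) (uEl P 0 b) = (β : MulAut ↥(Sz F (2 ^ (m + 1)))) (uEl P 0 b)
    rw [← h3]
    exact (MulAut.apply_inv_self _ (β : MulAut ↥(Sz F (2 ^ (m + 1)))) _).symm
  set f := fun (α : ↥Γ) (z : ↥(zsub P)) => (α : MulAut ↥(Sz F (2 ^ (m + 1)))) z with hf
  haveI : Finite (F ≃+* F) := Finite.of_injective _ DFunLike.coe_injective
  rw [← Nat.card_coe_set_eq, ← CfsgLib.FieldGalois.card_ringAut (F := F) hF]
  let pick : ↥(Set.range f) → F ≃+* F := fun x => σ x.2.choose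
  refine Nat.card_le_card_of_injective pick fun x x' hxx => Subtype.ext ?_
  rw [← x.2.choose_spec, ← x'.2.choose_spec]
  exact funext (key _ _ hxx)

end Large

end CfsgLib.ThreeFree.SzModel
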