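import Cfsg.Agent.Lib.ThreeFree.SzData
import Cfsg.Agent.Lib.ThreeFree.SzModel

/-!
The Suzuki data hold in every group isomorphic to a Suzuki group: transport from the matrix model.
-/

set_option autoImplicit false
set_option linter.unusedSectionVars false

open scoped MatrixGroups Matrix Pointwise

namespace CfsgLib.ThreeFree

open Cfsg.Lie CfsgLib.SuzukiGroup Subgroup

universe u

section Transport

variable {L : Type u} [Group L] [Finite L] {F : Type} [Field F] [Fintype F] [CharP F 2] {m : ℕ}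
  (hm : 1 ≤ m) (hF : Fintype.card F = 2 ^ (2 * m + 1)) (P : Params F (2 ^ (m + 1)))
  (ψ : L ≃* ↥(Sz F (2 ^ (m + 1)))) {T : Sylow 2 L}
  (hT : (T : Subgroup L).map ψ.toMonoidHom = unip P)

include hm hF hT

theorem szData_of_model : ∃ (Z : Subgroup L) (h : L), SzData L (2 * m + 1) T Z h := by
  classical
  set Z := (SzModel.zsub P).comap ψ.toMonoidHom with hZdef
  haveI := torus_isCyclic P
  obtain ⟨⟨h₀, hh₀⟩, hgen₀⟩ := IsCyclic.exists_generator (α := ↥(torus P))
  set h := ψ.symm h₀ with hdef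
  have hψh : ψ h = h₀ := ψ.apply_symm_apply h₀
  have hq := two_lt_card hm hF
  have hTm : ∀ x : L, x ∈ (T : Subgroup L) ↔ ψ x ∈ unip P := fun x => by
    rw [← hT]; exact (Subgroup.mem_map_iff_mem ψ.injective).symm
  have hZm : ∀ x : L, x ∈ Z ↔ ψ x ∈ SzModel.zsub P := fun x => Iff.rfl
  set R := normalizer ((T : Subgroup L) : Set L) with hRdef
  have hR : R.map ψ.toMonoidHom = borel (F := F) (e := 2 ^ (m + 1)) := by
    rw [hRdef, Subgroup.map_equiv_normalizer_eq, hT, normalizer_unip]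
  have hRm : ∀ x : L, x ∈ R ↔ ψ x ∈ borel (F := F) (e := 2 ^ (m + 1)) := fun x => by
    rw [← hR]; exact (Subgroup.mem_map_iff_mem ψ.injective).symm
  have hZT : Z ≤ (T : Subgroup L) := fun x hx => (hTm x).2 (SzModel.zsub_le_unip P hx)
  have hZmap : Z.map ψ.toMonoidHom = SzModel.zsub P :=
    Subgroup.map_comap_eq_self_of_surjective ψ.surjective _
  have hψne : ∀ {x : L}, x ≠ 1 → ψ x ≠ 1 := fun hx e => hx (ψ.injective (e.trans (map_one ψ).symm))
  have hpow : ∀ k : ℕ, ψ (h ^ k) = h₀ ^ k := fun k => by rw [map_pow, hψh]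
  have hpowmem : ∀ k : ℕ, ψ (h ^ k) ∈ torus P := fun k => by rw [hpow]; exact pow_mem hh₀ k
  have hall : ∀ y ∈ torus P, ∃ k : ℕ, ψ (h ^ k) = y := fun y hy => by
    obtain ⟨k, hk⟩ := (isOfFinOrder_of_finite (⟨h₀, hh₀⟩ : ↥(torus P))).mem_powers_iff_mem_zpowers.2
      (hgen₀ ⟨y, hy⟩)
    exact ⟨k, by rw [hpow]; exact congrArg Subtype.val hk⟩
  have hRh : ∀ k : ℕ, h ^ k ∈ R := fun k => (hRm _).2 (SzModel.torus_le_borel P (hpowmem k))
  have hh1 : h ∈ R := by
    have h1 := hRh 1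
    rwa [pow_one] at h1
  refine ⟨Z, h, ?_⟩
  refine
    { odd_n := ⟨m, rfl⟩
      three_le := by omega
      card := ?_
      card_T := ?_
      card_Z := ?_
      Z_le := hZT
      Z_sq := fun z hz => ?_
      Z_comm := fun z hz x hx => ψ.injective (by
        rw [map_mul, map_mul]; exact SzModel.zsub_commute P hz ((hTm x).1 hx))
      invol_mem := fun x hx hxx => ?_
      cent := fun z hz hz1 => ?_
      norm_Z := ?_
      index_R := ?_
      maximal := fun K hK => ?_
      ti := fun g hg x hx hgx => ?_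
      h_mem := hh1
      h_order := ?_
      h_fpf := fun k hk x hx hc => ?_
      gen_R := ?_
      trans := fun z hz z' hz' h1 h1' => ?_
      fix_h := fun k hk => ?_
      fix_z := fun z hz hz1 g hg => ?_
      gen := fun g hg => ?_
      aut_two := fun α hα => ?_
      aut_fixZ := fun α hα => ?_
      aut_bound := fun K hK hno => ?_ }
  · rw [Nat.card_congr ψ.toEquiv, card_sz P, hF]; ring
  · rw [← Subgroup.card_map_of_injective (f := ψ.toMonoidHom) ψ.injective, hT, card_unip P, hF]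
  · rw [← Subgroup.card_map_of_injective (f := ψ.toMonoidHom) ψ.injective, hZmap, SzModel.card_zsub P, hF]
  · refine ψ.injective ?_
    rcases eq_or_ne (ψ z) 1 with e | e
    · rw [map_mul, e, one_mul, map_one]
    · have h2 := pow_orderOf_eq_one (ψ z)
      rw [SzModel.orderOf_zsub P ((hZm z).1 hz) e, pow_two] at h2
      rw [map_mul, map_one, h2]
  · rcases eq_or_ne x 1 with rfl | hx1
    · exact one_mem _
    refine SzModel.mem_zsub_of_orderOf P ((hTm x).1 hx) (orderOf_eq_prime ?_ (hψne hx1))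
    show ψ x ^ 2 = 1
    rw [← map_pow, pow_two, hxx, map_one]
  · ext x
    rw [hTm, ← SzModel.centralizer_zsub P ((hZm z).1 hz) (hψne hz1), Subgroup.mem_centralizer_singleton_iff,
      Subgroup.mem_centralizer_singleton_iff, ← map_mul, ← map_mul, ψ.injective.eq_iff]
  · refine Subgroup.map_injective (f := ψ.toMonoidHom) ψ.injective ?_
    rw [hR, Subgroup.map_equiv_normalizer_eq, hZmap, SzModel.normalizer_zsub P]
  · rw [← Subgroup.index_map_equiv R ψ]
    show (R.map ψ.toMonoidHom).index = _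
    rw [hR, index_borel P, hF]
  · rcases (SzModel.isCoatom_borel P).le_iff.1
      (hR ▸ Subgroup.map_mono hK : borel (F := F) (e := 2 ^ (m + 1)) ≤ K.map ψ.toMonoidHom) with e | e
    · refine Or.inr (Subgroup.map_injective (f := ψ.toMonoidHom) ψ.injective ?_)
      rw [e, Subgroup.map_top_of_surjective _ ψ.surjective]
    · exact Or.inl (Subgroup.map_injective (f := ψ.toMonoidHom) ψ.injective (e.trans hR.symm))
  · by_contra hx1
    refine hg ((hRm g).2 ?_)
    have h1 := conj_unip_ne P (g := ψ g⁻¹) ((hTm x).1 hx) (hψne hx1)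
      (by rw [← map_inv ψ, inv_inv, ← map_mul, ← map_mul]; exact (hTm _).1 hgx)
    simpa using inv_mem h1
  · rw [← ψ.orderOf_eq, hψh, ← Subgroup.orderOf_mk (H := torus P) h₀ hh₀,
      orderOf_eq_card_of_forall_mem_zpowers hgen₀, card_torus P, hF]
  · refine ψ.injective ?_
    rw [map_one]
    refine SzModel.torus_fpf P (hpowmem k) (hψne hk) ((hTm x).1 hx) ?_
    show ψ (h ^ k) * ψ x = ψ x * ψ (h ^ k)
    rw [← map_mul, hc, map_mul]
  · refine le_antisymm (sup_le Subgroup.le_normalizer (Subgroup.zpowers_le.2 hh1))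
      fun r hr => ?_
    obtain ⟨u, hu, y, hy, e⟩ := SzModel.torus_decomp P ((hRm r).1 hr)
    obtain ⟨k, rfl⟩ := hall y hy
    rw [show r = ψ.symm u * h ^ k from ψ.injective (by rw [map_mul, MulEquiv.apply_symm_apply, e])]
    exact Subgroup.mul_mem_sup ((hTm _).2 (by rwa [MulEquiv.apply_symm_apply]))
      (Subgroup.pow_mem _ (Subgroup.mem_zpowers h) k)
  · obtain ⟨y, hy, hyz⟩ := SzModel.torus_trans P ((hZm z).1 hz) (hψne h1) ((hZm z').1 hz') (hψne h1')
    obtain ⟨k, rfl⟩ := hall y hy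
    exact ⟨k, ψ.injective (by rw [map_mul, map_mul, map_inv, hyz])⟩
  · have key : ∀ g : L, (h ^ k) • ((g : L) : L ⧸ R) = g ↔
        ψ (h ^ k) • (QuotientGroup.mk (ψ g) : ↥(Sz F (2 ^ (m + 1))) ⧸ borel (F := F) (e := 2 ^ (m + 1))) =
          QuotientGroup.mk (ψ g) := fun g => by
      rw [MulAction.Quotient.smul_mk, MulAction.Quotient.smul_mk, smul_eq_mul, smul_eq_mul,
        QuotientGroup.eq, QuotientGroup.eq, hRm, map_mul, map_inv, map_mul]
    have hset : {c : L ⧸ R | h ^ k • c = c} =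
        {((1 : L) : L ⧸ R), ((ψ.symm (jEl P) : L) : L ⧸ R)} := by
      ext c
      induction c using QuotientGroup.induction_on with
      | H g =>
        rw [Set.mem_ofPred_eq, key, SzModel.torus_smul_eq P (hpowmem k) (hψne hk), Set.mem_insert_iff,
          Set.mem_singleton_iff, QuotientGroup.eq, QuotientGroup.eq, QuotientGroup.eq, QuotientGroup.eq,
          hRm, hRm, map_mul, map_mul, map_inv, map_one, MulEquiv.apply_symm_apply]
    rw [hset, Set.ncard_pair]
    intro e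
    rw [QuotientGroup.eq, inv_one, one_mul, hRm, MulEquiv.apply_symm_apply] at e
    exact jEl_notMem_borel P e
  · have h2 : ψ z • (QuotientGroup.mk (ψ g) : ↥(Sz F (2 ^ (m + 1))) ⧸ borel (F := F) (e := 2 ^ (m + 1))) =
        QuotientGroup.mk (ψ g) := by
      rw [MulAction.Quotient.smul_mk, smul_eq_mul, QuotientGroup.eq, ← map_mul, ← map_inv, ← map_mul, ← hRm,
        mul_inv_rev]
      have h4 : (g⁻¹ * z * g)⁻¹ ∈ R := inv_mem hg
      rwa [show (g⁻¹ * z * g)⁻¹ = g⁻¹ * z⁻¹ * g by group] at h4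
    have h3 := (SzModel.zsub_smul_eq hm hF P hz (hψne hz1) _).1 h2
    rw [QuotientGroup.eq, mul_one, inv_mem_iff, ← hRm] at h3
    exact h3
  · refine Subgroup.map_injective (f := ψ.toMonoidHom) ψ.injective ?_
    rw [Subgroup.map_top_of_surjective _ ψ.surjective]
    refine SzModel.zsub_gen hm hF P (g := ψ g) (fun e => hg ((hRm g).2 e))
      (hZmap ▸ Subgroup.map_mono le_sup_left) fun y hy => ?_
    obtain ⟨z, rfl⟩ := ψ.surjective y
    exact ⟨g * z * g⁻¹, Subgroup.mem_sup_right ⟨z, hy, rfl⟩, by simp⟩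
  · obtain ⟨j, hj⟩ := hα
    obtain ⟨x, hx⟩ := SzModel.aut_two_inner hm hF P (α := MulAut.congr ψ α) (k := j)
      (by rw [← map_pow, hj, map_one])
    refine ⟨ψ.symm x, MulEquiv.ext fun y => ψ.injective ?_⟩
    have e : ψ (α (ψ.symm (ψ y))) = x * ψ y * x⁻¹ := congrArg (fun β : MulAut _ => β (ψ y)) hx
    rw [ψ.symm_apply_apply] at e
    simp [e]
  · obtain ⟨u, hu, hx⟩ := SzModel.aut_fix_zsub hm hF P (α := MulAut.congr ψ α) fun z hz => by
      obtain ⟨z, rfl⟩ := ψ.surjective z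
      show ψ (α (ψ.symm (ψ z))) = ψ z
      rw [ψ.symm_apply_apply, hα z hz]
    refine ⟨ψ.symm u, (hTm _).2 (by rwa [MulEquiv.apply_symm_apply]), MulEquiv.ext fun y => ψ.injective ?_⟩
    have e : ψ (α (ψ.symm (ψ y))) = u * ψ y * u⁻¹ := congrArg (fun β : MulAut _ => β (ψ y)) hx
    rw [ψ.symm_apply_apply] at e
    simp [e]
  · set K' := K.map (MulAut.congr ψ).toMonoidHom
    have hb := SzModel.aut_range hm hF P (Γ := K') (by
        rintro _ ⟨α, hα, rfl⟩ u hu
        obtain ⟨x, rfl⟩ := ψ.surjective u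
        show ψ (α (ψ.symm (ψ x))) ∈ unip P
        rw [ψ.symm_apply_apply, ← hTm]
        exact hK α hα x ((hTm x).2 hu)) (by
        rintro _ ⟨α, hα, rfl⟩ y hy hαy
        obtain ⟨k, rfl⟩ := hall y hy
        by_contra hk
        obtain ⟨z, hz, hne⟩ := hno α hα k fun e => hk (by rw [e, map_one])
        refine hne (ψ.injective ?_)
        rw [map_mul, map_mul, map_inv, ← hαy (ψ z) hz]
        show ψ (α z) = ψ (α (ψ.symm (ψ z)))
        rw [ψ.symm_apply_apply])
    haveI : Finite (↥Z → L) := Pi.finite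
    let conv : (↥(SzModel.zsub P) → ↥(Sz F (2 ^ (m + 1)))) → (↥Z → L) :=
      fun f z => ψ.symm (f ⟨ψ z, z.2⟩)
    haveI : Finite (↥(SzModel.zsub P) → ↥(Sz F (2 ^ (m + 1)))) := Pi.finite
    refine le_trans (le_trans (Set.ncard_le_ncard ?_ (Set.toFinite _))
      (Set.ncard_image_le (f := conv) (Set.toFinite _))) hb
    rintro _ ⟨α, hα, rfl⟩
    refine ⟨_, ⟨⟨_, α, hα, rfl⟩, rfl⟩, funext fun z => ψ.injective ?_⟩
    show ψ (ψ.symm (ψ (α (ψ.symm (ψ z))))) = ψ (α z)
    simp

end Transport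

/-- The facts on the Suzuki groups hold. -/
theorem szFactsHold : SzFactsHold.{u} := by
  intro L _ _ hL T
  obtain ⟨F, _, _, m, hm, hF, ⟨ψ₀⟩⟩ := hL
  obtain ⟨hC, ⟨P⟩⟩ := exists_params hF
  haveI := hC
  haveI : Fact (Nat.Prime 2) := ⟨Nat.prime_two⟩
  let S : Sylow 2 ↥(Sz F (2 ^ (m + 1))) := T.mapSurjective (f := ψ₀.toMonoidHom) ψ₀.surjective
  obtain ⟨g, hg⟩ := MulAction.exists_smul_eq ↥(Sz F (2 ^ (m + 1))) S (sylowTwo P)
  have hT : (T : Subgroup L).map (ψ₀.trans (MulAut.conj g)).toMonoidHom = unip P := by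
    rw [← coe_sylowTwo P, ← hg, Sylow.coe_subgroup_smul]
    ext y
    simp [S, Subgroup.mem_map, Subgroup.mem_pointwise_smul_iff_inv_smul_mem]
    constructor
    · rintro ⟨x, hx, rfl⟩
      exact ⟨x, hx, by group⟩
    · rintro ⟨x, hx, e⟩
      exact ⟨x, hx, by rw [e]; group⟩
  obtain ⟨Z, h, hd⟩ := szData_of_model hm hF P _ hT
  exact ⟨2 * m + 1, Z, h, hd⟩

end CfsgLib.ThreeFree
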