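import Cfsg.Agent.Lib.ThreeFree.Main

/-!
Every non-abelian simple group of order prime to three is a Suzuki group
(`CfsgLib.ThreeFree.threeFreeSimple`, proved in `Main`).
-/
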