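import Cfsg.Agent.Lib.ThreeFree.Frame

/-!
The components of the centralizers of involutions of `A` that `A` moves, when these centralizers
have trivial odd cores.
-/

set_option autoImplicit false
set_option linter.style.haveILetI false
set_option linter.unusedSectionVars false

namespace CfsgLib.ThreeFree

open Subgroup CfsgLib.Components

universe u

variable {G : Type u} [Group G]

/-- A component of `C(a)` moved by `A`. -/
structure AComp (A : Subgroup G) (a : G) (L : Subgroup G) : Prop where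
  mem : a ∈ A
  ne : a ≠ 1
  le : L ≤ cent a
  comp : Cfsg.IsComponent (L.subgroupOf (cent a))
  moved : ¬ A ≤ centralizer (L : Set G)

/-- The centralizer of `L` in `A`. -/
abbrev fixComp (A L : Subgroup G) : Subgroup G := A ⊓ centralizer (L : Set G)

/-- The decomposition of `A` given by a torus element of a component. -/
structure TorusG (A : Subgroup G) (a : G) (L : Subgroup G) (n : ℕ) (Z : Subgroup G) (x : G) :
    Prop where
  odd_n : Odd n
  three_le : 3 ≤ n
  le_A : Z ≤ A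
  le_L : Z ≤ L
  x_mem : x ∈ L
  x_norm : x ∈ normalizer (A : Set G)
  inf : Z ⊓ fixComp A L = ⊥
  sup : ∀ b ∈ A, ∃ z ∈ Z, ∃ c ∈ fixComp A L, b = z * c
  card : Nat.card Z = 2 ^ n
  trans : ∀ z ∈ Z, ∀ z' ∈ Z, z ≠ 1 → z' ≠ 1 → ∃ k : ℕ, x ^ k * z * (x ^ k)⁻¹ = z'
  fpf2 : ∀ z ∈ Z, z ≠ 1 → x ^ 2 * z * (x ^ 2)⁻¹ ≠ z
  fix_two : ∀ y ∈ cent a, y ∈ normalizer (L : Set G) → (∃ k : ℕ, y ^ (2 ^ k) = 1) →
    (∀ z ∈ Z, y * z * y⁻¹ ∈ Z) → ∀ z ∈ Z, y * z * y⁻¹ = z

theorem card_mul_card_le [Finite G] {A B C : Subgroup G} (hB : B ≤ A) (hC : C ≤ A)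
    (h : B ⊓ C = ⊥) : Nat.card B * Nat.card C ≤ Nat.card A := by
  rw [← Nat.card_prod]
  refine Nat.card_le_card_of_injective
    (fun p : B × C => (⟨p.1 * p.2, mul_mem (hB p.1.2) (hC p.2.2)⟩ : A)) ?_
  exact (Subgroup.mul_injective_of_disjoint (disjoint_iff.2 h)).of_comp (f := A.subtype)

theorem TorusG.card_A [Finite G] {A : Subgroup G} {a : G} {L Z : Subgroup G} {n : ℕ} {x : G}
    (t : TorusG A a L n Z x) : Nat.card A = 2 ^ n * Nat.card (fixComp A L) := by
  refine le_antisymm ?_ ?_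
  · rw [← t.card, ← Nat.card_prod]
    refine Nat.card_le_card_of_surjective
      (fun p : Z × fixComp A L => (⟨p.1 * p.2, mul_mem (t.le_A p.1.2) p.2.2.1⟩ : A)) ?_
    rintro ⟨b, hb⟩
    obtain ⟨z, hz, c, hc, rfl⟩ := t.sup b hb
    exact ⟨(⟨z, hz⟩, ⟨c, hc⟩), rfl⟩
  · rw [← t.card]
    exact card_mul_card_le t.le_A inf_le_left t.inf

namespace AComp

variable {A : Subgroup G} {a : G} {L : Subgroup G}

theorem mem_fixComp (h : AComp A a L) : a ∈ fixComp A L :=
  Subgroup.mem_inf.2 ⟨h.mem, mem_centralizer_iff.2 fun _ hl => mem_cent.1 (h.le hl)⟩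

theorem fixComp_ne_bot (h : AComp A a L) : fixComp A L ≠ ⊥ := fun e =>
  h.ne ((Subgroup.eq_bot_iff_forall _).1 e a h.mem_fixComp)

theorem ne_bot (h : AComp A a L) : L ≠ ⊥ := fun e => h.moved (by
  rintro x -
  rw [e, mem_centralizer_iff]
  intro l hl
  rw [SetLike.mem_coe, Subgroup.mem_bot] at hl
  simp [hl])

/-- Distinct components of one centralizer commute. -/
theorem le_centralizer [Finite G] (h : AComp A a L) {L' : Subgroup G} (h' : AComp A a L') (hne : L ≠ L') :
    L ≤ centralizer (L' : Set G) := by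
  refine le_centralizer_of_commutator_eq_bot ((commutator_subgroupOf_eq_bot_iff h.le h'.le).1 ?_)
  exact commutator_components_eq_bot h.comp h'.comp fun e =>
    hne (le_antisymm (le_of_subgroupOf_le h.le e.le) (le_of_subgroupOf_le h'.le e.ge))

end AComp

namespace Frame

variable [Finite G] {S : Sylow 2 G} {A : Subgroup G}

theorem acomp_torus (s : Frame G S A) (hF : SzFactsHold.{u}) {a : G} {L : Subgroup G}
    (hc : Cfsg.pPrimeCore 2 (cent a) = ⊥) (h : AComp A a L) :
    ∃ (n : ℕ) (Z : Subgroup G) (x : G), TorusG A a L n Z x := by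
  obtain ⟨P, c⟩ := s.setting_of_core h.mem h.ne hc
  set X := cent a
  have hcl : ∀ u : X, u ∈ centralizer ((L.subgroupOf X : Subgroup X) : Set X) ↔
      (u : G) ∈ centralizer (L : Set G) := by
    intro u
    simp only [mem_centralizer_iff]
    exact ⟨fun hu l hl => congrArg Subtype.val (hu ⟨l, h.le hl⟩ hl),
      fun hu l hl => Subtype.ext (hu _ hl)⟩
  obtain ⟨n, Z, x, t⟩ := c.torus_data hF h.comp fun hle => h.moved fun b hb =>
    (hcl ⟨b, s.A_le_cent h.mem hb⟩).1 (hle hb)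
  refine ⟨n, Z.map X.subtype, x, t.odd_n, t.three_le, ?_, ?_, t.x_mem, ?_, ?_, ?_, ?_, ?_, ?_, ?_⟩
  · rintro _ ⟨z, hz, rfl⟩; exact t.le_B hz
  · rintro _ ⟨z, hz, rfl⟩; exact t.le_L hz
  · exact mem_normalizer_fintype fun b hb =>
      (mem_normalizer_iff.1 t.x_norm ⟨b, s.A_le_cent h.mem hb⟩).1 hb
  · refine (Subgroup.eq_bot_iff_forall _).2 ?_
    rintro _ ⟨⟨z, hz, rfl⟩, hzA, hzc⟩
    exact congrArg Subtype.val ((Subgroup.eq_bot_iff_forall _).1 t.inf z
      ⟨hz, hzA, (hcl z).2 hzc⟩)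
  · intro b hb
    obtain ⟨z, hz, e, he, hbe⟩ := t.sup ⟨b, s.A_le_cent h.mem hb⟩ hb
    exact ⟨z, mem_map_of_mem _ hz, e, ⟨he.1, (hcl e).1 he.2⟩, congrArg Subtype.val hbe⟩
  · rw [Nat.card_congr (Z.equivMapOfInjective _ X.subtype_injective).symm.toEquiv, t.card]
  · rintro _ ⟨z, hz, rfl⟩ _ ⟨z', hz', rfl⟩ h1 h1'
    obtain ⟨k, hk⟩ := t.trans z hz z' hz' (fun e => h1 (by rw [e]; rfl)) fun e => h1' (by rw [e]; rfl)
    exact ⟨k, by simpa using congrArg Subtype.val hk⟩
  · rintro _ ⟨z, hz, rfl⟩ h1 e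
    exact t.fpf2 z hz (fun e' => h1 (by rw [e']; rfl)) (Subtype.ext (by simpa using e))
  · rintro y hy hyn ⟨k, hk⟩ hyZ _ ⟨z, hz, rfl⟩
    have hn : (⟨y, hy⟩ : X) ∈ normalizer ((L.subgroupOf X : Subgroup X) : Set X) :=
      mem_normalizer_iff.2 fun l => mem_normalizer_iff.1 hyn l
    have := t.fix_two ⟨y, hy⟩ hn ⟨k, Subtype.ext (by simpa using hk)⟩ (fun w hw => by
      obtain ⟨w', hw', e⟩ := hyZ _ (mem_map_of_mem _ hw)
      obtain rfl : w' = ⟨y, hy⟩ * w * ⟨y, hy⟩⁻¹ := Subtype.ext (by simpa using e)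
      exact hw') z hz
    simpa using congrArg Subtype.val this

/-- A component of `C(a)` moved by `A` is one of `C(b)` for all `b` in `A` centralizing it. -/
theorem acomp_of_mem (s : Frame G S A) (hF : SzFactsHold.{u}) {a b : G} {L : Subgroup G}
    (h : AComp A a L) (hb : b ∈ fixComp A L) (hb1 : b ≠ 1)
    (hc : Cfsg.pPrimeCore 2 (cent b) = ⊥) : AComp A b L := by
  have hLb : L ≤ cent b := fun l hl => mem_cent.2 (mem_centralizer_iff.1 hb.2 l hl)
  refine ⟨hb.1, hb1, hLb, ?_, h.moved⟩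
  obtain ⟨P, c⟩ := s.setting_of_core hb.1 hb1 hc
  set X := cent a
  set Y := cent b
  set a' : Y := ⟨a, s.A_le_cent hb.1 h.mem⟩
  set D := centralizer ({a'} : Set Y)
  refine c.component_of_centralizer hF (a := a') h.mem (fun e => h.ne (congrArg Subtype.val e))
    (fun l hl => mem_centralizer_singleton_iff.2 (Subtype.ext (mem_cent.1 (h.le hl)))) ?_
  let e : Y.subgroupOf X ≃* D :=
    { toFun := fun u => ⟨⟨((u : X) : G), u.2⟩,
        mem_centralizer_singleton_iff.2 (Subtype.ext (mem_cent.1 (u : X).2))⟩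
      invFun := fun u => ⟨⟨((u : Y) : G),
        mem_cent.2 (congrArg Subtype.val (mem_centralizer_singleton_iff.1 u.2) :)⟩, (u : Y).2⟩
      left_inv := fun u => rfl
      right_inv := fun u => rfl
      map_mul' := fun u v => rfl }
  have h1 := isComponent_map_equiv e
    (isComponent_subgroupOf h.comp (H := Y.subgroupOf X) fun l hl => hLb hl)
  have h2 : ((L.subgroupOf X).subgroupOf (Y.subgroupOf X)).map e.toMonoidHom =
      (L.subgroupOf Y).subgroupOf D := by
    ext u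
    rw [Subgroup.mem_map_equiv]
    rfl
  rwa [h2] at h1

theorem acomp_conj (s : Frame G S A) {a m : G} {L : Subgroup G} (h : AComp A a L)
    (hm : m ∈ normalizer (A : Set G)) : AComp A (m * a * m⁻¹) (cj m L) := by
  refine ⟨s.conj_A hm h.mem, fun e => h.ne (conj_eq_one_iff.1 e), ?_, ?_, fun hle => h.moved ?_⟩
  · refine cj_le_of_forall fun l hl => mem_cent.2 ?_
    have := mem_cent.1 (h.le hl)
    calc m * l * m⁻¹ * (m * a * m⁻¹) = m * (l * a) * m⁻¹ := by group
      _ = m * (a * l) * m⁻¹ := by rw [this]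
      _ = _ := by group
  · have hC : cj m (cent a) = cent (m * a * m⁻¹) := by
      ext u
      rw [mem_cj, mem_cent, mem_cent]
      refine ⟨fun hu => ?_, fun hu => ?_⟩
      · calc u * (m * a * m⁻¹) = m * ((m⁻¹ * u * m) * a) * m⁻¹ := by group
          _ = _ := by rw [hu]; group
      · calc m⁻¹ * u * m * a = m⁻¹ * (u * (m * a * m⁻¹)) * m := by group
          _ = _ := by rw [hu]; group
    have h1 := isComponent_map_equiv
      (((MulAut.conj m).subgroupMap (cent a)).trans (MulEquiv.subgroupCongr hC)) h.comp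
    have h2 : (L.subgroupOf (cent a)).map
        (((MulAut.conj m).subgroupMap (cent a)).trans (MulEquiv.subgroupCongr hC)).toMonoidHom =
        (cj m L).subgroupOf (cent (m * a * m⁻¹)) := by
      ext u
      rw [Subgroup.mem_map_equiv, mem_subgroupOf, mem_subgroupOf, mem_cj]
      show (MulAut.conj m).symm (u : G) ∈ L ↔ _
      rw [MulAut.conj_symm_apply]
    rwa [h2] at h1
  · intro b hb
    have h3 := hle (s.conj_A hm hb)
    rw [mem_centralizer_iff] at h3 ⊢
    intro l hl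
    have h4 := h3 (m * l * m⁻¹) (cj_mem.2 hl)
    calc l * b = m⁻¹ * (m * l * m⁻¹ * (m * b * m⁻¹)) * m := by group
      _ = _ := by rw [h4]; group

theorem fixComp_cj (s : Frame G S A) {m : G} (hm : m ∈ normalizer (A : Set G)) (L : Subgroup G) :
    fixComp A (cj m L) = cj m (fixComp A L) := by
  ext u
  rw [mem_cj, Subgroup.mem_inf, Subgroup.mem_inf, mem_centralizer_iff, mem_centralizer_iff]
  refine and_congr ⟨fun hu => ?_, fun hu => ?_⟩ ⟨fun hu l hl => ?_, fun hu l hl => ?_⟩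
  · simpa using s.conj_A (inv_mem hm) hu
  · simpa [mul_assoc] using s.conj_A hm hu
  · have := hu (m * l * m⁻¹) (cj_mem.2 hl)
    calc l * (m⁻¹ * u * m) = m⁻¹ * (m * l * m⁻¹ * u) * m := by group
      _ = _ := by rw [this]; group
  · rw [SetLike.mem_coe, mem_cj] at hl
    have := hu _ hl
    calc l * u = m * (m⁻¹ * l * m * (m⁻¹ * u * m)) * m⁻¹ := by group
      _ = _ := by rw [this]; group

/-- A criterion for containing `C(a)` when its odd core is trivial. -/
theorem cent_le_of_acomp (s : Frame G S A) (hF : SzFactsHold.{u}) {a : G} (ha : a ∈ A) (h1 : a ≠ 1)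
    (hc : Cfsg.pPrimeCore 2 (cent a) = ⊥) {K : Subgroup G} (hM : normalizer (A : Set G) ≤ K)
    (hcomp : ∀ L, AComp A a L → L ≤ K) : cent a ≤ K := by
  intro y hy
  obtain ⟨P, c⟩ := s.setting_of_core ha h1 hc
  obtain ⟨e, he, m, hm, hem⟩ := c.exists_decomp hF ⟨y, hy⟩
  have hEK : sSup (movedComponents (A.subgroupOf (cent a))) ≤ K.subgroupOf (cent a) := by
    refine sSup_le fun L hL l hl => hcomp (L.map (cent a).subtype)
      ⟨ha, h1, map_subtype_le _, ?_, fun hle => hL.2 fun b hb => ?_⟩ ⟨l, hl, rfl⟩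
    · rw [subgroupOf, comap_map_eq_self_of_injective (cent a).subtype_injective]
      exact hL.1
    · exact mem_centralizer_iff.2 fun u hu =>
        Subtype.ext (mem_centralizer_iff.1 (hle hb) _ ⟨u, hu, rfl⟩)
  have hmA : (m : G) ∈ normalizer (A : Set G) := mem_normalizer_fintype fun b hb =>
    (mem_normalizer_iff.1 hm ⟨b, s.A_le_cent ha hb⟩).1 hb
  rw [show y = (e : G) * (m : G) from congrArg Subtype.val hem]
  exact mul_mem (hEK he) (hM hmA)

end Frame

end CfsgLib.ThreeFree
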