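import Mathlib
import Cfsg.Agent.Lib.Frobenius.Action

/-!
Abelian groups of odd order acting on elementary abelian 2-groups.
-/

set_option autoImplicit false
set_option linter.style.haveILetI false

namespace CfsgLib.ThreeFree

open Subgroup

universe u

variable {G : Type u} [Group G] [Finite G]

private theorem fix_of_zpow {m g a : G} (h : m * a * m⁻¹ = a) (hg : g ∈ zpowers m) :
    g * a * g⁻¹ = a := by
  obtain ⟨i, rfl⟩ := mem_zpowers_iff.1 hg
  rw [(Commute.zpow_left (mul_inv_eq_iff_eq_mul.1 h) i).eq, mul_inv_cancel_right]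

/-- An abelian group `M` of odd order acting faithfully on an elementary abelian 2-group `A`, with
an involution (or `1`) `w` normalising `A` and every subgroup of `M`, such that the normaliser of
`M` is transitive on the nontrivial fixed points of `w`: `M` is fixed-point-free on `A`. -/
theorem fpf_of_trans_fixed {A M : Subgroup G} {w : G} (hA2 : ∀ a ∈ A, a * a = 1)
    (hAc : ∀ a ∈ A, ∀ b ∈ A, a * b = b * a) (hMA : ∀ m ∈ M, ∀ a ∈ A, m * a * m⁻¹ ∈ A)
    (hMc : ∀ m ∈ M, ∀ m' ∈ M, m * m' = m' * m) (hodd : Odd (Nat.card M))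
    (hfaith : ∀ m ∈ M, (∀ a ∈ A, m * a * m⁻¹ = a) → m = 1)
    (hw2 : w * w = 1) (hwA : ∀ a ∈ A, w * a * w⁻¹ ∈ A) (hwM : ∀ m ∈ M, w * m * w⁻¹ ∈ zpowers m)
    (htrans : ∀ a ∈ A, ∀ b ∈ A, w * a * w⁻¹ = a → w * b * w⁻¹ = b → a ≠ 1 → b ≠ 1 →
      ∃ g : G, (∀ m ∈ M, g * m * g⁻¹ ∈ M) ∧ g * a * g⁻¹ = b) :
    ∀ m ∈ M, m ≠ 1 → ∀ a ∈ A, m * a * m⁻¹ = a → a = 1 := by
  classical
  intro m hm hm1 a ha hfix
  by_contra ha1
  letI : CommGroup A :=
    { (inferInstance : Group A) with mul_comm := fun x y => Subtype.ext (hAc _ x.2 _ y.2) }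
  have hwinv : w⁻¹ = w := inv_eq_of_mul_eq_one_right hw2
  let cw : A →* A :=
    { toFun := fun x => ⟨w * x * w⁻¹, hwA _ x.2⟩
      map_one' := Subtype.ext (by simp)
      map_mul' := fun x y => Subtype.ext (by simp [mul_assoc]) }
  have cw_cw : ∀ x : A, cw (cw x) = x := fun x => Subtype.ext (by
    show w * (w * x * w⁻¹) * w⁻¹ = x
    rw [hwinv]; simp [mul_assoc, hw2]; rw [← mul_assoc, hw2, one_mul])
  have fixedOf : ∀ x : A, x ≠ 1 → cw x ≠ x → cw (x * cw x) = x * cw x ∧ x * cw x ≠ 1 := by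
    intro x _ hne
    refine ⟨by rw [map_mul, cw_cw, mul_comm], fun h => hne ?_⟩
    have hx2 : x * x = 1 := Subtype.ext (hA2 _ x.2)
    exact mul_left_cancel (h.trans hx2.symm)
  -- a fixed point of `w` centralised by `m`
  obtain ⟨c, hcw, hc1, hcm⟩ : ∃ c : A, cw c = c ∧ c ≠ 1 ∧ m * c * m⁻¹ = c := by
    by_cases h : cw ⟨a, ha⟩ = ⟨a, ha⟩
    · exact ⟨_, h, fun e => ha1 (congrArg Subtype.val e), hfix⟩
    · obtain ⟨h1, h2⟩ := fixedOf _ (fun e => ha1 (congrArg Subtype.val e)) h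
      refine ⟨_, h1, h2, ?_⟩
      show m * (a * (w * a * w⁻¹)) * m⁻¹ = a * (w * a * w⁻¹)
      have h3 := fix_of_zpow hfix (hwM m hm)
      calc m * (a * (w * a * w⁻¹)) * m⁻¹
          = (m * a * m⁻¹) * (w * ((w⁻¹ * m * w) * a * (w⁻¹ * m * w)⁻¹) * w⁻¹) := by group
        _ = a * (w * a * w⁻¹) := by rw [hfix, hwinv] at *; rw [h3]
  set K := M ⊓ centralizer ({(c : G)} : Set G) with hK
  have hKmem : ∀ k, k ∈ K ↔ k ∈ M ∧ k * c * k⁻¹ = c := fun k => by
    rw [hK, mem_inf, mem_centralizer_singleton_iff, mul_inv_eq_iff_eq_mul]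
  haveI : Fintype K := Fintype.ofFinite K
  have hKodd : Odd (Fintype.card K) := by
    rw [← Nat.card_eq_fintype_card]
    exact hodd.of_dvd_nat (card_dvd_of_le inf_le_left)
  let f : K → (A →* A) := fun k =>
    { toFun := fun x => ⟨(k : G) * x * (k : G)⁻¹, hMA _ ((hKmem _).1 k.2).1 _ x.2⟩
      map_one' := Subtype.ext (by simp)
      map_mul' := fun x y => Subtype.ext (by simp [mul_assoc]) }
  let π : A →* A := ∏ k : K, f k
  have hπ : ∀ x, π x = ∏ k : K, f k x := fun x => MonoidHom.finset_prod_apply _ _ _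
  have hπfix : ∀ x : A, (∀ k : K, f k x = x) → π x = x := by
    intro x hx
    rw [hπ, Finset.prod_congr rfl fun k _ => hx k, Finset.prod_const, Finset.card_univ]
    obtain ⟨j, hj⟩ := hKodd
    rw [hj, pow_succ, pow_mul, pow_two, show x * x = 1 from Subtype.ext (hA2 _ x.2), one_pow,
      one_mul]
  have hfπ : ∀ (k : K) (x : A), f k (π x) = π x := by
    intro k x
    rw [hπ, map_prod]
    refine Fintype.prod_equiv (Equiv.mulLeft k) _ _ fun j => Subtype.ext ?_
    show (k : G) * ((j : G) * x * (j : G)⁻¹) * (k : G)⁻¹ = ((k * j : K) : G) * x * ((k * j : K) : G)⁻¹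
    simp [mul_assoc]
  have hπcw : ∀ x, π (cw x) = cw (π x) := by
    intro x
    rw [hπ, hπ, map_prod]
    have hmem : ∀ k : K, w * k * w⁻¹ ∈ K := fun k => by
      obtain ⟨hkM, hk⟩ := (hKmem _).1 k.2
      exact (hKmem _).2 ⟨zpowers_le.2 hkM (hwM _ hkM), fix_of_zpow hk (hwM _ hkM)⟩
    let σ : K ≃ K := Function.Involutive.toPerm (fun k => ⟨w * k * w⁻¹, hmem k⟩) fun k =>
      Subtype.ext (by
        show w * (w * k * w⁻¹) * w⁻¹ = k
        calc w * (w * k * w⁻¹) * w⁻¹ = (w * w) * k * (w * w)⁻¹ := by group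
          _ = k := by rw [hw2]; simp)
    refine Fintype.prod_equiv σ _ _ fun k => Subtype.ext ?_
    show (k : G) * (w * x * w⁻¹) * (k : G)⁻¹ =
      w * ((w * k * w⁻¹) * x * (w * k * w⁻¹)⁻¹) * w⁻¹
    calc (k : G) * (w * x * w⁻¹) * (k : G)⁻¹
        = (w * w) * k * (w * w)⁻¹ * (w * x * w⁻¹) * ((w * w) * k * (w * w)⁻¹)⁻¹ := by
          rw [hw2]; simp
      _ = _ := by group
  -- an element of the kernel of the projection fixed by `w`
  obtain ⟨x, hx⟩ : ∃ x : A, π x ≠ x := by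
    by_contra! h
    refine hm1 (hfaith m hm fun b hb => ?_)
    have hmK : m ∈ K := (hKmem _).2 ⟨hm, hcm⟩
    have := hfπ ⟨m, hmK⟩ ⟨b, hb⟩
    rw [h] at this
    exact congrArg Subtype.val this
  have hy : π (x * π x) = 1 := by
    rw [map_mul, hπfix (π x) (fun k => hfπ k x)]
    exact Subtype.ext (hA2 _ (π x).2)
  have hy1 : x * π x ≠ 1 := fun h => hx
    (mul_left_cancel (h.trans (show x * x = 1 from Subtype.ext (hA2 _ x.2)).symm))
  obtain ⟨c', hc'w, hc'1, hc'π⟩ : ∃ c' : A, cw c' = c' ∧ c' ≠ 1 ∧ π c' = 1 := by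
    by_cases h : cw (x * π x) = x * π x
    · exact ⟨_, h, hy1, hy⟩
    · obtain ⟨h1, h2⟩ := fixedOf _ hy1 h
      exact ⟨_, h1, h2, by rw [map_mul, hπcw, hy, map_one, one_mul]⟩
  have hπc : π c = c := hπfix c fun k => Subtype.ext ((hKmem _).1 k.2).2
  have hπd : π (c * c') = c := by rw [map_mul, hπc, hc'π, mul_one]
  have hd1 : c * c' ≠ 1 := fun h => hc1 (by rw [← hπd, h, map_one])
  obtain ⟨g, hgM, hg⟩ := htrans c c.2 (c * c' : A) (c * c' : A).2 (congrArg Subtype.val hcw)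
    (congrArg Subtype.val (by rw [map_mul, hcw, hc'w] : cw (c * c') = c * c'))
    (fun e => hc1 (Subtype.ext e)) (fun e => hd1 (Subtype.ext e))
  set K' := M ⊓ centralizer ({((c * c' : A) : G)} : Set G) with hK'
  have hK'mem : ∀ k, k ∈ K' ↔ k ∈ M ∧ k * (c * c' : A) * k⁻¹ = (c * c' : A) := fun k => by
    rw [hK', mem_inf, mem_centralizer_singleton_iff, mul_inv_eq_iff_eq_mul]
  have hle : K' ≤ K := by
    intro k hk
    obtain ⟨hkM, hk⟩ := (hK'mem k).1 hk
    refine (hKmem k).2 ⟨hkM, ?_⟩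
    let ck : A →* A :=
      { toFun := fun x => ⟨k * x * k⁻¹, hMA _ hkM _ x.2⟩
        map_one' := Subtype.ext (by simp)
        map_mul' := fun x y => Subtype.ext (by simp [mul_assoc]) }
    have hcomm : ∀ y, π (ck y) = ck (π y) := by
      intro y
      rw [hπ, hπ, map_prod]
      refine Finset.prod_congr rfl fun j _ => Subtype.ext ?_
      show (j : G) * (k * y * k⁻¹) * (j : G)⁻¹ = k * ((j : G) * y * (j : G)⁻¹) * k⁻¹
      have e := hMc _ ((hKmem _).1 j.2).1 _ hkM
      calc (j : G) * (k * y * k⁻¹) * (j : G)⁻¹ = ((j : G) * k) * y * ((j : G) * k)⁻¹ := by group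
        _ = _ := by rw [e]; group
    have h := hcomm (c * c')
    rw [show ck (c * c') = c * c' from Subtype.ext hk, hπd] at h
    exact (congrArg Subtype.val h).symm
  have hcard : Nat.card K ≤ Nat.card K' := by
    refine Nat.card_le_card_of_injective (fun k : K => (⟨g * k * g⁻¹, (hK'mem _).2
      ⟨hgM _ ((hKmem _).1 k.2).1, ?_⟩⟩ : K')) fun k l h => Subtype.ext
        (conj_injective (x := g) (congrArg Subtype.val h))
    rw [← hg]
    calc g * k * g⁻¹ * (g * c * g⁻¹) * (g * k * g⁻¹)⁻¹ = g * (k * c * (k : G)⁻¹) * g⁻¹ := by group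
      _ = _ := by rw [((hKmem _).1 k.2).2]
  have heq : K' = K := eq_of_le_of_card_ge hle hcard
  have : π c' = c' := hπfix c' fun k => by
    have h1 : f k (c * c') = c * c' := Subtype.ext ((hK'mem _).1 (heq.symm ▸ k.2)).2
    rw [map_mul, show f k c = c from Subtype.ext ((hKmem _).1 k.2).2] at h1
    exact mul_left_cancel h1
  exact hc'1 (by rw [← this, hc'π])

/-- A fixed-point-free abelian group of conjugations on a nontrivial subgroup is cyclic. -/
theorem isCyclic_of_conjFPF {A M : Subgroup G} (hA : A ≠ ⊥)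
    (hMA : ∀ m ∈ M, ∀ a ∈ A, m * a * m⁻¹ ∈ A) (hMc : ∀ m ∈ M, ∀ m' ∈ M, m * m' = m' * m)
    (hfpf : ∀ m ∈ M, m ≠ 1 → ∀ a ∈ A, m * a * m⁻¹ = a → a = 1) : IsCyclic M := by
  letI : MulDistribMulAction M A :=
    { smul := fun m a => ⟨(m : G) * a * (m : G)⁻¹, hMA _ m.2 _ a.2⟩
      one_smul := fun a => Subtype.ext (show (1 : G) * a * (1 : G)⁻¹ = a by simp)
      mul_smul := fun m m' a => Subtype.ext (show ((m : G) * m') * a * ((m : G) * m')⁻¹ =
        (m : G) * ((m' : G) * a * (m' : G)⁻¹) * (m : G)⁻¹ by group)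
      smul_mul := fun m a b => Subtype.ext (show (m : G) * ((a : G) * b) * (m : G)⁻¹ =
        (m : G) * a * (m : G)⁻¹ * ((m : G) * b * (m : G)⁻¹) by group)
      smul_one := fun m => Subtype.ext (show (m : G) * 1 * (m : G)⁻¹ = 1 by simp) }
  haveI : IsMulCommutative M := ⟨⟨fun x y => Subtype.ext (hMc _ x.2 _ y.2)⟩⟩
  haveI : Nontrivial A := (Subgroup.nontrivial_iff_ne_bot A).2 hA
  refine CfsgLib.Frobenius.IsFPF.isCyclic_of_commutative (N := A) fun m hm a h => ?_
  exact Subtype.ext (hfpf _ m.2 (fun e => hm (Subtype.ext e)) _ a.2 (congrArg Subtype.val h))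

/-- An abelian group of odd order acting faithfully on an elementary abelian 2-group `A`, normalised
by a group transitive on the nontrivial elements of `A`, is fixed-point-free and cyclic. -/
theorem fpf_of_trans {A M : Subgroup G} (hA : A ≠ ⊥) (hA2 : ∀ a ∈ A, a * a = 1)
    (hAc : ∀ a ∈ A, ∀ b ∈ A, a * b = b * a) (hMA : ∀ m ∈ M, ∀ a ∈ A, m * a * m⁻¹ ∈ A)
    (hMc : ∀ m ∈ M, ∀ m' ∈ M, m * m' = m' * m) (hodd : Odd (Nat.card M))
    (hfaith : ∀ m ∈ M, (∀ a ∈ A, m * a * m⁻¹ = a) → m = 1)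
    (htrans : ∀ a ∈ A, ∀ b ∈ A, a ≠ 1 → b ≠ 1 →
      ∃ g : G, (∀ m ∈ M, g * m * g⁻¹ ∈ M) ∧ g * a * g⁻¹ = b) :
    (∀ m ∈ M, m ≠ 1 → ∀ a ∈ A, m * a * m⁻¹ = a → a = 1) ∧ IsCyclic M := by
  have h := fpf_of_trans_fixed (w := 1) hA2 hAc hMA hMc hodd hfaith (by simp) (by simp)
    (fun m _ => by simp) fun a ha b hb _ _ => htrans a ha b hb
  exact ⟨h, isCyclic_of_conjFPF hA hMA hMc h⟩

/-- An abelian group of odd order inverted by an involution `w`, acting faithfully on an elementary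
abelian 2-group `V`, normalised by a group transitive on the nontrivial elements of `C_V(w)`, is
fixed-point-free and cyclic. -/
theorem fpf_of_trans_inverted {V M : Subgroup G} {w : G} (hV : V ≠ ⊥) (hV2 : ∀ a ∈ V, a * a = 1)
    (hVc : ∀ a ∈ V, ∀ b ∈ V, a * b = b * a) (hMV : ∀ m ∈ M, ∀ a ∈ V, m * a * m⁻¹ ∈ V)
    (hMc : ∀ m ∈ M, ∀ m' ∈ M, m * m' = m' * m) (hodd : Odd (Nat.card M))
    (hfaith : ∀ m ∈ M, (∀ a ∈ V, m * a * m⁻¹ = a) → m = 1)
    (hw2 : w * w = 1) (hwV : ∀ a ∈ V, w * a * w⁻¹ ∈ V) (hwM : ∀ m ∈ M, w * m * w⁻¹ = m⁻¹)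
    (htrans : ∀ a ∈ V, ∀ b ∈ V, w * a * w⁻¹ = a → w * b * w⁻¹ = b → a ≠ 1 → b ≠ 1 →
      ∃ g : G, (∀ m ∈ M, g * m * g⁻¹ ∈ M) ∧ g * a * g⁻¹ = b) :
    (∀ m ∈ M, m ≠ 1 → ∀ a ∈ V, m * a * m⁻¹ = a → a = 1) ∧ IsCyclic M := by
  have h := fpf_of_trans_fixed hV2 hVc hMV hMc hodd hfaith hw2 hwV
    (fun m hm => by rw [hwM m hm]; exact inv_mem (mem_zpowers m)) htrans
  exact ⟨h, isCyclic_of_conjFPF hV hMV hMc h⟩

open Polynomial in
/-- An abelian group `M` of odd order acting on an elementary abelian 2-group `V ≠ 1` without fixed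
points, normalised by `h` whose powers `h ^ i`, `0 < i < m`, are fixed-point-free on `M`: then
`V` has order at least `2 ^ m`. -/
theorem two_pow_le_card {V M : Subgroup G} {h : G} {m : ℕ} (hV : V ≠ ⊥)
    (hV2 : ∀ a ∈ V, a * a = 1) (hVc : ∀ a ∈ V, ∀ b ∈ V, a * b = b * a)
    (hMV : ∀ x ∈ M, ∀ a ∈ V, x * a * x⁻¹ ∈ V) (hodd : Odd (Nat.card M))
    (hfix : ∀ a ∈ V, (∀ x ∈ M, x * a * x⁻¹ = a) → a = 1)
    (hhV : ∀ a ∈ V, h * a * h⁻¹ ∈ V) (hhM : ∀ x ∈ M, h * x * h⁻¹ ∈ M)
    (hfpf : ∀ i, 0 < i → i < m → ∀ x ∈ M, h ^ i * x * (h ^ i)⁻¹ = x → x = 1) :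
    2 ^ m ≤ Nat.card V := by
  classical
  letI : CommGroup V :=
    { (inferInstance : Group V) with mul_comm := fun x y => Subtype.ext (hVc _ x.2 _ y.2) }
  letI : Module (ZMod 2) (Additive V) := AddCommGroup.zmodModule (n := 2) fun x => by
    rw [two_nsmul]
    exact congrArg Additive.ofMul (Subtype.ext (hV2 _ (Additive.toMul x).2) :
      Additive.toMul x * Additive.toMul x = 1)
  haveI : Fintype M := Fintype.ofFinite M
  haveI : Finite (Additive V) := Finite.of_equiv V Additive.ofMul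
  set N := Subgroup.normalizer (V : Set G)
  have hMN : ∀ x ∈ M, x ∈ N := fun x hx => mem_normalizer_iff.2 fun a =>
    ⟨hMV x hx a, fun ha => by simpa [mul_assoc] using hMV x⁻¹ (inv_mem hx) _ ha⟩
  have hhN : h ∈ N := Subgroup.mem_normalizer_fintype (by exact hhV)
  let ρ : N →* Module.End (ZMod 2) (Additive V) :=
    { toFun := fun g => AddMonoidHom.toZModLinearMap 2
        (MonoidHom.toAdditive
          { toFun := fun a => (⟨g * a * (g : G)⁻¹, (mem_normalizer_iff.1 g.2 a).1 a.2⟩ : V)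
            map_one' := Subtype.ext (by simp)
            map_mul' := fun x y => Subtype.ext (by simp [mul_assoc]) })
      map_one' := LinearMap.ext fun a => Subtype.ext
        (show (1 : G) * (Additive.toMul a : V) * (1 : G)⁻¹ = (Additive.toMul a : V) by simp)
      map_mul' := fun g g' => LinearMap.ext fun a => Subtype.ext
        (show ((g : G) * g') * (Additive.toMul a : V) * ((g : G) * g')⁻¹ =
          (g : G) * ((g' : G) * (Additive.toMul a : V) * (g' : G)⁻¹) * (g : G)⁻¹ by group) }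
  let μ : M → N := fun x => ⟨x, hMN x x.2⟩
  -- the sum over `M` kills `V`
  have hsum : ∑ x : M, ρ (μ x) = 0 := by
    refine LinearMap.ext fun v => ?_
    have hinv : ∀ y : M, ρ (μ y) ((∑ x : M, ρ (μ x)) v) = (∑ x : M, ρ (μ x)) v := by
      intro y
      rw [LinearMap.sum_apply, map_sum]
      refine Fintype.sum_equiv (Equiv.mulLeft y) _ _ fun x => ?_
      rw [← Module.End.mul_apply, ← map_mul]
      rfl
    have := hfix _ (Additive.toMul ((∑ x : M, ρ (μ x)) v)).2 fun x hx =>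
      congrArg (fun t => ((Additive.toMul t : V) : G)) (hinv ⟨x, hx⟩)
    exact congrArg Additive.ofMul (Subtype.ext this : Additive.toMul ((∑ x : M, ρ (μ x)) v) = 1)
  haveI : Nontrivial (Additive V) :=
    haveI := (Subgroup.nontrivial_iff_ne_bot V).2 hV
    inferInstance
  set H := ρ ⟨h, hhN⟩
  -- no nonzero relation of degree less than `m` between the powers of `h`
  have hindep : ∀ p : (ZMod 2)[X], p.natDegree < m → aeval H p = 0 → p = 0 := by
    intro p hp h0
    refine Polynomial.ext fun j => ?_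
    rw [coeff_zero]
    by_cases hj : p.natDegree < j
    · exact coeff_eq_zero_of_natDegree_lt hj
    set g : N := ⟨h, hhN⟩
    have h1 : ∀ x : M, ∑ i ∈ Finset.range (p.natDegree + 1),
        p.coeff i • ρ ((μ x)⁻¹ * (g ^ i * (g ^ j)⁻¹) * μ x) = 0 := by
      intro x
      rw [aeval_eq_sum_range] at h0
      have := congrArg (fun T => ρ (μ x)⁻¹ * T * ρ ((g ^ j)⁻¹ * μ x)) h0
      simp only [Finset.mul_sum, Finset.sum_mul, mul_zero, zero_mul] at this
      rw [← this]
      refine Finset.sum_congr rfl fun i _ => ?_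
      rw [mul_smul_comm, smul_mul_assoc, ← map_pow, ← map_mul, ← map_mul]
      congr 2
      simp only [g, mul_assoc]
    have hterm : ∀ i ∈ Finset.range (p.natDegree + 1), i ≠ j →
        ∑ x : M, ρ ((μ x)⁻¹ * (g ^ i * (g ^ j)⁻¹) * μ x) = 0 := by
      intro i hi hij
      set d : G := h ^ i * (h ^ j)⁻¹ with hd
      have hdM : ∀ x ∈ M, d * x * d⁻¹ ∈ M := by
        have hhn : h ∈ Subgroup.normalizer (M : Set G) := Subgroup.mem_normalizer_fintype (by exact hhM)
        intro x hx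
        exact (mem_normalizer_iff.1 (mul_mem (pow_mem hhn i) (inv_mem (pow_mem hhn j))) x).1 hx
      have hdfix : ∀ x ∈ M, d * x * d⁻¹ = x → x = 1 := by
        intro x hx he
        rw [Finset.mem_range] at hi
        rcases lt_or_gt_of_ne hij with hlt | hlt
        · refine hfpf (j - i) (by omega) (by omega) x hx ?_
          have e : d = (h ^ (j - i))⁻¹ := by
            rw [hd, show h ^ j = h ^ (j - i) * h ^ i by rw [← pow_add]; congr 1; omega]; group
          rw [e, inv_inv] at he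
          calc h ^ (j - i) * x * (h ^ (j - i))⁻¹
              = h ^ (j - i) * ((h ^ (j - i))⁻¹ * x * h ^ (j - i)) * (h ^ (j - i))⁻¹ := by rw [he]
            _ = x := by group
        · refine hfpf (i - j) (by omega) (by omega) x hx ?_
          have e : d = h ^ (i - j) := by
            rw [hd, show h ^ i = h ^ (i - j) * h ^ j by rw [← pow_add]; congr 1; omega]; group
          rwa [e] at he
      let τ : M → M := fun x => x⁻¹ * ⟨d * x * d⁻¹, hdM x x.2⟩
      have hτ : Function.Injective τ := by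
        intro x y e
        have e' : (x : G)⁻¹ * (d * x * d⁻¹) = (y : G)⁻¹ * (d * y * d⁻¹) := congrArg Subtype.val e
        refine Subtype.ext (mul_inv_eq_one.1 (hdfix ((y : G) * (x : G)⁻¹)
          (mul_mem y.2 (inv_mem x.2)) ?_)).symm
        calc d * ((y : G) * (x : G)⁻¹) * d⁻¹
            = (y : G) * ((y : G)⁻¹ * (d * y * d⁻¹)) * ((x : G) * ((x : G)⁻¹ * (d * x * d⁻¹)))⁻¹ := by
              group
          _ = (y : G) * (x : G)⁻¹ := by rw [← e']; group
      calc ∑ x : M, ρ ((μ x)⁻¹ * (g ^ i * (g ^ j)⁻¹) * μ x)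
          = ∑ x : M, ρ (μ (τ x)) * ρ (g ^ i * (g ^ j)⁻¹) :=
            Finset.sum_congr rfl fun x _ => by
              rw [← map_mul]
              congr 1
              refine Subtype.ext ?_
              show (x : G)⁻¹ * d * x = (x : G)⁻¹ * (d * x * d⁻¹) * d
              group
        _ = (∑ x : M, ρ (μ x)) * ρ (g ^ i * (g ^ j)⁻¹) := by
            rw [← Finset.sum_mul, Function.Bijective.sum_comp
              (Finite.injective_iff_bijective.1 hτ) (fun x => ρ (μ x))]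
        _ = 0 := by rw [hsum, zero_mul]
    have h2 := Finset.sum_congr rfl fun (x : M) (_ : x ∈ Finset.univ) => h1 x
    rw [Finset.sum_const_zero, Finset.sum_comm] at h2
    simp only [← Finset.smul_sum] at h2
    rw [Finset.sum_eq_single j (fun i hi hij => by rw [hterm i hi hij, smul_zero])
      (fun hj' => absurd (Finset.mem_range.2 (by omega)) hj')] at h2
    simp only [mul_inv_cancel, mul_one, inv_mul_cancel, map_one, Finset.sum_const,
      Finset.card_univ] at h2
    rw [← Nat.cast_smul_eq_nsmul (ZMod 2), ← Nat.card_eq_fintype_card, ← smul_assoc, smul_eq_mul,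
      show ((Nat.card M : ℕ) : ZMod 2) = 1 from (ZMod.natCast_eq_one_iff_odd).2 hodd, mul_one] at h2
    exact (smul_eq_zero.1 h2).resolve_right one_ne_zero
  haveI : Module.Finite (ZMod 2) (Additive V) := Module.Finite.of_finite
  by_contra hlt
  push Not at hlt
  have hdim : Module.finrank (ZMod 2) (Additive V) < m := by
    have hc := Module.natCard_eq_pow_finrank (K := ZMod 2) (V := Additive V)
    rw [Nat.card_zmod, Nat.card_congr Additive.toMul] at hc
    exact (Nat.pow_lt_pow_iff_right (by norm_num)).1 (hc ▸ hlt)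
  exact (LinearMap.charpoly_monic H).ne_zero
    (hindep _ (by rw [LinearMap.charpoly_natDegree]; exact hdim) (LinearMap.aeval_self_charpoly H))

omit [Finite G] in
/-- A map commuting with `h` on an orbit of `h` agrees there with a power of `h`. -/
theorem exists_iterate_of_equivariant {α : Type*} {O : Set α} {h f : α → α}
    (htrans : ∀ x ∈ O, ∀ y ∈ O, ∃ k : ℕ, h^[k] x = y) (hh : Set.MapsTo h O O)
    (hf : Set.MapsTo f O O) (hcomm : ∀ x ∈ O, f (h x) = h (f x)) :
    ∃ k : ℕ, ∀ x ∈ O, f x = h^[k] x := by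
  rcases O.eq_empty_or_nonempty with rfl | ⟨x₀, hx₀⟩
  · exact ⟨0, fun x hx => absurd hx (Set.notMem_empty x)⟩
  obtain ⟨k, hk⟩ := htrans x₀ hx₀ (f x₀) (hf hx₀)
  refine ⟨k, fun x hx => ?_⟩
  obtain ⟨j, rfl⟩ := htrans x₀ hx₀ x hx
  have hj : ∀ j, f (h^[j] x₀) = h^[j] (f x₀) := by
    intro j
    induction j with
    | zero => rfl
    | succ j ih =>
      rw [Function.iterate_succ_apply', Function.iterate_succ_apply',
        hcomm _ (Set.MapsTo.iterate hh j hx₀), ih]
  rw [hj, ← hk, ← Function.iterate_add_apply, add_comm, Function.iterate_add_apply]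

omit [Finite G] in
/-- An element commuting with `h` on an `h`-orbit acts there as a power of `h`. -/
theorem exists_pow_of_equivariant {α : Type*} [MulAction G α] {O : Set α} {h g : G}
    (htrans : ∀ x ∈ O, ∀ y ∈ O, ∃ k : ℕ, h ^ k • x = y) (hh : ∀ x ∈ O, h • x ∈ O)
    (hg : ∀ x ∈ O, g • x ∈ O) (hcomm : ∀ x ∈ O, g • h • x = h • g • x) :
    ∃ k : ℕ, ∀ x ∈ O, g • x = h ^ k • x := by
  simp only [← smul_iterate_apply] at htrans ⊢
  exact exists_iterate_of_equivariant htrans hh hg hcomm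

end CfsgLib.ThreeFree
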