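import Cfsg.Agent.Lib.ThreeFree.Structure
import Cfsg.Agent.Lib.LBalance.Components

/-!
Suzuki groups are locally balanced; consequences in a group with good sections.
-/

set_option autoImplicit false
set_option linter.style.haveILetI false

namespace CfsgLib.ThreeFree

open Subgroup CfsgLib.Components

universe u

/-- The centralizer of an involution in a group of automorphisms of a Suzuki group has trivial
odd core. -/
theorem centralizerPPrimeCore_aut_eq_bot (hF : SzFactsHold.{u}) {Q : Type u} [Group Q] [Finite Q]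
    (hQ : Cfsg.Lie.IsoSuzuki Q) (H : Subgroup (MulAut Q))
    (hH : (MulAut.conj : Q →* MulAut Q).range ≤ H) (x : H) (hx : orderOf x = 2) :
    Cfsg.centralizerPPrimeCore 2 x = ⊥ := by
  haveI : Fact (Nat.Prime 2) := ⟨Nat.prime_two⟩
  have hx2 : (x : MulAut Q) ^ 2 = 1 := by
    rw [← SubgroupClass.coe_pow, ← hx, pow_orderOf_eq_one]; rfl
  obtain ⟨T₀⟩ : Nonempty (Sylow 2 Q) := inferInstance
  obtain ⟨n₀, Z₀, h₀, d₀⟩ := hF Q hQ T₀
  obtain ⟨q, hq⟩ := d₀.aut_two x ⟨1, by simpa using hx2⟩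
  have hconj_inj : ∀ a b : Q, MulAut.conj a = MulAut.conj b → a = b := by
    intro a b hab
    have hc : a⁻¹ * b ∈ centralizer ({a⁻¹ * b} : Set Q) := mem_centralizer_singleton_iff.2 rfl
    have key : ∀ z : Q, (a⁻¹ * b) * z = z * (a⁻¹ * b) := fun z => by
      have hz : a * z * a⁻¹ = b * z * b⁻¹ := DFunLike.congr_fun hab z
      calc (a⁻¹ * b) * z = a⁻¹ * (b * z * b⁻¹) * b := by group
        _ = _ := by rw [← hz]; group
    by_contra hne
    have hne' : a⁻¹ * b ≠ 1 := fun e => hne (inv_mul_eq_one.1 e)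
    obtain ⟨z, hz, hz1⟩ : ∃ z ∈ Z₀, z ≠ 1 := by
      refine (Subgroup.bot_or_exists_ne_one Z₀).resolve_left fun e => ?_
      have := d₀.card_Z
      rw [e, Subgroup.card_bot] at this
      have h3 := d₀.three_le
      have : 2 ^ 3 ≤ 2 ^ n₀ := Nat.pow_le_pow_right (by norm_num) h3
      omega
    have hcT : a⁻¹ * b ∈ (T₀ : Subgroup Q) := by
      rw [← d₀.cent z hz hz1]
      exact mem_centralizer_singleton_iff.2 (key z)
    obtain ⟨g, hg⟩ : ∃ g : Q, g ∉ normalizer ((T₀ : Subgroup Q) : Set Q) := by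
      by_contra hcon
      push_neg at hcon
      have := d₀.index_R
      have etop : normalizer ((T₀ : Subgroup Q) : Set Q) = ⊤ := eq_top_iff.2 fun g _ => hcon g
      rw [etop, index_top] at this
      have : 0 < (2 ^ n₀) ^ 2 := by positivity
      omega
    refine hne' (d₀.ti g hg _ hcT ?_)
    rw [mul_assoc, key g, inv_mul_cancel_left]
    exact hcT
  have hq1 : q ≠ 1 := fun e => by
    have : x = 1 := Subtype.ext (by rw [hq, e, map_one]; rfl)
    simp [this] at hx
  have hq2 : q * q = 1 := hconj_inj _ _ (by rw [map_mul, map_one, ← hq, ← pow_two, hx2])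
  obtain ⟨T, hT⟩ := IsPGroup.exists_le_sylow (P := zpowers q)
    (IsPGroup.of_card (n := 1) (by
      rw [Nat.card_zpowers, orderOf_eq_prime (by rw [pow_two, hq2]) hq1, pow_one]))
  obtain ⟨n, Z, h, d⟩ := hF Q hQ T
  have hqT : q ∈ (T : Subgroup Q) := hT (mem_zpowers q)
  have hqZ : q ∈ Z := d.invol_mem q hqT hq2
  rw [eq_bot_iff]
  rintro y ⟨⟨y, hyC⟩, hy, rfl⟩
  have hpres : ∀ w : H, w * x = x * w → ∀ t ∈ (T : Subgroup Q), (w : MulAut Q) t ∈ (T : Subgroup Q) := by
    intro w hw t ht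
    have hwq : (w : MulAut Q) q = q := by
      refine hconj_inj _ _ ?_
      ext z
      have e : (w : MulAut Q) * MulAut.conj q = MulAut.conj q * (w : MulAut Q) := by
        rw [← hq]; exact congrArg Subtype.val hw
      have := DFunLike.congr_fun e ((w : MulAut Q).symm z)
      simpa using this
    rw [← d.cent q hqZ hq1, mem_centralizer_singleton_iff] at ht ⊢
    conv_lhs => rw [← hwq]
    conv_rhs => rw [← hwq]
    rw [← map_mul, ← map_mul, ht]
  have hyx : y * x = x * y := (mem_centralizer_singleton_iff.1 hyC)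
  -- the image of `T` and the core centralize each other
  set C := centralizer ({x} : Set H)
  let f : Q →* H := MulAut.conj.codRestrict H fun a => hH ⟨a, rfl⟩
  let N : Subgroup C := ((T : Subgroup Q).map f).subgroupOf C
  have hTC : ∀ t ∈ (T : Subgroup Q), f t ∈ C := fun t ht => mem_centralizer_singleton_iff.2 <| by
    refine Subtype.ext ?_
    show MulAut.conj t * (x : MulAut Q) = x * MulAut.conj t
    rw [hq, ← map_mul, ← map_mul, d.Z_comm q hqZ t ht]
  have hfw : ∀ (w : H) (t : Q), w * f t * w⁻¹ = f ((w : MulAut Q) t) := by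
    intro w t
    refine Subtype.ext (MulEquiv.ext fun z => ?_)
    show (w : MulAut Q) (t * ((w : MulAut Q).symm z) * t⁻¹) = _
    simp [f]
  haveI hN : N.Normal := by
    refine ⟨fun m hm c => ?_⟩
    obtain ⟨t, ht, htm⟩ := hm
    rw [show c * m * c⁻¹ = ⟨f ((((c : H)) : MulAut Q) t),
      hTC _ (hpres c (mem_centralizer_singleton_iff.1 c.2) t ht)⟩ from
      Subtype.ext (by
        show (c : H) * (m : H) * (c : H)⁻¹ = f _
        rw [← hfw, show (m : H) = f t from htm.symm])]
    exact ⟨_, hpres c (mem_centralizer_singleton_iff.1 c.2) t ht, rfl⟩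
  have hyfix : ∀ t ∈ (T : Subgroup Q), (y : MulAut Q) t = t := by
    intro t ht
    have hN2 : IsPGroup 2 N := IsPGroup.comap_subtype (T.2.map f)
    haveI : (Cfsg.pPrimeCore 2 C).Normal := inferInstance
    have hbot : Cfsg.pPrimeCore 2 C ⊓ N = ⊥ := by
      rw [inf_comm]
      exact CfsgLib.PCore.inf_eq_bot_of_isPGroup_coprime hN2 CfsgLib.PCore.pPrimeCore_coprime
    have hcom := Subgroup.commute_of_normal_of_disjoint _ _ inferInstance hN
      (disjoint_iff.2 hbot) (⟨y, hyC⟩ : C) ⟨f t, hTC t ht⟩ hy ⟨t, ht, rfl⟩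
    have e : y * f t * y⁻¹ = f t := by
      have := congrArg (fun c : C => (c : H)) hcom.eq
      simp only [Subgroup.coe_mul] at this
      rw [this, mul_inv_cancel_right]
    rw [hfw] at e
    exact hconj_inj _ _ (congrArg Subtype.val e)
  obtain ⟨t, ht, htt⟩ := d.aut_fixZ (y : MulAut Q) fun z hz => hyfix z (d.Z_le hz)
  rw [Subgroup.mem_bot]
  refine Subtype.ext ?_
  show (y : MulAut Q) = 1
  obtain ⟨k, hk⟩ := T.2 ⟨t, ht⟩
  have h1 : orderOf y ∣ 2 ^ k := orderOf_dvd_of_pow_eq_one (Subtype.ext (by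
    have hk' := congrArg Subtype.val hk
    simp only [SubmonoidClass.coe_pow, OneMemClass.coe_one] at hk' ⊢
    rw [htt, ← map_pow, hk', map_one]))
  have h2 : Odd (orderOf y) := by
    have := (CfsgLib.PCore.pPrimeCore_coprime (p := 2) (G := C)).coprime_dvd_left
      (Subgroup.orderOf_dvd_natCard _ hy)
    rw [Subgroup.orderOf_mk] at this
    exact Nat.coprime_two_right.1 this
  have h3 : orderOf y = 1 :=
    Nat.eq_one_of_dvd_coprimes (Nat.Coprime.pow_right k (Nat.coprime_two_right.2 h2)) dvd_rfl h1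
  exact congrArg Subtype.val (orderOf_eq_one_iff.1 h3)

theorem isLocallyKBalanced_one (hF : SzFactsHold.{u}) {Q : Type u} [Group Q] [Finite Q]
    (hQ : Cfsg.Lie.IsoSuzuki Q) : Cfsg.IsLocallyKBalanced 2 1 Q := by
  intro H hH A hA hcard
  haveI : Fact (Nat.Prime 2) := ⟨Nat.prime_two⟩
  haveI : Nontrivial A := Finite.one_lt_card_iff_nontrivial.1 (by rw [hcard]; norm_num)
  obtain ⟨⟨a, ha⟩, ha1⟩ := exists_ne (1 : A)
  have ha1' : a ≠ 1 := fun e => ha1 (Subtype.ext e)
  exact le_bot_iff.1 ((iInf_le _ (⟨a, ha, ha1'⟩ : {a : H // a ∈ A ∧ a ≠ 1})).trans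
    (centralizerPPrimeCore_aut_eq_bot hF hQ H hH a (orderOf_eq_prime (hA.2 a ha) ha1')).le)

/-- Balance: the core of the centralizer of an involution lies in the core. -/
theorem centralizerPPrimeCore_le (hF : SzFactsHold.{u}) {Y : Type u} [Group Y] [Finite Y]
    (hY : SzGood Y) {a : Y} (ha : orderOf a = 2) :
    Cfsg.centralizerPPrimeCore 2 a ≤ Cfsg.pPrimeCore 2 Y := by
  haveI : Fact (Nat.Prime 2) := ⟨Nat.prime_two⟩
  have haz : ∀ b ∈ zpowers a, b = 1 ∨ b = a := by
    rintro b ⟨k, rfl⟩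
    rcases Int.even_or_odd k with ⟨j, rfl⟩ | ⟨j, rfl⟩
    · left
      show a ^ (j + j) = 1
      rw [← two_mul, zpow_mul, zpow_two, ← pow_two, ← ha, pow_orderOf_eq_one, one_zpow]
    · right
      show a ^ (2 * j + 1) = a
      rw [zpow_add, zpow_mul, zpow_two, ← pow_two, ← ha, pow_orderOf_eq_one, one_zpow, one_mul,
        zpow_one]
  have hA : IsPGroup 2 (zpowers a) := IsPGroup.of_card (n := 1) (by rw [Nat.card_zpowers, ha, pow_one])
  refine le_pPrimeCore_of_reduced hA (fun e => ?_) (fun b hb hb1 => ?_) (fun b hb => ?_) ?_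
  · have : a = 1 := (Subgroup.eq_bot_iff_forall _).1 e a (mem_zpowers a)
    simp [this] at ha
  · rw [(haz b hb).resolve_left hb1]
  · rcases haz b hb with rfl | rfl
    · exact one_pow 2
    · rw [← ha]; exact pow_orderOf_eq_one _
  intro L hL
  set π := QuotientGroup.mk' (Cfsg.pPrimeCore 2 Y)
  have hπa : orderOf (π a) = 2 := by
    refine orderOf_eq_prime (by
      have ha2 : a ^ 2 = 1 := by rw [← ha]; exact pow_orderOf_eq_one a
      rw [← map_pow, ha2, map_one]) fun h1 => ?_
    have h2 : orderOf a ∣ Nat.card (Cfsg.pPrimeCore 2 Y) :=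
      Subgroup.orderOf_dvd_natCard _ ((QuotientGroup.eq_one_iff a).mp h1)
    rw [ha] at h2
    exact CfsgLib.PCore.not_dvd_card_pPrimeCore h2
  refine commutator_eq_bot_of_locallyKBalanced (k := 1) CfsgLib.PCore.pPrimeCore_quotient_pPrimeCore
    (A := zpowers (π a)) ⟨inferInstance, ?_⟩ (by rw [Nat.card_zpowers, hπa, pow_one]) le_rfl ?_ hL
    (isLocallyKBalanced_one hF (component_iso (hY.quotient _) hL))
  · rintro b ⟨k, rfl⟩
    show ((π a) ^ k) ^ 2 = 1
    have h2 : (π a) ^ 2 = 1 := orderOf_dvd_iff_pow_eq_one.1 (dvd_of_eq hπa)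
    rw [← zpow_natCast ((π a) ^ k), ← zpow_mul, mul_comm, zpow_mul, zpow_natCast, h2, one_zpow]
  · intro b hb hb1
    refine map_le_centralizerPPrimeCore_of_forall (A := zpowers a) (fun c hc => ?_)
      (fun c hc hc1 => by rw [(haz c hc).resolve_left hc1]) ?_ hb1
    · rcases haz c hc with rfl | rfl
      · exact one_pow 2
      · rw [← ha]; exact pow_orderOf_eq_one _
    · rwa [MonoidHom.map_zpowers]

/-- With trivial core, the centralizers of involutions have trivial core. -/
theorem centralizerPPrimeCore_eq_bot (hF : SzFactsHold.{u}) {Y : Type u} [Group Y] [Finite Y]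
    (hY : SzGood Y) (hO : Cfsg.pPrimeCore 2 Y = ⊥) {a : Y} (ha : orderOf a = 2) :
    Cfsg.centralizerPPrimeCore 2 a = ⊥ :=
  le_bot_iff.1 (hO ▸ centralizerPPrimeCore_le hF hY ha)

end CfsgLib.ThreeFree
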