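import Cfsg.Agent.Lib.ThreeFree.C1Comp

/-!
A bad involution normalizing `A` centralizes it.
-/

set_option autoImplicit false
set_option linter.style.haveILetI false

namespace CfsgLib.ThreeFree

open Subgroup CfsgLib.Components

universe u

variable {G : Type u} [Group G]

/-- The square of an order cannot be a power of two with odd exponent. -/
theorem two_pow_sq_ne {a b : ℕ} (ha : Odd a) : (2 : ℕ) ^ a ≠ (2 ^ b) ^ 2 := by
  rw [← pow_mul]
  intro e
  have := Nat.pow_right_injective (le_refl 2) e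
  obtain ⟨c, rfl⟩ := ha
  omega

theorem three_dvd_two_pow_sq_sub (k : ℕ) : 3 ∣ (2 ^ k) ^ 2 - 1 := by
  rw [← pow_mul, mul_comm, pow_mul]
  have h := Nat.sub_dvd_pow_sub_pow 4 1 k
  rw [one_pow] at h
  exact h

namespace Setup

variable [Finite G] {S : Sylow 2 G} {A N : Subgroup G}

theorem eq_conj_of_factor (s : Setup G S A N) {g v m a : G} (hg : g ∈ N) (hv : v ∈ coreN N)
    (hm : m ∈ normalizer (A : Set G)) (e : g = v * m) (ha : a ∈ A) (hga : g * a * g⁻¹ ∈ A) :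
    m * a * m⁻¹ = g * a * g⁻¹ := by
  have hmN := s.norm_le hm
  have hvN : v ∈ N := by
    rw [show v = g * m⁻¹ by rw [e]; group]; exact mul_mem hg (inv_mem hmN)
  have e' : qmap N ⟨g, hg⟩ = qmap N ⟨m, hmN⟩ := by
    rw [show (⟨g, hg⟩ : N) = ⟨v, hvN⟩ * ⟨m, hmN⟩ from Subtype.ext e, map_mul,
      (mem_coreN hvN).1 hv, one_mul]
  refine s.eq_of_mk_eq (a := ⟨m, hmN⟩ * ⟨a, s.A_le ha⟩ * ⟨m, hmN⟩⁻¹)
    (b := ⟨g, hg⟩ * ⟨a, s.A_le ha⟩ * ⟨g, hg⟩⁻¹) ((mem_normalizer_iff.1 hm a).1 ha) hga ?_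
  rw [map_mul, map_mul, map_inv, map_mul, map_mul, map_inv, e']

theorem full_of_centralizes (s : Setup G S A N) {w : G} (h : A ≤ cent w) : Full A w := fun g _ _ => by
  rw [inf_eq_left.2 h]
  exact (card_le_of_le inf_le_left).trans (card_cj g A).le

theorem mem_normalizer_of_centralizes (_s : Setup G S A N) {w : G} (h : A ≤ cent w) :
    w ∈ normalizer (A : Set G) :=
  centralizer_le_normalizer _ (mem_centralizer_iff.2 fun _ ha => mem_cent.1 (h ha))

/-- A power of the torus of a subgroup moves any nontrivial element of `B` to any other, by an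
element of `N` and also by one normalizing `A`, when `N` factors. -/
theorem exists_move (s : Setup G S A N) {H B : Subgroup G} {n : ℕ} (hs : SubSetting A N H B)
    (d : SubData N H B n)
    (hfac : ∀ x ∈ N, ∃ v ∈ coreN N, ∃ m ∈ normalizer (A : Set G), x = v * m)
    {a b : G} (ha : a ∈ B) (ha1 : a ≠ 1) (hb : b ∈ B) (hb1 : b ≠ 1) :
    ∃ m ∈ normalizer (A : Set G), m * a * m⁻¹ = b := by
  obtain ⟨h, -, hn, -, htr⟩ := d.torus
  obtain ⟨k, hk⟩ := htr a ha ha1 b hb hb1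
  have hg : (h : G) ^ k ∈ N := pow_mem (s.normalizer_le hs.le_A (s.sub_ne_bot hs) hn) k
  obtain ⟨v, hv, m, hm, e⟩ := hfac _ hg
  exact ⟨m, hm, by rw [s.eq_conj_of_factor hg hv hm e (hs.le_A ha) (hk ▸ hs.le_A hb), hk]⟩

/-- An element of `A` commutes with a bad involution normalizing `A`. -/
theorem exists_bad_comm (s : Setup G S A N) {w : G} (hb : Bad N w) {a : G} (ha : a ∈ A)
    (ha1 : a ≠ 1) : ∃ i, Bad N i ∧ i ∈ normalizer (A : Set G) ∧ a ∈ cent i := by
  haveI : Fact (Nat.Prime 2) := ⟨Nat.prime_two⟩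
  obtain ⟨g, hg⟩ := s.exists_conj_notMem (CfsgLib.Involutions.ne_one_of_involution hb.two)
  have hw' : orderOf (g * w * g⁻¹) = 2 := (CfsgLib.Involutions.orderOf_conj_eq g w).trans hb.two
  obtain ⟨i, hi2, hia, hiw⟩ := CfsgLib.Involutions.exists_common_involution
    (s.orderOf_eq_two ha ha1) hw' fun hc => by
    obtain ⟨k, hk⟩ := isConj_iff.1 hc
    have e : g⁻¹ * k * a * (g⁻¹ * k)⁻¹ = w := by
      calc g⁻¹ * k * a * (g⁻¹ * k)⁻¹ = g⁻¹ * (k * a * k⁻¹) * g := by group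
        _ = w := by rw [hk]; group
    have hk' := s.mem_of_conj_mem ha ha1 (g := g⁻¹ * k) (e ▸ hb.mem)
    have := hb.conj (inv_mem hk')
    rw [← e] at this
    exact s.not_bad_of_mem_A ha (by simpa [mul_assoc] using this)
  have hiN : i ∈ N := s.cent_le a ha ha1 (mem_cent.2 hia.eq)
  have hbad : Bad N i := ⟨hiN, hi2, fun h => hg (h (mem_cent.2 hiw.eq.symm))⟩
  -- conjugate into a Sylow subgroup of the centralizer of `a` above `A`
  set C := cent a
  have hAC : A ≤ C := fun b hb' => mem_cent.2 (s.comm hb' ha)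
  obtain ⟨P, hP⟩ := (IsPGroup.comap_subtype (H := A) (K := C) (s.isPGroup_of_le le_rfl)).exists_le_sylow
  have hiC : i ∈ C := mem_cent.2 hia.eq
  obtain ⟨R, hR⟩ := (isPGroup_zpowers_of_orderOf
    (z := (⟨i, hiC⟩ : C)) (by rw [Subgroup.orderOf_mk, hi2])).exists_le_sylow
  obtain ⟨y, hy⟩ := MulAction.exists_smul_eq C R P
  have hiP : y * ⟨i, hiC⟩ * y⁻¹ ∈ (P : Subgroup C) := by
    rw [← hy]
    exact Subgroup.smul_mem_pointwise_smul _ (MulAut.conj y) _ (hR (mem_zpowers _))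
  have hPA : (P : Subgroup C).map C.subtype ≤ normalizer (A : Set G) :=
    s.two_group_le_normalizer (P.2.map _) fun b hb' => ⟨⟨b, hAC hb'⟩, hP (x := ⟨b, hAC hb'⟩) hb', rfl⟩
  refine ⟨(y : G) * i * (y : G)⁻¹, hbad.conj (s.cent_le a ha ha1 y.2), hPA ⟨_, hiP, rfl⟩,
    mem_cent.2 ?_⟩
  exact (mem_cent.1 (mul_mem (mul_mem y.2 hiC) (inv_mem y.2) : (y : G) * i * (y : G)⁻¹ ∈ C)).symm

variable (hm : movedComponents (barB N A) = ∅)

include hm in
/-- Without moved components every bad involution is full. -/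
theorem full_of_no_moved (s : Setup G S A N) (hF : SzFactsHold.{u}) {w : G} (hb : Bad N w)
    (hwA : w ∈ normalizer (A : Set G)) : Full A w := by
  intro g _ hgle
  obtain ⟨a₀, ha₀, ha₁, hac⟩ := s.exists_ne_one_fixA hb.two hwA
  have hgN : g ∈ N := s.conjugator_mem ha₀ ha₁ (hgle ⟨ha₀, hac⟩)
  obtain ⟨v, hv, m, hm', e⟩ := s.factor_of_no_moved hF hm hgN
  have hmN := s.norm_le hm'
  have hvN : v ∈ N := by
    rw [show v = g * m⁻¹ by rw [e]; group]; exact mul_mem hgN (inv_mem hmN)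
  have key : ∀ x : ↥(cj g A ⊓ cent w), ∃ a : ↥(A ⊓ cent w), ∃ hx : (x : G) ∈ N,
      qmap N ⟨a, s.A_le a.2.1⟩ = qmap N ⟨x, hx⟩ := by
    rintro ⟨x, hxx⟩
    have hx : g⁻¹ * x * g ∈ A := mem_cj.1 (Subgroup.mem_inf.1 hxx).1
    have hxc : x ∈ cent w := (Subgroup.mem_inf.1 hxx).2
    have hxN : x ∈ N := by
      have := mul_mem (mul_mem hgN (s.A_le hx)) (inv_mem hgN)
      simpa [mul_assoc] using this
    have hb' : m * (g⁻¹ * x * g) * m⁻¹ ∈ A := (mem_normalizer_iff.1 hm' _).1 hx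
    have he : qmap N ⟨m * (g⁻¹ * x * g) * m⁻¹, s.A_le hb'⟩ = qmap N ⟨x, hxN⟩ := by
      have e1 : (⟨m * (g⁻¹ * x * g) * m⁻¹, s.A_le hb'⟩ : N) = ⟨v, hvN⟩⁻¹ * ⟨x, hxN⟩ * ⟨v, hvN⟩ :=
        Subtype.ext (by simp [e, mul_assoc])
      rw [e1, map_mul, map_mul, map_inv, (mem_coreN hvN).1 hv, inv_one, one_mul, mul_one]
    refine ⟨⟨_, hb', s.mem_cent_of_mk_comm hb' hb.mem hwA ?_⟩, hxN, he⟩
    rw [he, ← map_mul, ← map_mul]
    exact congrArg (qmap N) (Subtype.ext (mem_cent.1 hxc).symm)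
  choose f hfN hf using key
  refine Nat.card_le_card_of_injective f fun x y hxy => Subtype.ext ?_
  have h1 : qmap N ⟨(x : G), hfN x⟩ = qmap N ⟨(y : G), hfN y⟩ := by
    rw [← hf, ← hf, hxy]
  have h2 : (⟨(x : G), hfN x⟩ : N) = ⟨(y : G), hfN y⟩ := mk_injOn
    (IsPGroup.comap_subtype (H := cj g A) ((s.isPGroup_of_le le_rfl).map _))
    (mem_subgroupOf.2 (Subgroup.mem_inf.1 x.2).1) (mem_subgroupOf.2 (Subgroup.mem_inf.1 y.2).1) h1
  exact congrArg (fun t : N => (t : G)) h2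

include hm in
/-- The index of the fixed points of a bad involution in `A`. -/
theorem card_fix_or (s : Setup G S A N) (hF : SzFactsHold.{u}) {w : G} (hb : Bad N w)
    (hwA : w ∈ normalizer (A : Set G)) :
    A ≤ cent w ∨ Nat.card A = Nat.card ↥(A ⊓ cent w) * Nat.card ↥(A ⊓ cent w) := by
  classical
  by_cases hAw : A ≤ cent w
  · exact Or.inl hAw
  refine Or.inr ?_
  have hs := s.subSetting_cent hb hwA (s.full_of_no_moved hm hF hb hwA)
  obtain ⟨n, d⟩ := s.sub_data hF hs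
  have hw2 : w * w = 1 := CfsgLib.Involutions.mul_self_eq_one hb.two
  have hinv : w⁻¹ = w := inv_eq_of_mul_eq_one_right hw2
  have hAw' : ∀ a ∈ A, w * a * w⁻¹ ∈ A := fun a ha => (mem_normalizer_iff.1 hwA a).1 ha
  let f : A →* A :=
    { toFun := fun a => a * ⟨w * a * w⁻¹, hAw' a a.2⟩
      map_one' := Subtype.ext (by simp)
      map_mul' := fun a b => Subtype.ext (by
        show (a : G) * b * (w * ((a : G) * b) * w⁻¹) = a * (w * a * w⁻¹) * (b * (w * b * w⁻¹))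
        have hc := s.comm b.2 (hAw' a a.2)
        calc (a : G) * b * (w * ((a : G) * b) * w⁻¹)
            = a * (b * (w * a * w⁻¹)) * (w * b * w⁻¹) := by group
          _ = a * (w * a * w⁻¹ * b) * (w * b * w⁻¹) := by rw [hc]
          _ = _ := by group) }
  have hker : f.ker = (A ⊓ cent w).subgroupOf A := by
    ext a
    rw [MonoidHom.mem_ker, mem_subgroupOf, Subgroup.mem_inf, mem_cent, Subtype.ext_iff]
    show (a : G) * (w * a * w⁻¹) = 1 ↔ _
    constructor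
    · intro h
      refine ⟨a.2, ?_⟩
      have h2 : w * a * w⁻¹ = a := by
        rw [← inv_eq_of_mul_eq_one_right h, inv_eq_of_mul_eq_one_right (s.mul_self_eq_one a.2)]
      calc (a : G) * w = w * a * w⁻¹ * w := by rw [h2]
        _ = w * a := by group
    · rintro ⟨-, h⟩
      rw [← h, mul_inv_cancel_right, s.mul_self_eq_one a.2]
  have hrle : f.range ≤ (A ⊓ cent w).subgroupOf A := by
    rintro _ ⟨a, rfl⟩
    rw [mem_subgroupOf, Subgroup.mem_inf]
    refine ⟨(f a).2, mem_cent.2 ?_⟩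
    show (a : G) * (w * a * w⁻¹) * w = w * ((a : G) * (w * a * w⁻¹))
    calc (a : G) * (w * a * w⁻¹) * w = a * w * a := by group
      _ = w * w * (a * w * a) := by rw [hw2, one_mul]
      _ = w * ((w * a * w⁻¹) * a) := by rw [hinv]; group
      _ = _ := by rw [s.comm a.2 (hAw' a a.2)]
  obtain ⟨a₁, ha₁⟩ : ∃ a : A, f a ≠ 1 := by
    by_contra hcon
    push_neg at hcon
    refine hAw fun a ha => ?_
    have : (⟨a, ha⟩ : A) ∈ f.ker := hcon _
    rw [hker, mem_subgroupOf] at this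
    exact this.2
  obtain ⟨t, -, htn, -, htr⟩ := d.torus
  have htN : (t : G) ∈ N := s.normalizer_le hs.le_A (s.sub_ne_bot hs) htn
  have hrange : f.range = (A ⊓ cent w).subgroupOf A := by
    refine le_antisymm hrle fun b hb' => ?_
    rcases eq_or_ne b 1 with rfl | hb1
    · exact one_mem _
    have h0 : ((f a₁ : A) : G) ∈ A ⊓ cent w := mem_subgroupOf.1 (hrle ⟨a₁, rfl⟩)
    obtain ⟨k, hk⟩ := htr _ h0 (fun e => ha₁ (Subtype.ext e)) b (mem_subgroupOf.1 hb')
      fun e => hb1 (Subtype.ext e)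
    have hg : (t : G) ^ k ∈ N := pow_mem htN k
    obtain ⟨v, hv, m, hm', e⟩ := s.factor_of_no_moved hF hm hg
    have hmN := s.norm_le hm'
    refine ⟨⟨m * a₁ * m⁻¹, (mem_normalizer_iff.1 hm' _).1 a₁.2⟩, Subtype.ext ?_⟩
    have hvN : v ∈ N := by
      rw [show v = (t : G) ^ k * m⁻¹ by rw [e]; group]; exact mul_mem hg (inv_mem hmN)
    have hpm : qmap N ⟨(t : G) ^ k, hg⟩ = qmap N ⟨m, hmN⟩ := by
      rw [show (⟨(t : G) ^ k, hg⟩ : N) = ⟨v, hvN⟩ * ⟨m, hmN⟩ from Subtype.ext e, map_mul,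
        (mem_coreN hvN).1 hv, one_mul]
    have hcw : qmap N ⟨m, hmN⟩ * qmap N ⟨w, hb.mem⟩ = qmap N ⟨w, hb.mem⟩ * qmap N ⟨m, hmN⟩ := by
      rw [← hpm, ← map_mul, ← map_mul]
      exact congrArg (qmap N) (Subtype.ext (mem_cent.1 (pow_mem t.2 k)))
    have hmm : w * (m * a₁ * m⁻¹) * w⁻¹ = m * (w * a₁ * w⁻¹) * m⁻¹ := by
      have hAm : ∀ x ∈ A, m * x * m⁻¹ ∈ A := fun x hx => (mem_normalizer_iff.1 hm' x).1 hx
      refine s.eq_of_mk_eq
        (a := ⟨w, hb.mem⟩ * (⟨m, hmN⟩ * ⟨a₁, s.A_le a₁.2⟩ * ⟨m, hmN⟩⁻¹) * ⟨w, hb.mem⟩⁻¹)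
        (b := ⟨m, hmN⟩ * (⟨w, hb.mem⟩ * ⟨a₁, s.A_le a₁.2⟩ * ⟨w, hb.mem⟩⁻¹) * ⟨m, hmN⟩⁻¹)
        (hAw' _ (hAm _ a₁.2)) (hAm _ (hAw' _ a₁.2)) ?_
      simp only [map_mul, map_inv]
      set γ := qmap N ⟨m, hmN⟩
      set p := qmap N ⟨w, hb.mem⟩
      set x := qmap N ⟨a₁, s.A_le a₁.2⟩
      calc p * (γ * x * γ⁻¹) * p⁻¹ = p * γ * x * (p * γ)⁻¹ := by group
        _ = γ * p * x * (γ * p)⁻¹ := by rw [hcw]
        _ = _ := by group
    show m * a₁ * m⁻¹ * (w * (m * a₁ * m⁻¹) * w⁻¹) = b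
    rw [hmm, ← hk, ← s.eq_conj_of_factor hg hv hm' e (f a₁).2 (hk ▸ b.2)]
    show _ = m * ((a₁ : G) * (w * a₁ * w⁻¹)) * m⁻¹
    group
  have h3 : Nat.card A = Nat.card f.ker * Nat.card f.range := by
    rw [← Subgroup.index_ker, Subgroup.card_mul_index]
  rw [h3, hrange, hker, Nat.card_congr (subgroupOfEquivOfLe inf_le_left).toEquiv]

include hm in
/-- C1 without moved components. -/
theorem centralizes_of_no_moved (s : Setup G S A N) (hF : SzFactsHold.{u}) {w : G} (hb : Bad N w)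
    (hwA : w ∈ normalizer (A : Set G)) : A ≤ cent w := by
  classical
  haveI : Fact (Nat.Prime 2) := ⟨Nat.prime_two⟩
  by_contra hAw
  have hsq := (s.card_fix_or hm hF hb hwA).resolve_left hAw
  obtain ⟨n, d⟩ := s.sub_data hF (s.subSetting_cent hb hwA (s.full_of_no_moved hm hF hb hwA))
  rw [d.card_B] at hsq
  have hall : ∀ i, Bad N i → i ∈ normalizer (A : Set G) → ¬ A ≤ cent i := by
    intro i hi hiA hAi
    obtain ⟨n', d'⟩ := s.sub_data hF (s.subSetting_cent hi hiA (s.full_of_no_moved hm hF hi hiA))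
    have h := d'.card_B
    rw [inf_eq_left.2 hAi, hsq] at h
    exact two_pow_sq_ne d'.odd_n (b := n) (by rw [← h, pow_two])
  obtain ⟨a₀, ha₀, ha₀1, hcen⟩ := s.exists_central
  have hfac := fun x (hx : x ∈ N) => s.factor_of_no_moved hF hm hx
  have horb : ∀ a ∈ A, a ≠ 1 → ∃ m ∈ normalizer (A : Set G), m * a₀ * m⁻¹ = a := by
    intro a ha ha1
    obtain ⟨i, hi, hiA, hia⟩ := s.exists_bad_comm hb ha ha1
    obtain ⟨R, hR⟩ := (isPGroup_zpowers_of_orderOf (z := (⟨i, hiA⟩ : normalizer (A : Set G)))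
      (by rw [Subgroup.orderOf_mk, hi.two])).exists_le_sylow
    obtain ⟨y, hy⟩ := MulAction.exists_smul_eq (normalizer (A : Set G)) R (S.subtype s.S_le_normalizer)
    have hiS : (y : G) * i * (y : G)⁻¹ ∈ (S : Subgroup G) := by
      have h : y * ⟨i, hiA⟩ * y⁻¹ ∈
          ((S.subtype s.S_le_normalizer : Sylow 2 (normalizer (A : Set G))) :
            Subgroup (normalizer (A : Set G))) := by
        rw [← hy]
        exact Subgroup.smul_mem_pointwise_smul _ (MulAut.conj y) _ (hR (mem_zpowers _))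
      exact h
    set b := (y : G)⁻¹ * a₀ * y with hbdef
    have hbA : b ∈ A := by simpa [hbdef] using (mem_normalizer_iff.1 (inv_mem y.2) a₀).1 ha₀
    have hb1 : b ≠ 1 := fun e => ha₀1 (by
      calc a₀ = (y : G) * b * (y : G)⁻¹ := by rw [hbdef]; group
        _ = 1 := by rw [e]; group)
    have hbi : b ∈ cent i := mem_cent.2 (by
      calc b * i = (y : G)⁻¹ * (a₀ * ((y : G) * i * (y : G)⁻¹)) * y := by rw [hbdef]; group
        _ = (y : G)⁻¹ * (((y : G) * i * (y : G)⁻¹) * a₀) * y := by rw [hcen _ hiS]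
        _ = _ := by rw [hbdef]; group)
    have hsi := s.subSetting_cent hi hiA (s.full_of_no_moved hm hF hi hiA)
    obtain ⟨n', d'⟩ := s.sub_data hF hsi
    obtain ⟨m, hm', e⟩ := s.exists_move hsi d' hfac (a := b) ⟨hbA, hbi⟩ hb1 ⟨ha, hia⟩ ha1
    refine ⟨m * (y : G)⁻¹, mul_mem hm' (inv_mem y.2), ?_⟩
    rw [← e, hbdef]
    group
  -- the orbit of `a₀` has order prime to three
  letI : MulAction (normalizer (A : Set G)) G :=
    MulAction.compHom G ((MulAut.conj (G := G)).comp (normalizer (A : Set G)).subtype)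
  have horbit : MulAction.orbit (normalizer (A : Set G)) a₀ = (A : Set G) \ {1} := by
    ext x
    constructor
    · rintro ⟨m, rfl⟩
      refine ⟨(mem_normalizer_iff.1 m.2 a₀).1 ha₀, fun e => ha₀1 ?_⟩
      have e' : (m : G) * a₀ * (m : G)⁻¹ = 1 := e
      exact conj_eq_one_iff.1 e'
    · rintro ⟨hx, hx1⟩
      obtain ⟨m, hm', e⟩ := horb x hx hx1
      exact ⟨⟨m, hm'⟩, e⟩
  have hdvd : ((A : Set G) \ {1}).ncard ∣ Nat.card G := by
    rw [← horbit, ← MulAction.index_stabilizer]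
    exact (index_dvd_card _).trans (card_subgroup_dvd_card _)
  rw [Set.ncard_diff_singleton_of_mem A.one_mem, ← Nat.card_coe_set_eq,
    show Nat.card (A : Set G) = Nat.card A from rfl, hsq] at hdvd
  refine s.three ((three_dvd_two_pow_sq_sub n).trans ?_)
  rwa [pow_two]

omit hm

/-- C1. -/
theorem centralizes (s : Setup G S A N) (hF : SzFactsHold.{u}) {w : G} (hb : Bad N w)
    (hwA : w ∈ normalizer (A : Set G)) : A ≤ cent w := by
  rcases (movedComponents (barB N A)).eq_empty_or_nonempty with h | h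
  · exact s.centralizes_of_no_moved h hF hb hwA
  · exact s.centralizes_of_moved hF h hb hwA

/-- The order of `A`. -/
theorem exists_card_A (s : Setup G S A N) (hF : SzFactsHold.{u}) {w : G} (hb : Bad N w) :
    ∃ n, Odd n ∧ 3 ≤ n ∧ Nat.card A = 2 ^ n := by
  obtain ⟨m, hm, hmA⟩ := s.exists_conj_normalizes hb.mem hb.two
  have hA := s.centralizes hF (hb.conj hm) hmA
  obtain ⟨n, d⟩ := s.sub_data hF
    (s.subSetting_cent (hb.conj hm) hmA (s.full_of_centralizes hA))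
  exact ⟨n, d.odd_n, d.three_le, by rw [← d.card_B, inf_eq_left.2 hA]⟩

/-- All bad involutions fix the same number of points. -/
theorem ncard_fix (s : Setup G S A N) (hF : SzFactsHold.{u}) {n : ℕ} (hn : Nat.card A = 2 ^ n)
    {w : G} (hb : Bad N w) : (fixPts N w).ncard = (2 ^ n) ^ 2 + 1 := by
  obtain ⟨m, hm, hmA⟩ := s.exists_conj_normalizes hb.mem hb.two
  have hA := s.centralizes hF (hb.conj hm) hmA
  have hfull := s.full_of_centralizes hA
  obtain ⟨n', d⟩ := s.sub_data hF (s.subSetting_cent (hb.conj hm) hmA hfull)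
  have hn' : n' = n := by
    refine Nat.pow_right_injective (le_refl 2) ?_
    show 2 ^ n' = 2 ^ n
    rw [← d.card_B, inf_eq_left.2 hA, hn]
  rw [← hn', ← d.index, ← s.ncard_fixPts (hb.conj hm) hmA hfull]
  refine Set.ncard_congr (fun P _ => m • P) (fun P hP => smul_mem_fixPts hP)
    (fun P Q _ _ h => smul_left_cancel m h) fun P hP => ⟨m⁻¹ • P, ?_, smul_inv_smul m P⟩
  have h := smul_mem_fixPts (x := m⁻¹) hP
  simpa [mul_assoc] using h

end Setup

end CfsgLib.ThreeFree
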