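import Cfsg.Agent.Lib.ThreeFree.NBar

/-!
A bad involution normalizing `A` centralizes it when `N` has components moved by `A`.
-/

set_option autoImplicit false
set_option linter.style.haveILetI false

namespace CfsgLib.ThreeFree

open Subgroup CfsgLib.Components

universe u

/-- The centre of a Sylow 2-subgroup of a Suzuki group has conjugates outside it. -/
theorem SzData.not_conj_invariant {Q : Type u} [Group Q] {n : ℕ} {T : Sylow 2 Q} {Z : Subgroup Q}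
    {h : Q} (d : SzData Q n T Z h) {z : Q} (hz : z ∈ Z) (h1 : z ≠ 1)
    (hall : ∀ g : Q, g * z * g⁻¹ ∈ Z) : False := by
  have hmem : ∀ g : Q, g ∈ normalizer ((T : Subgroup Q) : Set Q) := fun g =>
    d.fix_z z hz h1 g (le_normalizer (d.Z_le (by simpa using hall g⁻¹)))
  have h2 := d.index_R
  rw [show normalizer ((T : Subgroup Q) : Set Q) = ⊤ from eq_top_iff.2 fun g _ => hmem g,
    index_top] at h2
  have : 0 < (2 ^ n) ^ 2 := by positivity
  omega

section Comp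

variable {Y : Type u} [Group Y] [Finite Y] {B L : Subgroup Y} {S : Sylow 2 Y} {n : ℕ}
  {T : Sylow 2 (L ⧸ center L)} {Z : Subgroup (L ⧸ center L)} {h : L ⧸ center L}

/-- `B` meets a moved component outside its centre. -/
theorem CompData.exists_mem (c : ClosedSetting B S) (hF : SzFactsHold.{u})
    (hL : Cfsg.IsComponent L) (cd : CompData B L S n T Z h) :
    ∃ a : L, (a : Y) ∈ B ∧ QuotientGroup.mk' (center L) a ∈ Z ∧
      QuotientGroup.mk' (center L) a ≠ 1 := by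
  set ρ := QuotientGroup.mk' (center L)
  obtain ⟨x, hx⟩ := QuotientGroup.mk'_surjective (center L) h
  have hxN : (x : Y) ∈ normalizer (B : Set Y) := (cd.normalizes x).2 (hx ▸ cd.sz.h_mem)
  obtain ⟨z, hz, hz1⟩ : ∃ z ∈ Z, z ≠ 1 := by
    refine (Subgroup.bot_or_exists_ne_one Z).resolve_left fun e => ?_
    have := cd.sz.card_Z
    rw [e, Subgroup.card_bot] at this
    have : 2 ^ 3 ≤ 2 ^ n := Nat.pow_le_pow_right (by norm_num) cd.sz.three_le
    omega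
  obtain ⟨b, hb, l, hbl, rfl⟩ := cd.image_surj z hz
  have hbN := c.le_normalizer_component hF hL hb
  have he : (x : Y) * b * (x : Y)⁻¹ * b⁻¹ = ((x * l * x⁻¹ * l⁻¹ : L) : Y) := by
    simp only [Subgroup.coe_mul, Subgroup.coe_inv]
    set cc := b * (l : Y)⁻¹
    have eb : b = cc * l := by simp [cc]
    rw [eb]
    have h1 : (x : Y) * cc = cc * x := mem_centralizer_iff.1 hbl x x.2
    have h2 : ((x * l * x⁻¹ * l⁻¹ : L) : Y) * cc = cc * ((x * l * x⁻¹ * l⁻¹ : L) : Y) :=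
      mem_centralizer_iff.1 hbl _ (x * l * x⁻¹ * l⁻¹).2
    simp only [Subgroup.coe_mul, Subgroup.coe_inv] at h2
    calc (x : Y) * (cc * l) * (x : Y)⁻¹ * (cc * l)⁻¹
        = ((x : Y) * cc) * l * (x : Y)⁻¹ * (l : Y)⁻¹ * cc⁻¹ := by group
      _ = (cc * x) * l * (x : Y)⁻¹ * (l : Y)⁻¹ * cc⁻¹ := by rw [h1]
      _ = cc * ((x : Y) * l * (x : Y)⁻¹ * (l : Y)⁻¹) * cc⁻¹ := by group
      _ = _ := by rw [← h2, mul_inv_cancel_right]
  have hmem : (x : Y) * b * (x : Y)⁻¹ * b⁻¹ ∈ B :=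
    mul_mem ((mem_normalizer_iff.1 hxN b).1 hb) (inv_mem hb)
  refine ⟨x * l * x⁻¹ * l⁻¹, he ▸ hmem, ?_, ?_⟩
  · exact cd.image_mem _ (he ▸ hmem) _ (by simpa using (centralizer (L : Set Y)).one_mem)
  · rw [map_mul, map_mul, map_mul, map_inv, map_inv, hx]
    intro e
    have hh : h ^ 1 ≠ 1 := fun e1 => by
      have h2 := cd.sz.h_order
      rw [pow_one] at e1
      rw [e1, orderOf_one] at h2
      have : 2 ^ 3 ≤ 2 ^ n := Nat.pow_le_pow_right (by norm_num) cd.sz.three_le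
      omega
    refine hz1 (cd.sz.h_fpf 1 hh _ (cd.sz.Z_le hz) ?_)
    rw [pow_one]
    calc h * ρ l = (h * ρ l * h⁻¹ * (ρ l)⁻¹) * (ρ l * h) := by group
      _ = ρ l * h := by rw [e, one_mul]

/-- The component is not inside the normalizer of `B` in the sense that conjugates of an element of
`B` in it would stay in `B`. -/
theorem CompData.not_all_conj_mem (hL : Cfsg.IsComponent L) (cd : CompData B L S n T Z h) {a : L}
    (haZ : QuotientGroup.mk' (center L) a ∈ Z) (ha1 : QuotientGroup.mk' (center L) a ≠ 1)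
    (hall : ∀ k : L, ∃ y ∈ B, y * ((k * a * k⁻¹ : L) : Y)⁻¹ ∈ centralizer (L : Set Y)) :
    False := by
  refine cd.sz.not_conj_invariant haZ ha1 fun g => ?_
  obtain ⟨k, rfl⟩ := QuotientGroup.mk'_surjective (center L) g
  obtain ⟨y, hy, hyk⟩ := hall k
  rw [← map_inv, ← map_mul, ← map_mul]
  exact cd.image_mem y hy _ hyk

end Comp

namespace Setup

variable {G : Type u} [Group G] [Finite G] {S : Sylow 2 G} {A N : Subgroup G}

theorem mk_mem_normalizer_barB (s : Setup G S A N) {m : G} (hm : m ∈ N)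
    (hmA : m ∈ normalizer (A : Set G)) :
    qmap N ⟨m, hm⟩ ∈ normalizer (barB N A : Set (N ⧸ Cfsg.pPrimeCore 2 N)) := by
  refine mem_normalizer_fintype fun z hz => ?_
  obtain ⟨b, hb, rfl⟩ := s.exists_of_mem_barB hz
  rw [← map_inv, ← map_mul, ← map_mul]
  exact mem_map_of_mem _ (mem_subgroupOf.2 ((mem_normalizer_iff.1 hmA b).1 hb))

/-- Elements centralizing a full bad involution modulo the core normalize the image of its
fixed points in `A`. -/
theorem fixBar_invariant (s : Setup G S A N) (hF : SzFactsHold.{u}) {w : G} (hb : Bad N w)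
    (hwA : w ∈ normalizer (A : Set G)) (hfull : Full A w) {y : N ⧸ Cfsg.pPrimeCore 2 N}
    (hy : y * qmap N ⟨w, hb.mem⟩ = qmap N ⟨w, hb.mem⟩ * y) :
    y ∈ normalizer (barB N (A ⊓ cent w) : Set (N ⧸ Cfsg.pPrimeCore 2 N)) := by
  haveI : Fact (Nat.Prime 2) := ⟨Nat.prime_two⟩
  obtain ⟨n, d⟩ := s.sub_data hF (s.subSetting_cent hb hwA hfull)
  have h2 : IsPGroup 2 (zpowers (⟨w, hb.mem⟩ : N)) :=
    isPGroup_zpowers_of_orderOf (by rw [Subgroup.orderOf_mk, hb.two])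
  have hy' : y ∈ centralizer (((zpowers (⟨w, hb.mem⟩ : N)).map
      (QuotientGroup.mk' (Cfsg.pPrimeCore 2 N))) : Set (N ⧸ Cfsg.pPrimeCore 2 N)) := by
    rw [MonoidHom.map_zpowers, mem_centralizer_iff]
    intro z hz
    obtain ⟨k, rfl⟩ := mem_zpowers_iff.1 hz
    exact ((Commute.zpow_right hy k).symm).eq
  rw [← map_centralizer_quotient CfsgLib.PCore.pPrimeCore_coprime h2] at hy'
  obtain ⟨x, hx, rfl⟩ := hy'
  have hxw : (x : G) ∈ cent w := mem_cent.2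
    (congrArg Subtype.val (mem_centralizer_iff.1 hx ⟨w, hb.mem⟩ (mem_zpowers _))).symm
  have hle : Cfsg.centralizerPPrimeCore 2 w ≤ coreN N :=
    s.cent_core_le_coreN hF hb.mem hb.two (s.core_cent_le hb.two hwA)
  have hn := (d.mem_iff ⟨x, hxw⟩).1 x.2
  refine mem_normalizer_fintype fun z hz => ?_
  obtain ⟨b, hbB, rfl⟩ := s.exists_of_mem_barB hz
  have h3 := (mem_normalizer_iff.1 hn _).1 (mem_map_of_mem (qmap (cent w))
    (mem_subgroupOf.2 (show ((⟨b, hbB.2⟩ : cent w) : G) ∈ A ⊓ cent w from hbB)))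
  obtain ⟨b', hb', hbe⟩ := h3
  rw [← map_inv, ← map_mul, ← map_mul] at hbe
  have ho : b'⁻¹ * (⟨x, hxw⟩ * ⟨b, hbB.2⟩ * ⟨x, hxw⟩⁻¹) ∈ Cfsg.pPrimeCore 2 (cent w) :=
    QuotientGroup.eq.1 hbe
  have ho' : (b' : G)⁻¹ * ((x : G) * b * (x : G)⁻¹) ∈ coreN N := hle ⟨_, ho, rfl⟩
  have hb'A : (b' : G) ∈ A ⊓ cent w := hb'
  refine ⟨⟨b', s.A_le hb'A.1⟩, hb', ?_⟩
  show qmap N ⟨b', s.A_le hb'A.1⟩ = qmap N x * qmap N b * (qmap N x)⁻¹
  rw [← map_inv, ← map_mul, ← map_mul]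
  refine QuotientGroup.eq.2 ?_
  obtain ⟨o, ho2, hoe⟩ := ho'
  rwa [show (⟨(b' : G), s.A_le hb'A.1⟩ : N)⁻¹ * (x * b * x⁻¹) = o from Subtype.ext hoe.symm]

/-- An involution of `N` fixing a moved component acts trivially on the part of `A` in it. -/
theorem fixed_comp_trivial (s : Setup G S A N) (hF : SzFactsHold.{u}) {w : G} (hw : w ∈ N)
    (h2 : orderOf w = 2) (hwA : w ∈ normalizer (A : Set G))
    {K : Subgroup (N ⧸ Cfsg.pPrimeCore 2 N)} (hK : K ∈ movedComponents (barB N A))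
    (hwK : qmap N ⟨w, hw⟩ ∈ normalizer (K : Set (N ⧸ Cfsg.pPrimeCore 2 N)))
    {b : N ⧸ Cfsg.pPrimeCore 2 N} (hbB : b ∈ barB N A) :
    qmap N ⟨w, hw⟩ * b * (qmap N ⟨w, hw⟩)⁻¹ * b⁻¹ ∈
      centralizer (K : Set (N ⧸ Cfsg.pPrimeCore 2 N)) := by
  haveI : Fact (Nat.Prime 2) := ⟨Nat.prime_two⟩
  obtain ⟨P, c⟩ := s.N_setting
  obtain ⟨n, T, Z, h, cd⟩ := c.comp_data hF hK.1 hK.2
  set ρ := QuotientGroup.mk' (center K)
  set p := qmap N ⟨w, hw⟩ with hp
  set C := centralizer (K : Set (N ⧸ Cfsg.pPrimeCore 2 N))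
  have hCn : ∀ v ∈ C, p * v * p⁻¹ ∈ C := fun v hv =>
    (mem_normalizer_iff.1 (normalizer_le_normalizer_centralizer K hwK) v).1 hv
  set α := automizerHom K ⟨p, hwK⟩
  have hp2 : p * p = 1 := by
    rw [hp, ← map_mul, show (⟨w, hw⟩ : N) * ⟨w, hw⟩ = 1 from
      Subtype.ext (CfsgLib.Involutions.mul_self_eq_one h2), map_one]
  obtain ⟨x, hx⟩ := cd.sz.aut_two α ⟨1, by
    rw [← map_pow, show (⟨p, hwK⟩ : normalizer (K : Set (N ⧸ Cfsg.pPrimeCore 2 N))) ^ (2 ^ 1) = 1 from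
      Subtype.ext (by simpa [pow_two] using hp2), map_one]⟩
  have hα : ∀ l : K, α (ρ l) =
      ρ ⟨p * l * p⁻¹, (mem_normalizer_iff.1 hwK _).1 l.2⟩ := fun l => rfl
  have hxZ : ∀ z ∈ Z, x * z * x⁻¹ ∈ Z := by
    intro z hz
    obtain ⟨y, hy, l, hyl, rfl⟩ := cd.image_surj z hz
    have e : MulAut.conj x (ρ l) = α (ρ l) := by rw [hx]
    rw [MulAut.conj_apply] at e
    rw [e, hα]
    refine cd.image_mem (p * y * p⁻¹)
      ((mem_normalizer_iff.1 (s.mk_mem_normalizer_barB hw hwA) y).1 hy) _ ?_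
    have := hCn _ hyl
    simpa [mul_assoc] using this
  have hxR : x ∈ normalizer ((T : Subgroup (K ⧸ center K)) : Set (K ⧸ center K)) := by
    rw [← cd.sz.norm_Z]
    exact mem_normalizer_fintype hxZ
  have hxx : x * x = 1 := by
    have h4 : MulAut.conj (x * x) = 1 := by
      rw [map_mul, ← hx, ← map_mul, show (⟨p, hwK⟩ : normalizer (K : Set (N ⧸ Cfsg.pPrimeCore 2 N))) *
        ⟨p, hwK⟩ = 1 from Subtype.ext hp2, map_one]
    have hc : x * x ∈ center (K ⧸ center K) := by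
      rw [mem_center_iff]
      intro g
      have h5 : x * x * g * (x * x)⁻¹ = g := DFunLike.congr_fun h4 g
      calc g * (x * x) = x * x * g * (x * x)⁻¹ * (x * x) := by rw [h5]
        _ = x * x * g := by group
    haveI := hK.1.2.2
    haveI := hK.1.2.1
    rcases (inferInstance : (center (K ⧸ center K)).Normal).eq_bot_or_eq_top with e | e
    · rwa [e, mem_bot] at hc
    · exfalso
      haveI : Group.IsPerfect (K ⧸ center K) :=
        Group.IsPerfect.ofSurjective (QuotientGroup.mk'_surjective (center K))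
      exact Group.IsPerfect.not_isMulCommutative (K ⧸ center K)
        ⟨⟨fun a b => mem_center_iff.1 (e ▸ mem_top b) a⟩⟩
  have hxT : x ∈ (T : Subgroup (K ⧸ center K)) := by
    have h2' : IsPGroup 2 (zpowers x) := fun y => ⟨1, by
      obtain ⟨k, hk⟩ := mem_zpowers_iff.1 y.2
      refine Subtype.ext ?_
      show (y : K ⧸ center K) ^ (2 ^ 1) = 1
      rw [← hk, pow_one, ← zpow_natCast, ← zpow_mul, mul_comm, zpow_mul, zpow_natCast, pow_two,
        hxx, one_zpow]⟩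
    have := IsPGroup.to_sup_of_normal_right' h2' T.2 (zpowers_le.2 hxR)
    exact (T.is_maximal' this le_sup_right) ▸ mem_sup_left (mem_zpowers x)
  have hxZ' := cd.sz.invol_mem x hxT hxx
  obtain ⟨l, hl, hbl⟩ := c.exists_inner hF hK.1 hbB
  have hlZ := cd.image_mem b hbB ⟨l, hl⟩ hbl
  have hcen : (⟨p * l * p⁻¹, (mem_normalizer_iff.1 hwK _).1 hl⟩ : K) * (⟨l, hl⟩ : K)⁻¹ ∈ center K := by
    have h3 : ρ (⟨p * l * p⁻¹, (mem_normalizer_iff.1 hwK _).1 hl⟩ * (⟨l, hl⟩ : K)⁻¹) = 1 := by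
      rw [map_mul, map_inv, ← hα ⟨l, hl⟩, hx, MulAut.conj_apply,
        cd.sz.Z_comm x hxZ' _ (cd.sz.Z_le hlZ), mul_inv_cancel_right, mul_inv_cancel]
    exact (QuotientGroup.eq_one_iff _).1 h3
  have hzC : p * l * p⁻¹ * l⁻¹ ∈ C := mem_centralizer_iff.2 fun k hk => by
    exact congrArg Subtype.val (mem_center_iff.1 hcen ⟨k, hk⟩)
  have : p * b * p⁻¹ * b⁻¹ = (p * (b * l⁻¹) * p⁻¹) * (p * l * p⁻¹ * l⁻¹) * (b * l⁻¹)⁻¹ := by group
  rw [this]
  exact mul_mem (mul_mem (hCn _ hbl) hzC) (inv_mem hbl)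

/-- A full bad involution fixes every moved component. -/
theorem moved_fixed (s : Setup G S A N) (hF : SzFactsHold.{u}) {w : G} (hb : Bad N w)
    (hwA : w ∈ normalizer (A : Set G)) (hfull : Full A w)
    {K : Subgroup (N ⧸ Cfsg.pPrimeCore 2 N)} (hK : K ∈ movedComponents (barB N A)) :
    qmap N ⟨w, hb.mem⟩ ∈ normalizer (K : Set (N ⧸ Cfsg.pPrimeCore 2 N)) := by
  obtain ⟨P, c⟩ := s.N_setting
  obtain ⟨n, T, Z, h, cd⟩ := c.comp_data hF hK.1 hK.2
  obtain ⟨a, haB, haZ, ha1⟩ := cd.exists_mem c hF hK.1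
  set p := qmap N ⟨w, hb.mem⟩ with hp
  by_contra hn
  set K' := K.map (MulAut.conj p).toMonoidHom
  have hne : K ≠ K' := fun e => hn (mem_normalizer_iff_map_conj_eq.mpr e.symm)
  have hcom := commutator_components_eq_bot hK.1 (isComponent_conj p hK.1) hne
  have hp2 : p * p = 1 := by
    rw [hp, ← map_mul, show (⟨w, hb.mem⟩ : N) * ⟨w, hb.mem⟩ = 1 from
      Subtype.ext (CfsgLib.Involutions.mul_self_eq_one hb.two), map_one]
  have hpi : p⁻¹ = p := inv_eq_of_mul_eq_one_right hp2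
  refine cd.not_all_conj_mem hK.1 haZ ha1 fun k => ?_
  set a' := p * (a : N ⧸ Cfsg.pPrimeCore 2 N) * p⁻¹ with ha'
  set k' := p * (k : N ⧸ Cfsg.pPrimeCore 2 N) * p⁻¹ with hk'
  have ha'K : a' ∈ K' := ⟨a, a.2, rfl⟩
  have hk'K : k' ∈ K' := ⟨k, k.2, rfl⟩
  have ha'B : a' ∈ barB N A :=
    (mem_normalizer_iff.1 (s.mk_mem_normalizer_barB hb.mem hwA) _).1 haB
  have hswap : ∀ u ∈ K, ∀ v ∈ K', p * (u * v) * p⁻¹ = (p * v * p⁻¹) * (p * u * p⁻¹) := by
    intro u hu v hv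
    rw [(commute_of_commutator_eq_bot hcom hu hv : u * v = v * u)]
    group
  have hbb : p * ((a : N ⧸ Cfsg.pPrimeCore 2 N) * a') * p⁻¹ = (a : N ⧸ Cfsg.pPrimeCore 2 N) * a' := by
    rw [hswap _ a.2 _ ha'K, ← ha', show p * a' * p⁻¹ = (a : N ⧸ Cfsg.pPrimeCore 2 N) by
      rw [ha', hpi]
      calc p * (p * (a : N ⧸ Cfsg.pPrimeCore 2 N) * p) * p = (p * p) * a * (p * p) := by group
        _ = _ := by rw [hp2, one_mul, mul_one]]
  have hkk : p * ((k : N ⧸ Cfsg.pPrimeCore 2 N) * k') * p⁻¹ = (k : N ⧸ Cfsg.pPrimeCore 2 N) * k' := by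
    rw [hswap _ k.2 _ hk'K, ← hk', show p * k' * p⁻¹ = (k : N ⧸ Cfsg.pPrimeCore 2 N) by
      rw [hk', hpi]
      calc p * (p * (k : N ⧸ Cfsg.pPrimeCore 2 N) * p) * p = (p * p) * k * (p * p) := by group
        _ = _ := by rw [hp2, one_mul, mul_one]]
  obtain ⟨b0, hb0, hb0e⟩ := s.exists_of_mem_barB (mul_mem haB ha'B)
  have hb0c : (b0 : G) ∈ cent w := by
    refine s.mem_cent_of_mk_comm hb0 hb.mem hwA ?_
    rw [show (⟨(b0 : G), s.A_le hb0⟩ : N) = b0 from rfl, hb0e, ← hp]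
    calc p * ((a : N ⧸ Cfsg.pPrimeCore 2 N) * a')
        = p * ((a : N ⧸ Cfsg.pPrimeCore 2 N) * a') * p⁻¹ * p := by group
      _ = _ := by rw [hbb]
  have hd := s.fixBar_invariant hF hb hwA hfull
    (y := (k : N ⧸ Cfsg.pPrimeCore 2 N) * k') (by
      rw [← hp]
      calc (k : N ⧸ Cfsg.pPrimeCore 2 N) * k' * p
          = p * ((k : N ⧸ Cfsg.pPrimeCore 2 N) * k') * p⁻¹ * p := by rw [hkk]
        _ = _ := by group)
  have h1 := (mem_normalizer_iff.1 hd _).1 (hb0e ▸ mem_map_of_mem (qmap N)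
    (mem_subgroupOf.2 (show (b0 : G) ∈ A ⊓ cent w from ⟨hb0, hb0c⟩)))
  refine ⟨_, map_mono (comap_mono inf_le_left) h1, ?_⟩
  have e1 : (k : N ⧸ Cfsg.pPrimeCore 2 N) * k' * ((a : N ⧸ Cfsg.pPrimeCore 2 N) * a') *
      ((k : N ⧸ Cfsg.pPrimeCore 2 N) * k')⁻¹ * ((k * a * k⁻¹ : K) : N ⧸ Cfsg.pPrimeCore 2 N)⁻¹ =
      k' * a' * k'⁻¹ := by
    simp only [Subgroup.coe_mul, Subgroup.coe_inv]
    set k0 := (k : N ⧸ Cfsg.pPrimeCore 2 N)
    set a0 := (a : N ⧸ Cfsg.pPrimeCore 2 N)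
    have c1 : k' * a0 = a0 * k' := (commute_of_commutator_eq_bot hcom a.2 hk'K).symm
    have c2 : k0 * a0 * k0⁻¹ * (k' * a' * k'⁻¹) = k' * a' * k'⁻¹ * (k0 * a0 * k0⁻¹) :=
      commute_of_commutator_eq_bot hcom (mul_mem (mul_mem k.2 a.2) (inv_mem k.2))
        (mul_mem (mul_mem hk'K ha'K) (inv_mem hk'K))
    have c3 : k0⁻¹ * (k' * a' * k'⁻¹) = k' * a' * k'⁻¹ * k0⁻¹ :=
      commute_of_commutator_eq_bot hcom (inv_mem k.2)
        (mul_mem (mul_mem hk'K ha'K) (inv_mem hk'K))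
    calc k0 * k' * (a0 * a') * (k0 * k')⁻¹ * (k0 * a0 * k0⁻¹)⁻¹
        = k0 * (k' * a0) * a' * k'⁻¹ * k0⁻¹ * (k0 * a0 * k0⁻¹)⁻¹ := by group
      _ = k0 * a0 * ((k' * a' * k'⁻¹) * k0⁻¹) * (k0 * a0 * k0⁻¹)⁻¹ := by rw [c1]; group
      _ = (k0 * a0 * k0⁻¹ * (k' * a' * k'⁻¹)) * (k0 * a0 * k0⁻¹)⁻¹ := by rw [← c3]; group
      _ = _ := by rw [c2, mul_inv_cancel_right]
  rw [e1]
  exact le_centralizer_of_commutator_eq_bot (by rw [commutator_comm]; exact hcom)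
    (mul_mem (mul_mem hk'K ha'K) (inv_mem hk'K))

theorem centralizes_of_fixed (s : Setup G S A N) (hF : SzFactsHold.{u}) {w : G} (hw : w ∈ N)
    (h2 : orderOf w = 2) (hwA : w ∈ normalizer (A : Set G))
    (hm : (movedComponents (barB N A)).Nonempty)
    (hfix : ∀ K ∈ movedComponents (barB N A),
      qmap N ⟨w, hw⟩ ∈ normalizer (K : Set (N ⧸ Cfsg.pPrimeCore 2 N))) :
    A ≤ cent w := by
  intro a ha
  refine s.mem_cent_of_mk_comm ha hw hwA ?_
  set p := qmap N ⟨w, hw⟩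
  set b := qmap N ⟨a, s.A_le ha⟩
  have hbB := s.mk_mem_barB ha
  have h1 := s.barB_inf_centralizer hF hm
    (mul_mem ((mem_normalizer_iff.1 (s.mk_mem_normalizer_barB hw hwA) b).1 hbB) (inv_mem hbB))
    fun K hK => s.fixed_comp_trivial hF hw h2 hwA hK (hfix K hK) hbB
  calc p * b = p * b * p⁻¹ * b⁻¹ * (b * p) := by group
    _ = b * p := by rw [h1, one_mul]

/-- C1 when `N` has components moved by `A`. -/
theorem centralizes_of_moved (s : Setup G S A N) (hF : SzFactsHold.{u})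
    (hm : (movedComponents (barB N A)).Nonempty) {w : G} (hb : Bad N w)
    (hwA : w ∈ normalizer (A : Set G)) : A ≤ cent w := by
  obtain ⟨g, hg, hb', hw'A, hfull, -⟩ := s.exists_full hb hwA
  have hA' := s.centralizes_of_fixed hF hb'.mem hb'.two hw'A hm
    fun K hK => s.moved_fixed hF hb' hw'A hfull hK
  refine s.centralizes_of_fixed hF hb.mem hb.two hwA hm fun K hK => ?_
  obtain ⟨P, c⟩ := s.N_setting
  set p := qmap N ⟨w, hb.mem⟩ with hp
  set γ := qmap N ⟨g, hg⟩ with hγ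
  obtain ⟨e, he, m, hm', hem⟩ := c.exists_decomp hF γ
  have heK : e ∈ normalizer (K : Set (N ⧸ Cfsg.pPrimeCore 2 N)) :=
    (sSup_le fun L hL => component_le_normalizer hL.1 hK.1 :
      sSup (movedComponents (barB N A)) ≤ normalizer (K : Set (N ⧸ Cfsg.pPrimeCore 2 N))) he
  set K0 := K.map (MulAut.conj γ⁻¹).toMonoidHom
  have hK0e : K0 = K.map (MulAut.conj m⁻¹).toMonoidHom := by
    ext z
    show z ∈ cj γ⁻¹ K ↔ z ∈ cj m⁻¹ K
    rw [mem_cj, mem_cj, hem]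
    have := (mem_normalizer_iff.1 heK (m * z * m⁻¹)).symm
    simp only [inv_inv, mul_inv_rev]
    rw [show e * m * z * (m⁻¹ * e⁻¹) = e * (m * z * m⁻¹) * e⁻¹ by group]
    exact this
  have hK0 : K0 ∈ movedComponents (barB N A) := by
    rw [hK0e]
    refine ⟨isComponent_conj _ hK.1, fun hc => hK.2 fun z hz => ?_⟩
    rw [mem_centralizer_iff]
    intro k hk
    have h1 := mem_centralizer_iff.1 (hc ((mem_normalizer_iff.1 (inv_mem hm') z).1 hz)) _ ⟨k, hk, rfl⟩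
    have h2 := congrArg (fun t => m * t * m⁻¹) h1
    simpa [mul_assoc] using h2
  obtain ⟨n, T, Z, h, cd⟩ := c.comp_data hF hK0.1 hK0.2
  obtain ⟨a, haB, -, ha1⟩ := cd.exists_mem c hF hK0.1
  obtain ⟨a0, ha0, ha0e⟩ := s.exists_of_mem_barB haB
  set a' := γ * (a : N ⧸ Cfsg.pPrimeCore 2 N) * γ⁻¹ with ha'
  have ha'K : a' ∈ K := by
    obtain ⟨k, hk, hke⟩ := a.2
    rw [ha', ← hke]
    simpa [mul_assoc] using hk
  have hpa : p * a' * p⁻¹ = a' := by
    have h1 := mem_cent.1 (hA' ha0)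
    have h3 : w * (g * a0 * g⁻¹) * w⁻¹ = g * a0 * g⁻¹ := by
      calc w * (g * a0 * g⁻¹) * w⁻¹ = g * ((g⁻¹ * w * g) * a0) * g⁻¹ * w⁻¹ := by group
        _ = g * (a0 * (g⁻¹ * w * g)) * g⁻¹ * w⁻¹ := by rw [h1]
        _ = _ := by group
    rw [ha', ← ha0e, hp, hγ, ← map_inv, ← map_inv, ← map_mul, ← map_mul, ← map_mul, ← map_mul]
    exact congrArg (qmap N) (Subtype.ext h3)
  by_contra hn
  set K' := K.map (MulAut.conj p).toMonoidHom
  have hne : K ≠ K' := fun e => hn (mem_normalizer_iff_map_conj_eq.mpr e.symm)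
  have hcom := commutator_components_eq_bot hK.1 (isComponent_conj p hK.1) hne
  have ha'K' : a' ∈ K' := ⟨a', ha'K, hpa⟩
  refine ha1 ((QuotientGroup.eq_one_iff a).2 (mem_center_iff.2 fun u => Subtype.ext ?_))
  obtain ⟨k, hk, hke⟩ := u.2
  have h5 : k * a' = a' * k := commute_of_commutator_eq_bot hcom hk ha'K'
  show (u : N ⧸ Cfsg.pPrimeCore 2 N) * a = a * u
  have hae : (a : N ⧸ Cfsg.pPrimeCore 2 N) = γ⁻¹ * a' * γ := by rw [ha']; group
  rw [← hke, hae]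
  show MulAut.conj γ⁻¹ k * (γ⁻¹ * a' * γ) = γ⁻¹ * a' * γ * MulAut.conj γ⁻¹ k
  rw [MulAut.conj_apply, inv_inv]
  calc γ⁻¹ * k * γ * (γ⁻¹ * a' * γ) = γ⁻¹ * (k * a') * γ := by group
    _ = γ⁻¹ * (a' * k) * γ := by rw [h5]
    _ = _ := by group

/-- A bad involution centralizing `A` centralizes no moved component. -/
theorem not_centralizes_comp (s : Setup G S A N) (hF : SzFactsHold.{u}) {w : G} (hb : Bad N w)
    (hAw : A ≤ cent w) {K : Subgroup (N ⧸ Cfsg.pPrimeCore 2 N)}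
    (hK : K ∈ movedComponents (barB N A)) :
    qmap N ⟨w, hb.mem⟩ ∉ centralizer (K : Set (N ⧸ Cfsg.pPrimeCore 2 N)) := by
  intro hc
  obtain ⟨P, c⟩ := s.N_setting
  obtain ⟨n, T, Z, h, cd⟩ := c.comp_data hF hK.1 hK.2
  obtain ⟨a, haB, haZ, ha1⟩ := cd.exists_mem c hF hK.1
  have hwA : w ∈ normalizer (A : Set G) := centralizer_le_normalizer _
    (mem_centralizer_iff.2 fun a ha => mem_cent.1 (hAw ha))
  have hfull : Full A w := fun g _ _ => by
    rw [inf_eq_left.2 hAw]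
    exact (card_le_of_le inf_le_left).trans (card_cj g A).le
  refine cd.not_all_conj_mem hK.1 haZ ha1 fun k => ⟨_, ?_, by
    rw [mul_inv_cancel]; exact Subgroup.one_mem _⟩
  have h1 := s.fixBar_invariant hF hb hwA hfull (y := (k : N ⧸ Cfsg.pPrimeCore 2 N))
    (mem_centralizer_iff.1 hc k k.2)
  rw [inf_eq_left.2 hAw] at h1
  simp only [Subgroup.coe_mul, Subgroup.coe_inv]
  exact (mem_normalizer_iff.1 h1 _).1 haB

end Setup

end CfsgLib.ThreeFree
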