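import Cfsg.Agent.Lib.ThreeFree.SzGood
import Cfsg.Agent.Lib.Components.Balance
import Cfsg.Agent.Lib.LocalEven.SubnormalJoin
import Cfsg.Prelude.Def_TwoFusion

/-!
A strongly closed elementary abelian 2-subgroup `B` acting on a component `L` with `L / Z(L)` a
Suzuki group, in a group with trivial odd core: it induces inner automorphisms, either trivial or
the centre of a Sylow 2-subgroup.
-/

set_option autoImplicit false
set_option linter.style.haveILetI false

namespace CfsgLib.ThreeFree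

open Subgroup CfsgLib.Components

universe u

variable {Y : Type u} [Group Y] [Finite Y]

/-- The setting of a strongly closed elementary abelian 2-subgroup. -/
structure ClosedSetting (B : Subgroup Y) (S : Sylow 2 Y) : Prop where
  good : SzGood Y
  core : Cfsg.pPrimeCore 2 Y = ⊥
  elem : Cfsg.IsElementaryAbelian 2 B
  closed : Cfsg.IsStronglyClosed B (S : Subgroup Y)

theorem isSimpleGroup_quot {L : Subgroup Y} (hL : Cfsg.IsComponent L) :
    IsSimpleGroup (L ⧸ center L) := hL.2.2

theorem component_iso (hY : SzGood Y) {L : Subgroup Y} (hL : Cfsg.IsComponent L) :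
    Cfsg.Lie.IsoSuzuki (L ⧸ center L) := by
  haveI := hL.2.1
  haveI := hL.2.2
  refine hY.sections L (center L) hL.2.2 fun h => ?_
  haveI : Group.IsPerfect (L ⧸ center L) :=
    Group.IsPerfect.ofSurjective (QuotientGroup.mk'_surjective (center L))
  exact Group.IsPerfect.not_isMulCommutative (L ⧸ center L) h

namespace ClosedSetting

variable {B : Subgroup Y} {S : Sylow 2 Y}

theorem le (c : ClosedSetting B S) : B ≤ (S : Subgroup Y) := c.closed.1

theorem sq (c : ClosedSetting B S) {b : Y} (hb : b ∈ B) : b * b = 1 := by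
  rw [← pow_two]; exact c.elem.2 b hb

theorem conj_mem (c : ClosedSetting B S) {b g : Y} (hb : b ∈ B)
    (h : g * b * g⁻¹ ∈ (S : Subgroup Y)) : g * b * g⁻¹ ∈ B :=
  c.closed.2 b hb g h

theorem sylow_le_normalizer (c : ClosedSetting B S) :
    (S : Subgroup Y) ≤ normalizer (B : Set Y) := by
  rw [le_normalizer_iff]
  exact fun s hs b hb => c.conj_mem hb (mul_mem (mul_mem hs (c.le hb)) ((S : Subgroup Y).inv_mem hs))

/-- `B` normalizes every component. -/
theorem le_normalizer_component (c : ClosedSetting B S) (hF : SzFactsHold.{u}) {L : Subgroup Y}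
    (hL : Cfsg.IsComponent L) : B ≤ normalizer (L : Set Y) := by
  haveI : Fact (Nat.Prime 2) := ⟨Nat.prime_two⟩
  intro b hb
  by_contra hbn
  set L' := L.map (MulAut.conj b).toMonoidHom with hL'
  have hne : L ≠ L' := fun e => hbn (mem_normalizer_iff_map_conj_eq.mpr e.symm)
  have hcom := commutator_components_eq_bot hL (isComponent_conj b hL) hne
  obtain ⟨P, hP⟩ := CfsgLib.SubJoin.exists_sylow_subnormal S hL.1
  -- squares of `P` are central in `L`
  have hsq : ∀ x ∈ (P : Subgroup L), x * x ∈ center L := by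
    intro x hx
    rw [hP, mem_subgroupOf] at hx
    have hy : (x : Y)⁻¹ * b * x ∈ B := by
      have := c.conj_mem (g := (x : Y)⁻¹) hb
        (mul_mem (mul_mem ((S : Subgroup Y).inv_mem hx) (c.le hb)) (by simpa using hx))
      simpa using this
    have hxL' : b * (x : Y) * b⁻¹ ∈ L' := ⟨x, x.2, rfl⟩
    have hbb : b⁻¹ = b := inv_eq_of_mul_eq_one_right (c.sq hb)
    have e : (x : Y)⁻¹ * b * x * b = (x : Y)⁻¹ * (b * x * b⁻¹) := by rw [hbb]; group
    have hcm : (x : Y)⁻¹ * (b * x * b⁻¹) = (b * x * b⁻¹) * (x : Y)⁻¹ :=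
      commute_of_commutator_eq_bot hcom (L.inv_mem x.2) hxL'
    have h1 : (x : Y)⁻¹ * (b * x * b⁻¹) * ((x : Y)⁻¹ * (b * x * b⁻¹)) = 1 := by
      rw [← e]; exact c.sq (mul_mem hy hb)
    have h2 : (x : Y) * x = b * x * b⁻¹ * (b * x * b⁻¹) := by
      have h3 : (x : Y)⁻¹ * (x : Y)⁻¹ * ((b * x * b⁻¹) * (b * x * b⁻¹)) = 1 := by
        calc _ = (x : Y)⁻¹ * ((x : Y)⁻¹ * (b * x * b⁻¹)) * (b * x * b⁻¹) := by group
          _ = (x : Y)⁻¹ * ((b * x * b⁻¹) * (x : Y)⁻¹) * (b * x * b⁻¹) := by rw [hcm]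
          _ = 1 := by rw [← h1]; group
      rw [← mul_inv_rev, inv_mul_eq_one] at h3
      exact h3
    rw [mem_center_iff]
    intro l
    refine Subtype.ext ?_
    show (l : Y) * ((x : Y) * x) = (x : Y) * x * l
    rw [h2]
    exact commute_of_commutator_eq_bot hcom l.2 (mul_mem hxL' hxL')
  -- impossible in a Suzuki group
  let T := P.mapSurjective (QuotientGroup.mk'_surjective (center L))
  obtain ⟨n, Z, h, d⟩ := hF _ (component_iso c.good hL) T
  have hTZ : (T : Subgroup (L ⧸ center L)) ≤ Z := by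
    intro y hy
    refine d.invol_mem y hy ?_
    obtain ⟨x, hx, rfl⟩ := hy
    rw [← map_mul]
    exact (QuotientGroup.eq_one_iff _).2 (hsq x hx)
  have h1 := Subgroup.card_le_of_le hTZ
  rw [d.card_T, d.card_Z, pow_two] at h1
  have h2 : 2 ≤ 2 ^ n := by
    calc 2 = 2 ^ 1 := rfl
      _ ≤ 2 ^ n := Nat.pow_le_pow_right (by norm_num) (by have := d.three_le; omega)
  nlinarith

/-- `B` induces inner automorphisms on every component. -/
theorem exists_inner (c : ClosedSetting B S) (hF : SzFactsHold.{u}) {L : Subgroup Y}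
    (hL : Cfsg.IsComponent L) {b : Y} (hb : b ∈ B) :
    ∃ l ∈ L, b * l⁻¹ ∈ centralizer (L : Set Y) := by
  haveI : Fact (Nat.Prime 2) := ⟨Nat.prime_two⟩
  have hbn := c.le_normalizer_component hF hL hb
  obtain ⟨P, -⟩ := CfsgLib.SubJoin.exists_sylow_subnormal S hL.1
  obtain ⟨n, Z, h, d⟩ :=
    hF _ (component_iso c.good hL) (P.mapSurjective (QuotientGroup.mk'_surjective (center L)))
  obtain ⟨q, hq⟩ := d.aut_two (automizerHom L ⟨b, hbn⟩) ⟨1, by
    rw [← map_pow, show (⟨b, hbn⟩ : normalizer (L : Set Y)) ^ (2 ^ 1) = 1 from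
      Subtype.ext (by simpa [pow_two] using c.sq hb), map_one]⟩
  obtain ⟨l, rfl⟩ := QuotientGroup.mk'_surjective (center L) q
  refine ⟨l, l.2, ?_⟩
  have hl : (l : Y) ∈ normalizer (L : Set Y) := le_normalizer l.2
  have hmem : (⟨b, hbn⟩ * ⟨l, hl⟩⁻¹ : normalizer (L : Set Y)) ∈ (automizerHom L).ker := by
    rw [MonoidHom.mem_ker, map_mul, map_inv, hq, mul_inv_eq_one]
    ext y
    obtain ⟨m, rfl⟩ := QuotientGroup.mk'_surjective (center L) y
    rfl
  rw [automizerHom_ker hL] at hmem
  exact hmem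

end ClosedSetting

end CfsgLib.ThreeFree
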