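import Cfsg.Agent.Lib.ThreeFree.Balance
import Cfsg.Agent.Lib.FTCons.StandardTrichotomy

/-!
A component of the centralizer of an involution of `B` is a component of the group.
-/

set_option autoImplicit false
set_option linter.style.haveILetI false

namespace CfsgLib.ThreeFree

open Subgroup CfsgLib.Components

universe u

variable {Y : Type u} [Group Y] [Finite Y]

namespace ClosedSetting

variable {B : Subgroup Y} {S : Sylow 2 Y}

theorem component_of_centralizer (c : ClosedSetting B S) (hF : SzFactsHold.{u}) {a : Y} (ha : a ∈ B)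
    (ha1 : a ≠ 1) {K : Subgroup Y} (hKa : K ≤ centralizer ({a} : Set Y))
    (hK : Cfsg.IsComponent (K.subgroupOf (centralizer ({a} : Set Y)))) : Cfsg.IsComponent K := by
  haveI : Fact (Nat.Prime 2) := ⟨Nat.prime_two⟩
  set C := centralizer ({a} : Set Y) with hC
  have hord : orderOf a = 2 := orderOf_eq_prime (c.elem.2 a ha) ha1
  have hcoreC : Cfsg.pPrimeCore 2 C = ⊥ := by
    have h := centralizerPPrimeCore_eq_bot hF c.good c.core hord
    rwa [Cfsg.centralizerPPrimeCore, Subgroup.map_eq_bot_iff_of_injective _ C.subtype_injective] at h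
  have heven : 2 ∣ Nat.card K := by
    rw [← Nat.card_congr (subgroupOfEquivOfLe hKa).toEquiv]
    exact dvd_card_component hcoreC hK
  have haa : a * a = 1 := c.sq ha
  obtain ⟨D, hD, hcase⟩ := CfsgLib.LBalance.component_cases haa hKa hK
    ((CfsgLib.LBalance.component_le_layer_of_even haa hKa hK heven).trans
      (CfsgLib.FTCons.pLayer_le_layer c.core))
  have haN := c.le_normalizer_component hF hD ha
  rcases hcase with ⟨-, hKD⟩ | ⟨hne, -⟩
  swap
  · exact absurd (mem_normalizer_iff_map_conj_eq.1 haN) hne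
  by_cases hDC : D ≤ C
  · obtain h1 | h1 := component_eq_or_commutator_of_subnormal
      (isComponent_subgroupOf hD hDC) hK.1 (fun x hx => hKD hx)
    · have : K = D := le_antisymm hKD (le_of_subgroupOf_le hDC h1.ge)
      rwa [this]
    · exfalso
      refine component_commutator_ne_bot hK ?_
      rw [eq_bot_iff, ← h1]
      exact commutator_mono (fun x hx => hKD hx) le_rfl
  -- otherwise `K` is solvable
  exfalso
  obtain ⟨l, hl, hal⟩ := c.exists_inner hF hD ha
  have hnc : ¬ B ≤ centralizer (D : Set Y) := fun h => hDC fun d hd =>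
    mem_centralizer_singleton_iff.2 (mem_centralizer_iff.1 (h ha) d hd)
  obtain ⟨n, T, Z, h, cd⟩ := c.comp_data hF hD hnc
  set π := QuotientGroup.mk' (center D)
  have hlZ := cd.image_mem a ha ⟨l, hl⟩ hal
  have hl1 : π ⟨l, hl⟩ ≠ 1 := by
    intro e
    refine hDC fun d hd => mem_centralizer_singleton_iff.2 ?_
    have hlc := mem_center_iff.1 ((QuotientGroup.eq_one_iff _).1 e) ⟨d, hd⟩
    have hlc' : d * l = l * d := congrArg Subtype.val hlc
    have hac : d * (a * l⁻¹) = (a * l⁻¹) * d := mem_centralizer_iff.1 hal d hd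
    calc d * a = d * (a * l⁻¹) * l := by group
      _ = a * l⁻¹ * (d * l) := by rw [hac, mul_assoc]
      _ = a * d := by rw [hlc']; group
  have hmap : (K.subgroupOf D).map π ≤ (T : Subgroup (D ⧸ center D)) := by
    rintro _ ⟨x, hx, rfl⟩
    rw [← cd.sz.cent _ hlZ hl1, mem_centralizer_singleton_iff, ← map_mul, ← map_mul]
    congr 1
    refine Subtype.ext ?_
    show (x : Y) * l = l * x
    have h1 : (x : Y) * (a * l⁻¹) = a * l⁻¹ * x := mem_centralizer_iff.1 hal x x.2
    have h2 : (x : Y) * a = a * x := mem_centralizer_singleton_iff.1 (hKa hx)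
    have h3 : (x : Y) * l⁻¹ = l⁻¹ * x := by
      calc (x : Y) * l⁻¹ = a⁻¹ * (a * x) * l⁻¹ := by group
        _ = a⁻¹ * (x * a) * l⁻¹ := by rw [h2]
        _ = a⁻¹ * ((x : Y) * (a * l⁻¹)) := by group
        _ = _ := by rw [h1]; group
    calc (x : Y) * l = l * (l⁻¹ * x) * l := by group
      _ = l * ((x : Y) * l⁻¹) * l := by rw [h3]
      _ = _ := by group
  refine component_not_isSolvable hK ?_
  haveI hKq : Group.IsSolvable ((K.subgroupOf D).map π) :=
    haveI : Group.IsNilpotent ((K.subgroupOf D).map π) :=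
      ((IsPGroup.to_le T.2 hmap)).isNilpotent
    inferInstance
  set f := π.subgroupMap (K.subgroupOf D)
  have hker : ∀ u ∈ f.ker, ∀ v, u * v = v * u := by
    intro u hu v
    have := mem_center_iff.1 ((QuotientGroup.eq_one_iff _).1 (congrArg Subtype.val hu)) (v : D)
    exact Subtype.ext this.symm
  haveI : Group.IsSolvable f.ker :=
    Group.isSolvable_of_comm fun u v => Subtype.ext (hker u u.2 v)
  have hs : Group.IsSolvable (K.subgroupOf D) := Group.isSolvable_of_ker_le_range f.ker.subtype f (by rw [range_subtype])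
  exact Group.isSolvable_of_surjective
    (f := ((subgroupOfEquivOfLe hKD).trans (subgroupOfEquivOfLe hKa).symm).toMonoidHom)
    (MulEquiv.surjective _)

end ClosedSetting

end CfsgLib.ThreeFree
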