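import Cfsg.Agent.Lib.ThreeFree.CompAction

/-!
The image of `B` in `L / Z(L)` is the centre of a Sylow 2-subgroup; the torus of `L`.
-/

set_option autoImplicit false
set_option linter.style.haveILetI false

namespace CfsgLib.ThreeFree

open Subgroup CfsgLib.Components

universe u

variable {Y : Type u} [Group Y] [Finite Y]

/-- What `B` does on a component it does not centralize. -/
structure CompData (B L : Subgroup Y) (S : Sylow 2 Y) (n : ℕ) (T : Sylow 2 (L ⧸ center L))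
    (Z : Subgroup (L ⧸ center L)) (h : L ⧸ center L) : Prop where
  sz : SzData (L ⧸ center L) n T Z h
  preimage : ∀ l : L, QuotientGroup.mk' (center L) l ∈ (T : Subgroup (L ⧸ center L)) →
    (l : Y) ∈ (S : Subgroup Y)
  image_mem : ∀ b ∈ B, ∀ l : L, b * (l : Y)⁻¹ ∈ centralizer (L : Set Y) →
    QuotientGroup.mk' (center L) l ∈ Z
  image_surj : ∀ z ∈ Z, ∃ b ∈ B, ∃ l : L,
    b * (l : Y)⁻¹ ∈ centralizer (L : Set Y) ∧ QuotientGroup.mk' (center L) l = z
  normalizes : ∀ l : L, (l : Y) ∈ normalizer (B : Set Y) ↔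
    QuotientGroup.mk' (center L) l ∈ normalizer ((T : Subgroup (L ⧸ center L)) : Set (L ⧸ center L))

/-- An element of odd order over an element of odd order of a quotient. -/
theorem exists_odd_lift {L : Type u} [Group L] [Finite L] (N : Subgroup L) [N.Normal] (h : L ⧸ N)
    (ho : Odd (orderOf h)) : ∃ x : L, QuotientGroup.mk' N x = h ∧ Odd (orderOf x) := by
  obtain ⟨y, rfl⟩ := QuotientGroup.mk'_surjective N h
  obtain ⟨k, m, hm, he⟩ :=
    Nat.exists_eq_two_pow_mul_odd (n := orderOf y) (orderOf_pos y).ne'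
  obtain ⟨j, hj⟩ := exists_pow_eq_self_of_coprime (x := QuotientGroup.mk' N y) (n := 2 ^ k)
    (Nat.Coprime.pow_left k (Nat.coprime_two_left.2 ho))
  refine ⟨(y ^ 2 ^ k) ^ j, by rw [map_pow, map_pow, hj], ?_⟩
  refine Odd.of_dvd_nat (show Odd (orderOf (y ^ 2 ^ k)) from ?_) (orderOf_pow_dvd _)
  rw [orderOf_pow, he, Nat.gcd_mul_right_left, Nat.mul_div_cancel_left _ (by positivity)]
  exact hm

namespace ClosedSetting

variable {B : Subgroup Y} {S : Sylow 2 Y}

theorem comp_data (c : ClosedSetting B S) (hF : SzFactsHold.{u}) {L : Subgroup Y}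
    (hL : Cfsg.IsComponent L) (hnc : ¬ B ≤ centralizer (L : Set Y)) :
    ∃ (n : ℕ) (T : Sylow 2 (L ⧸ center L)) (Z : Subgroup (L ⧸ center L)) (h : L ⧸ center L),
      CompData B L S n T Z h := by
  haveI : Fact (Nat.Prime 2) := ⟨Nat.prime_two⟩
  obtain ⟨P, hP⟩ := CfsgLib.SubJoin.exists_sylow_subnormal S hL.1
  set π := QuotientGroup.mk' (center L) with hπ
  set T := P.mapSurjective (QuotientGroup.mk'_surjective (center L)) with hT
  obtain ⟨n, Z, h, d⟩ := hF _ (component_iso c.good hL) T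
  -- the preimage of `T` is `P`
  have hzc : ∀ z : L, z ∈ center L → (z : Y) ∈ (S : Subgroup Y) := by
    intro z hz
    refine CfsgLib.PCore.pCore_le_sylow S (component_center_le_pCore c.core hL ?_)
    rw [← map_center_subtype]
    exact ⟨z, hz, rfl⟩
  have hpre : ∀ l : L, π l ∈ (T : Subgroup (L ⧸ center L)) → (l : Y) ∈ (S : Subgroup Y) := by
    rintro l ⟨p, hp, hpl⟩
    have hpS : (p : Y) ∈ (S : Subgroup Y) := by rw [hP] at hp; exact hp
    have hz : p⁻¹ * l ∈ center L := QuotientGroup.eq.1 hpl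
    simpa using mul_mem hpS (hzc _ hz)
  -- the image of `B`
  set C := centralizer (L : Set Y) with hC
  have hBN := c.le_normalizer_component hF hL
  have hLC : ∀ l : L, (l : Y) ∈ C ↔ l ∈ center L := by
    intro l
    rw [mem_center_iff]
    exact ⟨fun h' g => Subtype.ext (mem_centralizer_iff.1 h' g g.2),
      fun h' => mem_centralizer_iff.2 fun g hg => congrArg Subtype.val (h' ⟨g, hg⟩)⟩
  have hCn : normalizer (L : Set Y) ≤ normalizer (C : Set Y) :=
    normalizer_le_normalizer_centralizer L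
  have hCc : ∀ {u v : Y}, u ∈ normalizer (L : Set Y) → v ∈ C → u * v * u⁻¹ ∈ C := fun hu hv =>
    (mem_normalizer_iff.1 (hCn hu) _).1 hv
  have hl2 : ∀ b ∈ B, ∀ l : L, b * (l : Y)⁻¹ ∈ C → l * l ∈ center L := by
    intro b hb l hl
    rw [← hLC]
    have hcl : (b * (l : Y)⁻¹) * l = l * (b * (l : Y)⁻¹) :=
      (mem_centralizer_iff.1 hl l l.2).symm
    have h1 : (b * (l : Y)⁻¹) * (b * (l : Y)⁻¹) * ((l : Y) * l) = 1 := by
      calc (b * (l : Y)⁻¹) * (b * (l : Y)⁻¹) * ((l : Y) * l)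
          = (b * (l : Y)⁻¹) * ((b * (l : Y)⁻¹) * l) * l := by group
        _ = (b * (l : Y)⁻¹) * (l * (b * (l : Y)⁻¹)) * l := by rw [hcl]
        _ = b * b := by group
        _ = 1 := c.sq hb
    rw [show ((l * l : L) : Y) = ((b * (l : Y)⁻¹) * (b * (l : Y)⁻¹))⁻¹ from
      eq_inv_of_mul_eq_one_right h1]
    exact C.inv_mem (mul_mem hl hl)
  have himg : ∀ b ∈ B, ∀ l : L, b * (l : Y)⁻¹ ∈ C → π l ∈ Z := by
    let Bq : Subgroup (L ⧸ center L) := (((B ⊔ C) ⊓ L).subgroupOf L).map π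
    have hBqmem : ∀ b ∈ B, ∀ l : L, b * (l : Y)⁻¹ ∈ C → π l ∈ Bq := by
      intro b hb l hl
      refine mem_map_of_mem π (mem_subgroupOf.2 ⟨?_, l.2⟩)
      have : (l : Y) = (b * (l : Y)⁻¹)⁻¹ * b := by group
      rw [this]
      exact mul_mem (mem_sup_right (C.inv_mem hl)) (mem_sup_left hb)
    have hBqS : ∀ y ∈ Bq, y * y = 1 := by
      rintro _ ⟨l, hl, rfl⟩
      replace hl : (l : Y) ∈ (B ⊔ C) ⊓ L := hl
      obtain ⟨b, hb, e, he, hbe⟩ :=
        CfsgLib.Coprime.exists_mul_of_mem_sup (hBN.trans hCn) hl.1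
      rw [← map_mul]
      refine (QuotientGroup.eq_one_iff _).2 (hl2 b hb l ?_)
      rw [hbe]
      have := hCc (hBN hb) (C.inv_mem he)
      simpa [mul_assoc] using this
    have hBqn : (T : Subgroup (L ⧸ center L)) ≤ normalizer (Bq : Set (L ⧸ center L)) := by
      rw [le_normalizer_iff]
      rintro _ ⟨p, hp, rfl⟩ _ ⟨l, hl, rfl⟩
      have hpS : (p : Y) ∈ (S : Subgroup Y) := by rw [hP] at hp; exact hp
      replace hl : (l : Y) ∈ (B ⊔ C) ⊓ L := hl
      have hn : (p : Y) ∈ normalizer ((B ⊔ C : Subgroup Y) : Set Y) :=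
        normalizer_inf_normalizer_le_normalizer_sup B C
          (Subgroup.mem_inf.2 ⟨c.sylow_le_normalizer hpS, hCn (le_normalizer p.2)⟩)
      rw [← map_inv, ← map_mul, ← map_mul]
      exact mem_map_of_mem π (mem_subgroupOf.2
        ⟨(mem_normalizer_iff.1 hn _).1 hl.1, mul_mem (mul_mem p.2 hl.2) (L.inv_mem p.2)⟩)
    have hBqT : Bq ≤ (T : Subgroup (L ⧸ center L)) := by
      have h2 : IsPGroup 2 Bq := fun y => ⟨1, Subtype.ext (by simpa [pow_two] using hBqS y y.2)⟩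
      have := IsPGroup.to_sup_of_normal_right' T.2 h2 hBqn
      exact (T.is_maximal' this le_sup_left) ▸ le_sup_right
    exact fun b hb l hl => d.invol_mem _ (hBqT (hBqmem b hb l hl)) (hBqS _ (hBqmem b hb l hl))
  -- closure under the normalizer of `T`
  have hnorm : ∀ l : L, π l ∈ normalizer ((T : Subgroup (L ⧸ center L)) : Set (L ⧸ center L)) →
      ∀ b ∈ B, (l : Y) * b * (l : Y)⁻¹ ∈ B := by
    intro l hl b hb
    obtain ⟨m, hm, hbm⟩ := c.exists_inner hF hL hb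
    refine c.conj_mem hb ?_
    have hzl : π (l * ⟨m, hm⟩ * l⁻¹) ∈ (T : Subgroup (L ⧸ center L)) := by
      rw [map_mul, map_mul, map_inv]
      exact (mem_normalizer_iff.1 hl _).1 (d.Z_le (himg b hb ⟨m, hm⟩ hbm))
    have hmT : π ⟨m, hm⟩⁻¹ ∈ (T : Subgroup (L ⧸ center L)) := by
      rw [map_inv]; exact inv_mem (d.Z_le (himg b hb ⟨m, hm⟩ hbm))
    have h1 := hpre _ hzl
    have h2 := hpre _ hmT
    have e : (l : Y) * b * (l : Y)⁻¹ = b * (m⁻¹ : Y) * ((l : Y) * m * (l : Y)⁻¹) := by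
      have hc : (l : Y) * (b * m⁻¹) = (b * m⁻¹) * l := mem_centralizer_iff.1 hbm l l.2
      calc (l : Y) * b * (l : Y)⁻¹ = ((l : Y) * (b * m⁻¹)) * m * (l : Y)⁻¹ := by group
        _ = _ := by rw [hc]; group
    rw [e]
    refine mul_mem (mul_mem (c.le hb) ?_) ?_
    · simpa using h2
    · simpa using h1
  refine ⟨n, T, Z, h, d, hpre, himg, ?_, fun l => ⟨fun hl => ?_, fun hl => ?_⟩⟩
  · obtain ⟨b₀, hb₀, hb₀C⟩ : ∃ b ∈ B, b ∉ C := SetLike.not_le_iff_exists.1 hnc
    obtain ⟨m, hm, hbm⟩ := c.exists_inner hF hL hb₀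
    have hz₀ : π ⟨m, hm⟩ ≠ 1 := fun e => hb₀C (by
      have := (hLC ⟨m, hm⟩).2 ((QuotientGroup.eq_one_iff _).1 e)
      simpa using mul_mem hbm this)
    intro z hz
    rcases eq_or_ne z 1 with rfl | hz1
    · exact ⟨1, B.one_mem, 1, by simp, map_one _⟩
    obtain ⟨k, hk⟩ := d.trans _ (himg b₀ hb₀ ⟨m, hm⟩ hbm) z hz hz₀ hz1
    obtain ⟨x, hx⟩ := QuotientGroup.mk'_surjective (center L) (h ^ k)
    refine ⟨(x : Y) * b₀ * (x : Y)⁻¹, hnorm x (by rw [hπ, hx]; exact pow_mem d.h_mem k) b₀ hb₀,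
      x * ⟨m, hm⟩ * x⁻¹, ?_, ?_⟩
    · have := hCc (le_normalizer x.2) hbm
      simpa [mul_assoc] using this
    · rw [map_mul, map_mul, map_inv, hx, hk]
  · -- elements normalizing `B` normalize the image
    rw [← d.norm_Z, mem_normalizer_iff]
    have key : ∀ l : L, (l : Y) ∈ normalizer (B : Set Y) → ∀ z ∈ Z, π l * z * (π l)⁻¹ ∈ Z := by
      intro l hl z hz
      obtain ⟨b, hb, m, hbm, rfl⟩ : ∃ b ∈ B, ∃ m : L, b * (m : Y)⁻¹ ∈ C ∧ π m = z := by
        obtain ⟨b₀, hb₀, hb₀C⟩ : ∃ b ∈ B, b ∉ C := SetLike.not_le_iff_exists.1 hnc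
        obtain ⟨m, hm, hbm⟩ := c.exists_inner hF hL hb₀
        have hz₀ : π ⟨m, hm⟩ ≠ 1 := fun e => hb₀C (by
          have := (hLC ⟨m, hm⟩).2 ((QuotientGroup.eq_one_iff _).1 e)
          simpa using mul_mem hbm this)
        rcases eq_or_ne z 1 with rfl | hz1
        · exact ⟨1, B.one_mem, 1, by simp, map_one _⟩
        obtain ⟨k, hk⟩ := d.trans _ (himg b₀ hb₀ ⟨m, hm⟩ hbm) z hz hz₀ hz1
        obtain ⟨x, hx⟩ := QuotientGroup.mk'_surjective (center L) (h ^ k)
        refine ⟨(x : Y) * b₀ * (x : Y)⁻¹, hnorm x (by rw [hπ, hx]; exact pow_mem d.h_mem k) b₀ hb₀,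
          x * ⟨m, hm⟩ * x⁻¹, ?_, ?_⟩
        · have := hCc (le_normalizer x.2) hbm
          simpa [mul_assoc] using this
        · rw [map_mul, map_mul, map_inv, hx, hk]
      rw [← map_inv, ← map_mul, ← map_mul]
      refine himg _ ((mem_normalizer_iff.1 hl _).1 hb) _ ?_
      have := hCc (le_normalizer l.2) hbm
      simpa [mul_assoc] using this
    refine fun z => ⟨key l hl z, fun hz => ?_⟩
    have := key l⁻¹ (by simpa using inv_mem hl) _ hz
    rwa [map_inv, show (π l)⁻¹ * (π l * z * (π l)⁻¹) * (π l)⁻¹⁻¹ = z by group] at this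
  · rw [mem_normalizer_iff]
    refine fun b => ⟨hnorm l hl b, fun hb => ?_⟩
    have := hnorm l⁻¹ (by rw [map_inv]; exact inv_mem hl) _ hb
    simpa [mul_assoc] using this

end ClosedSetting

end CfsgLib.ThreeFree
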