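import Cfsg.Agent.Lib.ThreeFree.CompCentral

/-!
The decomposition of `B` with respect to a component that it moves: `B = Z × C_B(L)` with `Z ≤ L`
the commutators with an element of a torus, which is transitive on the nontrivial elements of `Z`.
-/

set_option autoImplicit false
set_option linter.style.haveILetI false

namespace CfsgLib.ThreeFree

open Subgroup CfsgLib.Components

universe u

variable {Y : Type u} [Group Y] [Finite Y]

/-- The decomposition of `B` given by a torus element `x` of `L`. -/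
structure TorusData (B L : Subgroup Y) (n : ℕ) (Z : Subgroup Y) (x : Y) : Prop where
  odd_n : Odd n
  three_le : 3 ≤ n
  le_B : Z ≤ B
  le_L : Z ≤ L
  x_mem : x ∈ L
  x_norm : x ∈ normalizer (B : Set Y)
  inf : Z ⊓ (B ⊓ centralizer (L : Set Y)) = ⊥
  sup : ∀ b ∈ B, ∃ z ∈ Z, ∃ c ∈ B ⊓ centralizer (L : Set Y), b = z * c
  card : Nat.card Z = 2 ^ n
  trans : ∀ z ∈ Z, ∀ z' ∈ Z, z ≠ 1 → z' ≠ 1 → ∃ k : ℕ, x ^ k * z * (x ^ k)⁻¹ = z'
  fpf2 : ∀ z ∈ Z, z ≠ 1 → x ^ 2 * z * (x ^ 2)⁻¹ ≠ z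
  fix_two : ∀ y ∈ normalizer (L : Set Y), (∃ k : ℕ, y ^ (2 ^ k) = 1) →
    (∀ z ∈ Z, y * z * y⁻¹ ∈ Z) → ∀ z ∈ Z, y * z * y⁻¹ = z

namespace ClosedSetting

variable {B : Subgroup Y} {S : Sylow 2 Y}

theorem torus_data (c : ClosedSetting B S) (hF : SzFactsHold.{u}) {L : Subgroup Y}
    (hL : Cfsg.IsComponent L) (hnc : ¬ B ≤ centralizer (L : Set Y)) :
    ∃ (n : ℕ) (Z : Subgroup Y) (x : Y), TorusData B L n Z x := by
  haveI : Fact (Nat.Prime 2) := ⟨Nat.prime_two⟩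
  obtain ⟨n, T, Zs, h, cd⟩ := c.comp_data hF hL hnc
  have d := cd.sz
  set π := QuotientGroup.mk' (center L) with hπ
  obtain ⟨x, hx⟩ := QuotientGroup.mk'_surjective (center L) h
  set C := B ⊓ centralizer (L : Set Y) with hC
  have hcl : ∀ l : L, (l : Y) ∈ centralizer (L : Set Y) ↔ π l = 1 := by
    intro l
    rw [hπ, QuotientGroup.mk'_apply, QuotientGroup.eq_one_iff, mem_center_iff]
    exact ⟨fun h' g => Subtype.ext (mem_centralizer_iff.1 h' g g.2),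
      fun h' => mem_centralizer_iff.2 fun g hg => congrArg Subtype.val (h' ⟨g, hg⟩)⟩
  have hxn : (x : Y) ∈ normalizer (B : Set Y) := (cd.normalizes x).2 (by
    rw [show QuotientGroup.mk' (center L) x = h from hx]; exact d.h_mem)
  have hxB : ∀ b ∈ B, (x : Y) * b * (x : Y)⁻¹ ∈ B := fun b hb => (mem_normalizer_iff.1 hxn b).1 hb
  have hne : ∀ i : ℕ, i = 1 ∨ i = 2 → h ^ i ≠ 1 := by
    intro i hi e
    have h1 := Nat.le_of_dvd (by omega) (orderOf_dvd_of_pow_eq_one e)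
    rw [d.h_order] at h1
    have : 2 ^ 3 ≤ 2 ^ n := Nat.pow_le_pow_right (by norm_num) d.three_le
    omega
  -- fixed points of the torus element
  have hfix : ∀ i : ℕ, i = 1 ∨ i = 2 → ∀ b ∈ B,
      (x : Y) ^ i * b * ((x : Y) ^ i)⁻¹ = b → b ∈ C := by
    intro i hi b hb he
    obtain ⟨l, hl, hbl⟩ := c.exists_inner hF hL hb
    have hc : (x : Y) ^ i * (b * l⁻¹) = b * l⁻¹ * (x : Y) ^ i :=
      mem_centralizer_iff.1 hbl _ (L.pow_mem x.2 i)
    have hxl : x ^ i * ⟨l, hl⟩ = ⟨l, hl⟩ * x ^ i := by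
      refine Subtype.ext ?_
      show (x : Y) ^ i * l = l * (x : Y) ^ i
      have h1 : (x : Y) ^ i * b = b * (x : Y) ^ i := mul_inv_eq_iff_eq_mul.1 he
      calc (x : Y) ^ i * l = (b * l⁻¹)⁻¹ * ((b * l⁻¹) * (x : Y) ^ i) * l := by group
        _ = (b * l⁻¹)⁻¹ * ((x : Y) ^ i * b) := by rw [← hc]; group
        _ = l * (x : Y) ^ i := by rw [h1]; group
    have hl1 : π ⟨l, hl⟩ = 1 := by
      refine d.h_fpf i (hne i hi) _ (d.Z_le (cd.image_mem b hb ⟨l, hl⟩ hbl)) ?_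
      rw [← hx, ← map_pow, ← map_mul, ← map_mul, hxl]
    refine Subgroup.mem_inf.2 ⟨hb, ?_⟩
    simpa using mul_mem hbl ((hcl ⟨l, hl⟩).2 hl1)
  -- the commutator map
  let f : B →* B :=
    { toFun := fun b => b * ⟨(x : Y) * b * (x : Y)⁻¹, hxB b b.2⟩
      map_one' := Subtype.ext (by simp)
      map_mul' := fun a b => Subtype.ext (by
        show (a : Y) * b * ((x : Y) * ((a : Y) * b) * (x : Y)⁻¹) =
          a * ((x : Y) * a * (x : Y)⁻¹) * (b * ((x : Y) * b * (x : Y)⁻¹))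
        calc (a : Y) * b * ((x : Y) * ((a : Y) * b) * (x : Y)⁻¹)
            = a * (b * ((x : Y) * a * (x : Y)⁻¹)) * ((x : Y) * b * (x : Y)⁻¹) := by group
          _ = a * ((x : Y) * a * (x : Y)⁻¹ * b) * ((x : Y) * b * (x : Y)⁻¹) := by
            rw [c.comm b.2 (hxB a a.2)]
          _ = _ := by group) }
  have hfval : ∀ b : B, (f b : Y) = b * ((x : Y) * b * (x : Y)⁻¹) := fun b => rfl
  have hker : ∀ b : B, f b = 1 ↔ (b : Y) ∈ C := by
    intro b
    have hbb : (b : Y)⁻¹ = b := inv_eq_of_mul_eq_one_right (c.sq b.2)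
    constructor
    · intro e
      refine hfix 1 (Or.inl rfl) b b.2 ?_
      have e' : (b : Y) * ((x : Y) * b * (x : Y)⁻¹) = 1 := congrArg Subtype.val e
      rw [pow_one, ← inv_eq_of_mul_eq_one_right e', hbb]
    · intro hbC
      refine Subtype.ext ?_
      rw [hfval, mem_centralizer_iff.1 hbC.2 x x.2, mul_inv_cancel_right, c.sq b.2]
      rfl
  set Z := f.range.map B.subtype with hZ
  have hZmem : ∀ z, z ∈ Z ↔ ∃ b : B, (f b : Y) = z := by
    intro z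
    rw [hZ]
    constructor
    · rintro ⟨_, ⟨b, rfl⟩, rfl⟩; exact ⟨b, rfl⟩
    · rintro ⟨b, rfl⟩; exact ⟨_, ⟨b, rfl⟩, rfl⟩
  have hZB : Z ≤ B := map_subtype_le _
  have hZL : Z ≤ L := by
    intro z hz
    obtain ⟨b, rfl⟩ := (hZmem z).1 hz
    have hbn := c.le_normalizer_component hF hL b.2
    rw [hfval, show (b : Y) * ((x : Y) * b * (x : Y)⁻¹) = (b * x * (b : Y)⁻¹) * (x : Y)⁻¹ by
      rw [inv_eq_of_mul_eq_one_right (c.sq b.2)]; group]
    exact mul_mem ((mem_normalizer_iff.1 hbn _).1 x.2) (L.inv_mem x.2)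
  have hinf : Z ⊓ C = ⊥ := by
    refine (Subgroup.eq_bot_iff_forall _).2 fun z hz => ?_
    obtain ⟨b, rfl⟩ := (hZmem z).1 hz.1
    have h1 : (x : Y) * (f b : Y) * (x : Y)⁻¹ = f b := by
      rw [mem_centralizer_iff.1 (Subgroup.mem_inf.1 hz.2).2 x x.2, mul_inv_cancel_right]
    rw [hfval] at h1
    set b' := (x : Y) * b * (x : Y)⁻¹ with hb'
    have h2 : (x : Y) * b' * (x : Y)⁻¹ = b := by
      have h3 : b' * ((x : Y) * b' * (x : Y)⁻¹) = b' * b := by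
        rw [c.comm (hxB b b.2) b.2]
        refine Eq.trans ?_ h1
        rw [hb']; group
      exact mul_left_cancel h3
    have hbC := hfix 2 (Or.inr rfl) b b.2 (by
      rw [hb'] at h2
      refine Eq.trans ?_ h2
      rw [pow_two]
      group)
    rw [(hker b).2 hbC]
    rfl
  have hsup : ∀ b ∈ B, ∃ z ∈ Z, ∃ e ∈ C, b = z * e := by
    intro b hb
    let g : Z → Z := fun z => ⟨f ⟨z, hZB z.2⟩, (hZmem _).2 ⟨_, rfl⟩⟩
    have hg : Function.Injective g := by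
      intro u v e
      have e' : f ⟨u, hZB u.2⟩ = f ⟨v, hZB v.2⟩ := Subtype.ext (congrArg Subtype.val e :)
      have h1 : f (⟨u, hZB u.2⟩ * ⟨v, hZB v.2⟩⁻¹) = 1 := by rw [map_mul, map_inv, e', mul_inv_cancel]
      have h2 : (u : Y) * (v : Y)⁻¹ ∈ Z ⊓ C :=
        Subgroup.mem_inf.2 ⟨mul_mem u.2 (Z.inv_mem v.2), (hker _).1 h1⟩
      rw [hinf, Subgroup.mem_bot, mul_inv_eq_one] at h2
      exact Subtype.ext h2
    obtain ⟨z, hz⟩ := (Finite.injective_iff_surjective.1 hg)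
      ⟨f ⟨b, hb⟩, (hZmem _).2 ⟨_, rfl⟩⟩
    have e' : f ⟨z, hZB z.2⟩ = f ⟨b, hb⟩ := Subtype.ext (congrArg Subtype.val hz :)
    refine ⟨z, z.2, (z : Y)⁻¹ * b, ?_, by group⟩
    exact (hker (⟨z, hZB z.2⟩⁻¹ * ⟨b, hb⟩)).1 (by rw [map_mul, map_inv, e', inv_mul_cancel])
  -- the image of `Z` in `L / Z(L)`
  have himg : ∀ z (hz : z ∈ Z), π ⟨z, hZL hz⟩ ∈ Zs := fun z hz =>
    cd.image_mem z (hZB hz) ⟨z, hZL hz⟩ (by simp)
  have hinj : ∀ z (hz : z ∈ Z) z' (hz' : z' ∈ Z),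
      π ⟨z, hZL hz⟩ = π ⟨z', hZL hz'⟩ → z = z' := by
    intro z hz z' hz' e
    have h1 : π (⟨z, hZL hz⟩ * ⟨z', hZL hz'⟩⁻¹) = 1 := by rw [map_mul, map_inv, e, mul_inv_cancel]
    have h2 : z * z'⁻¹ ∈ Z ⊓ C := Subgroup.mem_inf.2 ⟨mul_mem hz (Z.inv_mem hz'),
      Subgroup.mem_inf.2 ⟨mul_mem (hZB hz) (B.inv_mem (hZB hz')), (hcl _).2 h1⟩⟩
    rw [hinf, Subgroup.mem_bot, mul_inv_eq_one] at h2
    exact h2
  have hsurj : ∀ w ∈ Zs, ∃ z, ∃ hz : z ∈ Z, π ⟨z, hZL hz⟩ = w := by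
    intro w hw
    obtain ⟨b, hb, l, hbl, rfl⟩ := cd.image_surj w hw
    obtain ⟨z, hz, e, he, rfl⟩ := hsup b hb
    refine ⟨z, hz, (QuotientGroup.eq.2 ?_)⟩
    rw [mem_center_iff]
    have h1 : z⁻¹ * (l : Y) ∈ centralizer (L : Set Y) := by
      have hez : z * e = e * z := c.comm (hZB hz) he.1
      have h2 : (l : Y) * z⁻¹ ∈ centralizer (L : Set Y) := by
        have : (l : Y) * z⁻¹ = (z * e * (l : Y)⁻¹)⁻¹ * e := by rw [hez]; group
        rw [this]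
        exact mul_mem (inv_mem hbl) he.2
      have : z⁻¹ * (l : Y) = (l : Y) * z⁻¹ := by
        calc z⁻¹ * (l : Y) = z⁻¹ * ((l : Y) * z⁻¹ * z) := by group
          _ = z⁻¹ * (z * ((l : Y) * z⁻¹)) := by rw [mem_centralizer_iff.1 h2 z (hZL hz)]
          _ = _ := by group
      rw [this]
      exact h2
    exact fun g => Subtype.ext (mem_centralizer_iff.1 h1 g g.2)
  refine ⟨n, Z, x, d.odd_n, d.three_le, hZB, hZL, x.2, hxn, hinf, hsup, ?_, ?_, ?_, ?_⟩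
  · rw [← d.card_Z]
    refine Nat.card_congr (Equiv.ofBijective (fun z : Z => (⟨_, himg z z.2⟩ : Zs)) ⟨?_, ?_⟩)
    · exact fun u v e => Subtype.ext (hinj u u.2 v v.2 (congrArg Subtype.val e))
    · rintro ⟨w, hw⟩
      obtain ⟨z, hz, e⟩ := hsurj w hw
      exact ⟨⟨z, hz⟩, Subtype.ext e⟩
  · intro z hz z' hz' h1 h1'
    have hxZ : ∀ k : ℕ, ∀ u ∈ Z, (x : Y) ^ k * u * ((x : Y) ^ k)⁻¹ ∈ Z := by
      intro k
      induction k with
      | zero => intro u hu; simpa using hu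
      | succ k ih =>
        intro u hu
        obtain ⟨b, hb⟩ := (hZmem _).1 (ih u hu)
        refine (hZmem _).2 ⟨⟨_, hxB b b.2⟩, ?_⟩
        rw [pow_succ', show (x : Y) * (x : Y) ^ k * u * ((x : Y) * (x : Y) ^ k)⁻¹ =
          (x : Y) * ((x : Y) ^ k * u * ((x : Y) ^ k)⁻¹) * (x : Y)⁻¹ by group, ← hb, hfval, hfval]
        group
    have hπ1 : ∀ u (hu : u ∈ Z), u ≠ 1 → π ⟨u, hZL hu⟩ ≠ 1 := fun u hu hu1 e =>
      hu1 (hinj u hu 1 Z.one_mem (e.trans (map_one π).symm))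
    obtain ⟨k, hk⟩ := d.trans _ (himg z hz) _ (himg z' hz') (hπ1 z hz h1) (hπ1 z' hz' h1')
    refine ⟨k, hinj _ (hxZ k z hz) _ hz' ?_⟩
    rw [← hk, ← hx, ← map_pow, ← map_inv, ← map_mul, ← map_mul]
    rfl
  · intro z hz h1 e
    exact h1 ((Subgroup.eq_bot_iff_forall _).1 hinf z ⟨hz, hfix 2 (Or.inr rfl) z (hZB hz) e⟩)
  · intro y hy ⟨k, hk⟩ hyZ z hz
    set α := automizerHom L ⟨y, hy⟩ with hα
    have hα2 : α ^ (2 ^ k) = 1 := by
      rw [hα, ← map_pow, show (⟨y, hy⟩ : normalizer (L : Set Y)) ^ (2 ^ k) = 1 from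
        Subtype.ext hk, map_one]
    have hαz : ∀ u (hu : u ∈ Z), α (π ⟨u, hZL hu⟩) = π ⟨y * u * y⁻¹, hZL (hyZ u hu)⟩ :=
      fun u hu => rfl
    obtain ⟨t, ht⟩ := d.aut_two α ⟨k, hα2⟩
    have htZ : ∀ w ∈ Zs, t * w * t⁻¹ ∈ Zs := by
      intro w hw
      obtain ⟨u, hu, rfl⟩ := hsurj w hw
      rw [← MulAut.conj_apply, ← ht, hαz u hu]
      exact himg _ (hyZ u hu)
    have htN : t ∈ normalizer ((T : Subgroup (L ⧸ center L)) : Set (L ⧸ center L)) := by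
      rw [← d.norm_Z]
      exact mem_normalizer_fintype htZ
    have htT : t ∈ (T : Subgroup (L ⧸ center L)) := by
      obtain ⟨w, hw, hw1⟩ : ∃ w ∈ Zs, w ≠ 1 := by
        refine (Subgroup.bot_or_exists_ne_one Zs).resolve_left fun e => ?_
        have := d.card_Z
        rw [e, Subgroup.card_bot] at this
        have : 2 ^ 3 ≤ 2 ^ n := Nat.pow_le_pow_right (by norm_num) d.three_le
        omega
      have h1 : t ^ (2 ^ k) ∈ (T : Subgroup (L ⧸ center L)) := by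
        rw [← d.cent w hw hw1, mem_centralizer_singleton_iff]
        have := DFunLike.congr_fun hα2 w
        rw [ht, ← map_pow, MulAut.conj_apply, MulAut.one_apply] at this
        exact mul_inv_eq_iff_eq_mul.1 this
      obtain ⟨j, hj⟩ := T.2 ⟨_, h1⟩
      have h2 : IsPGroup 2 (zpowers t) := by
        have e : t ^ (2 ^ (k + j)) = 1 := by
          rw [pow_add, pow_mul]
          exact congrArg Subtype.val hj
        obtain ⟨i, -, hi⟩ := (Nat.dvd_prime_pow Nat.prime_two).1 (orderOf_dvd_of_pow_eq_one e)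
        exact IsPGroup.of_card (n := i) (by rw [Nat.card_zpowers, hi])
      have h3 : IsPGroup 2 ((zpowers t ⊔ T : Subgroup (L ⧸ center L))) :=
        IsPGroup.to_sup_of_normal_right' h2 T.2 (zpowers_le.2 htN)
      exact (T.is_maximal' h3 le_sup_right) ▸ mem_sup_left (mem_zpowers t)
    refine hinj _ (hyZ z hz) z hz ?_
    rw [← hαz z hz, ht, MulAut.conj_apply, ← d.Z_comm _ (himg z hz) t htT, mul_inv_cancel_right]

end ClosedSetting

end CfsgLib.ThreeFree
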