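import Mathlib
import Cfsg.Prelude.Def_Sz
import Cfsg.Prelude.Def_Local

/-!
The facts about the Suzuki groups used in the reduction of simple groups of order prime to `3`.
-/

set_option autoImplicit false

namespace CfsgLib.ThreeFree

open Subgroup

universe u

/-- The Suzuki data of a group: `T` a Sylow 2-subgroup, `Z` its centre, `h` a generator of a torus. -/
structure SzData (Q : Type u) [Group Q] (n : ℕ) (T : Sylow 2 Q) (Z : Subgroup Q) (h : Q) : Prop where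
  odd_n : Odd n
  three_le : 3 ≤ n
  card : Nat.card Q = (2 ^ n) ^ 2 * ((2 ^ n) ^ 2 + 1) * (2 ^ n - 1)
  card_T : Nat.card (T : Subgroup Q) = (2 ^ n) ^ 2
  card_Z : Nat.card Z = 2 ^ n
  Z_le : Z ≤ (T : Subgroup Q)
  Z_sq : ∀ z ∈ Z, z * z = 1
  Z_comm : ∀ z ∈ Z, ∀ x ∈ (T : Subgroup Q), z * x = x * z
  invol_mem : ∀ x ∈ (T : Subgroup Q), x * x = 1 → x ∈ Z
  cent : ∀ z ∈ Z, z ≠ 1 → centralizer ({z} : Set Q) = (T : Subgroup Q)
  norm_Z : normalizer (Z : Set Q) = normalizer ((T : Subgroup Q) : Set Q)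
  index_R : (normalizer ((T : Subgroup Q) : Set Q)).index = (2 ^ n) ^ 2 + 1
  maximal : ∀ K : Subgroup Q, normalizer ((T : Subgroup Q) : Set Q) ≤ K →
    K = normalizer ((T : Subgroup Q) : Set Q) ∨ K = ⊤
  ti : ∀ g ∉ normalizer ((T : Subgroup Q) : Set Q), ∀ x ∈ (T : Subgroup Q),
    g⁻¹ * x * g ∈ (T : Subgroup Q) → x = 1
  h_mem : h ∈ normalizer ((T : Subgroup Q) : Set Q)
  h_order : orderOf h = 2 ^ n - 1
  h_fpf : ∀ k : ℕ, h ^ k ≠ 1 → ∀ x ∈ (T : Subgroup Q), h ^ k * x = x * h ^ k → x = 1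
  gen_R : (T : Subgroup Q) ⊔ zpowers h = normalizer ((T : Subgroup Q) : Set Q)
  trans : ∀ z ∈ Z, ∀ z' ∈ Z, z ≠ 1 → z' ≠ 1 → ∃ k : ℕ, h ^ k * z * (h ^ k)⁻¹ = z'
  fix_h : ∀ k : ℕ, h ^ k ≠ 1 →
    {c : Q ⧸ normalizer ((T : Subgroup Q) : Set Q) | h ^ k • c = c}.ncard = 2
  fix_z : ∀ z ∈ Z, z ≠ 1 → ∀ g : Q, g⁻¹ * z * g ∈ normalizer ((T : Subgroup Q) : Set Q) →
    g ∈ normalizer ((T : Subgroup Q) : Set Q)
  gen : ∀ g ∉ normalizer ((T : Subgroup Q) : Set Q), Z ⊔ Z.map (MulAut.conj g).toMonoidHom = ⊤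
  aut_two : ∀ α : MulAut Q, (∃ j : ℕ, α ^ (2 ^ j) = 1) → ∃ x : Q, α = MulAut.conj x
  aut_fixZ : ∀ α : MulAut Q, (∀ z ∈ Z, α z = z) → ∃ t ∈ (T : Subgroup Q), α = MulAut.conj t
  aut_bound : ∀ K : Subgroup (MulAut Q), (∀ α ∈ K, ∀ x ∈ (T : Subgroup Q), α x ∈ (T : Subgroup Q)) →
    (∀ α ∈ K, ∀ k : ℕ, h ^ k ≠ 1 → ∃ z ∈ Z, α z ≠ h ^ k * z * (h ^ k)⁻¹) →
    {f : Z → Q | ∃ α ∈ K, f = fun z : Z => α (z : Q)}.ncard ≤ n

/-- Every non-abelian simple section is a Suzuki group and `3` does not divide the order. -/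
structure SzGood (G : Type u) [Group G] : Prop where
  three : ¬ 3 ∣ Nat.card G
  sections : ∀ (H : Subgroup G) (N : Subgroup H) [N.Normal],
    IsSimpleGroup (H ⧸ N) → ¬ IsMulCommutative (H ⧸ N) → Cfsg.Lie.IsoSuzuki (H ⧸ N)

/-- The existence of Suzuki data, as a proposition. -/
def SzFactsHold : Prop :=
  ∀ (L : Type u) [Group L] [Finite L], Cfsg.Lie.IsoSuzuki L → ∀ T : Sylow 2 L,
    ∃ (n : ℕ) (Z : Subgroup L) (h : L), SzData L n T Z h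

end CfsgLib.ThreeFree
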