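import Mathlib
import Cfsg.Agent.Lib.ThreeFree.SzData

/-!
Inheritance of the hypothesis on the simple sections.
-/

set_option autoImplicit false

namespace CfsgLib.ThreeFree

open Subgroup

universe u

theorem isoSuzuki_congr {X Y : Type u} [Group X] [Group Y] (e : X ≃* Y)
    (h : Cfsg.Lie.IsoSuzuki X) : Cfsg.Lie.IsoSuzuki Y := by
  obtain ⟨F, hF, hF', m, hm, hq, ⟨i⟩⟩ := h
  exact ⟨F, hF, hF', m, hm, hq, ⟨e.symm.trans i⟩⟩

theorem SzGood.of_surjective {G Γ : Type u} [Group G] [Group Γ] (hG : SzGood G) (S : Subgroup G)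
    (f : S →* Γ) (hf : Function.Surjective f) : SzGood Γ := by
  refine ⟨fun h3 => hG.three (h3.trans ((Subgroup.card_dvd_of_surjective f hf).trans
    (card_subgroup_dvd_card S))), ?_⟩
  intro H N _ hs hnc
  set H' := (H.comap f).map S.subtype
  set eH := (H.comap f).equivMapOfInjective S.subtype S.subtype_injective
  set g : H' →* H :=
    ((f.comp (H.comap f).subtype).codRestrict H fun a => a.2).comp eH.symm.toMonoidHom
  have hg : Function.Surjective ((QuotientGroup.mk' N).comp g) := by
    refine (QuotientGroup.mk'_surjective N).comp (fun y => ?_)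
    obtain ⟨h, hh⟩ := y
    obtain ⟨s, rfl⟩ := hf h
    refine ⟨eH ⟨s, hh⟩, Subtype.ext ?_⟩
    show f ((eH.symm (eH ⟨s, hh⟩) : H.comap f) : S) = f s
    rw [eH.symm_apply_apply]
  set e := QuotientGroup.quotientKerEquivOfSurjective _ hg
  haveI := hs
  haveI := e.isSimpleGroup
  exact isoSuzuki_congr e (hG.sections H' _ inferInstance fun h => hnc ⟨⟨fun x y =>
    e.symm.injective (by rw [map_mul, map_mul]; exact h.is_comm.comm _ _)⟩⟩)

theorem SzGood.subgroup {G : Type u} [Group G] (hG : SzGood G) (S : Subgroup G) : SzGood S :=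
  hG.of_surjective S (MonoidHom.id S) Function.surjective_id

theorem SzGood.quotient {G : Type u} [Group G] (hG : SzGood G) (N : Subgroup G) [N.Normal] :
    SzGood (G ⧸ N) :=
  hG.of_surjective ⊤ ((QuotientGroup.mk' N).comp (Subgroup.topEquiv (G := G)).toMonoidHom)
    (fun y => by
      obtain ⟨x, rfl⟩ := QuotientGroup.mk'_surjective N y
      exact ⟨⟨x, mem_top x⟩, rfl⟩)

theorem SzGood.subgroupQuotient {G : Type u} [Group G] (hG : SzGood G) (S : Subgroup G)
    (N : Subgroup S) [N.Normal] : SzGood (S ⧸ N) :=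
  hG.of_surjective S (QuotientGroup.mk' N) (QuotientGroup.mk'_surjective N)

end CfsgLib.ThreeFree
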