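import Cfsg.Agent.Lib.ThreeFree.SzFacts
import Cfsg.Agent.Lib.ThreeFree.SzGood

/-!
Central extensions of Suzuki groups: the preimage of the centre of a Sylow 2-subgroup is commutative,
since an alternating form on a space of odd dimension invariant under a transitive torus vanishes.
-/

set_option autoImplicit false
set_option linter.style.haveILetI false

namespace CfsgLib.ThreeFree.Core

open Subgroup CfsgLib.SuzukiGroup
open scoped commutatorElement MatrixGroups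

universe u

section Alternating

variable {V : Type*} [Group V] [Finite V]

/-- A group with a non-degenerate alternating form with values in `ZMod 2` has square order. -/
theorem isSquare_card_of_alternating (b : V → V → ZMod 2)
    (hl : ∀ x y z, b (x * y) z = b x z + b y z) (hr : ∀ x y z, b x (y * z) = b x y + b x z)
    (ha : ∀ x, b x x = 0) (hnd : ∀ x, x ≠ 1 → ∃ y, b x y ≠ 0) : IsSquare (Nat.card V) := by
  classical
  have hone : ∀ x, b x 1 = 0 := fun x => by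
    have h := hr x 1 1
    rw [one_mul] at h
    simpa using h
  have hsym : ∀ x y, b y x = b x y := fun x y => by
    have h := ha (x * y)
    rw [hl, hr, hr, ha, ha, zero_add, add_zero] at h
    exact (CharTwo.add_eq_zero.1 h).symm
  suffices key : ∀ k, ∀ H : Subgroup V, Nat.card H = k →
      (∀ x ∈ H, x ≠ 1 → ∃ y ∈ H, b x y ≠ 0) → IsSquare k by
    refine key _ ⊤ Subgroup.card_top fun x _ hx => ?_
    obtain ⟨y, hy⟩ := hnd x hx
    exact ⟨y, mem_top y, hy⟩
  intro k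
  induction k using Nat.strong_induction_on with
  | _ k ih =>
  intro H hk hH
  rcases Subgroup.bot_or_exists_ne_one H with e | ⟨a, haH, ha1⟩
  · rw [← hk, e, Subgroup.card_bot]
    exact IsSquare.one
  obtain ⟨c, hcH, hac⟩ := hH a haH ha1
  have h01 : ∀ t : ZMod 2, t ≠ 0 → t = 1 := by decide
  have hac1 : b a c = 1 := h01 _ hac
  let f : H →* Multiplicative (ZMod 2 × ZMod 2) :=
    MonoidHom.mk' (fun v => Multiplicative.ofAdd (b a v, b c v)) fun v v' => by
      simp only [Subgroup.coe_mul, hr, ← ofAdd_add, Prod.mk_add_mk]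
  have hfa : f ⟨a, haH⟩ = Multiplicative.ofAdd ((0 : ZMod 2), (1 : ZMod 2)) := by
    show Multiplicative.ofAdd (b a a, b c a) = _
    rw [ha, hsym a c, hac1]
  have hfc : f ⟨c, hcH⟩ = Multiplicative.ofAdd ((1 : ZMod 2), (0 : ZMod 2)) := by
    show Multiplicative.ofAdd (b a c, b c c) = _
    rw [ha, hac1]
  have hsurj : Function.Surjective f := by
    intro y
    obtain ⟨⟨s, t⟩, rfl⟩ : ∃ p, Multiplicative.ofAdd p = y := ⟨_, rfl⟩
    have h2 : ∀ t : ZMod 2, t = 0 ∨ t = 1 := by decide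
    rcases h2 s with rfl | rfl <;> rcases h2 t with rfl | rfl
    · exact ⟨1, map_one f⟩
    · exact ⟨_, hfa⟩
    · exact ⟨_, hfc⟩
    · exact ⟨⟨c, hcH⟩ * ⟨a, haH⟩, by rw [map_mul, hfc, hfa, ← ofAdd_add, Prod.mk_add_mk, add_zero,
        zero_add]⟩
  have h4 : Nat.card H = Nat.card f.ker * 4 := by
    rw [← f.ker.card_mul_index, Subgroup.index_ker, MonoidHom.range_eq_top_of_surjective f hsurj,
      Subgroup.card_top, Nat.card_congr Multiplicative.toAdd, Nat.card_prod, Nat.card_zmod]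
  set H' := f.ker.map H.subtype
  have hcard' : Nat.card H' = Nat.card f.ker := Subgroup.card_map_of_injective H.subtype_injective
  have hpos : 0 < Nat.card f.ker := Nat.card_pos
  have hsq := ih (Nat.card H') (by rw [← hk, hcard', h4]; omega) H' rfl (by
    rintro x ⟨v, hv, rfl⟩ hx1
    obtain ⟨y, hy, hxy⟩ := hH v v.2 hx1
    have hv' : b a v = 0 ∧ b c v = 0 :=
      Prod.ext_iff.1 (Multiplicative.ofAdd.injective (MonoidHom.mem_ker.1 hv))
    have hvy : ∀ e ∈ ({1, a, c, c * a} : Set V), b (v : V) (y * e) ≠ 0 := by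
      intro e he
      rcases he with rfl | rfl | rfl | rfl
      · simpa using hxy
      · rw [hr, hsym e (v : V), hv'.1, add_zero]; exact hxy
      · rw [hr, hsym e (v : V), hv'.2, add_zero]; exact hxy
      · rw [hr, hr, hsym a (v : V), hsym c (v : V), hv'.1, hv'.2, add_zero, add_zero]; exact hxy
    obtain ⟨e, heH, he, hef⟩ : ∃ e : V, ∃ heH : e ∈ H, e ∈ ({1, a, c, c * a} : Set V) ∧
        f (⟨y, hy⟩ * ⟨e, heH⟩) = 1 := by
      have h2 : ∀ t : ZMod 2, t = 0 ∨ t = 1 := by decide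
      have hfy : f ⟨y, hy⟩ = Multiplicative.ofAdd (b a y, b c y) := rfl
      have hz : ∀ p : ZMod 2 × ZMod 2, Multiplicative.ofAdd p * Multiplicative.ofAdd p = 1 := by
        intro p
        rw [← ofAdd_add, CharTwo.add_self_eq_zero, ofAdd_zero]
      rcases h2 (b a y) with e1 | e1 <;> rcases h2 (b c y) with e2 | e2
      · exact ⟨1, H.one_mem, by simp, by
          rw [map_mul, hfy, e1, e2, show (⟨1, H.one_mem⟩ : H) = 1 from rfl, map_one, mul_one]; rfl⟩
      · exact ⟨a, haH, by simp, by rw [map_mul, hfy, e1, e2, hfa, hz]⟩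
      · exact ⟨c, hcH, by simp, by rw [map_mul, hfy, e1, e2, hfc, hz]⟩
      · refine ⟨c * a, mul_mem hcH haH, by simp, ?_⟩
        rw [show (⟨c * a, mul_mem hcH haH⟩ : H) = ⟨c, hcH⟩ * ⟨a, haH⟩ from rfl, map_mul, map_mul,
          hfy, e1, e2, hfc, hfa, ← ofAdd_add ((1 : ZMod 2), (0 : ZMod 2)), Prod.mk_add_mk, add_zero,
          zero_add, hz]
    exact ⟨y * e, ⟨_, hef, rfl⟩, hvy e he⟩)
  rw [← hk, h4, ← hcard']
  exact hsq.mul ⟨2, rfl⟩

end Alternating

/-- An abelian group whose squares lie in `C` has at least `[P : C]` elements of order at most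
two. -/
theorem relIndex_le_card_sq_eq_one {K : Type*} [Group K] [Finite K] {P C : Subgroup K}
    (hC : C ≤ P) (hcomm : ∀ x ∈ P, ∀ y ∈ P, x * y = y * x) (hsq : ∀ x ∈ P, x * x ∈ C) :
    C.relIndex P ≤ {x : K | x ∈ P ∧ x * x = 1}.ncard := by
  let f : P →* C := MonoidHom.mk' (fun x => ⟨x * x, hsq x x.2⟩) fun x y => Subtype.ext (by
    show (x : K) * y * (x * y) = (x : K) * x * (y * y)
    calc (x : K) * y * (x * y) = x * (y * x) * y := by group
      _ = x * (x * y) * y := by rw [hcomm x x.2 y y.2]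
      _ = _ := by group)
  have h1 : Nat.card f.ker = {x : K | x ∈ P ∧ x * x = 1}.ncard := by
    rw [← Nat.card_coe_set_eq]
    exact Nat.card_congr
      { toFun := fun x => ⟨(x : P), (x : P).2, congrArg Subtype.val x.2⟩
        invFun := fun x => ⟨⟨x.1, x.2.1⟩, Subtype.ext x.2.2⟩
        left_inv := fun x => rfl
        right_inv := fun x => rfl }
  rw [← h1]
  refine Nat.le_of_mul_le_mul_right ?_ (Nat.card_pos (α := C))
  have h2 : C.relIndex P * Nat.card C = Nat.card P := by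
    rw [relIndex, mul_comm, ← Nat.card_congr (subgroupOfEquivOfLe hC).toEquiv,
      card_mul_index]
  rw [h2, ← f.ker.card_mul_index, Subgroup.index_ker]
  exact Nat.mul_le_mul_left _ (Subgroup.card_le_card_group f.range)

/-- In a central extension of a Suzuki group the preimage of the centre of a Sylow 2-subgroup is
commutative. -/
theorem commute_preimage {K L : Type u} [Group K] [Group L] [Finite L] {n : ℕ} {T : Sylow 2 L}
    {Z : Subgroup L} {h : L} (d : SzData L n T Z h) (ρ : K →* L) (hρ : Function.Surjective ρ)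
    (hc : ρ.ker ≤ center K) {x y : K} (hx : ρ x ∈ Z) (hy : ρ y ∈ Z) : x * y = y * x := by
  classical
  by_contra hne
  have hker : ∀ u v : K, ρ u ∈ Z → ρ v ∈ Z → ⁅u, v⁆ ∈ center K := fun u v hu hv => hc (by
    rw [MonoidHom.mem_ker, map_commutatorElement, commutatorElement_eq_one_iff_mul_comm]
    exact d.Z_comm _ hu _ (d.Z_le hv))
  have hmul : ∀ u u' v : K, ρ u ∈ Z → ρ u' ∈ Z → ρ v ∈ Z → ⁅u * u', v⁆ = ⁅u, v⁆ * ⁅u', v⁆ := by
    intro u u' v hu hu' hv
    have h1 := mem_center_iff.1 (hker u' v hu' hv) u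
    calc ⁅u * u', v⁆ = (u * ⁅u', v⁆) * u⁻¹ * ⁅u, v⁆ := by simp only [commutatorElement_def]; group
      _ = ⁅u', v⁆ * ⁅u, v⁆ := by rw [h1]; group
      _ = _ := (mem_center_iff.1 (hker u' v hu' hv) _).symm
  have hzero : ∀ u v : K, ρ u = 1 → ⁅u, v⁆ = 1 := fun u v hu =>
    commutatorElement_eq_one_iff_mul_comm.2 (mem_center_iff.1 (hc hu) v).symm
  have hinv : ∀ u v : K, ⁅v, u⁆ = ⁅u, v⁆⁻¹ := fun u v => (commutatorElement_inv u v).symm
  have hsq : ∀ u v : K, ρ u ∈ Z → ρ v ∈ Z → ⁅u, v⁆ * ⁅u, v⁆ = 1 := fun u v hu hv => by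
    rw [← hmul u u v hu hu hv]
    exact hzero _ _ (by rw [map_mul]; exact d.Z_sq _ hu)
  -- values
  let Ω : Subgroup K :=
    { carrier := {c | c ∈ center K ∧ c * c = 1}
      mul_mem' := by
        rintro a c ⟨ha, ha2⟩ ⟨hc', hc2⟩
        refine ⟨mul_mem ha hc', ?_⟩
        calc a * c * (a * c) = a * (c * a) * c := by group
          _ = a * (a * c) * c := by rw [mem_center_iff.1 ha c]
          _ = (a * a) * (c * c) := by group
          _ = 1 := by rw [ha2, hc2, one_mul]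
      one_mem' := ⟨one_mem _, by group⟩
      inv_mem' := by
        rintro a ⟨ha, ha2⟩
        exact ⟨inv_mem ha, by rw [← _root_.mul_inv_rev, ha2, inv_one]⟩ }
  have hcΩ : ∀ u v : K, ρ u ∈ Z → ρ v ∈ Z → ⁅u, v⁆ ∈ Ω :=
    fun u v hu hv => ⟨hker u v hu hv, hsq u v hu hv⟩
  set c0 := ⁅x, y⁆
  have hc0 : c0 ≠ 1 := fun e => hne (commutatorElement_eq_one_iff_mul_comm.1 e)
  obtain ⟨M, hMmem, hMmax⟩ : ∃ M : Subgroup K, (M ≤ Ω ∧ c0 ∉ M) ∧
      ∀ M' : Subgroup K, M' ≤ Ω ∧ c0 ∉ M' → M ≤ M' → M' = M := by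
    obtain ⟨M, hM⟩ := zorn_le₀ {M : Subgroup K | M ≤ Ω ∧ c0 ∉ M} (by
      intro ch hch hchain
      rcases ch.eq_empty_or_nonempty with rfl | hne'
      · exact ⟨⊥, ⟨bot_le, by simpa using hc0⟩, fun z hz => absurd hz (Set.notMem_empty z)⟩
      refine ⟨sSup ch, ⟨sSup_le fun M hM => (hch hM).1, fun h0 => ?_⟩, fun z hz => le_sSup hz⟩
      obtain ⟨M, hM, h0M⟩ := (Subgroup.mem_sSup_of_directedOn hne' hchain.directedOn).1 h0
      exact (hch hM).2 h0M)
    exact ⟨M, hM.1, fun M' hM' hle => le_antisymm (hM.2 hM' hle) hle⟩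
  obtain ⟨hMΩ, hc0M⟩ := hMmem
  have hΩinv : ∀ c ∈ Ω, c⁻¹ = c := fun c hc => inv_eq_of_mul_eq_one_right hc.2
  have hcos : ∀ c ∈ Ω, c ∉ M → c * c0 ∈ M := by
    intro c hc' hcM
    have h0 : c0 ∈ M ⊔ zpowers c := by
      by_contra hcon
      refine hcM ?_
      rw [← hMmax (M ⊔ zpowers c) ⟨sup_le hMΩ (zpowers_le.2 hc'), hcon⟩ le_sup_left]
      exact mem_sup_right (mem_zpowers c)
    have hn : zpowers c ≤ normalizer (M : Set K) := by
      refine le_trans ?_ (centralizer_le_normalizer _)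
      rw [zpowers_le, mem_centralizer_iff]
      exact fun m _ => (mem_center_iff.1 hc'.1 m)
    have h0' : c0 ∈ ((M ⊔ zpowers c : Subgroup K) : Set K) := h0
    rw [coe_mul_of_right_le_normalizer_left M (zpowers c) hn] at h0'
    obtain ⟨m, hm, _, ⟨k, rfl⟩, he⟩ := h0'
    simp only at he
    rcases Int.even_or_odd k with ⟨j, rfl⟩ | ⟨j, rfl⟩
    · exfalso
      refine hc0M ?_
      rw [← he, show c ^ (j + j) = 1 by rw [← two_mul, zpow_mul, zpow_two, hc'.2, one_zpow], mul_one]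
      exact hm
    · have hj : c ^ (2 * j + 1) = c := by
        rw [zpow_add, zpow_mul, zpow_two, hc'.2, one_zpow, one_mul, zpow_one]
      rw [← he, hj, ← mul_assoc, mem_center_iff.1 (hMΩ hm).1 c]
      rw [mul_assoc, hc'.2, mul_one]
      exact hm
  let χ : K → ZMod 2 := fun c => if c ∈ M then 0 else 1
  have hχmul : ∀ a ∈ Ω, ∀ c ∈ Ω, χ (a * c) = χ a + χ c := by
    intro a ha c hc'
    by_cases h1 : a ∈ M <;> by_cases h2 : c ∈ M
    · simp [χ, h1, h2, mul_mem h1 h2]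
    · simp [χ, h1, h2, mul_mem_cancel_left h1]
    · simp [χ, h1, h2, mul_mem_cancel_right h2]
    · have h3 := mul_mem (hcos a ha h1) (hcos c hc' h2)
      have e : a * c0 * (c * c0) = a * c := by
        calc a * c0 * (c * c0) = a * (c0 * c) * c0 := by group
          _ = a * (c * c0) * c0 := by rw [mem_center_iff.1 hc'.1 c0]
          _ = a * c * (c0 * c0) := by group
          _ = _ := by rw [(hcΩ x y hx hy).2, mul_one]
      rw [e] at h3
      simp [χ, h1, h2, h3]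
      decide
  -- the form
  choose σ hσ using hρ
  have hlift : ∀ u v v' : K, ρ u ∈ Z → ρ v ∈ Z → ρ v = ρ v' → ⁅v, u⁆ = ⁅v', u⁆ := by
    intro u v v' hu hv e
    have he : ρ (v'⁻¹ * v) = 1 := by rw [map_mul, map_inv, e, inv_mul_cancel]
    calc ⁅v, u⁆ = ⁅v' * (v'⁻¹ * v), u⁆ := by rw [mul_inv_cancel_left]
      _ = _ := by rw [hmul _ _ _ (e ▸ hv) (by rw [he]; exact one_mem _) hu, hzero _ _ he, mul_one]
  have hlift' : ∀ u u' v v' : K, ρ u ∈ Z → ρ v ∈ Z → ρ u = ρ u' → ρ v = ρ v' →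
      ⁅u, v⁆ = ⁅u', v'⁆ := by
    intro u u' v v' hu hv e1 e2
    rw [hlift v u u' hv hu e1, hinv v u', hinv v' u', hlift u' v v' (e1 ▸ hu) hv e2]
  have hσZ : ∀ z : Z, ρ (σ z) ∈ Z := fun z => by rw [hσ]; exact z.2
  let b : Z → Z → ZMod 2 := fun z z' => χ ⁅σ z, σ z'⁆
  have hb : ∀ (z z' : Z) (u v : K), ρ u = z → ρ v = z' → b z z' = χ ⁅u, v⁆ := fun z z' u v e1 e2 => by
    show χ _ = _
    rw [hlift' (σ z) u (σ z') v (hσZ z) (hσZ z') (by rw [hσ, e1]) (by rw [hσ, e2])]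
  have hbl : ∀ z z' z'' : Z, b (z * z') z'' = b z z'' + b z' z'' := fun z z' z'' => by
    rw [hb (z * z') z'' (σ z * σ z') (σ z'') (by rw [map_mul, hσ, hσ]; rfl) (hσ _),
      hmul _ _ _ (hσZ z) (hσZ z') (hσZ z''), hχmul _ (hcΩ _ _ (hσZ z) (hσZ z'')) _
        (hcΩ _ _ (hσZ z') (hσZ z''))]
  have hbsym : ∀ z z' : Z, b z' z = b z z' := fun z z' => by
    show χ ⁅σ z', σ z⁆ = χ ⁅σ z, σ z'⁆
    rw [hinv, hΩinv _ (hcΩ _ _ (hσZ z) (hσZ z'))]
  have hba : ∀ z : Z, b z z = 0 := fun z => by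
    show χ ⁅σ z, σ z⁆ = 0
    rw [commutatorElement_self]
    simp [χ]
  obtain ⟨η, hη⟩ : ∃ η, ρ η = h := ⟨σ h, hσ h⟩
  have hhZ : ∀ (k : ℕ) (z : Z), h ^ k * z * (h ^ k)⁻¹ ∈ Z := fun k z =>
    (mem_normalizer_iff.1 (d.norm_Z.symm ▸ pow_mem d.h_mem k) _).1 z.2
  have hbinv : ∀ (k : ℕ) (z z' : Z),
      b ⟨_, hhZ k z⟩ ⟨_, hhZ k z'⟩ = b z z' := by
    intro k z z'
    rw [hb ⟨_, hhZ k z⟩ ⟨_, hhZ k z'⟩ (η ^ k * σ z * (η ^ k)⁻¹) (η ^ k * σ z' * (η ^ k)⁻¹)
      (by simp [hη, hσ]) (by simp [hη, hσ])]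
    show χ _ = χ ⁅σ z, σ z'⁆
    congr 1
    rw [← conjugate_commutatorElement, mem_center_iff.1 (hker _ _ (hσZ z) (hσZ z')) (η ^ k),
      mul_inv_cancel_right]
  have hnd : ∀ z : Z, z ≠ 1 → ∃ z', b z z' ≠ 0 := by
    intro z hz
    by_contra hcon
    push Not at hcon
    have hall : ∀ u u' : Z, b u u' = 0 := by
      intro u u'
      rcases eq_or_ne u 1 with rfl | hu
      · have := hbl 1 1 u'
        rw [one_mul] at this
        simpa using this
      obtain ⟨k, hk⟩ := d.trans z z.2 u u.2 (fun e => hz (Subtype.ext e)) fun e => hu (Subtype.ext e)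
      obtain ⟨j, hj⟩ : ∃ j : ℕ, h ^ k * h ^ j = 1 := ⟨orderOf h * (k + 1) - k, by
        rw [← pow_add, Nat.add_sub_cancel' (by
          have := orderOf_pos h
          nlinarith), pow_mul, pow_orderOf_eq_one, one_pow]⟩
      have e2 : (⟨_, hhZ k ⟨_, hhZ j u'⟩⟩ : Z) = u' := Subtype.ext (by
        show h ^ k * (h ^ j * (u' : L) * (h ^ j)⁻¹) * (h ^ k)⁻¹ = u'
        rw [← mul_assoc, ← mul_assoc, hj, one_mul, mul_assoc, ← _root_.mul_inv_rev, hj, inv_one,
          mul_one])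
      have e1 : (⟨_, hhZ k z⟩ : Z) = u := Subtype.ext hk
      rw [← e1, ← e2, hbinv]
      exact hcon _
    have := hb ⟨ρ x, hx⟩ ⟨ρ y, hy⟩ x y rfl rfl
    rw [hall] at this
    simp [χ, c0] at this
    exact hc0M this
  have hsquare := isSquare_card_of_alternating b hbl (fun z z' z'' => by
    rw [hbsym (z' * z'') z, hbl, hbsym z' z, hbsym z'' z]) hba hnd
  rw [d.card_Z] at hsquare
  obtain ⟨r, hr⟩ := hsquare
  obtain ⟨j, -, hj⟩ := (Nat.dvd_prime_pow Nat.prime_two).1 (Dvd.intro r hr.symm)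
  rw [hj, ← pow_add] at hr
  have := Nat.pow_right_injective le_rfl hr
  have := d.odd_n
  rw [Nat.odd_iff] at this
  omega

/-- A Sylow 2-subgroup of a Suzuki group is not commutative. -/
theorem sylow_not_comm {L : Type u} [Group L] [Finite L] (hL : Cfsg.Lie.IsoSuzuki L) (T : Sylow 2 L) :
    ∃ x ∈ (T : Subgroup L), ∃ y ∈ (T : Subgroup L), x * y ≠ y * x := by
  by_contra hcon
  push Not at hcon
  obtain ⟨F, _, _, m, hm, hF, ⟨ψ₀⟩⟩ := hL
  obtain ⟨hC, ⟨P⟩⟩ := exists_params hF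
  haveI := hC
  haveI : Fact (Nat.Prime 2) := ⟨Nat.prime_two⟩
  let S : Sylow 2 ↥(Cfsg.Lie.Sz F (2 ^ (m + 1))) :=
    T.mapSurjective (f := ψ₀.toMonoidHom) ψ₀.surjective
  obtain ⟨g, hg⟩ := MulAction.exists_smul_eq ↥(Cfsg.Lie.Sz F (2 ^ (m + 1))) S (sylowTwo P)
  have hmem : ∀ u ∈ unip P, ∃ x ∈ (T : Subgroup L), g * ψ₀ x * g⁻¹ = u := by
    intro u hu
    rw [← coe_sylowTwo P, ← hg, Sylow.coe_subgroup_smul,
      Subgroup.mem_pointwise_smul_iff_inv_smul_mem] at hu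
    obtain ⟨x, hx, e⟩ := hu
    refine ⟨x, hx, ?_⟩
    change ψ₀ x = _ at e
    rw [e]
    simp [mul_assoc]
  have hq := two_lt_card hm hF
  have hle : unip P ≤ SzModel.zsub P := by
    intro u hu
    refine (SzModel.mem_zsub_iff P hq).2 ⟨hu, fun v hv => ?_⟩
    obtain ⟨x, hx, rfl⟩ := hmem u hu
    obtain ⟨y, hy, rfl⟩ := hmem v hv
    calc g * ψ₀ x * g⁻¹ * (g * ψ₀ y * g⁻¹) = g * (ψ₀ x * ψ₀ y) * g⁻¹ := by group
      _ = g * (ψ₀ y * ψ₀ x) * g⁻¹ := by rw [← map_mul, hcon x hx y hy, map_mul]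
      _ = _ := by group
  have hmem1 : uEl P 1 0 ∈ SzModel.zsub P := hle ⟨1, 0, rfl⟩
  obtain ⟨b, hb⟩ := hmem1
  exact one_ne_zero (uEl_inj P hb).1

end CfsgLib.ThreeFree.Core
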