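import Cfsg.Agent.Lib.ThreeFree.SzData

/-!
Consequences of the Suzuki data: `T / Z` is elementary abelian and an element of `N(T)` transitive on
`Z#` is transitive on the nontrivial elements of `T / Z`.
-/

set_option autoImplicit false
set_option linter.style.haveILetI false
set_option linter.unusedSectionVars false

namespace CfsgLib.ThreeFree.Core

open Subgroup

universe u

variable {Q : Type u} [Group Q] [Finite Q] {n : ℕ} {T : Sylow 2 Q} {Z : Subgroup Q} {h : Q}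

omit [Finite Q] in
theorem SzData.eight_le (d : SzData Q n T Z h) : 8 ≤ 2 ^ n :=
  le_trans (by norm_num) (Nat.pow_le_pow_right two_pos d.three_le)

omit [Finite Q] in
theorem SzData.exists_Z_ne_one (d : SzData Q n T Z h) : ∃ z ∈ Z, z ≠ 1 := by
  refine (Subgroup.bot_or_exists_ne_one Z).resolve_left fun e => ?_
  have := d.card_Z
  rw [e, Subgroup.card_bot] at this
  have := SzData.eight_le d
  omega

omit [Finite Q] in
theorem SzData.center_trivial (d : SzData Q n T Z h) {z : Q} (hz : ∀ y, z * y = y * z) : z = 1 := by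
  by_contra hne
  obtain ⟨g, hg⟩ : ∃ g, g ∉ normalizer ((T : Subgroup Q) : Set Q) := by
    by_contra hcon
    push Not at hcon
    have := d.index_R
    rw [show normalizer ((T : Subgroup Q) : Set Q) = ⊤ from eq_top_iff.2 fun g _ => hcon g,
      index_top] at this
    have : 0 < (2 ^ n) ^ 2 := by positivity
    omega
  obtain ⟨z0, hz0, hz01⟩ := SzData.exists_Z_ne_one d
  have hzT : z ∈ (T : Subgroup Q) := by
    rw [← d.cent z0 hz0 hz01]; exact mem_centralizer_singleton_iff.2 (hz z0)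
  exact hne (d.ti g hg z hzT (by rw [mul_assoc, hz g, inv_mul_cancel_left]; exact hzT))

omit [Finite Q] in
theorem SzData.conj_inj (d : SzData Q n T Z h) {a b : Q} (e : MulAut.conj a = MulAut.conj b) :
    a = b := by
  refine inv_mul_eq_one.1 (SzData.center_trivial d fun y => ?_)
  have hy : a * y * a⁻¹ = b * y * b⁻¹ := DFunLike.congr_fun e y
  calc a⁻¹ * b * y = a⁻¹ * (b * y * b⁻¹) * b := by group
    _ = _ := by rw [← hy]; group

/-- If an element of `N(T)` moves some element of `Z` it fixes no nontrivial element of `T / Z`. -/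
private theorem fixed_mem_Z (d : SzData Q n T Z h) {i : ℕ} (hi : h ^ i ≠ 1) {x : Q}
    (hx : x ∈ (T : Subgroup Q)) (hmem : x⁻¹ * (h ^ i * x * (h ^ i)⁻¹) ∈ Z) : x ∈ Z := by
  have hZn : ∀ z ∈ Z, h ^ i * z * (h ^ i)⁻¹ ∈ Z := fun z hz =>
    (mem_normalizer_iff.1 (d.norm_Z.symm ▸ pow_mem d.h_mem i) _).1 hz
  let f : Z → Z := fun z => ⟨h ^ i * z * (h ^ i)⁻¹ * (z : Q)⁻¹, mul_mem (hZn z z.2) (inv_mem z.2)⟩
  have hf : Function.Injective f := by
    intro a b e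
    have e' : h ^ i * a * (h ^ i)⁻¹ * (a : Q)⁻¹ = h ^ i * b * (h ^ i)⁻¹ * (b : Q)⁻¹ :=
      congrArg Subtype.val e
    refine Subtype.ext (inv_mul_eq_one.1 (d.h_fpf i hi ((a : Q)⁻¹ * b)
      (mul_mem (inv_mem (d.Z_le a.2)) (d.Z_le b.2)) ?_))
    have e2 : h ^ i * b * (h ^ i)⁻¹ = h ^ i * a * (h ^ i)⁻¹ * (a : Q)⁻¹ * b := by
      rw [e', inv_mul_cancel_right]
    calc h ^ i * ((a : Q)⁻¹ * b) = (h ^ i * a * (h ^ i)⁻¹)⁻¹ * (h ^ i * b * (h ^ i)⁻¹) * h ^ i := by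
          group
      _ = _ := by rw [e2]; group
  obtain ⟨⟨z, hz⟩, hfz⟩ := (Finite.injective_iff_surjective.1 hf) ⟨_, inv_mem hmem⟩
  have e : h ^ i * z * (h ^ i)⁻¹ * z⁻¹ = (x⁻¹ * (h ^ i * x * (h ^ i)⁻¹))⁻¹ := congrArg Subtype.val hfz
  have h1 := d.h_fpf i hi (x * z) (mul_mem hx (d.Z_le hz)) (by
    have hz2 : h ^ i * z * (h ^ i)⁻¹ = (x⁻¹ * (h ^ i * x * (h ^ i)⁻¹))⁻¹ * z := by
      rw [← e, inv_mul_cancel_right]
    calc h ^ i * (x * z) = (h ^ i * x * (h ^ i)⁻¹) * (h ^ i * z * (h ^ i)⁻¹) * h ^ i := by group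
      _ = x * z * h ^ i := by rw [hz2]; group)
  rw [eq_inv_of_mul_eq_one_left h1]
  exact inv_mem hz

/-- The counting argument. -/
private theorem cover (d : SzData Q n T Z h) (g : ℕ → Q) (hg : ∀ k, ∀ x ∈ (T : Subgroup Q),
    g k * x * (g k)⁻¹ ∈ (T : Subgroup Q)) {s : Q} (hs : s ∈ (T : Subgroup Q))
    (hout : ∀ k, k < 2 ^ n - 1 → g k * s * (g k)⁻¹ ∉ Z)
    (hdist : ∀ j k, j < k → k < 2 ^ n - 1 → (g j * s * (g j)⁻¹)⁻¹ * (g k * s * (g k)⁻¹) ∉ Z)
    {t : Q} (ht : t ∈ (T : Subgroup Q)) (htZ : t ∉ Z) :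
    ∃ k, t⁻¹ * (g k * s * (g k)⁻¹) ∈ Z := by
  classical
  haveI : Fintype Q := Fintype.ofFinite Q
  let S : Finset Q := Finset.univ.filter fun x => x ∈ (T : Subgroup Q) ∧ x ∉ Z
  let P : Finset (ℕ × Q) := (Finset.range (2 ^ n - 1)) ×ˢ (Finset.univ.filter fun z => z ∈ Z)
  let F : ℕ × Q → Q := fun p => g p.1 * s * (g p.1)⁻¹ * p.2
  have hmaps : Set.MapsTo F P S := by
    rintro ⟨k, z⟩ hp
    rw [Finset.mem_coe, Finset.mem_product, Finset.mem_range, Finset.mem_filter] at hp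
    rw [Finset.mem_coe, Finset.mem_filter]
    refine ⟨Finset.mem_univ _, mul_mem (hg k s hs) (d.Z_le hp.2.2), fun h1 => hout k hp.1 ?_⟩
    simpa [F] using mul_mem h1 (inv_mem hp.2.2)
  have hinj : Set.InjOn F P := by
    rintro ⟨j, y⟩ hp ⟨k, z⟩ hq e
    rw [Finset.mem_coe, Finset.mem_product, Finset.mem_range, Finset.mem_filter] at hp hq
    have e' : g j * s * (g j)⁻¹ * y = g k * s * (g k)⁻¹ * z := e
    rcases lt_trichotomy j k with h1 | h1 | h1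
    · refine absurd ?_ (hdist j k h1 hq.1)
      have : (g j * s * (g j)⁻¹)⁻¹ * (g k * s * (g k)⁻¹) = y * z⁻¹ := by
        rw [eq_mul_inv_iff_mul_eq, mul_assoc, ← e']; group
      rw [this]
      exact mul_mem hp.2.2 (inv_mem hq.2.2)
    · subst h1
      exact Prod.ext rfl (mul_left_cancel e')
    · refine absurd ?_ (hdist k j h1 hp.1)
      have : (g k * s * (g k)⁻¹)⁻¹ * (g j * s * (g j)⁻¹) = z * y⁻¹ := by
        rw [eq_mul_inv_iff_mul_eq, mul_assoc, e']; group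
      rw [this]
      exact mul_mem hq.2.2 (inv_mem hp.2.2)
  have hZcard : (Finset.univ.filter fun z : Q => z ∈ Z).card = 2 ^ n := by
    rw [← d.card_Z, Nat.card_eq_fintype_card, Fintype.card_subtype]
  have hScard : S.card + 2 ^ n = (2 ^ n) ^ 2 := by
    rw [← d.card_T, ← hZcard, Nat.card_eq_fintype_card, Fintype.card_subtype]
    rw [← Finset.card_union_of_disjoint (by
      rw [Finset.disjoint_left]
      intro x hx hx'
      exact (Finset.mem_filter.1 hx).2.2 (Finset.mem_filter.1 hx').2)]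
    congr 1
    ext x
    simp only [S, Finset.mem_union, Finset.mem_filter, Finset.mem_univ, true_and]
    constructor
    · rintro (h1 | h1)
      exacts [h1.1, d.Z_le h1]
    · intro h1
      by_cases hx : x ∈ Z
      exacts [Or.inr hx, Or.inl ⟨h1, hx⟩]
  have hcard : S.card ≤ P.card := by
    rw [Finset.card_product, Finset.card_range, hZcard]
    have : (2 ^ n - 1) * 2 ^ n + 2 ^ n = (2 ^ n) ^ 2 := by
      have := SzData.eight_le d
      rw [← Nat.succ_mul, Nat.succ_eq_add_one, Nat.sub_add_cancel (by omega), pow_two]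
    omega
  obtain ⟨⟨k, z⟩, hp, e⟩ := Finset.surjOn_of_injOn_of_card_le F hmaps hinj hcard
    (show t ∈ (S : Set Q) from Finset.mem_coe.2 (Finset.mem_filter.2 ⟨Finset.mem_univ _, ht, htZ⟩))
  rw [Finset.mem_coe, Finset.mem_product, Finset.mem_filter] at hp
  refine ⟨k, ?_⟩
  have e' : g k * s * (g k)⁻¹ * z = t := e
  rw [← e', _root_.mul_inv_rev, mul_assoc, inv_mul_cancel, mul_one]
  exact inv_mem hp.2.2

theorem SzData.h_pow_ne (d : SzData Q n T Z h) {j k : ℕ} (hjk : j < k) (hk : k < 2 ^ n - 1) :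
    h ^ (k - j) ≠ 1 := fun e => by
  have := Nat.le_of_dvd (by omega) (d.h_order ▸ orderOf_dvd_of_pow_eq_one e)
  omega

/-- Squares of `T` lie in `Z`. -/
theorem SzData.sq_mem (d : SzData Q n T Z h) {x : Q} (hx : x ∈ (T : Subgroup Q)) : x * x ∈ Z := by
  by_contra hxx
  -- an element outside `Z` with square in `Z`
  obtain ⟨i, hi⟩ := T.2 ⟨x, hx⟩
  have hi' : x ^ 2 ^ i = 1 := congrArg Subtype.val hi
  clear hi
  obtain ⟨s, hs, hsZ, hss⟩ : ∃ s ∈ (T : Subgroup Q), s ∉ Z ∧ s * s ∈ Z := by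
    induction i generalizing x with
    | zero =>
      refine absurd ?_ hxx
      rw [pow_zero, pow_one] at hi'
      rw [hi', mul_one]
      exact one_mem _
    | succ i ih =>
      by_cases h4 : x * x * (x * x) ∈ Z
      · exact ⟨x * x, mul_mem hx hx, hxx, h4⟩
      · exact ih (mul_mem hx hx) h4 (by rw [← pow_two, ← pow_mul, ← pow_succ']; exact hi')
  have hgT : ∀ k, ∀ y ∈ (T : Subgroup Q), h ^ k * y * (h ^ k)⁻¹ ∈ (T : Subgroup Q) :=
    fun k y hy => (mem_normalizer_iff.1 (pow_mem d.h_mem k) _).1 hy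
  have hgZ : ∀ k, ∀ y, y ∈ Z ↔ h ^ k * y * (h ^ k)⁻¹ ∈ Z :=
    fun k y => mem_normalizer_iff.1 (d.norm_Z.symm ▸ pow_mem d.h_mem k) y
  by_cases hxZ : x ∈ Z
  · exact hxx (mul_mem hxZ hxZ)
  obtain ⟨k, hk⟩ := cover d (fun k => h ^ k) hgT hs (fun k _ h1 => hsZ ((hgZ k s).2 h1))
    (fun j k hjk hk h1 => hsZ (fixed_mem_Z d (SzData.h_pow_ne d hjk hk) hs (by
      rw [hgZ j]
      have e : h ^ j * (s⁻¹ * (h ^ (k - j) * s * (h ^ (k - j))⁻¹)) * (h ^ j)⁻¹ =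
          (h ^ j * s * (h ^ j)⁻¹)⁻¹ * (h ^ k * s * (h ^ k)⁻¹) := by
        rw [show h ^ k = h ^ j * h ^ (k - j) by rw [← pow_add, Nat.add_sub_cancel' hjk.le]]
        group
      rw [e]
      exact h1))) hx hxZ
  set v := h ^ k * s * (h ^ k)⁻¹
  have hv : v * v ∈ Z := by
    rw [show v * v = h ^ k * (s * s) * (h ^ k)⁻¹ by simp [v]]
    exact (hgZ k _).1 hss
  refine hxx ?_
  have e : x = v * (x⁻¹ * v)⁻¹ := by simp
  rw [e]
  have hc := d.Z_comm _ (inv_mem hk) v (hgT k s hs)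
  have e2 : v * (x⁻¹ * v)⁻¹ * (v * (x⁻¹ * v)⁻¹) = v * v * ((x⁻¹ * v)⁻¹ * (x⁻¹ * v)⁻¹) := by
    calc v * (x⁻¹ * v)⁻¹ * (v * (x⁻¹ * v)⁻¹) = v * ((x⁻¹ * v)⁻¹ * v) * (x⁻¹ * v)⁻¹ := by group
      _ = _ := by rw [hc]; group
  rw [e2]
  exact mul_mem hv (mul_mem (inv_mem hk) (inv_mem hk))

theorem SzData.comm_mem (d : SzData Q n T Z h) {x y : Q} (hx : x ∈ (T : Subgroup Q))
    (hy : y ∈ (T : Subgroup Q)) : x * y * x⁻¹ * y⁻¹ ∈ Z := by
  have h2 := SzData.sq_mem d (inv_mem hx)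
  have h4 : y⁻¹ * (x⁻¹ * x⁻¹) * y = x⁻¹ * x⁻¹ := by
    rw [mul_assoc, d.Z_comm _ h2 y hy, inv_mul_cancel_left]
  have e : x * y * x⁻¹ * y⁻¹ = (x * y * (x * y)) * (x⁻¹ * x⁻¹) * (y⁻¹ * y⁻¹) := by
    rw [← h4]; group
  rw [e]
  exact mul_mem (mul_mem (SzData.sq_mem d (mul_mem hx hy)) h2) (SzData.sq_mem d (inv_mem hy))

/-- An element of `N(T)` transitive on `Z#`. -/
theorem SzData.orbit_mod (d : SzData Q n T Z h) {g : Q}
    (hg : g ∈ normalizer ((T : Subgroup Q) : Set Q))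
    (htr : ∀ z ∈ Z, ∀ z' ∈ Z, z ≠ 1 → z' ≠ 1 → ∃ k : ℕ, g ^ k * z * (g ^ k)⁻¹ = z') :
    (∀ s ∈ (T : Subgroup Q), ∀ t ∈ (T : Subgroup Q), s ∉ Z → t ∉ Z →
      ∃ k : ℕ, t⁻¹ * (g ^ k * s * (g ^ k)⁻¹) ∈ Z) ∧
    ∀ s ∈ (T : Subgroup Q), s ∉ Z → s⁻¹ * (g * s * g⁻¹) ∉ Z := by
  classical
  haveI : Fintype Q := Fintype.ofFinite Q
  obtain ⟨z0, hz0, hz01⟩ := SzData.exists_Z_ne_one d
  have hgT : ∀ k : ℕ, ∀ y ∈ (T : Subgroup Q), g ^ k * y * (g ^ k)⁻¹ ∈ (T : Subgroup Q) :=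
    fun k y hy => (mem_normalizer_iff.1 (pow_mem hg k) _).1 hy
  have hgZ : ∀ k : ℕ, ∀ y, y ∈ Z ↔ g ^ k * y * (g ^ k)⁻¹ ∈ Z :=
    fun k y => mem_normalizer_iff.1 (d.norm_Z.symm ▸ pow_mem hg k) y
  -- short powers move `z0`
  have hmove : ∀ e : ℕ, 0 < e → e < 2 ^ n - 1 → g ^ e * z0 * (g ^ e)⁻¹ ≠ z0 := by
    intro e he0 he hfix
    have hper : ∀ m : ℕ, g ^ (m * e) * z0 * (g ^ (m * e))⁻¹ = z0 := by
      intro m
      induction m with
      | zero => simp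
      | succ m ih =>
        rw [Nat.succ_mul, pow_add]
        calc g ^ (m * e) * g ^ e * z0 * (g ^ (m * e) * g ^ e)⁻¹
            = g ^ (m * e) * (g ^ e * z0 * (g ^ e)⁻¹) * (g ^ (m * e))⁻¹ := by group
          _ = z0 := by rw [hfix, ih]
    have hsub : (Finset.univ.filter fun z : Q => z ∈ Z ∧ z ≠ 1) ⊆
        (Finset.range e).image fun k => g ^ k * z0 * (g ^ k)⁻¹ := by
      intro z hz
      obtain ⟨hzZ, hz1⟩ := (Finset.mem_filter.1 hz).2
      obtain ⟨k, hk⟩ := htr z0 hz0 z hzZ hz01 hz1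
      refine Finset.mem_image.2 ⟨k % e, Finset.mem_range.2 (Nat.mod_lt _ he0), ?_⟩
      rw [← hk]
      conv_rhs => rw [← Nat.mod_add_div k e, pow_add, mul_comm e]
      calc g ^ (k % e) * z0 * (g ^ (k % e))⁻¹
          = g ^ (k % e) * (g ^ (k / e * e) * z0 * (g ^ (k / e * e))⁻¹) * (g ^ (k % e))⁻¹ := by
            rw [hper]
        _ = _ := by group
    have h1 := (Finset.card_le_card hsub).trans Finset.card_image_le
    have h2 : (Finset.univ.filter fun z : Q => z ∈ Z ∧ z ≠ 1).card = 2 ^ n - 1 := by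
      rw [← Finset.filter_filter, Finset.filter_ne', Finset.card_erase_of_mem (by simp [Z.one_mem]),
        ← d.card_Z, Nat.card_eq_fintype_card, Fintype.card_subtype]
    rw [Finset.card_range, h2] at h1
    omega
  -- such powers fix no nontrivial element of `T / Z`
  have hkey : ∀ e : ℕ, g ^ e * z0 * (g ^ e)⁻¹ ≠ z0 → ∀ s ∈ (T : Subgroup Q),
      s⁻¹ * (g ^ e * s * (g ^ e)⁻¹) ∈ Z → s ∈ Z := by
    intro e he s hs hmem
    have h1 : g ^ e ∈ (T : Subgroup Q) ⊔ zpowers h := by rw [d.gen_R]; exact pow_mem hg e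
    have hhn : zpowers h ≤ normalizer ((T : Subgroup Q) : Set Q) := zpowers_le.2 d.h_mem
    have h1' : g ^ e ∈ (((T : Subgroup Q) ⊔ zpowers h : Subgroup Q) : Set Q) := h1
    rw [coe_mul_of_right_le_normalizer_left _ _ hhn] at h1'
    obtain ⟨t, ht, y, hy, hty⟩ := h1'
    simp only at hty
    obtain ⟨i, rfl⟩ : ∃ i : ℕ, h ^ i = y :=
      (isOfFinOrder_of_finite h).mem_powers_iff_mem_zpowers.2 hy
    have hi : h ^ i ≠ 1 := fun e1 => he (by
      rw [← hty, e1, mul_one, ← d.Z_comm z0 hz0 t ht, mul_inv_cancel_right])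
    refine fixed_mem_Z d hi hs ?_
    set u := h ^ i * s * (h ^ i)⁻¹ with hu
    have huT : u ∈ (T : Subgroup Q) := (mem_normalizer_iff.1 (pow_mem d.h_mem i) _).1 hs
    have e2 : s⁻¹ * (g ^ e * s * (g ^ e)⁻¹) = s⁻¹ * (t * u * t⁻¹) := by rw [← hty, hu]; group
    rw [e2] at hmem
    have hc : (t * u * t⁻¹ * u⁻¹) ∈ Z := SzData.comm_mem d ht huT
    have e3 : s⁻¹ * (t * u * t⁻¹) = (t * u * t⁻¹ * u⁻¹) * (s⁻¹ * u) := by
      rw [← mul_assoc _ s⁻¹ u, d.Z_comm _ hc _ (inv_mem hs)]; group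
    have h3 := mul_mem (inv_mem hc) hmem
    rwa [e3, inv_mul_cancel_left] at h3
  refine ⟨fun s hs t ht hsZ htZ => ?_, fun s hs hsZ h1 => hsZ (hkey 1
    (hmove 1 one_pos (by have := SzData.eight_le d; omega)) s hs (by rwa [pow_one]))⟩
  refine cover d (fun k => g ^ k) hgT hs (fun k _ h1 => hsZ ((hgZ k s).2 h1))
    (fun j k hjk hk h1 => hsZ (hkey (k - j) (hmove _ (by omega) (by omega)) s hs ?_)) ht htZ
  rw [hgZ j]
  have e : g ^ j * (s⁻¹ * (g ^ (k - j) * s * (g ^ (k - j))⁻¹)) * (g ^ j)⁻¹ =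
      (g ^ j * s * (g ^ j)⁻¹)⁻¹ * (g ^ k * s * (g ^ k)⁻¹) := by
    rw [show g ^ k = g ^ j * g ^ (k - j) by rw [← pow_add, Nat.add_sub_cancel' hjk.le]]
    group
  rw [e]
  exact h1

end CfsgLib.ThreeFree.Core
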