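import Cfsg.Agent.Lib.ThreeFree.Endgame
import Cfsg.Agent.Lib.ThreeFree.CoreSz
import Cfsg.Agent.Lib.ThreeFree.CoreCover

/-!
The endgame, stage V: a proper subgroup `H` containing `A`, not in `N`: the action of the centralizer
of the image of `A` on the Suzuki component, odd subgroups normalised by `H ∩ N`, elements all of
whose conjugates lie in `N`.
-/

set_option autoImplicit false
set_option linter.style.haveILetI false
set_option linter.unusedSectionVars false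

namespace CfsgLib.ThreeFree

open Subgroup CfsgLib.Components
open scoped commutatorElement

universe u

variable {G : Type u} [Group G] [Finite G] {S : Sylow 2 G} {A N H : Subgroup G} {n : ℕ}

/-- The image of an element of `N_H(A)` normalises the image of `A`. -/
theorem Core.qmap_mem_normalizer {x : H} (hx : (x : G) ∈ normalizer (A : Set G)) :
    qmap H x ∈ normalizer (barB H A : Set (H ⧸ Cfsg.pPrimeCore 2 H)) := by
  refine le_normalizer_map _ (mem_map_of_mem _ ?_)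
  rw [mem_normalizer_iff]
  intro y
  rw [mem_subgroupOf, mem_subgroupOf]
  exact mem_normalizer_iff.1 hx y

/-- Two commuting elements of order at most two with the same image modulo the odd core are equal. -/
theorem Core.eq_of_qmap {u v : H} (hu : u * u = 1) (hv : v * v = 1) (hc : u * v = v * u)
    (e : qmap H u = qmap H v) : u = v := by
  haveI : Fact (Nat.Prime 2) := ⟨Nat.prime_two⟩
  have hmem : u⁻¹ * v ∈ Cfsg.pPrimeCore 2 H := QuotientGroup.eq.1 e
  have h2 : (u⁻¹ * v) ^ 2 = 1 := by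
    rw [inv_eq_of_mul_eq_one_right hu, pow_two]
    calc u * v * (u * v) = u * (v * u) * v := by group
      _ = u * (u * v) * v := by rw [hc]
      _ = (u * u) * (v * v) := by group
      _ = 1 := by rw [hu, hv, one_mul]
  refine inv_mul_eq_one.1 (orderOf_eq_one_iff.1 (Nat.eq_one_of_dvd_coprimes ?_
    (Subgroup.orderOf_dvd_natCard _ hmem) (orderOf_dvd_of_pow_eq_one h2)))
  exact CfsgLib.PCore.pPrimeCore_coprime

namespace Endgame

variable (e : Endgame S A N n)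
include e

theorem sub_setting_good (hp : H ≠ ⊤) : SzGood (H ⧸ Cfsg.pPrimeCore 2 H) :=
  (e.setup.proper H hp).quotient _

theorem comp_normal : (compL H A).Normal := Subgroup.normalClosure_normal

/-- The action on the component. -/
theorem exists_act (hA : A ≤ H) (hp : H ≠ ⊤) (ho : ¬ H ≤ N) :
    ∃ (T : Type u) (_ : Group T) (φ : centralizer (barB H A : Set (H ⧸ Cfsg.pPrimeCore 2 H)) →* T),
      Nat.card T = (2 ^ n) ^ 2 ∧ Function.Surjective φ ∧
      (∀ y, φ y = 1 ↔ (y : H ⧸ Cfsg.pPrimeCore 2 H) ∈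
        centralizer (compL H A : Set (H ⧸ Cfsg.pPrimeCore 2 H))) ∧
      (∀ t : T, t * t = 1 → ∃ y : centralizer (barB H A : Set (H ⧸ Cfsg.pPrimeCore 2 H)),
        (y : H ⧸ Cfsg.pPrimeCore 2 H) ∈ barB H A ∧ φ y = t) ∧
      (∃ s t : T, s * t ≠ t * s) ∧
      ∀ x : H, (x : G) ∈ normalizer (A : Set G) → qmap H x ∈ compL H A →
        (∀ a ∈ A, a ≠ 1 → ∀ b ∈ A, b ≠ 1 →
          ∃ k : ℕ, ((x : G)) ^ k * a * (((x : G)) ^ k)⁻¹ = b) →
        ∃ hT : MulAut T,
          (∀ y y' : centralizer (barB H A : Set (H ⧸ Cfsg.pPrimeCore 2 H)),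
            (y' : H ⧸ Cfsg.pPrimeCore 2 H) = qmap H x * y * (qmap H x)⁻¹ → φ y' = hT (φ y)) ∧
          (∀ s t : T, s * s ≠ 1 → t * t ≠ 1 →
            ∃ k : ℕ, (t⁻¹ * (hT ^ k) s) * (t⁻¹ * (hT ^ k) s) = 1) ∧
          ∀ s : T, s * s ≠ 1 → (s⁻¹ * hT s) * (s⁻¹ * hT s) ≠ 1 := by
  classical
  haveI : Fact (Nat.Prime 2) := ⟨Nat.prime_two⟩
  have sd := e.sub H hA hp ho
  set Bb := barB H A
  set L := compL H A
  obtain ⟨Sq, T, Z, hh, c, cd⟩ := sd.data
  set ρ := QuotientGroup.mk' (center L) with hρ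
  have hρs : Function.Surjective ρ := QuotientGroup.mk'_surjective _
  haveI hLn : L.Normal := e.comp_normal
  have hiso := component_iso c.good sd.component
  have hLC : ∀ l : L, (l : H ⧸ Cfsg.pPrimeCore 2 H) ∈ centralizer (L : Set _) ↔ l ∈ center L := by
    intro l
    rw [mem_center_iff]
    exact ⟨fun h' g => Subtype.ext (mem_centralizer_iff.1 h' g g.2),
      fun h' => mem_centralizer_iff.2 fun g hg => congrArg Subtype.val (h' ⟨g, hg⟩)⟩
  have hnl : ∀ y : H ⧸ Cfsg.pPrimeCore 2 H, y ∈ normalizer (L : Set _) := fun y =>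
    le_normalizer_of_normal (H := L) (mem_top y)
  -- `ρ` of `Bb`
  have hbZ : ∀ (b : H ⧸ Cfsg.pPrimeCore 2 H) (hb : b ∈ Bb), ρ ⟨b, sd.le_comp hb⟩ ∈ Z := fun b hb =>
    cd.image_mem b hb ⟨b, sd.le_comp hb⟩ (by simp)
  have hbs : ∀ z ∈ Z, ∃ (b : H ⧸ Cfsg.pPrimeCore 2 H) (hb : b ∈ Bb), ρ ⟨b, sd.le_comp hb⟩ = z := by
    intro z hz
    obtain ⟨b, hb, l, hl, rfl⟩ := cd.image_surj z hz
    refine ⟨b, hb, (QuotientGroup.eq.2 ?_).symm⟩
    rw [← hLC]
    have h1 := mem_centralizer_iff.1 hl (l : H ⧸ Cfsg.pPrimeCore 2 H) l.2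
    show (l : H ⧸ Cfsg.pPrimeCore 2 H)⁻¹ * b ∈ centralizer (L : Set _)
    rw [show (l : H ⧸ Cfsg.pPrimeCore 2 H)⁻¹ * b = b * (l : H ⧸ Cfsg.pPrimeCore 2 H)⁻¹ by
      calc (l : H ⧸ Cfsg.pPrimeCore 2 H)⁻¹ * b
          = (l : H ⧸ Cfsg.pPrimeCore 2 H)⁻¹ * ((b * (l : H ⧸ Cfsg.pPrimeCore 2 H)⁻¹) * l) := by group
        _ = (l : H ⧸ Cfsg.pPrimeCore 2 H)⁻¹ * ((l : H ⧸ Cfsg.pPrimeCore 2 H) *
            (b * (l : H ⧸ Cfsg.pPrimeCore 2 H)⁻¹)) := by rw [h1]
        _ = _ := by group]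
    exact hl
  -- the automorphism
  let α : H ⧸ Cfsg.pPrimeCore 2 H → MulAut (L ⧸ center L) := fun y => automizerHom L ⟨y, hnl y⟩
  have hα : ∀ y y', α (y * y') = α y * α y' := fun y y' =>
    map_mul (automizerHom L) (⟨y, hnl y⟩ : normalizer (L : Set _)) ⟨y', hnl y'⟩
  have hαl : ∀ l : L, α l = MulAut.conj (ρ l) := by
    intro l
    ext q
    obtain ⟨m, rfl⟩ := hρs q
    rfl
  have hker : ∀ y, α y = 1 ↔ y ∈ centralizer (L : Set _) := by
    intro y
    rw [← MonoidHom.mem_ker, automizerHom_ker sd.component, mem_subgroupOf]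
  have hex : ∀ y : centralizer (Bb : Set (H ⧸ Cfsg.pPrimeCore 2 H)),
      ∃ t : (T : Subgroup (L ⧸ center L)), α y = MulAut.conj (t : L ⧸ center L) := by
    intro y
    obtain ⟨t, ht, htt⟩ := cd.sz.aut_fixZ (α y) fun z hz => by
      obtain ⟨b, hb, rfl⟩ := hbs z hz
      show ρ _ = ρ _
      congr 1
      refine Subtype.ext ?_
      show (y : H ⧸ Cfsg.pPrimeCore 2 H) * b * (y : H ⧸ Cfsg.pPrimeCore 2 H)⁻¹ = b
      rw [← mem_centralizer_iff.1 y.2 b hb, mul_inv_cancel_right]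
    exact ⟨⟨t, ht⟩, htt⟩
  choose f hf using hex
  have huniq : ∀ (y : centralizer (Bb : Set (H ⧸ Cfsg.pPrimeCore 2 H)))
      (t : (T : Subgroup (L ⧸ center L))), α y = MulAut.conj (t : L ⧸ center L) → f y = t :=
    fun y t ht => Subtype.ext (Core.SzData.conj_inj cd.sz ((hf y).symm.trans ht))
  let φ : centralizer (Bb : Set (H ⧸ Cfsg.pPrimeCore 2 H)) →* (T : Subgroup (L ⧸ center L)) :=
    MonoidHom.mk' f fun y y' => huniq _ _ (by
      rw [Subgroup.coe_mul, hα, hf y, hf y', Subgroup.coe_mul, map_mul])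
  have hTinv : ∀ t : (T : Subgroup (L ⧸ center L)), t * t = 1 ↔ (t : L ⧸ center L) ∈ Z := by
    intro t
    constructor
    · exact fun ht => cd.sz.invol_mem _ t.2 (congrArg Subtype.val ht)
    · exact fun ht => Subtype.ext (cd.sz.Z_sq _ ht)
  have hcard : Nat.card (T : Subgroup (L ⧸ center L)) = (2 ^ n) ^ 2 := cd.sz.card_T
  refine ⟨(T : Subgroup (L ⧸ center L)), inferInstance, φ, hcard, ?_, ?_, ?_, ?_, ?_⟩
  · rintro ⟨t, ht⟩
    obtain ⟨l, rfl⟩ := hρs t
    have hlc : (l : H ⧸ Cfsg.pPrimeCore 2 H) ∈ centralizer (Bb : Set (H ⧸ Cfsg.pPrimeCore 2 H)) := by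
      have hn : (l : H ⧸ Cfsg.pPrimeCore 2 H) ∈ normalizer (Bb : Set _) :=
        (cd.normalizes l).2 (le_normalizer ht)
      rw [mem_centralizer_iff]
      intro b hb
      set d := (l : H ⧸ Cfsg.pPrimeCore 2 H) * b * (l : H ⧸ Cfsg.pPrimeCore 2 H)⁻¹ * b⁻¹ with hd
      have hdB : d ∈ Bb := mul_mem ((mem_normalizer_iff.1 hn b).1 hb) (inv_mem hb)
      have hdC : d ∈ centralizer (L : Set _) := by
        show ((l * ⟨b, sd.le_comp hb⟩ * l⁻¹ * ⟨b, sd.le_comp hb⟩⁻¹ : L) : H ⧸ Cfsg.pPrimeCore 2 H) ∈ _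
        rw [hLC, ← QuotientGroup.eq_one_iff]
        show ρ _ = 1
        rw [map_mul, map_mul, map_mul, map_inv, map_inv, ← cd.sz.Z_comm _ (hbZ b hb) _ ht]
        group
      have h1 : d = 1 := (Subgroup.eq_bot_iff_forall _).1 sd.disj d ⟨hdB, hdC⟩
      rw [hd, mul_inv_eq_one, mul_inv_eq_iff_eq_mul] at h1
      exact h1.symm
    exact ⟨⟨l, hlc⟩, huniq _ _ (hαl l)⟩
  · intro y
    rw [← hker, hf y]
    constructor
    · intro h1
      have h2 : f y = 1 := h1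
      rw [h2]; simp
    · intro h1
      refine Subtype.ext (Core.SzData.conj_inj cd.sz ?_)
      show MulAut.conj (f y : L ⧸ center L) = _
      rw [h1]; simp
  · intro t ht
    obtain ⟨b, hb, hbt⟩ := hbs _ ((hTinv t).1 ht)
    have hbc : b ∈ centralizer (Bb : Set (H ⧸ Cfsg.pPrimeCore 2 H)) := mem_centralizer_iff.2
      fun b' hb' => c.comm hb' hb
    exact ⟨⟨b, hbc⟩, hb, huniq _ _ (by rw [← hbt]; exact hαl ⟨b, sd.le_comp hb⟩)⟩
  · obtain ⟨x, hx, y, hy, hxy⟩ := Core.sylow_not_comm hiso T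
    exact ⟨⟨x, hx⟩, ⟨y, hy⟩, fun h1 => hxy (congrArg Subtype.val h1)⟩
  · intro x hxA hxL htr
    set g : L := ⟨qmap H x, hxL⟩
    have hxn := Core.qmap_mem_normalizer hxA
    have hgn : ρ g ∈ normalizer ((T : Subgroup (L ⧸ center L)) : Set (L ⧸ center L)) :=
      (cd.normalizes g).1 hxn
    have htrZ : ∀ z ∈ Z, ∀ z' ∈ Z, z ≠ 1 → z' ≠ 1 →
        ∃ k : ℕ, ρ g ^ k * z * (ρ g ^ k)⁻¹ = z' := by
      intro z hz z' hz' h1 h1'
      obtain ⟨b, ⟨a, ha, rfl⟩, rfl⟩ := hbs z hz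
      obtain ⟨b', ⟨a', ha', rfl⟩, rfl⟩ := hbs z' hz'
      have hne : ∀ (a : H) (ha : a ∈ A.subgroupOf H),
          ρ ⟨qmap H a, sd.le_comp (mem_map_of_mem _ ha)⟩ ≠ 1 → (a : G) ≠ 1 := by
        intro a ha h1 h2
        refine h1 ?_
        have : (⟨qmap H a, sd.le_comp (mem_map_of_mem _ ha)⟩ : L) = 1 := Subtype.ext (by
          have ha1 : a = 1 := Subtype.ext h2
          show qmap H a = 1
          subst ha1
          exact map_one _)
        rw [this, map_one]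
      obtain ⟨k, hk⟩ := htr a ha (hne a ha h1) a' ha' (hne a' ha' h1')
      refine ⟨k, ?_⟩
      rw [← map_pow, ← map_inv, ← map_mul, ← map_mul]
      refine congrArg ρ (Subtype.ext ?_)
      have hk' : x ^ k * a * (x ^ k)⁻¹ = a' := Subtype.ext (by simpa using hk)
      show ((g ^ k : L) : H ⧸ Cfsg.pPrimeCore 2 H) * qmap H a *
        ((g ^ k : L) : H ⧸ Cfsg.pPrimeCore 2 H)⁻¹ = qmap H a'
      rw [← hk', map_mul, map_mul, map_inv, map_pow, SubmonoidClass.coe_pow]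
    obtain ⟨horb, hmov⟩ := Core.SzData.orbit_mod cd.sz hgn htrZ
    set hT : MulAut (T : Subgroup (L ⧸ center L)) :=
      (T : Subgroup (L ⧸ center L)).normalizerMonoidHom ⟨ρ g, hgn⟩ with hhT
    have hpow : ∀ (k : ℕ) (s : (T : Subgroup (L ⧸ center L))),
        ((hT ^ k) s : L ⧸ center L) = ρ g ^ k * s * (ρ g ^ k)⁻¹ := by
      intro k s
      rw [hhT, ← map_pow]
      rfl
    refine ⟨hT, fun y y' hy => huniq y' _ ?_, fun s t hs ht => ?_, fun s hs => ?_⟩
    · rw [hy, hα, hα, hf y]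
      have hinv : α (qmap H x)⁻¹ = (MulAut.conj (ρ g))⁻¹ := by
        rw [← map_inv MulAut.conj, ← map_inv ρ, ← hαl]
        rfl
      rw [hinv, show α (qmap H x) = MulAut.conj (ρ g) from hαl g, ← map_inv MulAut.conj,
        ← map_mul, ← map_mul]
      congr 1
    · obtain ⟨k, hk⟩ := horb s s.2 t t.2 (fun h1 => hs ((hTinv s).2 h1)) (fun h1 => ht ((hTinv t).2 h1))
      refine ⟨k, (hTinv _).2 ?_⟩
      rw [Subgroup.coe_mul, Subgroup.coe_inv, hpow]
      exact hk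
    · intro h1
      refine hmov s s.2 (fun h2 => hs ((hTinv s).2 h2)) ?_
      exact (hTinv _).1 h1

/-- Odd subgroups of `H ∩ N` normalised by it lie in the core of `H`. -/
theorem le_core (hA : A ≤ H) (hp : H ≠ ⊤) (ho : ¬ H ≤ N) {X : Subgroup G} (hXH : X ≤ H) (hXN : X ≤ N)
    (hX : Odd (Nat.card X)) (hn : ∀ x ∈ H, x ∈ N → ∀ y ∈ X, x * y * x⁻¹ ∈ X) :
    ∀ y : H, (y : G) ∈ X → y ∈ Cfsg.pPrimeCore 2 H := by
  classical
  haveI : Fact (Nat.Prime 2) := ⟨Nat.prime_two⟩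
  have sd := e.sub H hA hp ho
  set Bb := barB H A
  set L := compL H A
  obtain ⟨Sq, T, Z, hh, c, cd⟩ := sd.data
  set ρ := QuotientGroup.mk' (center L)
  have hρs : Function.Surjective ρ := QuotientGroup.mk'_surjective _
  haveI hLn : L.Normal := e.comp_normal
  set Y := (X.subgroupOf H).map (qmap H)
  have hYodd : Odd (Nat.card Y) := by
    refine Odd.of_dvd_nat hX ((card_map_dvd _ _).trans ?_)
    rw [Nat.card_congr (subgroupOfEquivOfLe hXH).toEquiv]
  have hY2 : ∀ y ∈ Y, Odd (orderOf y) := fun y hy =>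
    Odd.of_dvd_nat hYodd (Subgroup.orderOf_dvd_natCard Y hy)
  have hYN : Y ≤ normalizer (Bb : Set _) := by
    rintro _ ⟨v, hv, rfl⟩
    exact (sd.mem_iff v).1 (hXN hv)
  have hYn : ∀ v ∈ normalizer (Bb : Set (H ⧸ Cfsg.pPrimeCore 2 H)), ∀ y ∈ Y, v * y * v⁻¹ ∈ Y := by
    intro v hv
    obtain ⟨x, rfl⟩ := QuotientGroup.mk'_surjective _ v
    rintro _ ⟨y, hy, rfl⟩
    exact ⟨x * y * x⁻¹, hn x x.2 ((sd.mem_iff x).2 hv) y hy, by simp⟩
  have hnl : ∀ y : H ⧸ Cfsg.pPrimeCore 2 H, y ∈ normalizer (L : Set _) := fun y =>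
    le_normalizer_of_normal (H := L) (mem_top y)
  set R := normalizer ((T : Subgroup (L ⧸ center L)) : Set (L ⧸ center L))
  -- `Y ∩ L` is trivial
  have hYL : ∀ l : L, (l : H ⧸ Cfsg.pPrimeCore 2 H) ∈ Y → l = 1 := by
    intro l hl
    set P := ((Y.subgroupOf L).map ρ)
    have hPodd : Odd (Nat.card P) := by
      refine Odd.of_dvd_nat hYodd ((card_map_dvd _ _).trans ?_)
      exact (Y.subgroupOf L).card_map_of_injective L.subtype_injective ▸
        card_dvd_of_le (map_comap_le _ _)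
    have hPR : ∀ p ∈ P, p ∈ R := by
      rintro _ ⟨m, hm, rfl⟩
      exact (cd.normalizes m).1 (hYN hm)
    have hPn : ∀ r ∈ R, ∀ p ∈ P, r * p * r⁻¹ ∈ P := by
      intro r hr
      obtain ⟨v, rfl⟩ := hρs r
      rintro _ ⟨m, hm, rfl⟩
      exact ⟨v * m * v⁻¹, hYn v ((cd.normalizes v).2 hr) m hm, by simp⟩
    have hρl : ρ l ∈ P := mem_map_of_mem ρ (mem_subgroupOf.2 hl)
    have hcT : ∀ t ∈ (T : Subgroup (L ⧸ center L)), ∀ p ∈ P, t * p = p * t := by
      intro t ht p hp'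
      have hd : t * p * t⁻¹ * p⁻¹ ∈ (T : Subgroup (L ⧸ center L)) ⊓ P := by
        refine Subgroup.mem_inf.2 ⟨?_, mul_mem (hPn t (le_normalizer ht) p hp') (inv_mem hp')⟩
        rw [show t * p * t⁻¹ * p⁻¹ = t * (p * t⁻¹ * p⁻¹) by group]
        exact mul_mem ht ((mem_normalizer_iff.1 (hPR p hp') _).1 (inv_mem ht))
      rw [CfsgLib.PCore.inf_eq_bot_of_isPGroup_coprime T.2 (Nat.coprime_two_right.2 hPodd),
        mem_bot, mul_inv_eq_one, mul_inv_eq_iff_eq_mul] at hd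
      exact hd
    obtain ⟨z0, hz0, hz01⟩ := Core.SzData.exists_Z_ne_one cd.sz
    have hlT : ρ l ∈ (T : Subgroup (L ⧸ center L)) := by
      rw [← cd.sz.cent z0 hz0 hz01, mem_centralizer_singleton_iff]
      exact (hcT z0 (cd.sz.Z_le hz0) _ hρl).symm
    have hl1 : ρ l = 1 := (Subgroup.eq_bot_iff_forall _).1
      (CfsgLib.PCore.inf_eq_bot_of_isPGroup_coprime T.2 (Nat.coprime_two_right.2 hPodd)) _ ⟨hlT, hρl⟩
    have hlS : (l : H ⧸ Cfsg.pPrimeCore 2 H) ∈ (Sq : Subgroup _) :=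
      cd.preimage l (by rw [show QuotientGroup.mk' (center L) l = 1 from hl1]; exact one_mem _)
    exact Subtype.ext ((Subgroup.eq_bot_iff_forall _).1
      (CfsgLib.PCore.inf_eq_bot_of_isPGroup_coprime Sq.2 (Nat.coprime_two_right.2 hYodd)) _ ⟨hlS, hl⟩)
  -- `Y` centralises `L`
  have hYC : Y ≤ centralizer (L : Set _) := by
    intro y hy
    set a := automizerHom L ⟨y, hnl y⟩ with ha
    have hfix : ∀ z ∈ Z, a z = z := by
      intro z hz
      obtain ⟨l, rfl⟩ := hρs z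
      have hlB : (l : H ⧸ Cfsg.pPrimeCore 2 H) ∈ normalizer (Bb : Set _) :=
        (cd.normalizes l).2 (le_normalizer (cd.sz.Z_le hz))
      have h1 : (⟨y * l * y⁻¹, hLn.conj_mem _ l.2 y⟩ : L) * l⁻¹ = 1 := by
        refine hYL _ ?_
        show y * (l : H ⧸ Cfsg.pPrimeCore 2 H) * y⁻¹ * (l : H ⧸ Cfsg.pPrimeCore 2 H)⁻¹ ∈ Y
        rw [mul_assoc y, mul_assoc y]
        exact mul_mem hy (hYn _ hlB _ (inv_mem hy))
      show ρ ⟨y * l * y⁻¹, _⟩ = ρ l
      rw [mul_inv_eq_one] at h1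
      rw [h1]
    obtain ⟨t, ht, htt⟩ := cd.sz.aut_fixZ a hfix
    obtain ⟨i, hi⟩ := T.2 ⟨t, ht⟩
    have hd1 : orderOf a ∣ orderOf y := by
      rw [ha]
      exact (orderOf_map_dvd (automizerHom L) _).trans
        (dvd_of_eq (Subgroup.orderOf_mk y (hnl y)))
    have hd2 : orderOf a ∣ 2 ^ i := orderOf_dvd_of_pow_eq_one (by
      have hi' : t ^ 2 ^ i = 1 := congrArg Subtype.val hi
      rw [htt, ← map_pow, hi', map_one])
    have ha1 : a = 1 := orderOf_eq_one_iff.1 (Nat.eq_one_of_dvd_coprimes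
      (Nat.Coprime.pow_right i (Nat.coprime_two_right.2 (hY2 y hy))) hd1 hd2)
    have := MonoidHom.mem_ker.2 ha1
    rw [automizerHom_ker sd.component] at this
    exact this
  have hYnorm : Y.Normal := ⟨fun y hy v => by
    obtain ⟨l, hl, m, hm, rfl⟩ := sd.decomp v
    have h1 := hYn m hm y hy
    rw [show l * m * y * (l * m)⁻¹ = l * (m * y * m⁻¹) * l⁻¹ by group,
      mem_centralizer_iff.1 (hYC h1) l hl, mul_inv_cancel_right]
    exact h1⟩
  intro y hy
  have h1 := CfsgLib.PCore.le_pPrimeCore hYnorm (Nat.coprime_two_right.2 hYodd)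
    (mem_map_of_mem (qmap H) (show y ∈ X.subgroupOf H from hy))
  rw [CfsgLib.PCore.pPrimeCore_quotient_pPrimeCore, mem_bot] at h1
  exact (QuotientGroup.eq_one_iff y).1 h1

/-- An element all of whose conjugates lie in `N` centralizes the component. -/
theorem fix_mem_centralizer (hA : A ≤ H) (hp : H ≠ ⊤) (ho : ¬ H ≤ N) {w : H}
    (hw : ∀ g : H, ((g * w * g⁻¹ : H) : G) ∈ N) :
    qmap H w ∈ centralizer (compL H A : Set (H ⧸ Cfsg.pPrimeCore 2 H)) := by
  classical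
  have sd := e.sub H hA hp ho
  obtain ⟨Sq, T, Z, hh, c, cd⟩ := sd.data
  let X : Subgroup H :=
    { carrier := {x | ∀ g : H, ((g * x * g⁻¹ : H) : G) ∈ N}
      mul_mem' := fun {x y} hx hy g => by
        rw [show g * (x * y) * g⁻¹ = (g * x * g⁻¹) * (g * y * g⁻¹) by group]
        exact mul_mem (hx g) (hy g)
      one_mem' := fun g => by simp
      inv_mem' := fun {x} hx g => by
        rw [show g * x⁻¹ * g⁻¹ = (g * x * g⁻¹)⁻¹ by group]
        exact inv_mem (hx g) }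
  have hXn : X.Normal := ⟨fun x hx g v => by
    rw [show v * (g * x * g⁻¹) * v⁻¹ = (v * g) * x * (v * g)⁻¹ by group]
    exact hx (v * g)⟩
  have hXN : ∀ x ∈ X, (x : G) ∈ N := fun x hx => by simpa using hx 1
  have hOX : Cfsg.pPrimeCore 2 H ≤ X := fun x hx g =>
    sd.core_le _ ((inferInstance : (Cfsg.pPrimeCore 2 H).Normal).conj_mem x hx g)
  have hXA : ∀ a : H, (a : G) ∈ A → a ∈ X → a = 1 := by
    intro a ha haX
    by_contra hne
    obtain ⟨g, hg, hgN⟩ := SetLike.not_le_iff_exists.1 ho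
    refine hgN (e.setup.mem_of_conj_mem ha (fun h1 => hne (Subtype.ext h1)) ?_)
    exact haX ⟨g, hg⟩
  set Y := X.map (qmap H)
  have hYn : Y.Normal := hXn.map _ (QuotientGroup.mk'_surjective _)
  have hYB : ∀ y ∈ Y, ∀ b ∈ barB H A, y * b = b * y := by
    rintro _ ⟨x, hx, rfl⟩ _ ⟨a, ha, rfl⟩
    have hxn := (sd.mem_iff x).1 (hXN x hx)
    have h1 : qmap H (x * a * x⁻¹ * a⁻¹) ∈ barB H A := by
      simp only [map_mul, map_inv]
      exact mul_mem ((mem_normalizer_iff.1 hxn _).1 (mem_map_of_mem _ ha))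
        (inv_mem (mem_map_of_mem _ ha))
    obtain ⟨a', ha', e'⟩ := h1
    have h2 : x * a * x⁻¹ * a⁻¹ ∈ X := by
      rw [mul_assoc x, mul_assoc x]
      exact mul_mem hx (hXn.conj_mem _ (inv_mem hx) a)
    have h3 : a' ∈ X := by
      have h4 := hOX (QuotientGroup.eq.1 e'.symm)
      have h5 := mul_mem h2 h4
      rwa [mul_inv_cancel_left] at h5
    rw [show a' = 1 from hXA a' ha' h3, map_one] at e'
    have h6 := e'.symm
    rw [map_mul, map_mul, map_mul, map_inv, map_inv, mul_inv_eq_one, mul_inv_eq_iff_eq_mul] at h6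
    exact h6
  obtain ⟨g, hg⟩ : ∃ g, g ∉ normalizer (barB H A : Set (H ⧸ Cfsg.pPrimeCore 2 H)) := by
    by_contra hcon
    push Not at hcon
    exact ho fun g hg => (sd.mem_iff ⟨g, hg⟩).2 (hcon _)
  rw [← sd.gen g hg]
  have hwY : qmap H w ∈ Y := mem_map_of_mem _ (show w ∈ X from hw)
  have key : barB H A ⊔ cj g (barB H A) ≤ centralizer (Y : Set (H ⧸ Cfsg.pPrimeCore 2 H)) := by
    refine sup_le (fun b hb => mem_centralizer_iff.2 fun y hy => hYB y hy b hb) fun b hb => ?_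
    refine mem_centralizer_iff.2 fun y hy => ?_
    rw [mem_cj] at hb
    have h1 := hYB _ (hYn.conj_mem y hy g⁻¹) _ hb
    rw [inv_inv] at h1
    calc y * b = g * (g⁻¹ * y * g * (g⁻¹ * b * g)) * g⁻¹ := by group
      _ = g * (g⁻¹ * b * g * (g⁻¹ * y * g)) * g⁻¹ := by rw [h1]
      _ = b * y := by group
  exact mem_centralizer_iff.2 fun l hl => (mem_centralizer_iff.1 (key hl) _ hwY).symm

end Endgame

end CfsgLib.ThreeFree
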