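import Mathlib

/-!
Elementary lemmas on involutions acting on finite groups, used in the reduction of the core of the
centralizer of a bad involution.
-/

set_option autoImplicit false
set_option linter.style.haveILetI false

namespace CfsgLib.ThreeFree.Core

open Subgroup

variable {G : Type*} [Group G]

/-- An involutive permutation of a set of odd size fixes a point. -/
theorem exists_fixed_of_odd {α : Type*} [Finite α] (f : α → α) (hf : ∀ x, f (f x) = x)
    (ho : Odd (Nat.card α)) : ∃ x, f x = x := by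
  classical
  haveI : Fintype α := Fintype.ofFinite α
  by_contra hne
  push Not at hne
  rw [Nat.card_eq_fintype_card] at ho
  have h := Equiv.Perm.two_dvd_card_support (σ := (Function.Involutive.toPerm f hf))
    (Equiv.ext fun x => hf x)
  have hs : (Function.Involutive.toPerm f hf).support = Finset.univ := by
    ext x
    rw [Equiv.Perm.mem_support]
    exact iff_of_true (hne x) (Finset.mem_univ x)
  rw [hs, Finset.card_univ] at h
  exact Nat.not_even_iff_odd.2 ho (even_iff_two_dvd.2 h)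

/-- An involutive permutation of a set of even size fixing a point fixes another one. -/
theorem exists_fixed_ne_of_even {α : Type*} [Finite α] (f : α → α) (hf : ∀ x, f (f x) = x)
    (he : Even (Nat.card α)) {a : α} (ha : f a = a) : ∃ x, x ≠ a ∧ f x = x := by
  classical
  haveI : Fintype α := Fintype.ofFinite α
  let g : {x // x ≠ a} → {x // x ≠ a} := fun x => ⟨f x, fun e => x.2 (by
    rw [← hf x, e, ha])⟩
  have hcard : Nat.card {x // x ≠ a} = Nat.card α - 1 := by
    rw [Nat.card_eq_fintype_card, Nat.card_eq_fintype_card, Fintype.card_subtype_compl,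
      Fintype.card_subtype_eq]
  have hpos : 0 < Nat.card α := Nat.card_pos_iff.2 ⟨⟨a⟩, inferInstance⟩
  obtain ⟨x, hx⟩ := exists_fixed_of_odd g (fun x => Subtype.ext (hf x))
    (by rw [hcard]; exact Nat.Even.sub_odd hpos he odd_one)
  exact ⟨x, x.2, congrArg Subtype.val hx⟩

/-- An involution normalising a 2-group `Y` and a proper subgroup `M` of it fixes a further
coset of `M`. -/
theorem exists_fixed_coset [Finite G] {M Y : Subgroup G} (hY : IsPGroup 2 Y) (hMY : M < Y) {w : G}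
    (hw : w * w = 1) (hwY : ∀ y ∈ Y, w * y * w⁻¹ ∈ Y) (hwM : ∀ y ∈ M, w * y * w⁻¹ ∈ M) :
    ∃ y ∈ Y, y ∉ M ∧ y⁻¹ * (w * y * w⁻¹) ∈ M := by
  classical
  haveI : Fact (Nat.Prime 2) := ⟨Nat.prime_two⟩
  have hinv : w⁻¹ = w := inv_eq_of_mul_eq_one_right hw
  let σ : Y → Y := fun y => ⟨w * y * w⁻¹, hwY y y.2⟩
  have hσ : ∀ a b : Y, (a⁻¹ * b ∈ M.subgroupOf Y) → (σ a)⁻¹ * σ b ∈ M.subgroupOf Y := by
    intro a b h
    rw [mem_subgroupOf] at h ⊢
    have h' := hwM _ h
    simpa [σ, mul_assoc] using h'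
  let f : (Y ⧸ M.subgroupOf Y) → (Y ⧸ M.subgroupOf Y) := Quotient.map' σ fun a b h => by
    rw [QuotientGroup.leftRel_apply] at h ⊢
    exact hσ a b h
  have hf : ∀ x, f (f x) = x := by
    rintro ⟨y⟩
    show Quotient.mk'' (σ (σ y)) = Quotient.mk'' y
    congr 1
    apply Subtype.ext
    show w * (w * y * w⁻¹) * w⁻¹ = y
    rw [hinv]
    calc w * (w * (y : G) * w) * w = (w * w) * y * (w * w) := by group
      _ = y := by rw [hw]; simp
  have hne : (M.subgroupOf Y) ≠ ⊤ := fun e => hMY.not_ge (subgroupOf_eq_top.1 e)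
  have heven : Even (Nat.card (Y ⧸ M.subgroupOf Y)) := by
    obtain ⟨k, hk⟩ := hY.index (M.subgroupOf Y)
    rw [← index_eq_card, hk]
    refine (Nat.even_pow.2 ⟨even_two, fun h0 => hne (index_eq_one.1 ?_)⟩)
    rw [hk, h0, pow_zero]
  obtain ⟨x, hx1, hx2⟩ := exists_fixed_ne_of_even f hf heven (a := ((1 : Y) : Y ⧸ M.subgroupOf Y)) (by
    show Quotient.mk'' (σ 1) = Quotient.mk'' (1 : Y)
    congr 1
    apply Subtype.ext
    show w * (1 : G) * w⁻¹ = 1
    group)
  obtain ⟨y, rfl⟩ := QuotientGroup.mk_surjective x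
  refine ⟨y, y.2, fun h => hx1 (QuotientGroup.eq.2 ?_), ?_⟩
  · rw [mem_subgroupOf]
    simpa using h
  · have h := QuotientGroup.eq.1 hx2.symm
    rw [mem_subgroupOf] at h
    simpa [σ] using h

/-- An involution normalising a subgroup of odd order and a coset of it fixes an element of the
coset. -/
theorem exists_fixed_in_odd_coset [Finite G] {K : Subgroup G} (hK : Odd (Nat.card K)) {w x : G}
    (hw : w * w = 1) (hwK : ∀ y ∈ K, w * y * w⁻¹ ∈ K) (hx : x⁻¹ * (w * x * w⁻¹) ∈ K) :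
    ∃ y, x⁻¹ * y ∈ K ∧ w * y = y * w := by
  have hinv : w⁻¹ = w := inv_eq_of_mul_eq_one_right hw
  let f : K → K := fun y => ⟨x⁻¹ * (w * (x * y) * w⁻¹), by
    have : x⁻¹ * (w * (x * y) * w⁻¹) = x⁻¹ * (w * x * w⁻¹) * (w * y * w⁻¹) := by group
    rw [this]
    exact mul_mem hx (hwK y y.2)⟩
  obtain ⟨y, hy⟩ := exists_fixed_of_odd f (fun y => Subtype.ext (by
    show x⁻¹ * (w * (x * (x⁻¹ * (w * (x * y) * w⁻¹))) * w⁻¹) = y
    rw [hinv]
    calc x⁻¹ * (w * (x * (x⁻¹ * (w * (x * (y : G)) * w))) * w) =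
        x⁻¹ * ((w * w) * (x * y) * (w * w)) := by group
      _ = y := by rw [hw]; group)) hK
  refine ⟨x * y, by simp, ?_⟩
  have h := congrArg Subtype.val hy
  calc w * (x * y) = x * (x⁻¹ * (w * (x * y) * w⁻¹)) * w := by group
    _ = _ := by rw [show x⁻¹ * (w * (x * y) * w⁻¹) = (y : G) from h]

/-- Two involutions whose product lies in a subgroup of odd order are conjugate in it. -/
theorem exists_conj_of_mul_mem [Finite G] {K : Subgroup G} (hK : Odd (Nat.card K)) {u v : G}
    (hu : u * u = 1) (hv : v * v = 1) (h : v * u ∈ K) :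
    ∃ y ∈ K, y ∈ zpowers (v * u) ∧ y * u * y⁻¹ = v := by
  set d := v * u
  have hd : Odd (orderOf d) :=
    Odd.of_dvd_nat hK (Subgroup.orderOf_dvd_natCard K h)
  obtain ⟨m, hm⟩ := hd
  have hdu : ∀ k : ℕ, u * d ^ k * u⁻¹ = (d ^ k)⁻¹ := by
    intro k
    have h1 : u * d * u⁻¹ = d⁻¹ := by
      simp only [d, _root_.mul_inv_rev, inv_eq_of_mul_eq_one_right hu,
        inv_eq_of_mul_eq_one_right hv, mul_assoc, hu, mul_one]
    rw [← conj_pow, h1, inv_pow]
  refine ⟨d ^ (m + 1), pow_mem h _, pow_mem (mem_zpowers d) _, ?_⟩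
  have hinv : u * (d ^ (m + 1))⁻¹ = d ^ (m + 1) * u := by
    calc u * (d ^ (m + 1))⁻¹ = u * (u * d ^ (m + 1) * u⁻¹) := by rw [hdu]
      _ = (u * u) * d ^ (m + 1) * u⁻¹ := by group
      _ = _ := by rw [hu, one_mul, inv_eq_of_mul_eq_one_right hu]
  rw [mul_assoc, hinv, ← mul_assoc, ← pow_add,
    show m + 1 + (m + 1) = orderOf d + 1 by omega, pow_succ, pow_orderOf_eq_one, one_mul]
  show v * u * u = v
  rw [mul_assoc, hu, mul_one]

/-- An element of order two modulo an odd kernel comes from an involution. -/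
theorem exists_lift_invol [Finite G] {X : Type*} [Group X] (π : G →* X)
    (hker : Odd (Nat.card π.ker)) {g : G} (hg : orderOf (π g) = 2) :
    ∃ x ∈ zpowers g, orderOf x = 2 ∧ π x = π g := by
  obtain ⟨k, m, hm, he⟩ :=
    Nat.exists_eq_two_pow_mul_odd (n := orderOf g) (orderOf_pos g).ne'
  obtain ⟨j, hj⟩ := hm
  have hπx : π (g ^ m) = π g := by
    rw [map_pow, hj, pow_succ, pow_mul, show (π g) ^ 2 = 1 by rw [← hg]; exact pow_orderOf_eq_one _,
      one_pow, one_mul]
  refine ⟨g ^ m, pow_mem (mem_zpowers g) m, ?_, hπx⟩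
  have h2 : (g ^ m) ^ 2 = 1 := by
    have hker2 : (g ^ m) ^ 2 ∈ π.ker := by
      rw [MonoidHom.mem_ker, map_pow, hπx, ← hg]
      exact pow_orderOf_eq_one _
    have hd1 : orderOf ((g ^ m) ^ 2) ∣ Nat.card π.ker := Subgroup.orderOf_dvd_natCard _ hker2
    have hd2 : orderOf ((g ^ m) ^ 2) ∣ 2 ^ k := by
      refine orderOf_dvd_of_pow_eq_one ?_
      rw [← pow_mul, ← pow_mul, show m * (2 * 2 ^ k) = orderOf g * 2 by rw [he]; ring, pow_mul,
        pow_orderOf_eq_one, one_pow]
    exact orderOf_eq_one_iff.1 (Nat.eq_one_of_dvd_coprimes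
      (Nat.Coprime.pow_right k (Nat.coprime_two_right.2 hker)) hd1 hd2)
  refine orderOf_eq_prime (hp := ⟨Nat.prime_two⟩) h2 fun e => ?_
  rw [e, map_one] at hπx
  rw [← hπx, orderOf_one] at hg
  omega

end CfsgLib.ThreeFree.Core
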