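import Cfsg.Agent.Lib.ThreeFree.CoreHyp
import Cfsg.Agent.Lib.ThreeFree.CoreCover
import Cfsg.Agent.Lib.ThreeFree.CompAction
import Cfsg.Agent.Lib.Components.FStar
import Cfsg.Agent.Lib.Components.FStarSubnormal

/-!
In the abstract situation of the key lemma `U` has no component, so `C(O₂(U)) ≤ O₂(U)`.
-/

set_option autoImplicit false
set_option linter.style.haveILetI false
set_option linter.unusedSectionVars false

namespace CfsgLib.ThreeFree.Core

open Subgroup CfsgLib.Components

universe u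

namespace CoreHyp

variable {U T : Type u} [Group U] [Group T] [Finite U] {A : Subgroup U} {w : U} {n : ℕ} {h : MulAut U}
  {φ : cw w →* T} {hT : MulAut T}

/-- A perfect group maps trivially into `T`. -/
theorem phi_perfect (c : CoreHyp A w n h φ hT) {K : Type*} [Group K] [Group.IsPerfect K]
    (δ : K →* cw w) (x : K) : φ (δ x) = 1 := by
  haveI : Fact (Nat.Prime 2) := ⟨Nat.prime_two⟩
  haveI : Finite T := Finite.of_surjective φ c.phi_surj
  have hp : IsPGroup 2 T := IsPGroup.of_card (n := n * 2) (by rw [c.card_T, ← pow_mul])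
  haveI := hp.isNilpotent
  set R := (φ.comp δ).range
  haveI : Group.IsPerfect R := Group.IsPerfect.ofSurjective (φ.comp δ).rangeRestrict_surjective
  have hR : R = ⊥ := by
    by_contra hne
    haveI : Nontrivial R := R.nontrivial_iff_ne_bot.2 hne
    exact Group.IsPerfect.not_isSolvable R inferInstance
  exact (Subgroup.eq_bot_iff_forall _).1 hR _ ⟨x, rfl⟩

theorem no_component (c : CoreHyp A w n h φ hT) (hF : SzFactsHold.{u}) (K : Subgroup U) :
    ¬ Cfsg.IsComponent K := by
  classical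
  intro hK
  haveI : Fact (Nat.Prime 2) := ⟨Nat.prime_two⟩
  have hiso := component_iso c.good hK
  haveI := hK.2.1
  set ρ := QuotientGroup.mk' (center K) with hρ
  have hρs : Function.Surjective ρ := QuotientGroup.mk'_surjective _
  have hker : ρ.ker = center K := QuotientGroup.ker_mk' _
  have hwK' : ∀ x : U, w * (w * x * w⁻¹) * w⁻¹ = x := fun x => by
    rw [c.w_inv]
    calc w * (w * x * w) * w = (w * w) * x * (w * w) := by group
      _ = x := by rw [c.w_sq]; group
  -- a homomorphism into the kernel of `φ` with central kernel is impossible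
  have hkill : ∀ δ : K →* cw w, δ.ker ≤ center K → False := by
    intro δ hδ
    obtain ⟨T1⟩ : Nonempty (Sylow 2 (K ⧸ center K)) := inferInstance
    obtain ⟨m, Z, hh, d⟩ := hF _ hiso T1
    set P := Z.comap ρ
    set P' := P.map δ
    set C' := (center K).map δ
    have hCP : center K ≤ P := fun x hx => by
      rw [mem_comap, show ρ x = 1 from (QuotientGroup.eq_one_iff x).2 hx]; exact Z.one_mem
    have hcomm : ∀ x ∈ P', ∀ y ∈ P', x * y = y * x := by
      rintro _ ⟨x, hx, rfl⟩ _ ⟨y, hy, rfl⟩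
      rw [← map_mul, ← map_mul, commute_preimage d ρ hρs hker.le (mem_comap.1 hx) (mem_comap.1 hy)]
    have hsq : ∀ x ∈ P', x * x ∈ C' := by
      rintro _ ⟨x, hx, rfl⟩
      exact ⟨x * x, (QuotientGroup.eq_one_iff _).1 (by
        rw [QuotientGroup.mk_mul]; exact d.Z_sq _ hx), map_mul _ _ _⟩
    have hindex : C'.relIndex P' = 2 ^ m := by
      rw [relIndex_map_map, sup_eq_left.2 hδ, sup_eq_left.2 (hδ.trans hCP), ← d.card_Z]
      let g : P →* Z := (ρ.comp P.subtype).codRestrict Z fun x => x.2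
      have hg : Function.Surjective g := fun z => by
        obtain ⟨x, hx⟩ := hρs z
        exact ⟨⟨x, show ρ x ∈ Z from hx ▸ z.2⟩, Subtype.ext hx⟩
      have hgker : g.ker = (center K).subgroupOf P := by
        ext x
        rw [MonoidHom.mem_ker, mem_subgroupOf, ← QuotientGroup.eq_one_iff]
        exact Subtype.ext_iff
      rw [relIndex, ← hgker, Subgroup.index_ker, MonoidHom.range_eq_top_of_surjective g hg,
        Subgroup.card_top]
    have h1 : C'.relIndex P' ≤ {x : cw w | x ∈ P' ∧ x * x = 1}.ncard :=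
      relIndex_le_card_sq_eq_one (map_mono hCP) hcomm hsq
    rw [hindex] at h1
    have h2 : {x : cw w | x ∈ P' ∧ x * x = 1} ⊆ {1, ⟨w, c.w_mem_J⟩} := by
      rintro _ ⟨⟨x, -, rfl⟩, hx2⟩
      rcases eq_or_ne (δ x) 1 with e | e
      · exact Or.inl e
      · exact Or.inr (Subtype.ext (c.eq_w_of_ker (c.phi_perfect δ x) hx2 e))
    have h3 := (Set.ncard_le_ncard h2 (Set.toFinite _)).trans (Set.ncard_insert_le _ _)
    rw [Set.ncard_singleton] at h3
    have h4 : 2 ^ 3 ≤ 2 ^ m := Nat.pow_le_pow_right two_pos d.three_le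
    omega
  -- `w` normalises `K`
  set K' := K.map (MulAut.conj w).toMonoidHom with hK'def
  by_cases hKn : K' = K
  swap
  · have hcom := commutator_components_eq_bot hK (isComponent_conj w hK) (Ne.symm hKn)
    have hmem : ∀ k : K, w * (k : U) * w⁻¹ ∈ K' := fun k => ⟨k, k.2, rfl⟩
    let δ : K →* cw w := MonoidHom.mk' (fun k => ⟨(k : U) * (w * k * w⁻¹), by
      rw [mem_centralizer_singleton_iff]
      have h1 := commute_of_commutator_eq_bot hcom k.2 (hmem k)
      calc (k : U) * (w * k * w⁻¹) * w = (w * w) * (k * (w * k * w⁻¹)) * w := by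
            rw [c.w_sq, one_mul]
        _ = w * (w * ((w * k * w⁻¹) * k) * w) := by rw [← h1]; group
        _ = w * ((w * (w * k * w⁻¹) * w⁻¹) * (w * k * w⁻¹) * (w * w)) := by group
        _ = _ := by rw [hwK', c.w_sq, mul_one]⟩) fun k k' => Subtype.ext (by
      show (k : U) * k' * (w * ((k : U) * k') * w⁻¹) =
        (k : U) * (w * k * w⁻¹) * ((k' : U) * (w * k' * w⁻¹))
      have h1 := commute_of_commutator_eq_bot hcom k'.2 (hmem k)
      calc (k : U) * k' * (w * ((k : U) * k') * w⁻¹)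
          = k * ((k' : U) * (w * k * w⁻¹)) * (w * k' * w⁻¹) := by group
        _ = k * ((w * k * w⁻¹) * (k' : U)) * (w * k' * w⁻¹) := by rw [h1]
        _ = _ := by group)
    refine hkill δ fun k hk => ?_
    have h1 : (k : U) * (w * k * w⁻¹) = 1 := congrArg Subtype.val hk
    rw [mem_center_iff]
    intro l
    refine Subtype.ext ?_
    show (l : U) * k = k * l
    have h2 := commute_of_commutator_eq_bot hcom l.2
      (show (k : U) ∈ K' from eq_inv_of_mul_eq_one_left h1 ▸ inv_mem (hmem k))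
    exact h2
  have hwn : w ∈ normalizer (K : Set U) := mem_normalizer_iff_map_conj_eq.2 hKn
  set α := automizerHom K ⟨w, hwn⟩
  obtain ⟨T0⟩ : Nonempty (Sylow 2 (K ⧸ center K)) := inferInstance
  obtain ⟨m0, Z0, h0, d0⟩ := hF _ hiso T0
  have hα : α ^ (2 ^ 1) = 1 := by
    show (automizerHom K ⟨w, hwn⟩) ^ (2 ^ 1) = 1
    rw [← map_pow, show (⟨w, hwn⟩ : normalizer (K : Set U)) ^ (2 ^ 1) = 1 from
      Subtype.ext (by simpa [pow_two] using c.w_sq), map_one]
  obtain ⟨q, hq⟩ := d0.aut_two α ⟨1, hα⟩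
  obtain ⟨k0, hk0⟩ := hρs q
  have hk0n : (k0 : U) ∈ normalizer (K : Set U) := le_normalizer k0.2
  have he : w * (k0 : U)⁻¹ ∈ centralizer (K : Set U) := by
    have hm : (⟨w, hwn⟩ * ⟨(k0 : U), hk0n⟩⁻¹ : normalizer (K : Set U)) ∈ (automizerHom K).ker := by
      rw [MonoidHom.mem_ker, map_mul, map_inv, mul_inv_eq_one]
      show α = _
      rw [hq]
      ext y
      obtain ⟨l, rfl⟩ := hρs y
      rw [← hk0]
      rfl
    rw [automizerHom_ker hK] at hm
    exact hm
  rcases eq_or_ne q 1 with hq1 | hq1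
  · -- `w` centralizes `K`
    have hk0c : k0 ∈ center K := (QuotientGroup.eq_one_iff _).1 (hk0.trans hq1)
    have hKJ : K ≤ cw w := fun k hk => by
      rw [mem_centralizer_singleton_iff]
      have h1 := mem_centralizer_iff.1 he k hk
      have h2 : k * (k0 : U) = k0 * k := congrArg Subtype.val (mem_center_iff.1 hk0c ⟨k, hk⟩)
      calc k * w = k * (w * (k0 : U)⁻¹) * k0 := by group
        _ = w * (k0 : U)⁻¹ * (k * k0) := by rw [h1, mul_assoc]
        _ = w * (k0 : U)⁻¹ * (k0 * k) := by rw [h2]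
        _ = w * k := by group
    exact hkill (Subgroup.inclusion hKJ) (by
      rw [(MonoidHom.ker_eq_bot_iff _).2 (Subgroup.inclusion_injective hKJ)]; exact bot_le)
  -- an inner involution
  have hcq : ∀ y : K ⧸ center K, α y = q * y * q⁻¹ := fun y => by rw [hq]; rfl
  have hqc : ∀ z : K ⧸ center K, (∀ y, z * y = y * z) → z = 1 := by
    intro z hz
    by_contra hne
    obtain ⟨g, hg⟩ : ∃ g, g ∉ normalizer ((T0 : Subgroup (K ⧸ center K)) : Set (K ⧸ center K)) := by
      by_contra hcon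
      push Not at hcon
      have := d0.index_R
      rw [show normalizer ((T0 : Subgroup (K ⧸ center K)) : Set (K ⧸ center K)) = ⊤ from
        eq_top_iff.2 fun g _ => hcon g, index_top] at this
      have : 0 < (2 ^ m0) ^ 2 := by positivity
      omega
    obtain ⟨z0, hz0, hz01⟩ : ∃ z0 ∈ Z0, z0 ≠ 1 := by
      refine (Subgroup.bot_or_exists_ne_one Z0).resolve_left fun e => ?_
      have := d0.card_Z
      rw [e, Subgroup.card_bot] at this
      have : 2 ^ 3 ≤ 2 ^ m0 := Nat.pow_le_pow_right two_pos d0.three_le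
      omega
    have hzT : z ∈ (T0 : Subgroup (K ⧸ center K)) := by
      rw [← d0.cent z0 hz0 hz01]; exact mem_centralizer_singleton_iff.2 (hz z0)
    exact hne (d0.ti g hg z hzT (by rw [mul_assoc, hz g, inv_mul_cancel_left]; exact hzT))
  have hq2 : q * q = 1 := hqc _ fun y => by
    have h1 : α (α y) = y := by
      rw [pow_one, pow_two] at hα
      exact DFunLike.congr_fun hα y
    rw [hcq, hcq] at h1
    calc q * q * y = q * (q * y * q⁻¹) * q⁻¹ * (q * q) := by group
      _ = _ := by rw [h1]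
  obtain ⟨T1, hT1⟩ := (IsPGroup.of_card (n := 1) (G := zpowers q) (by
    rw [Nat.card_zpowers, orderOf_eq_prime (by rw [pow_two, hq2]) hq1, pow_one])).exists_le_sylow
  obtain ⟨m, Z, hh, d⟩ := hF _ hiso T1
  have hqZ : q ∈ Z := d.invol_mem q (hT1 (mem_zpowers q)) hq2
  obtain ⟨η, hη⟩ := hρs hh
  have hcP : (η * k0 * η⁻¹) * k0 = k0 * (η * k0 * η⁻¹) := by
    refine commute_preimage d ρ hρs hker.le ?_ (by rw [hk0]; exact hqZ)
    rw [map_mul, map_mul, map_inv, hη, hk0]
    exact (mem_normalizer_iff.1 (d.norm_Z.symm ▸ d.h_mem) _).1 hqZ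
  have hcP' : (η : U) * k0 * (η : U)⁻¹ * k0 = k0 * ((η : U) * k0 * (η : U)⁻¹) :=
    congrArg Subtype.val hcP
  set e := w * (k0 : U)⁻¹
  have hwe : w = e * k0 := by simp [e]
  have hηw : (η : U) * w * (η : U)⁻¹ = e * ((η : U) * k0 * (η : U)⁻¹) := by
    rw [hwe]
    calc (η : U) * (e * k0) * (η : U)⁻¹ = ((η : U) * e) * k0 * (η : U)⁻¹ := by group
      _ = (e * η) * k0 * (η : U)⁻¹ := by rw [mem_centralizer_iff.1 he η η.2]
      _ = _ := by group
  have hJ : (η : U) * w * (η : U)⁻¹ ∈ cw w := by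
    rw [mem_centralizer_singleton_iff, hηw, hwe]
    have h1 := mem_centralizer_iff.1 he ((η : U) * k0 * (η : U)⁻¹) (η * k0 * η⁻¹ : K).2
    have h2 := mem_centralizer_iff.1 he k0 k0.2
    calc e * ((η : U) * k0 * (η : U)⁻¹) * (e * k0) =
          e * (((η : U) * k0 * (η : U)⁻¹) * e) * k0 := by group
      _ = e * e * ((η : U) * k0 * (η : U)⁻¹ * k0) := by rw [h1]; group
      _ = e * (e * k0) * ((η : U) * k0 * (η : U)⁻¹) := by rw [hcP']; group
      _ = e * (k0 * e) * ((η : U) * k0 * (η : U)⁻¹) := by rw [h2]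
      _ = _ := by group
  have hA := c.central (c.conj_mem hJ)
  have h1 : (k0 : U)⁻¹ * ((η : U) * k0 * (η : U)⁻¹) ∈ center U := by
    have : (k0 : U)⁻¹ * ((η : U) * k0 * (η : U)⁻¹) = w⁻¹ * ((η : U) * w * (η : U)⁻¹) := by
      rw [hηw, hwe]; group
    rw [this, c.w_inv]
    exact hA
  have h2 : k0⁻¹ * (η * k0 * η⁻¹) ∈ center K := mem_center_iff.2 fun g => Subtype.ext (by
    simpa using mem_center_iff.1 h1 (g : U))
  have h3 := (QuotientGroup.eq_one_iff _).2 h2
  change ρ (k0⁻¹ * (η * k0 * η⁻¹)) = 1 at h3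
  rw [map_mul, map_mul, map_mul, map_inv, map_inv, hη, hk0, inv_mul_eq_one, eq_comm,
    mul_inv_eq_iff_eq_mul] at h3
  refine hq1 (d.h_fpf 1 ?_ q (d.Z_le hqZ) (by rw [pow_one]; exact h3))
  intro e1
  rw [pow_one] at e1
  have := d.h_order
  rw [e1, orderOf_one] at this
  have : 2 ^ 3 ≤ 2 ^ m := Nat.pow_le_pow_right two_pos d.three_le
  omega

/-- `C(O₂(U)) ≤ O₂(U)`. -/
theorem centralizer_pCore_le (c : CoreHyp A w n h φ hT) (hF : SzFactsHold.{u}) :
    centralizer (Cfsg.pCore 2 U : Set U) ≤ Cfsg.pCore 2 U := by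
  haveI : Fact (Nat.Prime 2) := ⟨Nat.prime_two⟩
  have hl : Cfsg.layer U = ⊥ :=
    le_bot_iff.1 (sSup_le fun K hK => absurd hK (c.no_component hF K))
  have hfs : Cfsg.generalizedFittingSubgroup U = Cfsg.pCore 2 U := by
    rw [Cfsg.generalizedFittingSubgroup, hl, bot_sup_eq,
      fitting_eq_pCore_of_pPrimeCore_eq_bot c.core]
  have := centralizer_generalizedFitting_le (G := U)
  rwa [hfs] at this

end CoreHyp

end CfsgLib.ThreeFree.Core
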