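import Cfsg.Agent.Lib.ThreeFree.CoreTools

/-!
The key lemma, the case `C_O(w)` full.
-/

set_option autoImplicit false
set_option linter.style.haveILetI false
set_option linter.unusedSectionVars false

namespace CfsgLib.ThreeFree.Core

open Subgroup CfsgLib.Components
open scoped commutatorElement

universe u

namespace CoreHyp

variable {U T : Type u} [Group U] [Group T] [Finite U] {A : Subgroup U} {w : U} {n : ℕ} {h : MulAut U}
  {φ : cw w →* T} {hT : MulAut T} (c : CoreHyp A w n h φ hT)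
include c

/-- The case `C_O(w)` full: an involution with too large a centralizer. -/
theorem false_of_large {K : Subgroup U} (hw : w ∉ Cfsg.pCore 2 U) (hKO : K ≤ Cfsg.pCore 2 U)
    (hAK : A ≤ K) (hKsq : ∀ x ∈ K, x * x ∈ A) (hKcomm : ∀ x ∈ K, ∀ y ∈ K, ⁅x, y⁆ ∈ A)
    (hKJ : ∀ x ∈ K, x ∈ cw w → x ∈ A)
    (hMK : ∀ m ∈ Cfsg.pCore 2 U ⊓ cw w, ∀ k ∈ K, m * k = k * m)
    (hfull : ∀ t : T, ∃ x : cw w, (x : U) ∈ Cfsg.pCore 2 U ∧ φ x = t)
    {k1 : U} (hk1 : k1 ∈ K) (hk1c : k1 ∈ c.co1) (hk1J : k1 ∉ cw w)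
    (hK3 : (2 ^ n) ^ 3 ≤ Nat.card K) : False := by
  classical
  haveI : Fact (Nat.Prime 2) := ⟨Nat.prime_two⟩
  haveI : Finite T := Finite.of_surjective φ c.phi_surj
  haveI hAn : A.Normal := c.A_normal
  set O := Cfsg.pCore 2 U
  set M := O ⊓ cw w
  have hMsq : ∀ m ∈ M, m * m ∈ A := by
    intro m hm
    obtain ⟨a, ha, hφa⟩ := c.phi_A_surj (φ ⟨m, hm.2⟩ * φ ⟨m, hm.2⟩) (c.sq_sq _)
    have h1 := c.eq_one_of_phi hw (x := ⟨m, hm.2⟩ * ⟨m, hm.2⟩ * a⁻¹)
      (mul_mem (mul_mem hm.1 hm.1) (inv_mem (c.A_le_O ha))) (by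
        rw [map_mul, map_mul, map_inv, hφa, mul_inv_cancel])
    rw [show m * m = (a : U) from congrArg Subtype.val (mul_inv_eq_one.1 h1)]
    exact ha
  have hMcomm : ∀ m ∈ M, ∀ m' ∈ M, ⁅m, m'⁆ ∈ A := by
    intro m hm m' hm'
    set x : cw w := ⟨m, hm.2⟩
    set y : cw w := ⟨m', hm'.2⟩
    obtain ⟨a, ha, hφa⟩ := c.phi_A_surj (φ x * φ y * (φ x)⁻¹ * (φ y)⁻¹) (c.comm_sq _ _)
    have h1 := c.eq_one_of_phi hw (x := x * y * x⁻¹ * y⁻¹ * a⁻¹)
      (mul_mem (mul_mem (mul_mem (mul_mem hm.1 hm'.1) (inv_mem hm.1)) (inv_mem hm'.1))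
        (inv_mem (c.A_le_O ha))) (by simp only [map_mul, map_inv, hφa, mul_inv_cancel])
    rw [commutatorElement_def,
      show m * m' * m⁻¹ * m'⁻¹ = (a : U) from congrArg Subtype.val (mul_inv_eq_one.1 h1)]
    exact ha
  -- a square root of `k1²`
  obtain ⟨τ, hτO, hτ⟩ : ∃ τ : cw w, (τ : U) ∈ O ∧ (τ : U) * τ = k1 * k1 := by
    rcases eq_or_ne (k1 * k1) 1 with e | e
    · exact ⟨1, O.one_mem, by simpa using e.symm⟩
    obtain ⟨s, hs⟩ : ∃ s : T, s * s ≠ 1 := by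
      by_contra hcon
      push Not at hcon
      obtain ⟨s, t, hst⟩ := c.T_not_comm
      exact hst (c.sq_central (hcon t) s)
    obtain ⟨x, hxO, hφx⟩ := hfull s
    have hx2 := hMsq _ ⟨hxO, x.2⟩
    have hx21 : (x : U) * x ≠ 1 := fun e' => hs (by
      rw [← hφx, ← map_mul, show x * x = 1 from Subtype.ext e', map_one])
    obtain ⟨i, hi⟩ := c.h_trans _ hx2 hx21 _ (hKsq k1 hk1) e
    exact ⟨⟨(h ^ i) x, c.pow_J i x.2⟩,
      (characteristic_iff_map_le.1 inferInstance (h ^ i)) ⟨x, hxO, rfl⟩, by rw [← map_mul]; exact hi⟩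
  have hτM : (τ : U) ∈ M := ⟨hτO, τ.2⟩
  set u := k1 * (τ : U) with hu
  have hu2 : u * u = 1 := by
    calc u * u = k1 * ((τ : U) * k1) * τ := by rw [hu]; group
      _ = k1 * (k1 * τ) * τ := by rw [hMK _ hτM _ hk1]
      _ = (k1 * k1) * ((τ : U) * τ) := by group
      _ = 1 := by rw [hτ]; exact c.sq _ (hKsq k1 hk1)
  have huA : u ∉ A := fun hu' => hk1J (c.A_le_J (hKJ k1 hk1 (by
    have : k1 = u * (τ : U)⁻¹ := by rw [hu]; group
    rw [this]
    exact mul_mem (c.A_le_J hu') (inv_mem τ.2))))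
  -- the group `M K`
  let p : M × K →* U := MonoidHom.noncommCoprod M.subtype K.subtype fun m k => hMK m m.2 k k.2
  set π := QuotientGroup.mk' A
  have hπ1 : ∀ a ∈ A, π a = 1 := fun a ha => (QuotientGroup.eq_one_iff a).2 ha
  have hcross : ∀ g g' : U, ⁅g, g'⁆ ∈ A → π g * π g' = π g' * π g := fun g g' hgg => by
    rw [← commutatorElement_eq_one_iff_mul_comm, ← map_commutatorElement]; exact hπ1 _ hgg
  have hQu : ∀ x ∈ p.range, ⁅u, x⁆ ∈ A := by
    rintro _ ⟨⟨m, k⟩, rfl⟩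
    rw [← QuotientGroup.eq_one_iff]
    show π ⁅u, (m : U) * k⁆ = 1
    rw [map_commutatorElement, commutatorElement_eq_one_iff_mul_comm, hu, map_mul, map_mul]
    have h1 : π k1 * π m = π m * π k1 := by rw [← map_mul, ← map_mul, hMK m m.2 k1 hk1]
    have h2 : π (τ : U) * π m = π m * π (τ : U) := hcross _ _ (hMcomm _ hτM _ m.2)
    have h3 : π k1 * π k = π k * π k1 := hcross _ _ (hKcomm _ hk1 _ k.2)
    have h4 : π (τ : U) * π k = π k * π (τ : U) := by rw [← map_mul, ← map_mul, hMK _ hτM k k.2]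
    exact ((Commute.mul_left (show Commute (π k1) _ from h1) (show Commute (π (τ : U)) _ from h2)).mul_right
      (Commute.mul_left (show Commute (π k1) _ from h3) (show Commute (π (τ : U)) _ from h4))).eq
  have hQsq : ∀ x ∈ p.range, x * x ∈ A := by
    rintro _ ⟨⟨m, k⟩, rfl⟩
    show (m : U) * k * (m * k) ∈ A
    have e : (m : U) * k * ((m : U) * k) = ((m : U) * m) * ((k : U) * k) := by
      calc (m : U) * k * ((m : U) * k) = (m : U) * ((k : U) * m) * k := by group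
        _ = (m : U) * ((m : U) * k) * k := by rw [← hMK m m.2 k k.2]
        _ = _ := by group
    rw [e]
    exact mul_mem (hMsq m m.2) (hKsq k k.2)
  let ψ : p.range →* A := MonoidHom.mk' (fun x => ⟨⁅u, (x : U)⁆, hQu x x.2⟩) fun x y => Subtype.ext (by
    show ⁅u, (x : U) * y⁆ = ⁅u, (x : U)⁆ * ⁅u, (y : U)⁆
    have h1 := c.comm_A (hQu y y.2) (x : U)
    calc ⁅u, (x : U) * y⁆ = ⁅u, (x : U)⁆ * ((x : U) * ⁅u, (y : U)⁆ * (x : U)⁻¹) := by
          simp only [commutatorElement_def]; group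
      _ = _ := by rw [h1, mul_inv_cancel_right])
  have hker : Nat.card ψ.ker ≤ 2 * (2 ^ n) ^ 2 := by
    rw [← Subgroup.card_map_of_injective p.range.subtype_injective]
    refine c.bound u hu2 huA _ ?_ ?_
    · rintro _ ⟨x, hx, rfl⟩
      exact (commutatorElement_eq_one_iff_mul_comm.1 (congrArg Subtype.val hx)).symm
    · rintro _ ⟨x, -, rfl⟩
      exact hQsq x x.2
  have hψ : Nat.card p.range ≤ 2 * (2 ^ n) ^ 2 * 2 ^ n := by
    rw [← ψ.ker.card_mul_index, Subgroup.index_ker]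
    refine Nat.mul_le_mul hker ?_
    rw [← c.card_A]
    exact Subgroup.card_le_card_group _
  have hkerp : Nat.card p.ker ≤ 2 ^ n := by
    rw [← c.card_A]
    refine Nat.card_le_card_of_injective (fun x : p.ker => (⟨((x : M × K).1 : U), ?_⟩ : A)) ?_
    · obtain ⟨⟨m, k⟩, hmk⟩ := x
      have e : (m : U) * k = 1 := hmk
      have hmK : (m : U) ∈ K := by rw [eq_inv_of_mul_eq_one_left e]; exact inv_mem k.2
      exact hKJ _ hmK m.2.2
    · rintro ⟨⟨m, k⟩, hmk⟩ ⟨⟨m', k'⟩, hmk'⟩ e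
      have e1 : (m : U) = m' := congrArg (fun a : A => (a : U)) e
      have e2 : (m : U) * k = (m' : U) * k' := (show _ = (1 : U) from hmk).trans hmk'.symm
      rw [e1] at e2
      exact Subtype.ext (Prod.ext (Subtype.ext e1) (Subtype.ext (mul_left_cancel e2)))
  have hM2 : (2 ^ n) ^ 2 ≤ Nat.card M := by
    rw [← c.card_T]
    choose g hg using hfull
    refine Nat.card_le_card_of_injective (fun t => (⟨(g t : U), (hg t).1, (g t).2⟩ : M)) fun t t' e => ?_
    rw [← (hg t).2, ← (hg t').2, show g t = g t' from Subtype.ext (congrArg Subtype.val e :)]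
  have hp : Nat.card M * Nat.card K ≤ 2 ^ n * Nat.card p.range := by
    rw [← Nat.card_prod, ← p.ker.card_mul_index, Subgroup.index_ker]
    exact Nat.mul_le_mul_right _ hkerp
  have h5 := (Nat.mul_le_mul hM2 hK3).trans (hp.trans (Nat.mul_le_mul_left _ hψ))
  have hq := c.four_le
  generalize 2 ^ n = q at h5 hq
  have h6 : q ^ 4 * q ≤ q ^ 4 * 2 := by ring_nf at h5 ⊢; linarith
  have := Nat.le_of_mul_le_mul_left h6 (by positivity)
  omega

end CoreHyp

end CfsgLib.ThreeFree.Core
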