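import Cfsg.Agent.Lib.ThreeFree.CoreSmall
import Cfsg.Agent.Lib.ThreeFree.CoreLarge

/-!
The key lemma: an abelian subgroup of odd order of `U` inverted by `w` and normalised by `C_U(w)` and
the torus is trivial, or is centralized by an element moving `w` to `a w` with `a ∈ A#`.
-/

set_option autoImplicit false
set_option linter.style.haveILetI false
set_option linter.unusedSectionVars false

namespace CfsgLib.ThreeFree.Core

open Subgroup CfsgLib.Components
open scoped commutatorElement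

universe u

namespace CoreHyp

variable {U T : Type u} [Group U] [Group T] [Finite U] {A : Subgroup U} {w : U} {n : ℕ} {h : MulAut U}
  {φ : cw w →* T} {hT : MulAut T} (c : CoreHyp A w n h φ hT)
include c

/-- The key lemma. -/
theorem key (hF : SzFactsHold.{u}) (R : Subgroup U) (hRodd : Odd (Nat.card R))
    (hRc : ∀ r ∈ R, ∀ s ∈ R, r * s = s * r) (hRw : ∀ r ∈ R, w * r * w⁻¹ = r⁻¹)
    (hRJ : ∀ x ∈ cw w, ∀ r ∈ R, x * r * x⁻¹ ∈ R) (hRh : ∀ r ∈ R, h r ∈ R) :
    R = ⊥ ∨ ∃ g : U, ∃ a ∈ A, a ≠ 1 ∧ g * w * g⁻¹ = a * w ∧ ∀ r ∈ R, g * r = r * g := by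
  classical
  haveI : Fact (Nat.Prime 2) := ⟨Nat.prime_two⟩
  haveI hAn : A.Normal := c.A_normal
  set O := Cfsg.pCore 2 U with hOdef
  have hOn : O.Normal := inferInstance
  have hO2 : IsPGroup 2 O := CfsgLib.PCore.pCore_isPGroup
  have hC := c.centralizer_pCore_le hF
  have hodd : ∀ r ∈ R, Odd (orderOf r) := fun r hr =>
    Odd.of_dvd_nat hRodd (Subgroup.orderOf_dvd_natCard R hr)
  have hOR : ∀ r ∈ R, r ∈ O → r = 1 := fun r hr hrO =>
    (Subgroup.eq_bot_iff_forall _).1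
      (CfsgLib.PCore.inf_eq_bot_of_isPGroup_coprime hO2 (Nat.coprime_two_right.2 hRodd)) r ⟨hrO, hr⟩
  by_cases hw : w ∈ O
  · refine Or.inl ((Subgroup.eq_bot_iff_forall _).2 fun r hr => hOR r hr ?_)
    refine mem_of_sq_mem (hodd r hr) ?_
    have h1 := mul_mem (hOn.conj_mem w hw r) (inv_mem hw)
    have e : r * w * r⁻¹ * w⁻¹ = r * (w * r * w⁻¹)⁻¹ := by group
    rwa [e, hRw r hr, inv_inv] at h1
  set M := O ⊓ cw w with hMdef
  have hAM : A ≤ M := le_inf c.A_le_O c.A_le_J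
  have hRM : ∀ m ∈ M, ∀ r ∈ R, m * r = r * m := by
    intro m hm r hr
    have h1 := hOR (m * r * m⁻¹ * r⁻¹) (mul_mem (hRJ m hm.2 r hr) (inv_mem hr))
      (by
        rw [mul_assoc (m * r), mul_assoc m]
        exact mul_mem hm.1 (by simpa [mul_assoc] using hOn.conj_mem _ (inv_mem hm.1) r))
    rw [mul_inv_eq_one, mul_inv_eq_iff_eq_mul] at h1
    exact h1
  by_cases hco : c.co1 ≤ M
  · have hOM : O ≤ M := by
      by_contra hne
      obtain ⟨y, hy, hyM, hy2⟩ := exists_fixed_coset hO2 (lt_of_le_not_ge inf_le_left hne) c.w_sq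
        (fun z hz => hOn.conj_mem z hz w) (fun z hz => by
          rw [← mem_centralizer_singleton_iff.1 hz.2, mul_inv_cancel_right]; exact hz)
      exact hyM (hco (c.mem_co1_of_fixed hy hy2.2))
    exact Or.inl ((Subgroup.eq_bot_iff_forall _).2 fun r hr =>
      hOR r hr (hC (mem_centralizer_iff.2 fun x hx => hRM x (hOM hx) r hr)))
  obtain ⟨x1, hx1, hx1M⟩ := SetLike.not_le_iff_exists.1 hco
  have hx1J : x1 ∉ cw w := fun hJ => hx1M ⟨hx1.1, hJ⟩
  by_cases hcent : ∀ x ∈ c.co1, ∀ r ∈ R, x * r = r * x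
  · refine Or.inr ⟨x1, w * x1 * w * x1⁻¹, hx1.2, fun e => hx1J ?_, ?_, hcent x1 hx1⟩
    · rw [mem_centralizer_singleton_iff]
      calc x1 * w = (w * w) * x1 * w := by rw [c.w_sq, one_mul]
        _ = w * ((w * x1 * w * x1⁻¹) * x1) := by group
        _ = w * x1 := by rw [e, one_mul]
    · rw [← c.comm_A hx1.2 w]
      calc x1 * w * x1⁻¹ = (w * w) * x1 * w * x1⁻¹ := by rw [c.w_sq, one_mul]
        _ = _ := by group
  exfalso
  -- `C_O(R) = M`
  have hCR : ∀ x ∈ O, (∀ r ∈ R, x * r = r * x) → x ∈ M := by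
    let Y : Subgroup U := O ⊓ centralizer (R : Set U)
    have hMY : M ≤ Y := fun m hm => ⟨hm.1, mem_centralizer_iff.2 fun r hr => (hRM m hm r hr).symm⟩
    have hYM : Y ≤ M := by
      by_contra hne
      have hwR : ∀ r ∈ R, w⁻¹ * r * w = r⁻¹ := fun r hr => by
        have := hRw r hr
        rw [c.w_inv] at this ⊢
        exact this
      obtain ⟨y, hy, hyM, hy2⟩ := exists_fixed_coset (hO2.to_le inf_le_left) (lt_of_le_not_ge hMY hne)
        c.w_sq (fun z hz => ⟨hOn.conj_mem z hz.1 w, mem_centralizer_iff.2 fun r hr => by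
          have h1 : r⁻¹ * z = z * r⁻¹ := mem_centralizer_iff.1 hz.2 _ (inv_mem hr)
          calc r * (w * z * w⁻¹) = w * (w⁻¹ * r * w) * z * w⁻¹ := by group
            _ = w * (z * r⁻¹) * w⁻¹ := by rw [hwR r hr, mul_assoc w, h1]
            _ = w * z * w⁻¹ * (w * r * w⁻¹)⁻¹ := by group
            _ = _ := by rw [hRw r hr, inv_inv]⟩)
        (fun z hz => by rw [← mem_centralizer_singleton_iff.1 hz.2, mul_inv_cancel_right]; exact hz)
      have hyc := c.mem_co1_of_fixed hy.1 hy2.2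
      refine hcent fun x hx r hr => ?_
      let S : Subgroup U := c.co1 ⊓ centralizer (R : Set U)
      have hSh : ∀ z ∈ S, h z ∈ S := fun z hz => ⟨c.h_co1 hz.1, mem_centralizer_iff.2 fun s hs => by
        obtain ⟨⟨s', hs'⟩, e⟩ := Finite.surjective_of_injective
          (f := fun y : R => (⟨h y, hRh y y.2⟩ : R))
          (fun a b e => Subtype.ext (h.injective (congrArg Subtype.val e))) ⟨s, hs⟩
        rw [← show h s' = s from congrArg Subtype.val e, ← map_mul, ← map_mul,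
          mem_centralizer_iff.1 hz.2 s' hs']⟩
      obtain ⟨s, hs, hsM⟩ := c.co1_irr (S := S) inf_le_left hSh (x := y) ⟨hyc, hy.2⟩
        (fun hJ => hyM ⟨hy.1, hJ⟩) hx
      have h1 : x ∈ centralizer (R : Set U) := by
        rw [show x = s * (s⁻¹ * x) by group]
        exact mul_mem hs.2 (hMY hsM).2
      exact (mem_centralizer_iff.1 h1 r hr).symm
    exact fun x hx hxr => hYM ⟨hx, mem_centralizer_iff.2 fun r hr => (hxr r hr).symm⟩
  have hMh : ∀ x ∈ M, h x ∈ M := fun x hx => ⟨c.h_O hx.1, c.h_J hx.2⟩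
  have hMcases := c.M_cases hw (inf_le_left : M ≤ O) inf_le_right hAM hMh
  -- the conjugation maps
  let σ : U → MulAut U := fun g => MulAut.conj g
  have hconjO : ∀ g : U, ∀ x ∈ O, σ g x ∈ O := fun g x hx => hOn.conj_mem x hx g
  -- choose the layer
  obtain ⟨Z, hZO, hAZ, hZM, hZsq, hZcomm, hZh, hZw, hZR, hmz, hZmoved⟩ :
      ∃ Z : Subgroup U, Z ≤ O ∧ A ≤ Z ∧ ¬ Z ≤ A ∧ (∀ z ∈ Z, z * z ∈ M) ∧
        (∀ z ∈ Z, ∀ z' ∈ Z, ⁅z, z'⁆ ∈ M) ∧ (∀ z ∈ Z, h z ∈ Z) ∧ (∀ z ∈ Z, w * z * w⁻¹ ∈ Z) ∧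
        (∀ r ∈ R, ∀ z ∈ Z, r * z * r⁻¹ ∈ Z) ∧ (∀ m ∈ M, ∀ z ∈ Z, ⁅m, z⁆ ∈ A) ∧
        ¬ ∀ z ∈ Z, ∀ r ∈ R, z * r = r * z := by
    have hAO : A < O := lt_of_le_not_ge c.A_le_O fun hle => hco fun x hx => hAM (hle hx.1)
    obtain ⟨Zc, hZcO, hAZc, hZcA, hZcsq, hZcc, hZca⟩ :=
      exists_omega_center hO2 hAO fun x _ m hm => hAn.conj_mem m hm x
    have hZch : ∀ z ∈ Zc, h z ∈ Zc := hZca h (fun x hx => c.h_O hx) c.h_A
    have hZcg : ∀ g : U, ∀ z ∈ Zc, g * z * g⁻¹ ∈ Zc := fun g =>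
      hZca (σ g) (hconjO g) fun a ha => hAn.conj_mem a ha g
    by_cases hfix : ∀ z ∈ Zc, ∀ r ∈ R, z * r = r * z
    swap
    · refine ⟨Zc, hZcO, hAZc, hZcA, fun z hz => hAM (hZcsq z hz),
        fun z hz z' hz' => hAM (hZcc z hz z' (hZcO hz')), hZch, hZcg w,
        fun r _ => hZcg r, fun m hm z hz => ?_, hfix⟩
      rw [← inv_mem_iff, commutatorElement_inv]
      exact hZcc z hz m hm.1
    -- now `Zc = M`
    have hle : Zc ≤ M := fun z hz => hCR z (hZcO hz) (hfix z hz)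
    have hfullZ : ∀ t : T, ∃ x : cw w, (x : U) ∈ Zc ∧ φ x = t :=
      (c.M_cases hw hZcO (hle.trans inf_le_right) hAZc hZch).resolve_left fun e => hZcA e.le
    have hMeq : M ≤ Zc := fun m hm => by
      obtain ⟨x, hx, hxm⟩ := hfullZ (φ ⟨m, hm.2⟩)
      have h1 := c.eq_one_of_phi hw (x := x⁻¹ * ⟨m, hm.2⟩) (mul_mem (inv_mem (hZcO hx)) hm.1)
        (by rw [map_mul, map_inv, hxm, inv_mul_cancel])
      rw [show m = (x : U) from (congrArg Subtype.val (inv_mul_eq_one.1 h1)).symm]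
      exact hx
    have hMn : ∀ x : U, ∀ m ∈ M, x * m * x⁻¹ ∈ M := fun x m hm => hle (hZcg x m (hMeq hm))
    have hMO : M < O := lt_of_le_not_ge inf_le_left fun hle' => hco fun x hx => hle' hx.1
    obtain ⟨Z2, hZ2O, hMZ2, hZ2M, hZ2sq, hZ2c, hZ2a⟩ :=
      exists_omega_center hO2 hMO fun x _ m hm => hMn x m hm
    refine ⟨Z2, hZ2O, hAM.trans hMZ2, fun e => hZ2M (e.trans hAM), hZ2sq,
      fun z hz z' hz' => hZ2c z hz z' (hZ2O hz'), hZ2a h (fun x hx => c.h_O hx) hMh,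
      hZ2a (σ w) (hconjO w) (hMn w), fun r _ => hZ2a (σ r) (hconjO r) (hMn r),
      fun m hm z hz => hZcc m (hMeq hm) z (hZ2O hz),
      fun hall => hZ2M fun z hz => hCR z (hZ2O hz) (hall z hz)⟩
  set K := Subgroup.closure ({x | ∃ z ∈ Z, ∃ r ∈ R, x = ⁅z, r⁆} ∪ (A : Set U)) with hKdef
  have hgenZ : ∀ z ∈ Z, ∀ r ∈ R, ⁅z, r⁆ ∈ Z := fun z hz r hr => by
    have e : ⁅z, r⁆ = z * (r * z⁻¹ * r⁻¹) := by rw [commutatorElement_def]; group
    rw [e]; exact mul_mem hz (hZR r hr _ (inv_mem hz))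
  have hKZ : K ≤ Z := (closure_le _).2 <| by
    rintro x (⟨z, hz, r, hr, rfl⟩ | hx)
    · exact hgenZ z hz r hr
    · exact hAZ hx
  have hKO : K ≤ O := hKZ.trans hZO
  have hAK : A ≤ K := fun a ha => subset_closure (Or.inr ha)
  have hKclo : ∀ α : MulAut U, (∀ z ∈ Z, α z ∈ Z) → (∀ r ∈ R, α r ∈ R) → (∀ a ∈ A, α a ∈ A) →
      ∀ k ∈ K, α k ∈ K := by
    intro α hαZ hαR hαA
    have : K ≤ K.comap α.toMonoidHom := (closure_le _).2 <| by
      rintro x (⟨z, hz, r, hr, rfl⟩ | hx)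
      · refine subset_closure (Or.inl ⟨α z, hαZ z hz, α r, hαR r hr, ?_⟩)
        exact map_commutatorElement α z r
      · exact subset_closure (Or.inr (hαA x hx))
    exact fun k hk => this hk
  have hKh : ∀ k ∈ K, h k ∈ K := hKclo h hZh hRh c.h_A
  have hKw : ∀ k ∈ K, w * k * w⁻¹ ∈ K := hKclo (σ w) hZw (fun r hr => by
    show w * r * w⁻¹ ∈ R
    rw [hRw r hr]; exact inv_mem hr) fun a ha => hAn.conj_mem a ha w
  have hKR : ∀ r ∈ R, ∀ k ∈ K, r * k * r⁻¹ ∈ K := fun r hr =>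
    hKclo (σ r) (hZR r hr) (fun s hs => by
      show r * s * r⁻¹ ∈ R
      exact mul_mem (mul_mem hr hs) (inv_mem hr)) fun a ha => hAn.conj_mem a ha r
  have hMK : ∀ m ∈ M, ∀ k ∈ K, m * k = k * m := by
    intro m hm
    have : K ≤ centralizer ({m} : Set U) := (closure_le _).2 <| by
      rintro x (⟨z, hz, r, hr, rfl⟩ | hx)
      · rw [SetLike.mem_coe, mem_centralizer_singleton_iff]
        set a := ⁅m, z⁆ with ha
        have hmz' : m * z * m⁻¹ = a * z := by rw [ha, commutatorElement_def]; group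
        have hrm : m * r * m⁻¹ = r := by rw [hRM m hm r hr, mul_inv_cancel_right]
        have haA : a ∈ A := hmz m hm z hz
        have e : m * ⁅z, r⁆ * m⁻¹ = ⁅z, r⁆ := by
          calc m * ⁅z, r⁆ * m⁻¹ = ⁅m * z * m⁻¹, m * r * m⁻¹⁆ := conjugate_commutatorElement _ _ _
            _ = (a * z) * r * (a * z)⁻¹ * r⁻¹ := by rw [hmz', hrm, commutatorElement_def]
            _ = a * (z * r * z⁻¹) * (a⁻¹ * r⁻¹) := by group
            _ = a * (z * r * z⁻¹) * (r⁻¹ * a⁻¹) := by rw [← c.comm_A (inv_mem haA) r⁻¹]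
            _ = a * ⁅z, r⁆ * a⁻¹ := by rw [commutatorElement_def]; group
            _ = _ := by rw [← c.comm_A haA ⁅z, r⁆, mul_inv_cancel_right]
        exact (mul_inv_eq_iff_eq_mul.1 e).symm
      · rw [SetLike.mem_coe, mem_centralizer_singleton_iff]
        exact (c.comm_A hx m).symm
    exact fun k hk => (mem_centralizer_singleton_iff.1 (this hk)).symm
  have hKJ : ∀ k ∈ K, k ∈ cw w → k ∈ A := by
    have h1 := c.M_cases hw (inf_le_of_left_le hKO : K ⊓ M ≤ O) (inf_le_right.trans inf_le_right)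
      (le_inf hAK hAM) fun x hx => ⟨hKh x hx.1, hMh x hx.2⟩
    rcases h1 with e | hfull
    · exact fun k hk hkJ => e.le ⟨hk, hKO hk, hkJ⟩
    · exfalso
      obtain ⟨s, t, hst⟩ := c.T_not_comm
      obtain ⟨x, hx, rfl⟩ := hfull s
      obtain ⟨y, hy, rfl⟩ := hfull t
      refine hst ?_
      rw [← map_mul, ← map_mul]
      exact congrArg φ (Subtype.ext (hMK x hx.2 y hy.1))
  have hKsq : ∀ k ∈ K, k * k ∈ A := fun k hk => hKJ _ (mul_mem hk hk) (hZsq k (hKZ hk)).2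
  have hKcomm : ∀ k ∈ K, ∀ l ∈ K, ⁅k, l⁆ ∈ A := fun k hk l hl => hKJ _
    (by rw [commutatorElement_def]; exact mul_mem (mul_mem (mul_mem hk hl) (inv_mem hk)) (inv_mem hl))
    (hZcomm k (hKZ hk) l (hKZ hl)).2
  -- `R` moves `K`
  obtain ⟨k0, hk0, r0, hr0, hk0r⟩ : ∃ k ∈ K, ∃ r ∈ R, k * r ≠ r * k := by
    by_contra hcon
    push Not at hcon
    refine hZmoved fun z hz r hr => ?_
    set e := ⁅z, r⁆ with he
    have heK : e ∈ K := subset_closure (Or.inl ⟨z, hz, r, hr, rfl⟩)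
    have hcm := hcon e heK r hr
    have hze : z⁻¹ * e * z = r * z⁻¹ * r⁻¹ * z := by rw [he, commutatorElement_def]; group
    have hpow : ∀ i : ℕ, z * r ^ i * z⁻¹ = e ^ i * r ^ i := fun i => by
      rw [← conj_pow, show z * r * z⁻¹ = e * r by rw [he, commutatorElement_def]; group]
      exact (show Commute e r from hcm).mul_pow i
    have h1 := hpow (orderOf r)
    rw [pow_orderOf_eq_one, mul_one, mul_one, mul_inv_cancel] at h1
    obtain ⟨j, hj⟩ := hO2 ⟨e, hKO heK⟩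
    have hj' : e ^ 2 ^ j = 1 := congrArg Subtype.val hj
    have he1 : e = 1 := orderOf_eq_one_iff.1 (Nat.eq_one_of_dvd_coprimes
      (Nat.Coprime.pow_right j (Nat.coprime_two_right.2 (hodd r hr)))
      (orderOf_dvd_of_pow_eq_one h1.symm) (orderOf_dvd_of_pow_eq_one hj'))
    exact commutatorElement_eq_one_iff_mul_comm.1 he1
  set π := QuotientGroup.mk' A with hπdef
  have hπcomm : ∀ k ∈ K, ∀ l ∈ K, π k * π l = π l * π k := fun k hk l hl => by
    rw [← commutatorElement_eq_one_iff_mul_comm, ← map_commutatorElement]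
    exact (QuotientGroup.eq_one_iff _).2 (hKcomm k hk l hl)
  have hfK : ∀ k ∈ K, w * k * w * k⁻¹ ∈ K ⊓ c.co1 := by
    intro k hk
    set v := w * k * w * k⁻¹ with hv
    have hvK : v ∈ K := by
      have := mul_mem (hKw k hk) (inv_mem hk)
      rwa [c.w_inv] at this
    refine ⟨hvK, hKO hvK, ?_⟩
    have hv1 : w * v * w = v⁻¹ := by
      simp only [hv, _root_.mul_inv_rev, inv_inv, c.w_inv]
      calc w * (w * k * w * k⁻¹) * w = (w * w) * k * w * k⁻¹ * w := by group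
        _ = _ := by rw [c.w_sq]; group
    rw [hv1, ← _root_.mul_inv_rev]
    exact inv_mem (hKsq v hvK)
  let fK : K →* U ⧸ A := MonoidHom.mk' (fun k => π (w * k * w * (k : U)⁻¹)) fun k l => by
    have e : w * ((k : U) * l) * w * ((k : U) * l)⁻¹ =
        w * k * w * (w * l * w * (l : U)⁻¹) * (k : U)⁻¹ := by
      calc w * ((k : U) * l) * w * ((k : U) * l)⁻¹
          = w * k * 1 * l * w * (l : U)⁻¹ * (k : U)⁻¹ := by group
        _ = w * k * (w * w) * l * w * (l : U)⁻¹ * (k : U)⁻¹ := by rw [c.w_sq]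
        _ = _ := by group
    show π (w * ((k : U) * l) * w * ((k : U) * l)⁻¹) = π _ * π _
    rw [e, map_mul _ _ (k : U)⁻¹, map_mul _ (w * k * w) _, map_mul _ (w * k * w) (k : U)⁻¹]
    have h1 : π (w * l * w * (l : U)⁻¹) * π (k : U)⁻¹ = π (k : U)⁻¹ * π (w * l * w * (l : U)⁻¹) :=
      hπcomm _ (hfK l l.2).1 _ (inv_mem k.2)
    rw [mul_assoc, h1, ← mul_assoc]
  obtain ⟨k1, hk1, hk1c, hk1A, hk1r⟩ : ∃ k1, k1 ∈ K ∧ k1 ∈ c.co1 ∧ k1 ∉ A ∧
      π k1 ∈ fK.range := by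
    by_contra hcon
    push Not at hcon
    have hall : ∀ k ∈ K, π (w * k * w * k⁻¹) = 1 := fun k hk =>
      (QuotientGroup.eq_one_iff _).2 (by
        by_contra hA'
        exact hcon _ (hfK k hk).1 (hfK k hk).2 hA' ⟨⟨k, hk⟩, rfl⟩)
    apply hk0r
    refine ((commute_of_sq (hodd r0 hr0) ?_).symm)
    set v := r0 * k0 * r0⁻¹ with hv
    have hwr : w * r0 = r0⁻¹ * w := by
      rw [← hRw r0 hr0]; group
    have hwr' : r0⁻¹ * w = w * r0 := hwr.symm
    have h1 := hall v (hKR r0 hr0 k0 hk0)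
    have h2 := hall k0 hk0
    have e : w * v * w * v⁻¹ = r0⁻¹ * (w * k0 * w * k0⁻¹) * r0 * (r0⁻¹ * k0 * r0) * v⁻¹ := by
      have hrw2 : r0⁻¹ * w * r0⁻¹ = w := by rw [hwr', mul_assoc, mul_inv_cancel, mul_one]
      calc w * v * w * v⁻¹ = (w * r0) * k0 * (r0⁻¹ * w * r0⁻¹) * r0 * v⁻¹ := by rw [hv]; group
        _ = (r0⁻¹ * w) * k0 * w * r0 * v⁻¹ := by rw [hwr, hrw2]
        _ = _ := by group
    rw [e, map_mul, map_mul, map_mul, map_mul, h2, mul_one, ← map_mul, ← map_mul, ← map_mul] at h1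
    rw [hπdef, QuotientGroup.mk'_apply, QuotientGroup.eq_one_iff] at h1
    set a := r0⁻¹ * r0 * (r0⁻¹ * k0 * r0) * v⁻¹ with ha
    -- `a = [r0⁻¹, ...]` squares to one and commutes with `r0`
    have e3 : r0⁻¹ * k0 * r0 = a * v := by rw [ha]; group
    have h3 : r0 * r0 * k0 = a⁻¹ * k0 * (r0 * r0) := by
      have e4 : r0 * (a * v) * r0⁻¹ = k0 := by rw [← e3]; group
      have e5 : a * (r0 * v * r0⁻¹) = k0 := by
        rw [← e4]
        calc a * (r0 * v * r0⁻¹) = (a * r0) * v * r0⁻¹ := by group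
          _ = (r0 * a) * v * r0⁻¹ := by rw [c.comm_A h1 r0]
          _ = _ := by group
      calc r0 * r0 * k0 = (r0 * v * r0⁻¹) * (r0 * r0) := by rw [hv]; group
        _ = (a⁻¹ * k0) * (r0 * r0) := by rw [← e5, inv_mul_cancel_left]
    -- hence `r0²` commutes with `k0`
    have ha2 : a⁻¹ = a := inv_eq_of_mul_eq_one_right (c.sq a h1)
    rw [ha2] at h3
    have h4 : ∀ i : ℕ, (r0 * r0) ^ i * k0 = a ^ i * k0 * (r0 * r0) ^ i := by
      intro i
      induction i with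
      | zero => simp
      | succ i ih =>
        calc (r0 * r0) ^ (i + 1) * k0 = (r0 * r0) * ((r0 * r0) ^ i * k0) := by rw [pow_succ']; group
          _ = (r0 * r0) * (a ^ i * k0 * (r0 * r0) ^ i) := by rw [ih]
          _ = ((r0 * r0) * a ^ i) * k0 * (r0 * r0) ^ i := by group
          _ = (a ^ i * (r0 * r0)) * k0 * (r0 * r0) ^ i := by rw [← c.comm_A (pow_mem h1 i) (r0 * r0)]
          _ = a ^ i * (a * k0 * (r0 * r0)) * (r0 * r0) ^ i := by rw [← h3]; group
          _ = _ := by simp only [pow_succ a i, pow_succ' (r0 * r0) i, mul_assoc]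
    obtain ⟨m, hm⟩ := hodd r0 hr0
    have h5 := h4 (orderOf r0)
    rw [← pow_two, ← pow_mul, mul_comm 2, pow_mul, pow_orderOf_eq_one, one_pow, one_mul, mul_one,
      hm, pow_succ, pow_mul, pow_two a, c.sq a h1, one_pow, one_mul] at h5
    have ha1 : a = 1 := mul_eq_right.1 h5.symm
    rw [ha1, one_mul] at h3
    exact h3
  have hk1J : k1 ∉ cw w := fun hJ => hk1A (hKJ k1 hk1 hJ)
  -- the range of `fK` covers `K ⊓ co1`
  have hrange : ∀ y ∈ K ⊓ c.co1, π y ∈ fK.range := by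
    intro y hy
    let S : Subgroup U := (fK.range.comap π) ⊓ (K ⊓ c.co1)
    have hSh : ∀ z ∈ S, h z ∈ S := by
      rintro z ⟨⟨x, hx⟩, hz⟩
      refine ⟨⟨⟨h x, hKh x x.2⟩, ?_⟩, hKh z hz.1, c.h_co1 hz.2⟩
      show π (w * h x * w * (h (x : U))⁻¹) = π (h z)
      rw [← c.f_h]
      have hxz : π (w * (x : U) * w * (x : U)⁻¹) = π z := hx
      rw [hπdef, QuotientGroup.mk'_apply, QuotientGroup.mk'_apply, QuotientGroup.eq] at hxz ⊢
      rw [← map_inv, ← map_mul]
      exact c.h_A _ hxz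
    obtain ⟨s, hs, hsy⟩ := c.co1_irr (S := S) (inf_le_right.trans inf_le_right) hSh
      (x := k1) ⟨hk1r, hk1, hk1c⟩ hk1J hy.2
    have h1 := hKJ _ (mul_mem (inv_mem hs.2.1) hy.1) hsy.2
    have e : π y = π s := by
      rw [hπdef, QuotientGroup.mk'_apply, QuotientGroup.mk'_apply, eq_comm, QuotientGroup.eq]
      exact h1
    rw [e]
    exact hs.1
  have hAco : A ≤ K ⊓ c.co1 := fun a ha => ⟨hAK ha, c.A_le_O ha, by
    rw [c.comm_A ha w, mul_assoc a, c.w_sq, mul_one, mul_inv_cancel]; exact A.one_mem⟩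
  rcases hMcases with hMA | hfull
  · -- `M = A`: `K = O`
    have hKMA : ∀ x ∈ O, x ∈ cw w → x ∈ A := fun x hx hxJ => hMA.le ⟨hx, hxJ⟩
    have hKtop : K = O := by
      refine le_antisymm hKO ?_
      by_contra hne
      obtain ⟨y, hy, hyK, hy2⟩ := exists_fixed_coset hO2 (lt_of_le_not_ge hKO hne) c.w_sq
        (fun z hz => hOn.conj_mem z hz w) hKw
      set k := y⁻¹ * (w * y * w⁻¹) with hk
      have hkc : k ∈ c.co1 := ⟨hKO hy2, by
        have hv1 : w * k * w = k⁻¹ := by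
          simp only [hk, _root_.mul_inv_rev, inv_inv, c.w_inv]
          calc w * (y⁻¹ * (w * y * w)) * w = w * y⁻¹ * w * y * (w * w) := by group
            _ = _ := by rw [c.w_sq]; group
        rw [hv1, ← _root_.mul_inv_rev]
        exact inv_mem (hKsq k hy2)⟩
      obtain ⟨v, hv⟩ := hrange k ⟨hy2, hkc⟩
      have hv' : π (w * (v : U) * w * (v : U)⁻¹) = π k := hv
      have hyv : y * v ∈ c.co1 := by
        refine c.mem_co1_of_fixed (mul_mem hy (hKO v.2)) (c.A_le_J ?_)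
        rw [← QuotientGroup.eq_one_iff]
        show π ((y * v)⁻¹ * (w * (y * v) * w⁻¹)) = 1
        have e : (y * v)⁻¹ * (w * (y * (v : U)) * w⁻¹) = (v : U)⁻¹ * k * (w * v * w) := by
          rw [hk, c.w_inv]
          calc (y * v)⁻¹ * (w * (y * (v : U)) * w) = (v : U)⁻¹ * y⁻¹ * w * y * 1 * v * w := by group
            _ = (v : U)⁻¹ * y⁻¹ * w * y * (w * w) * v * w := by rw [c.w_sq]
            _ = _ := by group
        have h1 : π (v : U)⁻¹ * π k = π k * π (v : U)⁻¹ := hπcomm _ (inv_mem v.2) _ hy2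
        have h2 : π (v : U)⁻¹ * π (w * v * w) = π (w * v * w) * π (v : U)⁻¹ :=
          hπcomm _ (inv_mem v.2) _ (by simpa [c.w_inv] using hKw v v.2)
        rw [e, map_mul _ _ (w * v * w), map_mul, h1, mul_assoc, h2, ← map_mul _ (w * v * w),
          hv', ← map_mul]
        exact (QuotientGroup.eq_one_iff _).2 (hKsq k hy2)
      have hyvK : y * v ∈ K := by
        obtain ⟨s, hs, hsy⟩ := c.co1_irr (S := K ⊓ c.co1) inf_le_right
          (fun z hz => ⟨hKh z hz.1, c.h_co1 hz.2⟩) ⟨hk1, hk1c⟩ hk1J hyv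
        have h1 : s * (s⁻¹ * (y * v)) ∈ K := mul_mem hs.1 (hAK (hKMA _ hsy.1 hsy.2))
        rwa [mul_inv_cancel_left] at h1
      exact hyK (by simpa using mul_mem hyvK (inv_mem v.2))
    exact c.false_of_small hF hKtop hKMA hKsq hKcomm
      (fun e => hk0r (by rw [(Subgroup.eq_bot_iff_forall _).1 e r0 hr0]; group)) hRodd hRc hRw hRJ hRh
  · -- `M` full
    refine c.false_of_large hw hKO hAK hKsq hKcomm hKJ hMK
      (fun t => let ⟨x, hx, e⟩ := hfull t; ⟨x, hx.1, e⟩) hk1 hk1c hk1J ?_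
    set C' := K ⊓ c.co1
    -- `|C'| ≥ q²`
    let f : C' →* U := MonoidHom.mk' (fun s => w * s * w * (s : U)⁻¹) fun s t => by
      have e : w * ((s : U) * t) * w * ((s : U) * t)⁻¹ =
          w * s * w * (w * t * w * (t : U)⁻¹) * (s : U)⁻¹ := by
        calc w * ((s : U) * t) * w * ((s : U) * t)⁻¹
            = w * s * 1 * t * w * (t : U)⁻¹ * (s : U)⁻¹ := by group
          _ = w * s * (w * w) * t * w * (t : U)⁻¹ * (s : U)⁻¹ := by rw [c.w_sq]
          _ = _ := by group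
      show w * ((s : U) * t) * w * ((s : U) * t)⁻¹ = _
      rw [e, mul_assoc _ (w * t * w * (t : U)⁻¹) (s : U)⁻¹, ← c.comm_A t.2.2.2 (s : U)⁻¹, ← mul_assoc]
    have hf1 : A ≤ f.range := c.A_irr
      (by rintro _ ⟨s, rfl⟩; exact ⟨⟨h s, hKh s s.2.1, c.h_co1 s.2.2⟩, (c.f_h s).symm⟩)
      (a := w * k1 * w * k1⁻¹) ⟨⟨k1, hk1, hk1c⟩, rfl⟩ hk1c.2 (fun e => hk1J (by
        rw [mem_centralizer_singleton_iff]
        calc k1 * w = (w * w) * k1 * w := by rw [c.w_sq, one_mul]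
          _ = w * ((w * k1 * w * k1⁻¹) * k1) := by group
          _ = w * k1 := by rw [e, one_mul]))
    have hf2 : 2 ^ n ≤ Nat.card f.ker := by
      rw [← c.card_A]
      exact Nat.card_le_card_of_injective
        (fun a => (⟨⟨a, hAco a.2⟩, by
          show w * (a : U) * w * (a : U)⁻¹ = 1
          rw [c.comm_A a.2 w, mul_assoc (a : U), c.w_sq, mul_one, mul_inv_cancel]⟩ : f.ker))
        fun a b e => Subtype.ext (congrArg (fun x : f.ker => ((x : C') : U)) e)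
    have hC2 : 2 ^ n * 2 ^ n ≤ Nat.card C' := by
      rw [← f.ker.card_mul_index, Subgroup.index_ker]
      exact Nat.mul_le_mul hf2 (c.card_A.ge.trans (Subgroup.card_le_of_le hf1))
    -- `|π C'| ≥ q`
    let πC : C' →* U ⧸ A := π.comp C'.subtype
    have hker : Nat.card πC.ker ≤ 2 ^ n := by
      rw [← c.card_A]
      exact Nat.card_le_card_of_injective
        (fun x => (⟨(x : C'), (QuotientGroup.eq_one_iff _).1 x.2⟩ : A))
        fun x y e => Subtype.ext (Subtype.ext (congrArg Subtype.val e :))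
    have hC3 : 2 ^ n ≤ Nat.card πC.range := by
      refine Nat.le_of_mul_le_mul_left (le_trans hC2 ?_) (by positivity : 0 < 2 ^ n)
      rw [← πC.ker.card_mul_index, Subgroup.index_ker]
      exact Nat.mul_le_mul_right _ hker
    have hle : πC.range ≤ fK.range := by
      rintro _ ⟨x, rfl⟩
      exact hrange x x.2
    have hkerK : Nat.card C' ≤ Nat.card fK.ker :=
      Nat.card_le_card_of_injective
        (fun x => (⟨⟨x, x.2.1⟩, (QuotientGroup.eq_one_iff _).2 x.2.2.2⟩ : fK.ker))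
        fun x y e => Subtype.ext (congrArg (fun z : fK.ker => ((z : K) : U)) e)
    calc (2 ^ n) ^ 3 = 2 ^ n * 2 ^ n * 2 ^ n := by ring
      _ ≤ Nat.card fK.ker * Nat.card fK.range :=
        Nat.mul_le_mul (hC2.trans hkerK) (hC3.trans (Subgroup.card_le_of_le hle))
      _ = Nat.card K := by rw [← Subgroup.index_ker, Subgroup.card_mul_index]

end CoreHyp

end CfsgLib.ThreeFree.Core
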