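import Cfsg.Agent.Lib.ThreeFree.CoreRank
import Cfsg.Agent.Lib.ThreeFree.CoreKey

/-!
The endgame, stage V: the key lemma in `N / O(N)`.
-/

set_option autoImplicit false
set_option linter.style.haveILetI false
set_option linter.unusedSectionVars false

namespace CfsgLib.ThreeFree

open Subgroup CfsgLib.Components CfsgLib.ThreeFree.Core
open scoped commutatorElement

universe u

variable {G : Type u} [Group G] [Finite G] {S : Sylow 2 G} {A N : Subgroup G} {n : ℕ}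

/-- `C(A)` in `N / O(N)`. -/
abbrev centA (N A : Subgroup G) : Subgroup (N ⧸ Cfsg.pPrimeCore 2 N) :=
  centralizer (barB N A : Set (N ⧸ Cfsg.pPrimeCore 2 N))

namespace Endgame

variable (e : Endgame S A N n)
include e

theorem qmapN_eq_one {x : N} : qmap N x = 1 ↔ (x : G) ∈ coreN N := by
  show QuotientGroup.mk' _ x = 1 ↔ _
  rw [QuotientGroup.mk'_apply, QuotientGroup.eq_one_iff]
  exact ⟨fun h => ⟨x, h, rfl⟩, fun ⟨y, hy, h⟩ => (Subtype.ext h : y = x) ▸ hy⟩

theorem barN_normal : (barB N A).Normal := by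
  refine ⟨fun b hb q => ?_⟩
  obtain ⟨x, rfl⟩ := QuotientGroup.mk'_surjective _ q
  obtain ⟨v, hv, m, hm, hx⟩ := e.factor x x.2
  have e1 : qmap N x = qmap N ⟨m, e.setup.norm_le hm⟩ := by
    have : x = ⟨v, e.setup.coreN_le hv⟩ * ⟨m, e.setup.norm_le hm⟩ := Subtype.ext hx
    rw [this, map_mul, (e.qmapN_eq_one).2 hv, one_mul]
  rw [show (QuotientGroup.mk' (Cfsg.pPrimeCore 2 N)) x = qmap N x from rfl, e1]
  exact (mem_normalizer_iff.1 (qmap_mem_normalizer (x := (⟨m, e.setup.norm_le hm⟩ : N)) hm) b).1 hb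

theorem centA_normal : (centA N A).Normal := by
  haveI := e.barN_normal
  infer_instance

theorem mem_centA {x : N} (hx : ∀ a ∈ A, (x : G) * a = a * x) : qmap N x ∈ centA N A := by
  rw [mem_centralizer_iff]
  rintro _ ⟨a, ha, rfl⟩
  rw [← map_mul, ← map_mul]
  exact congrArg _ (Subtype.ext (hx a ha).symm)

theorem qmapN_A {x : N} (hx2 : x * x = 1) (hxA : ∀ a ∈ A, (x : G) * a = a * x)
    (h : qmap N x ∈ barB N A) : (x : G) ∈ A := by
  obtain ⟨a, ha, hax⟩ := h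
  rw [show x = a from (eq_of_qmap (Subtype.ext (e.setup.mul_self_eq_one ha)) hx2
    (Subtype.ext (hxA a ha).symm) hax).symm]
  exact ha

theorem qmapN_inj {a b : N} (ha : (a : G) ∈ A) (hb : (b : G) ∈ A) (h : qmap N a = qmap N b) : a = b :=
  eq_of_qmap (Subtype.ext (e.setup.mul_self_eq_one ha)) (Subtype.ext (e.setup.mul_self_eq_one hb))
    (Subtype.ext (e.setup.comm ha hb)) h

theorem exists_lift_cA {q : N ⧸ Cfsg.pPrimeCore 2 N} (hq : q ∈ centA N A) :
    ∃ x : N, qmap N x = q ∧ ∀ a ∈ A, (x : G) * a = a * x := by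
  haveI : Fact (Nat.Prime 2) := ⟨Nat.prime_two⟩
  have hP : IsPGroup 2 (A.subgroupOf N) := IsPGroup.comap_subtype (e.setup.isPGroup_of_le le_rfl)
  change q ∈ centralizer (((A.subgroupOf N).map (QuotientGroup.mk' _) :
    Subgroup (N ⧸ Cfsg.pPrimeCore 2 N)) : Set (N ⧸ Cfsg.pPrimeCore 2 N)) at hq
  rw [← map_centralizer_quotient CfsgLib.PCore.pPrimeCore_coprime hP] at hq
  obtain ⟨x, hx, rfl⟩ := hq
  exact ⟨x, rfl, fun a ha => (congrArg Subtype.val
    (mem_centralizer_iff.1 hx ⟨a, e.setup.A_le ha⟩ ha)).symm⟩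

theorem exists_lift_cAw {w : N} (hw2 : orderOf (w : G) = 2) (hw : A ≤ cent (w : G))
    {q : N ⧸ Cfsg.pPrimeCore 2 N} (hq : q ∈ centA N A) (hqw : q * qmap N w = qmap N w * q) :
    ∃ x : N, qmap N x = q ∧ (∀ a ∈ A, (x : G) * a = a * x) ∧ (x : G) * w = w * x := by
  haveI : Fact (Nat.Prime 2) := ⟨Nat.prime_two⟩
  set P := A.subgroupOf N ⊔ zpowers w
  have hn : zpowers w ≤ normalizer ((A.subgroupOf N : Subgroup N) : Set N) := by
    refine le_trans ?_ (centralizer_le_normalizer _)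
    rw [zpowers_le, mem_centralizer_iff]
    exact fun a ha => Subtype.ext (mem_cent.1 (hw (show (a : G) ∈ A from ha)))
  have hP : IsPGroup 2 P := by
    show IsPGroup 2 (A.subgroupOf N ⊔ zpowers w : Subgroup N)
    rw [sup_comm]
    exact IsPGroup.to_sup_of_normal_right'
      (Setup.isPGroup_zpowers_of_orderOf (by rw [← Subgroup.orderOf_coe]; exact hw2))
      (IsPGroup.comap_subtype (e.setup.isPGroup_of_le le_rfl)) hn
  have hq' : q ∈ centralizer ((P.map (QuotientGroup.mk' (Cfsg.pPrimeCore 2 N)) :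
      Subgroup (N ⧸ Cfsg.pPrimeCore 2 N)) : Set (N ⧸ Cfsg.pPrimeCore 2 N)) := by
    have hle : P ≤ (centralizer ({q} : Set (N ⧸ Cfsg.pPrimeCore 2 N))).comap (qmap N) :=
      sup_le (fun a ha => mem_centralizer_singleton_iff.2
        (mem_centralizer_iff.1 hq _ (mem_map_of_mem _ ha)))
        (zpowers_le.2 (mem_centralizer_singleton_iff.2 hqw.symm))
    rw [mem_centralizer_iff]
    rintro _ ⟨p, hp, rfl⟩
    exact mem_centralizer_singleton_iff.1 (hle hp)
  rw [← map_centralizer_quotient CfsgLib.PCore.pPrimeCore_coprime hP] at hq'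
  obtain ⟨x, hx, rfl⟩ := hq'
  exact ⟨x, rfl, fun a ha => (congrArg Subtype.val
    (mem_centralizer_iff.1 hx ⟨a, e.setup.A_le ha⟩ (mem_sup_left ha))).symm,
    (congrArg Subtype.val (mem_centralizer_iff.1 hx w (mem_sup_right (mem_zpowers w)))).symm⟩

theorem exists_bad_lift {q : N ⧸ Cfsg.pPrimeCore 2 N} (hq : q ∈ centA N A) (hq2 : q * q = 1)
    (hqA : q ∉ barB N A) : ∃ x : N, Bad N (x : G) ∧ A ≤ cent (x : G) ∧ qmap N x = q := by
  haveI : Fact (Nat.Prime 2) := ⟨Nat.prime_two⟩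
  obtain ⟨x0, rfl, hx0⟩ := e.exists_lift_cA hq
  have hne : qmap N x0 ≠ 1 := fun h => hqA (h ▸ one_mem _)
  obtain ⟨x, hxz, hxo, hxq⟩ := exists_lift_invol (qmap N) (by
    rw [QuotientGroup.ker_mk']
    exact Nat.coprime_two_right.1 CfsgLib.PCore.pPrimeCore_coprime)
    (orderOf_eq_prime (by rw [pow_two, hq2]) hne)
  have hxA : x ∈ centralizer ((A.subgroupOf N : Subgroup N) : Set N) :=
    (zpowers_le.2 (mem_centralizer_iff.2 fun a ha => Subtype.ext (hx0 a ha).symm)) hxz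
  refine ⟨x, ?_, fun a ha => mem_cent.2
    (congrArg Subtype.val (mem_centralizer_iff.1 hxA ⟨a, e.setup.A_le ha⟩ ha)), hxq⟩
  have hxo' : orderOf (x : G) = 2 := by rw [Subgroup.orderOf_coe]; exact hxo
  refine (e.dichotomy x x.2 hxo').resolve_right ?_
  rintro ⟨g, hg, hga⟩
  haveI := e.barN_normal
  refine hqA (hxq ▸ ?_)
  have h1 : qmap N (⟨g, hg⟩ * x * ⟨g, hg⟩⁻¹) ∈ barB N A := mem_map_of_mem _ hga
  have h2 := e.barN_normal.conj_mem _ h1 (qmap N ⟨g, hg⟩)⁻¹
  simpa [mul_assoc] using h2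

/-- The action of `C_U(w)` on the component of `C(w)`, with the torus. -/
theorem exists_phiU {w : N} (hb : Bad N (w : G)) (hw : A ≤ cent (w : G))
    (hwU : qmap N w ∈ centA N A) :
    ∃ (T : Type u) (_ : Group T) (φ : cw (⟨qmap N w, hwU⟩ : centA N A) →* T),
      Nat.card T = (2 ^ n) ^ 2 ∧ Function.Surjective φ ∧
      (∀ hx, φ ⟨⟨qmap N w, hwU⟩, hx⟩ = 1) ∧
      (∀ t : T, t * t = 1 → ∃ a : cw (⟨qmap N w, hwU⟩ : centA N A),
        ((a : centA N A) : N ⧸ Cfsg.pPrimeCore 2 N) ∈ barB N A ∧ φ a = t) ∧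
      (∀ a : cw (⟨qmap N w, hwU⟩ : centA N A),
        ((a : centA N A) : N ⧸ Cfsg.pPrimeCore 2 N) ∈ barB N A → φ a = 1 → a = 1) ∧
      (∃ s t : T, s * t ≠ t * s) ∧
      ∃ h0 : N, (h0 : G) ∈ cent (w : G) ∧ (h0 : G) ∈ normalizer (A : Set G) ∧
        (∀ a ∈ A, a ≠ 1 → ∀ b ∈ A, b ≠ 1 →
          ∃ k : ℕ, ((h0 : G)) ^ k * a * (((h0 : G)) ^ k)⁻¹ = b) ∧
        ∃ hT : MulAut T,
          (∀ x y : cw (⟨qmap N w, hwU⟩ : centA N A),
            ((y : centA N A) : N ⧸ Cfsg.pPrimeCore 2 N) =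
              qmap N h0 * ((x : centA N A) : N ⧸ Cfsg.pPrimeCore 2 N) * (qmap N h0)⁻¹ →
            φ y = hT (φ x)) ∧
          (∀ s t : T, s * s ≠ 1 → t * t ≠ 1 →
            ∃ k : ℕ, (t⁻¹ * (hT ^ k) s) * (t⁻¹ * (hT ^ k) s) = 1) ∧
          ∀ s : T, s * s ≠ 1 → (s⁻¹ * hT s) * (s⁻¹ * hT s) ≠ 1 := by
  classical
  haveI : Fact (Nat.Prime 2) := ⟨Nat.prime_two⟩
  have hp := e.setup.cent_ne_top hb.two
  set H := cent (w : G) with hH
  set C0 := H ⊓ centralizer (A : Set G)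
  have hC0N : C0 ≤ N :=
    inf_le_right.trans ((centralizer_le_normalizer _).trans e.setup.norm_le)
  have hC0A : ∀ y ∈ C0, ∀ a ∈ A, y * a = a * y := fun y hy a ha =>
    (mem_centralizer_iff.1 hy.2 a ha).symm
  let i1 : C0 →* N := Subgroup.inclusion hC0N
  let i2 : C0 →* H := Subgroup.inclusion (inf_le_left : C0 ≤ H)
  let α : C0 →* cw (⟨qmap N w, hwU⟩ : centA N A) :=
    (((qmap N).comp i1).codRestrict (centA N A) fun y => e.mem_centA (hC0A y y.2)).codRestrict _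
      fun y => mem_centralizer_singleton_iff.2 (Subtype.ext (by
        show qmap N (i1 y) * qmap N w = qmap N w * qmap N (i1 y)
        rw [← map_mul, ← map_mul]
        exact congrArg _ (Subtype.ext (mem_cent.1 y.2.1))))
  have hαv : ∀ y, ((α y : centA N A) : N ⧸ Cfsg.pPrimeCore 2 N) = qmap N (i1 y) := fun y => rfl
  let β : C0 →* centralizer (barB H A : Set (H ⧸ Cfsg.pPrimeCore 2 H)) :=
    ((qmap H).comp i2).codRestrict _ fun y => mem_centralizer_iff.2 (by
      rintro _ ⟨a, ha, rfl⟩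
      show qmap H a * qmap H (i2 y) = qmap H (i2 y) * qmap H a
      rw [← map_mul, ← map_mul]
      exact congrArg _ (Subtype.ext (hC0A y y.2 a ha).symm))
  have hαs : Function.Surjective α := by
    intro x
    obtain ⟨v, hv, hvA, hvw⟩ := e.exists_lift_cAw hb.two hw (x : centA N A).2
      (congrArg Subtype.val (mem_centralizer_singleton_iff.1 x.2))
    exact ⟨⟨v, mem_cent.2 hvw, mem_centralizer_iff.2 fun a ha => (hvA a ha).symm⟩,
      Subtype.ext (Subtype.ext hv)⟩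
  obtain ⟨T, hTgrp, φ, hcard, hφs, hφk, hφA, hnc, htor⟩ := e.exists_act hw hp hb.out
  have hker : α.ker ≤ (φ.comp β).ker := by
    intro y hy
    rw [MonoidHom.mem_ker, MonoidHom.comp_apply, hφk]
    have h1 : qmap N (i1 y) = 1 := by
      rw [← hαv, MonoidHom.mem_ker.1 hy]; rfl
    have h2 : (y : G) ∈ coreN N ⊓ cent (w : G) := ⟨(e.qmapN_eq_one).1 h1, y.2.1⟩
    rw [e.coreN_inf_cent hb] at h2
    obtain ⟨d, hd, hdy⟩ := h2
    have h3 : qmap H (i2 y) = 1 := by
      rw [show i2 y = d from Subtype.ext hdy.symm]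
      exact (QuotientGroup.eq_one_iff d).2 hd
    show qmap H (i2 y) ∈ _
    rw [h3]
    exact one_mem _
  let φU : cw (⟨qmap N w, hwU⟩ : centA N A) →* T := α.liftOfSurjective hαs ⟨φ.comp β, hker⟩
  have hφU : ∀ y, φU (α y) = φ (β y) := fun y =>
    MonoidHom.liftOfRightInverse_comp_apply α _ _ ⟨φ.comp β, hker⟩ y
  have sd := e.sub H hw hp hb.out
  obtain ⟨h0, h0odd, h0A, h0L, h0tr⟩ := sd.torus
  refine ⟨T, hTgrp, φU, hcard, ?_, ?_, ?_, ?_, hnc, ⟨h0, e.setup.norm_le h0A⟩, h0.2, h0A, h0tr, ?_⟩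
  · intro t
    obtain ⟨⟨y, hy⟩, rfl⟩ := hφs t
    have hy' := hy
    change y ∈ centralizer (((A.subgroupOf H).map (QuotientGroup.mk' _) :
      Subgroup (H ⧸ Cfsg.pPrimeCore 2 H)) : Set (H ⧸ Cfsg.pPrimeCore 2 H)) at hy'
    have hP : IsPGroup 2 (A.subgroupOf H) :=
      IsPGroup.comap_subtype (e.setup.isPGroup_of_le le_rfl)
    rw [← map_centralizer_quotient CfsgLib.PCore.pPrimeCore_coprime hP] at hy'
    obtain ⟨x, hx, hxy⟩ := hy'
    refine ⟨α ⟨x, x.2, mem_centralizer_iff.2 fun a ha =>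
      congrArg Subtype.val (mem_centralizer_iff.1 hx ⟨a, hw ha⟩ ha)⟩, ?_⟩
    rw [hφU]
    exact congrArg φ (Subtype.ext hxy)
  · intro hx
    have hwC0 : (w : G) ∈ C0 := ⟨mem_cent.2 rfl, mem_centralizer_iff.2 fun a ha => mem_cent.1 (hw ha)⟩
    rw [show (⟨⟨qmap N w, hwU⟩, hx⟩ : cw (⟨qmap N w, hwU⟩ : centA N A)) = α ⟨w, hwC0⟩ from rfl,
      hφU, hφk]
    exact e.fix_mem_centralizer hw hp hb.out (w := i2 ⟨w, hwC0⟩) fun g => by
      show (g : G) * w * (g : G)⁻¹ ∈ N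
      rw [mem_cent.1 g.2, mul_inv_cancel_right]
      exact w.2
  · intro t ht
    obtain ⟨y, ⟨a, ha, hay⟩, hyt⟩ := hφA t ht
    have haC0 : (a : G) ∈ C0 := ⟨a.2, mem_centralizer_iff.2 fun b hb => e.setup.comm hb ha⟩
    refine ⟨α ⟨a, haC0⟩, mem_map_of_mem _ (show i1 ⟨a, haC0⟩ ∈ A.subgroupOf N from ha), ?_⟩
    rw [hφU, ← hyt]
    exact congrArg φ (Subtype.ext hay)
  · intro x hxA hx1
    obtain ⟨a, ha, hax⟩ := hxA
    have haC0 : (a : G) ∈ C0 := ⟨hw ha, mem_centralizer_iff.2 fun b hb => e.setup.comm hb ha⟩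
    have hxe : x = α ⟨a, haC0⟩ := Subtype.ext (Subtype.ext hax.symm)
    rw [hxe, hφU, hφk] at hx1
    have h1 : qmap H (i2 ⟨a, haC0⟩) = 1 := (Subgroup.eq_bot_iff_forall _).1 sd.disj _
      (Subgroup.mem_inf.2 ⟨mem_map_of_mem _ (show i2 ⟨a, haC0⟩ ∈ A.subgroupOf H from ha), hx1⟩)
    have h2 : i2 ⟨a, haC0⟩ = 1 := eq_of_qmap (Subtype.ext (e.setup.mul_self_eq_one ha)) (one_mul 1)
      (by rw [mul_one, one_mul]) (h1.trans (map_one (qmap H)).symm)
    rw [hxe, show (⟨a, haC0⟩ : C0) = 1 from Subtype.ext (congrArg (fun z : H => (z : G)) h2), map_one]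
  · obtain ⟨hT, hTeq, horb, hmov⟩ := htor h0 h0A h0L h0tr
    refine ⟨hT, fun x y hxy => ?_, horb, hmov⟩
    obtain ⟨c, rfl⟩ := hαs x
    have hcC : (h0 : G) * c * (h0 : G)⁻¹ ∈ C0 := by
      refine Subgroup.mem_inf.2
        ⟨mul_mem (mul_mem h0.2 c.2.1) (inv_mem h0.2), mem_centralizer_iff.2 fun a ha => ?_⟩
      have ha' : (h0 : G)⁻¹ * a * h0 ∈ A := (mem_normalizer_iff''.1 h0A a).1 ha
      have h1 := hC0A c c.2 _ ha'
      calc a * ((h0 : G) * c * (h0 : G)⁻¹)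
          = (h0 : G) * (((h0 : G)⁻¹ * a * h0) * c) * (h0 : G)⁻¹ := by group
        _ = (h0 : G) * ((c : G) * ((h0 : G)⁻¹ * a * h0)) * (h0 : G)⁻¹ := by rw [h1]
        _ = _ := by group
    have hye : y = α ⟨_, hcC⟩ := Subtype.ext (Subtype.ext (hxy.trans (by
      rw [hαv, hαv, ← map_inv, ← map_mul, ← map_mul]
      rfl)))
    rw [hye, hφU, hφU]
    refine hTeq (β c) (β ⟨_, hcC⟩) ?_
    show qmap H _ = qmap H h0 * qmap H (i2 c) * (qmap H h0)⁻¹
    rw [← map_inv, ← map_mul, ← map_mul]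
    rfl

/-- The key lemma. -/
theorem key_bar (hW : coreN N ≠ ⊥) {w : N} (hb : Bad N (w : G)) (hw : A ≤ cent (w : G))
    (R : Subgroup (N ⧸ Cfsg.pPrimeCore 2 N)) (hRU : R ≤ centA N A) (hRodd : Odd (Nat.card R))
    (hRw : ∀ r ∈ R, qmap N w * r * (qmap N w)⁻¹ = r⁻¹)
    (hRinv : ∀ x : N, (x : G) * w = w * x → ∀ r ∈ R, qmap N x * r * (qmap N x)⁻¹ ∈ R) :
    R = ⊥ ∨ ∃ g : N, ∃ a ∈ A, a ≠ 1 ∧ (∀ b ∈ A, (g : G) * b = b * g) ∧
      (g : G) * w * (g : G)⁻¹ = a * w ∧ ∀ r ∈ R, qmap N g * r = r * qmap N g := by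
  classical
  haveI : Fact (Nat.Prime 2) := ⟨Nat.prime_two⟩
  haveI := e.centA_normal
  haveI hAbn := e.barN_normal
  have hwA : ∀ a ∈ A, (w : G) * a = a * w := fun a ha => (mem_cent.1 (hw ha)).symm
  have hwU : qmap N w ∈ centA N A := e.mem_centA hwA
  set wU : centA N A := ⟨qmap N w, hwU⟩
  set Ab := (barB N A).subgroupOf (centA N A) with hAbdef
  have hAbc : barB N A ≤ centA N A := by
    rintro _ ⟨a, ha, rfl⟩
    exact e.mem_centA fun b hb => e.setup.comm ha hb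
  have hsq : ∀ a ∈ Ab, a * a = 1 := by
    rintro a ⟨b, hb', hba⟩
    refine Subtype.ext ?_
    show (a : N ⧸ Cfsg.pPrimeCore 2 N) * a = 1
    rw [show (a : N ⧸ Cfsg.pPrimeCore 2 N) = qmap N b from hba.symm, ← map_mul,
      show b * b = 1 from Subtype.ext (e.setup.mul_self_eq_one hb'), map_one]
  have hcardA : Nat.card Ab = 2 ^ n := by
    rw [Nat.card_congr (subgroupOfEquivOfLe hAbc).toEquiv, ← e.card_A,
      ← Nat.card_congr (subgroupOfEquivOfLe e.setup.A_le).toEquiv]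
    exact (Nat.card_eq_of_bijective
      (fun a : A.subgroupOf N => (⟨qmap N a, mem_map_of_mem _ a.2⟩ : barB N A))
      ⟨fun a b h => Subtype.ext (e.qmapN_inj a.2 b.2 (congrArg Subtype.val h)),
        fun ⟨_, a, ha, h⟩ => ⟨⟨a, ha⟩, Subtype.ext h⟩⟩).symm
  have hgood : SzGood (centA N A) :=
    ((e.setup.proper N e.setup.N_ne_top).quotient _).subgroup _
  have hinvol : ∀ (v : N), Bad N (v : G) → ∀ hv : A ≤ cent (v : G), ∀ hvU : qmap N v ∈ centA N A,
      ∀ x : centA N A, x * x = 1 → x * ⟨qmap N v, hvU⟩ = ⟨qmap N v, hvU⟩ * x →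
        x ∈ Ab ∨ ⟨qmap N v, hvU⟩ * x ∈ Ab := by
    intro v hbv hv hvU x hx2 hxv
    obtain ⟨y, hy, hyA, hyv⟩ := e.exists_lift_cAw hbv.two hv x.2 (congrArg Subtype.val hxv)
    rcases eq_or_ne x 1 with rfl | hx1
    · exact Or.inl (one_mem _)
    obtain ⟨y', hyz, hyo, hye⟩ := exists_lift_invol (qmap N) (g := y) (by
      rw [QuotientGroup.ker_mk']
      exact Nat.coprime_two_right.1 CfsgLib.PCore.pPrimeCore_coprime)
      (orderOf_eq_prime (by
        rw [pow_two, hy]; exact congrArg Subtype.val hx2) fun h => hx1 (Subtype.ext (hy ▸ h)))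
    have hyC : y' ∈ centralizer ((A.subgroupOf N : Subgroup N) : Set N) ⊓
        centralizer ({v} : Set N) := (zpowers_le.2 (Subgroup.mem_inf.2
      ⟨mem_centralizer_iff.2 fun a ha => Subtype.ext (hyA a ha).symm,
        mem_centralizer_singleton_iff.2 (Subtype.ext hyv)⟩)) hyz
    have hy2 : (y' : G) * y' = 1 := congrArg Subtype.val
      (show y' * y' = 1 by rw [← pow_two, ← hyo]; exact pow_orderOf_eq_one y')
    have hy'A : ∀ a ∈ A, (y' : G) * a = a * y' := fun a ha => (congrArg Subtype.val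
      (mem_centralizer_iff.1 hyC.1 ⟨a, e.setup.A_le ha⟩ ha)).symm
    rcases e.invol_cases hW hbv hv hy2
      (congrArg Subtype.val (mem_centralizer_singleton_iff.1 hyC.2)) hy'A with h | h
    · left
      show (x : N ⧸ Cfsg.pPrimeCore 2 N) ∈ barB N A
      rw [← hy, ← hye]
      exact mem_map_of_mem _ h
    · right
      show qmap N v * (x : N ⧸ Cfsg.pPrimeCore 2 N) ∈ barB N A
      rw [← hy, ← hye, ← map_mul]
      exact mem_map_of_mem _ (show v * y' ∈ A.subgroupOf N from h)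
  have hbound : ∀ u : centA N A, u * u = 1 → u ∉ Ab → ∀ X : Subgroup (centA N A),
      (∀ x ∈ X, x * u = u * x) → (∀ x ∈ X, x * x ∈ Ab) → Nat.card X ≤ 2 * (2 ^ n) ^ 2 := by
    intro u hu2 huA X hXu hXsq
    obtain ⟨v, hbv, hv, hvu⟩ := e.exists_bad_lift u.2 (congrArg Subtype.val hu2) huA
    have hvU : qmap N v ∈ centA N A := hvu ▸ u.2
    obtain ⟨T', _, φ', hc', hs', hw', -, hi', -, -⟩ := e.exists_phiU hbv hv hvU
    haveI : Finite T' := Finite.of_surjective φ' hs'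
    have hue : u = ⟨qmap N v, hvU⟩ := Subtype.ext hvu.symm
    let ψ : X →* T' := φ'.comp (Subgroup.inclusion (show X ≤ cw (⟨qmap N v, hvU⟩ : centA N A) from
      fun x hx => mem_centralizer_singleton_iff.2 (hue ▸ hXu x hx)))
    have hkerc : Nat.card ψ.ker ≤ 2 := by
      have hsub : ∀ x : ψ.ker, ((x : X) : centA N A) = 1 ∨ ((x : X) : centA N A) = u := by
        rintro ⟨⟨x, hx⟩, hxk⟩
        set xc : cw (⟨qmap N v, hvU⟩ : centA N A) :=
          ⟨x, mem_centralizer_singleton_iff.2 (hue ▸ hXu x hx)⟩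
        have hxk' : φ' xc = 1 := hxk
        have h2 : xc * xc = 1 := hi' _ (hXsq x hx) (by rw [map_mul, hxk', one_mul])
        rcases hinvol v hbv hv hvU x (congrArg Subtype.val h2) (hue ▸ hXu x hx) with h | h
        · exact Or.inl (congrArg Subtype.val (hi' xc h hxk'))
        · right
          have hvm : (⟨qmap N v, hvU⟩ : centA N A) ∈ cw (⟨qmap N v, hvU⟩ : centA N A) :=
            mem_centralizer_singleton_iff.2 rfl
          have h3 := hi' ((⟨⟨qmap N v, hvU⟩, hvm⟩ : cw (⟨qmap N v, hvU⟩ : centA N A)) * xc) h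
            (by rw [map_mul, hw', hxk', one_mul])
          have h4 : (⟨qmap N v, hvU⟩ : centA N A) * x = 1 := congrArg Subtype.val h3
          show x = u
          rw [← hue] at h4
          rw [eq_inv_of_mul_eq_one_right h4, inv_eq_of_mul_eq_one_right hu2]
      calc Nat.card ψ.ker ≤ Nat.card ({1, u} : Set (centA N A)) :=
            Nat.card_le_card_of_injective (fun x => ⟨((x : X) : centA N A), hsub x⟩)
              fun x y h => Subtype.ext (Subtype.ext (congrArg Subtype.val h :))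
        _ ≤ 2 := by
            rw [Nat.card_coe_set_eq]
            exact (Set.ncard_insert_le _ _).trans (by rw [Set.ncard_singleton])
    rw [← ψ.ker.card_mul_index, Subgroup.index_ker, ← hc']
    exact Nat.mul_le_mul hkerc (Subgroup.card_le_card_group _)
  obtain ⟨T, _, φ, hcard, hφs, hφw, hφAs, hφAi, hnc, h0, h0w, h0A, h0tr, hT, hTeq, horb, hmov⟩ :=
    e.exists_phiU hb hw hwU
  let hU : MulAut (centA N A) := MulAut.conjNormal (qmap N h0)
  have hUv : ∀ x, ((hU x : centA N A) : N ⧸ Cfsg.pPrimeCore 2 N) = qmap N h0 * x * (qmap N h0)⁻¹ :=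
    fun x => MulAut.conjNormal_apply _ _
  have hUA : ∀ a ∈ Ab, hU a ∈ Ab := fun a ha => by
    show ((hU a : centA N A) : N ⧸ Cfsg.pPrimeCore 2 N) ∈ barB N A
    rw [hUv]
    exact hAbn.conj_mem _ ha _
  have c : CoreHyp Ab wU n hU φ hT := by
    refine ⟨hgood, ?_, ?_, hsq, e.three_le, hcardA, ?_, ?_, ?_, ?_, hUA, ?_, hcard, hφs,
      fun hx => hφw hx, hφAs, hφAi, ?_, hnc, horb, hmov, hbound⟩
    · exact CfsgLib.PCore.pPrimeCore_eq_bot_of_normal _ CfsgLib.PCore.pPrimeCore_quotient_pPrimeCore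
    · intro a ha
      rw [mem_center_iff]
      exact fun x => Subtype.ext (mem_centralizer_iff.1 x.2 _ ha).symm
    · refine Subtype.ext ?_
      show qmap N w * qmap N w = 1
      rw [← map_mul, show w * w = 1 from Subtype.ext (by
        show (w : G) * w = 1
        rw [← pow_two, ← hb.two]; exact pow_orderOf_eq_one _), map_one]
    · intro hwAb
      refine e.setup.not_bad_of_mem_A (e.qmapN_A (Subtype.ext ?_) hwA hwAb) hb
      show (w : G) * w = 1
      rw [← pow_two, ← hb.two]; exact pow_orderOf_eq_one _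
    · exact fun x hx hxw => hinvol w hb hw hwU x hx hxw
    · refine Subtype.ext ?_
      rw [hUv]
      show qmap N h0 * qmap N w * (qmap N h0)⁻¹ = qmap N w
      rw [← map_inv, ← map_mul, ← map_mul]
      refine congrArg _ (Subtype.ext ?_)
      show (h0 : G) * w * (h0 : G)⁻¹ = w
      rw [mem_cent.1 h0w, mul_inv_cancel_right]
    · intro a ha ha1 a' ha' ha'1
      obtain ⟨x, hx, hxa⟩ := ha
      obtain ⟨x', hx', hxa'⟩ := ha'
      have hne : (x : G) ≠ 1 := fun h => ha1 (Subtype.ext (by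
        show (a : N ⧸ Cfsg.pPrimeCore 2 N) = 1
        rw [show (a : N ⧸ Cfsg.pPrimeCore 2 N) = qmap N x from hxa.symm,
          show x = 1 from Subtype.ext h, map_one]))
      have hne' : (x' : G) ≠ 1 := fun h => ha'1 (Subtype.ext (by
        show (a' : N ⧸ Cfsg.pPrimeCore 2 N) = 1
        rw [show (a' : N ⧸ Cfsg.pPrimeCore 2 N) = qmap N x' from hxa'.symm,
          show x' = 1 from Subtype.ext h, map_one]))
      obtain ⟨k, hk⟩ := h0tr x hx hne x' hx' hne'
      have hpow : ∀ k : ℕ, ∀ v : centA N A, (((hU ^ k) v : centA N A) : N ⧸ Cfsg.pPrimeCore 2 N) =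
          qmap N (h0 ^ k) * v * (qmap N (h0 ^ k))⁻¹ := fun k v => by
        show (((MulAut.conjNormal (qmap N h0)) ^ k) v : N ⧸ Cfsg.pPrimeCore 2 N) = _
        rw [← map_pow, MulAut.conjNormal_apply, ← map_pow]
      refine ⟨k, Subtype.ext ?_⟩
      rw [hpow, show (a : N ⧸ Cfsg.pPrimeCore 2 N) = qmap N x from hxa.symm,
        show (a' : N ⧸ Cfsg.pPrimeCore 2 N) = qmap N x' from hxa'.symm, ← map_inv, ← map_mul, ← map_mul]
      refine congrArg _ (Subtype.ext ?_)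
      simpa using hk
    · intro x y hxy
      exact hTeq x y (by rw [show (y : centA N A) = hU x from hxy, hUv])
  -- apply it
  set RU := R.subgroupOf (centA N A)
  have hRc : ∀ r ∈ RU, ∀ s ∈ RU, r * s = s * r := by
    intro r hr s hs
    refine Subtype.ext ?_
    show (r : N ⧸ Cfsg.pPrimeCore 2 N) * s = s * r
    have h1 : qmap N w * ((r : N ⧸ Cfsg.pPrimeCore 2 N) * s) * (qmap N w)⁻¹ =
        ((r : N ⧸ Cfsg.pPrimeCore 2 N) * s)⁻¹ := hRw _ (mul_mem hr hs)
    have h2 : qmap N w * ((r : N ⧸ Cfsg.pPrimeCore 2 N) * s) * (qmap N w)⁻¹ =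
        (qmap N w * r * (qmap N w)⁻¹) * (qmap N w * s * (qmap N w)⁻¹) := by group
    have hr' : qmap N w * (r : N ⧸ Cfsg.pPrimeCore 2 N) * (qmap N w)⁻¹ = (r : N ⧸ _)⁻¹ := hRw _ hr
    have hs' : qmap N w * (s : N ⧸ Cfsg.pPrimeCore 2 N) * (qmap N w)⁻¹ = (s : N ⧸ _)⁻¹ := hRw _ hs
    rw [h2, hr', hs', ← _root_.mul_inv_rev, inv_inj] at h1
    exact h1.symm
  have hres := c.key e.facts RU
    (by rw [Nat.card_congr (subgroupOfEquivOfLe hRU).toEquiv]; exact hRodd) hRc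
    (fun r hr => Subtype.ext (hRw _ hr))
    (fun x hx r hr => by
      obtain ⟨y, hy, -, hyw⟩ := e.exists_lift_cAw hb.two hw x.2
        (congrArg Subtype.val (mem_centralizer_singleton_iff.1 hx))
      show (x : N ⧸ Cfsg.pPrimeCore 2 N) * r * (x : N ⧸ Cfsg.pPrimeCore 2 N)⁻¹ ∈ R
      rw [← hy]
      exact hRinv y hyw _ hr)
    (fun r hr => by
      show ((hU r : centA N A) : N ⧸ Cfsg.pPrimeCore 2 N) ∈ R
      rw [hUv]
      exact hRinv h0 (mem_cent.1 h0w) _ hr)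
  rcases hres with h | ⟨g, a, ha, ha1, hgw, hgR⟩
  · left
    rw [eq_bot_iff_forall]
    intro r hr
    exact congrArg Subtype.val ((Subgroup.eq_bot_iff_forall _).1 h ⟨r, hRU hr⟩ hr)
  right
  obtain ⟨g0, hg0, hg0A⟩ := e.exists_lift_cA g.2
  obtain ⟨a0, ha0, ha0a⟩ := ha
  have ha01 : (a0 : G) ≠ 1 := fun h => ha1 (Subtype.ext (by
    show (a : N ⧸ Cfsg.pPrimeCore 2 N) = 1
    rw [show (a : N ⧸ Cfsg.pPrimeCore 2 N) = qmap N a0 from ha0a.symm,
      show a0 = 1 from Subtype.ext h, map_one]))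
  set u := g0 * w * g0⁻¹ with hu
  set v := a0 * w with hv
  have hw2 : w * w = 1 := Subtype.ext (by
    show (w : G) * w = 1
    rw [← pow_two, ← hb.two]; exact pow_orderOf_eq_one _)
  have hv2 : v * v = 1 := by
    calc a0 * w * (a0 * w) = a0 * (w * a0) * w := by group
      _ = a0 * (a0 * w) * w := by rw [show w * a0 = a0 * w from Subtype.ext (hwA a0 ha0)]
      _ = (a0 * a0) * (w * w) := by group
      _ = 1 := by rw [hw2, show a0 * a0 = 1 from Subtype.ext (e.setup.mul_self_eq_one ha0), one_mul]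
  set K := Cfsg.pPrimeCore 2 N ⊓ centralizer ((A.subgroupOf N : Subgroup N) : Set N)
  have hcA : ∀ x : N, (∀ b ∈ A, (x : G) * b = b * x) →
      x ∈ centralizer ((A.subgroupOf N : Subgroup N) : Set N) :=
    fun x hx => mem_centralizer_iff.2 fun b hb' => Subtype.ext (hx b hb').symm
  have hvu : v * u ∈ K := by
    refine Subgroup.mem_inf.2 ⟨?_, ?_⟩
    · rw [← QuotientGroup.eq_one_iff]
      show qmap N (v * u) = 1
      have hgw' : qmap N g0 * qmap N w * (qmap N g0)⁻¹ = qmap N v := by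
        rw [hg0, hv, map_mul, ha0a]
        exact congrArg Subtype.val hgw
      have hu' : qmap N u = qmap N v := by rw [hu, map_mul, map_mul, map_inv, hgw']
      rw [map_mul, hu', ← map_mul, hv2, map_one]
    · exact mul_mem (mul_mem (hcA a0 fun b hb' => e.setup.comm ha0 hb') (hcA w hwA))
        (mul_mem (mul_mem (hcA g0 hg0A) (hcA w hwA)) (inv_mem (hcA g0 hg0A)))
  obtain ⟨y, hy, -, hyu⟩ := exists_conj_of_mul_mem (K := K) (u := u) (v := v)
    (Odd.of_dvd_nat (Nat.coprime_two_right.1 (CfsgLib.PCore.pPrimeCore_coprime (p := 2) (G := N)))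
      (card_dvd_of_le inf_le_left))
    (by rw [show u * u = g0 * (w * w) * g0⁻¹ by simp only [hu]; group, hw2]; group) hv2 hvu
  refine ⟨y * g0, (a0 : G), ha0, ha01, fun b hb' => ?_, ?_, fun r hr => ?_⟩
  · exact (congrArg Subtype.val (mem_centralizer_iff.1
      (mul_mem hy.2 (hcA g0 hg0A)) ⟨b, e.setup.A_le hb'⟩ hb')).symm
  · have h1 : y * g0 * w * (y * g0)⁻¹ = v := by
      rw [show y * g0 * w * (y * g0)⁻¹ = y * u * y⁻¹ by simp only [hu]; group, hyu]
    exact congrArg Subtype.val h1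
  · rw [map_mul, show qmap N y = 1 from (QuotientGroup.eq_one_iff y).2 hy.1, one_mul, hg0]
    exact congrArg Subtype.val (hgR ⟨r, hRU hr⟩ hr)

end Endgame

end CfsgLib.ThreeFree
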