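import Cfsg.Agent.Lib.ThreeFree.CoreStab
import Cfsg.Agent.Lib.ThreeFree.CoreU
import Cfsg.Agent.Lib.Coprime.Action
import Cfsg.Agent.Lib.LargeExtra.Basic

/-!
The endgame, stage V: `O(C(w)) = 1` for every bad involution `w`, and `N` is the normalizer of `A`.
-/

set_option autoImplicit false
set_option linter.style.haveILetI false
set_option linter.unusedSectionVars false

open scoped Pointwise

namespace CfsgLib.ThreeFree

open Subgroup CfsgLib.Components CfsgLib.ThreeFree.Core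

universe u

variable {G : Type u} [Group G] [Finite G] {S : Sylow 2 G} {A N : Subgroup G} {n : ℕ}

/-- A `p`-subgroup of `K` in whose normaliser in `K` it is maximal is maximal in `K`. -/
theorem Core.eq_of_normalizer_maximal {p : ℕ} [Fact p.Prime] {Q K P : Subgroup G}
    (hmax : ∀ x ∈ K, x ∈ normalizer (Q : Set G) → IsPGroup p (zpowers x) → x ∈ Q)
    (hP : IsPGroup p P) (hPK : P ≤ K) (hQP : Q ≤ P) : P = Q := by
  refine le_antisymm ?_ hQP
  by_contra hne
  haveI := hP.isNilpotent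
  have hlt : Q.subgroupOf P < ⊤ := lt_top_iff_ne_top.2 fun h => hne (subgroupOf_eq_top.1 h)
  obtain ⟨x, hx, hxQ⟩ := SetLike.exists_of_lt (Group.normalizerCondition_of_isNilpotent _ hlt)
  refine hxQ (hmax x (hPK x.2) (mem_normalizer_fintype fun q hq => ?_)
    (hP.to_le (zpowers_le.2 x.2)))
  exact (mem_normalizer_iff.1 hx ⟨q, hQP hq⟩).1 hq

/-- The subgroup `A⟨w⟩`. -/
abbrev fourE (A : Subgroup G) (w : G) : Subgroup G := A ⊔ zpowers w

namespace Endgame

variable (e : Endgame S A N n)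
include e

theorem isPGroup_fourE {w : G} (hb : Bad N w) (hw : A ≤ cent w) : IsPGroup 2 (fourE A w) := by
  haveI : Fact (Nat.Prime 2) := ⟨Nat.prime_two⟩
  show IsPGroup 2 (A ⊔ zpowers w : Subgroup G)
  rw [sup_comm]
  exact IsPGroup.to_sup_of_normal_right' (Setup.isPGroup_zpowers_of_orderOf hb.two)
    (e.setup.isPGroup_of_le le_rfl) (zpowers_le.2 (e.le_normalizer_A hw))

theorem fourE_le_N {w : G} (hb : Bad N w) : fourE A w ≤ N :=
  sup_le e.setup.A_le (zpowers_le.2 hb.mem)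

theorem fourE_le_cent {w : G} (hw : A ≤ cent w) : fourE A w ≤ cent w :=
  sup_le hw (zpowers_le.2 (mem_cent.2 rfl))

theorem hyp_coprime {w : G} (hb : Bad N w) (hw : A ≤ cent w) {K : Subgroup G}
    (hK : Odd (Nat.card K)) :
    (Nat.card (fourE A w)).Coprime (Nat.card K) ∧
      (Group.IsSolvable (fourE A w) ∨ Group.IsSolvable K) := by
  haveI : Fact (Nat.Prime 2) := ⟨Nat.prime_two⟩
  have h2 := e.isPGroup_fourE hb hw
  obtain ⟨k, hk⟩ := IsPGroup.iff_card.mp h2
  refine ⟨?_, Or.inl ?_⟩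
  · rw [hk]
    exact Nat.Coprime.pow_left k (Nat.coprime_two_left.2 hK)
  · haveI := h2.isNilpotent
    infer_instance

/-- For a bad involution with nontrivial core of the centralizer: an invariant Sylow subgroup of `W`
whose normalizer stabilizes its fixed points. -/
theorem exists_sylow_W (hW : coreN N ≠ ⊥) {w : G} (hb : Bad N w) (hw : A ≤ cent w) {p : ℕ}
    [Fact p.Prime] (hp : p ∣ Nat.card (Cfsg.centralizerPPrimeCore 2 w)) :
    ∃ P : Sylow p (coreN N),
      fourE A w ≤ normalizer ((P : Subgroup (coreN N)).map (coreN N).subtype : Set G) ∧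
      (∃ x ∈ (P : Subgroup (coreN N)).map (coreN N).subtype, x ≠ 1 ∧ x ∈ cent w) ∧
      normalizer ((P : Subgroup (coreN N)).map (coreN N).subtype : Set G) ≤ stabFix N w ∧
      normalizer ((P : Subgroup (coreN N)).map (coreN N).subtype : Set G) ≠ ⊤ ∧
      ¬ normalizer ((P : Subgroup (coreN N)).map (coreN N).subtype : Set G) ≤ N := by
  classical
  haveI : Fact (Nat.Prime 2) := ⟨Nat.prime_two⟩
  have hpp : p.Prime := Fact.out
  set D := Cfsg.centralizerPPrimeCore 2 w
  set E := fourE A w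
  set Y := stabCore N w
  have hEF : E ≤ stabFix N w := (e.fourE_le_cent hw).trans (e.cent_le_stabFix w)
  have hDodd : Odd (Nat.card D) :=
    Nat.coprime_two_right.1 (card_centralizerCore_coprime ({w} : Set G))
  have hYodd : Odd (Nat.card Y) := e.odd_card_stabCore w
  have hDconj : ∀ c ∈ cent w, ∀ d ∈ D, c * d * c⁻¹ ∈ D := by
    rintro c hc _ ⟨d, hd, rfl⟩
    exact ⟨⟨c, hc⟩ * d * ⟨c, hc⟩⁻¹,
      (inferInstance : (Cfsg.pPrimeCore 2 (cent w)).Normal).conj_mem d hd _, rfl⟩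
  -- the Sylow subgroup of `Y`
  obtain ⟨PD, hPD⟩ := CfsgLib.Coprime.exists_invariant_sylow E D
    (le_normalizer_iff.2 fun a ha x hx => hDconj a (e.fourE_le_cent hw ha) x hx)
    (e.hyp_coprime hb hw hDodd).1 (e.hyp_coprime hb hw hDodd).2 p
  set U := (PD : Subgroup D).map D.subtype
  have hUD : U ≤ D := map_subtype_le _
  have hU1 : U ≠ ⊥ := by
    rw [Ne, map_eq_bot_iff_of_injective _ D.subtype_injective]
    exact PD.ne_bot_of_dvd_card hp
  obtain ⟨PY, hUQ, hPY⟩ := CfsgLib.Coprime.exists_invariant_sylow_ge E Y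
    (le_normalizer_iff.2 fun a ha x hx => e.stabCore_conj (hEF ha) hx)
    (e.hyp_coprime hb hw hYodd).1 (e.hyp_coprime hb hw hYodd).2 p U
    (hUD.trans (e.core_cent_le_stabCore hW hb hw)) (PD.2.map _) hPD
  set Q := (PY : Subgroup Y).map Y.subtype
  obtain ⟨x0, hx0U, hx01⟩ := (Subgroup.bot_or_exists_ne_one U).resolve_left hU1
  have hx0w : x0 ∈ cent w := map_subtype_le _ (hUD hx0U)
  have hQY : Q ≤ Y := map_subtype_le _
  have hQp : IsPGroup p Q := PY.2.map _
  have hQne : Q ≠ ⊥ := fun h => hx01 ((Subgroup.eq_bot_iff_forall _).1 h x0 (hUQ hx0U))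
  have hQN : Q ≤ N := hQY.trans (e.stabCore_le hb hw)
  set H := normalizer (Q : Set G)
  have hAH : A ≤ H := le_sup_left.trans hPY
  have hHtop : H ≠ ⊤ := by
    intro htop
    haveI := e.setup.simple
    rcases (normalizer_eq_top_iff.1 htop).eq_bot_or_eq_top with h | h
    · exact hQne h
    · exact e.setup.N_ne_top (eq_top_iff.2 (h ▸ hQN))
  -- `C(w) = D N(Q)`
  have hYw : zpowers w ≤ normalizer (Y : Set G) := le_normalizer_iff.2 fun a ha x hx =>
    e.stabCore_conj (e.cent_le_stabFix w ((zpowers_le.2 (mem_cent.2 rfl)) ha)) hx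
  have hwcop : (Nat.card (zpowers w)).Coprime (Nat.card Y) := by
    rw [Nat.card_zpowers, hb.two]; exact Nat.coprime_two_left.2 hYodd
  have hYwD : ∀ d ∈ Y, d ∈ cent w → d ∈ D := fun d hd hdw =>
    (e.coreN_inf_cent hb).le ⟨e.stabCore_inf_cent hb hw hd hdw, hdw⟩
  have hcov : ∀ c ∈ cent w, ∃ d ∈ D, d * c ∈ H := by
    intro c hc
    have hcF := e.cent_le_stabFix w hc
    have hle : Q.map (MulAut.conj c).toMonoidHom ≤ Y := by
      rintro _ ⟨x, hx, rfl⟩
      exact e.stabCore_conj hcF (hQY hx)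
    obtain ⟨P', hP'⟩ := ((hQp.map (MulAut.conj c).toMonoidHom).comap_of_injective Y.subtype
      Y.subtype_injective).exists_le_sylow
    have hP'eq : (P' : Subgroup Y).map Y.subtype = Q.map (MulAut.conj c).toMonoidHom := by
      refine (eq_of_le_of_card_ge ?_ ?_).symm
      · intro x hx
        exact ⟨⟨x, hle hx⟩, hP' hx, rfl⟩
      · rw [card_map_of_injective Y.subtype_injective, card_map_of_injective (MulAut.conj c).injective,
          card_map_of_injective Y.subtype_injective, P'.card_eq_multiplicity,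
          PY.card_eq_multiplicity]
    obtain ⟨d, hd, hdP⟩ := CfsgLib.Coprime.invariant_sylow_conj (zpowers w) Y hYw hwcop
      (Or.inl inferInstance) p PY P' ((zpowers_le.2 (mem_sup_right (mem_zpowers w))).trans hPY) (by
        rw [hP'eq, zpowers_le]
        refine mem_normalizer_fintype ?_
        rintro _ ⟨x, hx, rfl⟩
        refine ⟨w * x * w⁻¹, (mem_normalizer_iff.1 (hPY (mem_sup_right (mem_zpowers w))) x).1 hx, ?_⟩
        show c * (w * x * w⁻¹) * c⁻¹ = w * (c * x * c⁻¹) * w⁻¹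
        calc c * (w * x * w⁻¹) * c⁻¹ = (c * w) * x * (c * w)⁻¹ := by group
          _ = _ := by rw [mem_cent.1 hc]; group)
    have hdw : (d : G) ∈ cent w := mem_cent.2 (mem_centralizer_iff.1 hd w (mem_zpowers w)).symm
    refine ⟨(d : G)⁻¹, inv_mem (hYwD d d.2 hdw), mem_normalizer_fintype fun x hx => ?_⟩
    have h1 : c * x * c⁻¹ ∈ ((d • PY : Sylow p Y) : Subgroup Y).map Y.subtype := by
      rw [hdP, hP'eq]
      exact ⟨x, hx, rfl⟩
    rw [CfsgLib.Coprime.mem_map_subtype_smul] at h1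
    have e1 : (d : G)⁻¹ * c * x * ((d : G)⁻¹ * c)⁻¹ = (d : G)⁻¹ * (c * x * c⁻¹) * d := by group
    rw [e1]
    exact h1
  have hHN : ¬ H ≤ N := by
    intro hle
    refine hb.out fun c hc => ?_
    obtain ⟨d, hd, hdc⟩ := hcov c hc
    have h1 := mul_mem (inv_mem (e.setup.core_cent_le hb.two (e.le_normalizer_A hw) hd)) (hle hdc)
    rwa [inv_mul_cancel_left] at h1
  have hHF : H ≤ stabFix N w := e.le_stabFix_of_cover hb hw hAH hHtop hHN hcov
  -- the group `K = W Y`
  set Yn := Y.subgroupOf N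
  set R := Yn.map (qmap N)
  set K0 := R.comap (qmap N)
  set K := K0.map N.subtype
  have hKodd : Odd (Nat.card K) := by
    rw [card_map_of_injective N.subtype_injective]
    show Odd (Nat.card (R.comap (QuotientGroup.mk' (Cfsg.pPrimeCore 2 N))))
    rw [CfsgLib.PCore.card_comap_mk']
    refine (Nat.coprime_two_right.1 CfsgLib.PCore.pPrimeCore_coprime).mul
      (Odd.of_dvd_nat hYodd ((card_map_dvd _ _).trans ?_))
    rw [Nat.card_congr (subgroupOfEquivOfLe (e.stabCore_le hb hw)).toEquiv]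
  have hRodd : Odd (Nat.card R) := Odd.of_dvd_nat hYodd ((card_map_dvd _ _).trans (by
    rw [Nat.card_congr (subgroupOfEquivOfLe (e.stabCore_le hb hw)).toEquiv]))
  have hYK : Y ≤ K := fun y hy =>
    ⟨⟨y, e.stabCore_le hb hw hy⟩, mem_map_of_mem (qmap N) (show _ ∈ Yn from hy), rfl⟩
  have hWK : coreN N ≤ K := fun y hy =>
    ⟨⟨y, e.setup.coreN_le hy⟩, mem_comap.2 (by
      rw [(e.qmapN_eq_one (x := ⟨y, e.setup.coreN_le hy⟩)).2 hy]; exact R.one_mem), rfl⟩
  have hKN : K ≤ N := map_subtype_le _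
  have hKconj : ∀ g : N, (∀ r ∈ R, qmap N g * r * (qmap N g)⁻¹ ∈ R) →
      ∀ x ∈ K, (g : G) * x * (g : G)⁻¹ ∈ K := by
    rintro g hg _ ⟨x, hx, rfl⟩
    refine ⟨g * x * g⁻¹, mem_comap.2 ?_, rfl⟩
    rw [map_mul, map_mul, map_inv]
    exact hg _ (mem_comap.1 hx)
  have hFconj : ∀ g : N, (g : G) ∈ stabFix N w → ∀ r ∈ R, qmap N g * r * (qmap N g)⁻¹ ∈ R := by
    rintro g hg _ ⟨y, hy, rfl⟩
    exact ⟨g * y * g⁻¹, e.stabCore_conj hg hy, by simp⟩
  have hKmax : ∀ P : Subgroup G, IsPGroup p P → P ≤ K → Q ≤ P → P = Q := by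
    refine fun P hP hPK hQP => eq_of_normalizer_maximal (fun x hxK hxH hxp => ?_) hP hPK hQP
    -- `N_K(Q) ≤ Y`
    have hle : K ⊓ H ≤ Y := by
      refine e.le_stabCore hW hb hw (inf_le_right.trans hHF)
        (Odd.of_dvd_nat hKodd (card_dvd_of_le inf_le_left)) fun c hc => ?_
      obtain ⟨d, hd, hdc⟩ := hcov c hc
      refine ⟨d, e.core_cent_le_stabCore hW hb hw hd, fun y hy => ?_⟩
      have h1 := e.le_core hAH hHtop hHN (X := K ⊓ H) inf_le_right (inf_le_left.trans hKN)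
        (Odd.of_dvd_nat hKodd (card_dvd_of_le inf_le_left))
        (fun g hg hgN z hz => Subgroup.mem_inf.2
          ⟨hKconj ⟨g, hgN⟩ (hFconj ⟨g, hgN⟩ (hHF hg)) z hz.1, mul_mem (mul_mem hg hz.2) (inv_mem hg)⟩)
        ⟨y, hy.2⟩ hy
      have h2 := (inferInstance : (Cfsg.pPrimeCore 2 H).Normal).conj_mem _ h1 ⟨d * c, hdc⟩
      have sd := e.sub H hAH hHtop hHN
      have h3 := sd.core_le _ h2
      refine Subgroup.mem_inf.2 ⟨?_, mul_mem (mul_mem hdc hy.2) (inv_mem hdc)⟩
      -- the core of `H` lies in `Y`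
      have hOY : (Cfsg.pPrimeCore 2 H).map H.subtype ≤ Y := by
        refine e.le_stabCore hW hb hw ((map_subtype_le _).trans hHF) ?_ fun c' hc' => ?_
        · rw [card_map_of_injective H.subtype_injective]
          exact Nat.coprime_two_right.1 CfsgLib.PCore.pPrimeCore_coprime
        · obtain ⟨d', hd', hdc'⟩ := hcov c' hc'
          refine ⟨d', e.core_cent_le_stabCore hW hb hw hd', ?_⟩
          rintro _ ⟨z, hz, rfl⟩
          exact ⟨⟨_, hdc'⟩ * z * ⟨_, hdc'⟩⁻¹,
            (inferInstance : (Cfsg.pPrimeCore 2 H).Normal).conj_mem z hz _, rfl⟩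
      exact hYK (hOY ⟨_, h2, rfl⟩)
    have hxY : x ∈ Y := hle ⟨hxK, hxH⟩
    have h2 : IsPGroup p (Q ⊔ zpowers x : Subgroup G) := by
      rw [sup_comm]
      exact IsPGroup.to_sup_of_normal_right' hxp hQp (zpowers_le.2 hxH)
    have h3 := PY.is_maximal' (h2.comap_of_injective Y.subtype Y.subtype_injective)
      (show (PY : Subgroup Y) ≤ (Q ⊔ zpowers x).comap Y.subtype from fun y hy =>
        (mem_sup_left (mem_map_of_mem Y.subtype hy) : Y.subtype y ∈ Q ⊔ zpowers x))
    exact ⟨⟨x, hxY⟩, h3.le (show (⟨x, hxY⟩ : Y) ∈ (Q ⊔ zpowers x).comap Y.subtype from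
      mem_sup_right (mem_zpowers x)), rfl⟩
  -- `R` is inverted by `w`
  have hwA : ∀ a ∈ A, w * a = a * w := fun a ha => (mem_cent.1 (hw ha)).symm
  set wn : N := ⟨w, hb.mem⟩
  have hw2 : w * w = 1 := by rw [← pow_two, ← hb.two]; exact pow_orderOf_eq_one w
  have hinvar : ∀ x : N, (x : G) * wn = wn * x → ∀ r ∈ R, qmap N x * r * (qmap N x)⁻¹ ∈ R :=
    fun x hx => hFconj x (e.cent_le_stabFix w (mem_cent.2 hx))
  haveI := e.barN_normal
  have hRU : R ≤ centA N A := by
    rintro _ ⟨y, hy, rfl⟩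
    rw [mem_centralizer_iff]
    rintro _ ⟨a, ha, rfl⟩
    set b := qmap N a * qmap N y * (qmap N a)⁻¹ * (qmap N y)⁻¹ with hb'
    have hbR : b ∈ R := mul_mem (hFconj a (e.A_le_stabFix hw ha) _ (mem_map_of_mem _ hy))
      (inv_mem (mem_map_of_mem _ hy))
    have hbA : b ∈ barB N A := by
      rw [hb', mul_assoc, mul_assoc]
      refine mul_mem (mem_map_of_mem _ ha) ?_
      rw [← mul_assoc]
      exact e.barN_normal.conj_mem _ (inv_mem (mem_map_of_mem _ ha)) _
    have h2 : IsPGroup 2 (barB N A) :=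
      (IsPGroup.comap_subtype (e.setup.isPGroup_of_le le_rfl)).map _
    have h1 : b = 1 := (Subgroup.eq_bot_iff_forall _).1
      (CfsgLib.PCore.inf_eq_bot_of_isPGroup_coprime h2 (Nat.coprime_two_right.2 hRodd)) b ⟨hbA, hbR⟩
    rw [hb', mul_inv_eq_one, mul_inv_eq_iff_eq_mul] at h1
    exact h1
  have hRw : ∀ r ∈ R, qmap N wn * r * (qmap N wn)⁻¹ = r⁻¹ := by
    intro r hr
    refine CfsgLib.LargeExtra.inverts_of_fixed_point_free hRodd
      (mem_normalizer_fintype (hinvar wn rfl)) ?_ ?_ hr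
    · rw [← map_mul, show wn * wn = 1 from Subtype.ext hw2, map_one]
    · rintro _ ⟨y, hy, rfl⟩ hyw
      have hYW : Odd (Nat.card ↥(Y ⊓ coreN N)) :=
        Odd.of_dvd_nat hYodd (card_dvd_of_le inf_le_left)
      obtain ⟨y', hy', hy'w⟩ := exists_fixed_in_odd_coset hYW hw2
        (fun z hz => Subgroup.mem_inf.2
          ⟨e.stabCore_conj (e.cent_le_stabFix w (mem_cent.2 rfl)) hz.1, e.setup.coreN_conj hb.mem hz.2⟩)
        (x := (y : G)) (Subgroup.mem_inf.2 ⟨mul_mem (inv_mem (show (y : G) ∈ Y from hy))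
          (e.stabCore_conj (e.cent_le_stabFix w (mem_cent.2 rfl)) hy), (e.qmapN_eq_one
            (x := y⁻¹ * (wn * y * wn⁻¹))).1 (by
            rw [map_mul, map_inv, map_mul, map_mul, map_inv, hyw, mul_inv_cancel_right,
              inv_mul_cancel])⟩)
      have hy'Y : y' ∈ Y := by
        have := mul_mem (show (y : G) ∈ Y from hy) hy'.1
        rwa [mul_inv_cancel_left] at this
      have h1 := mul_mem (e.stabCore_inf_cent hb hw hy'Y (mem_cent.2 hy'w.symm)) (inv_mem hy'.2)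
      rw [_root_.mul_inv_rev, inv_inv, mul_inv_cancel_left] at h1
      exact (e.qmapN_eq_one).2 h1
  -- the case of the key lemma
  rcases e.key_bar hW (w := wn) hb hw R hRU hRodd hRw hinvar with hR | ⟨g, a, ha, ha1, hgA, hgw, hgR⟩
  · have hYW : Y ≤ coreN N := fun y hy => (e.qmapN_eq_one (x := ⟨y, e.stabCore_le hb hw hy⟩)).1
      ((Subgroup.eq_bot_iff_forall _).1 hR _ (mem_map_of_mem _ (show _ ∈ Yn from hy)))
    obtain ⟨P, hP⟩ := (hQp.comap_of_injective (coreN N).subtype (coreN N).subtype_injective).exists_le_sylow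
    have hPQ : (P : Subgroup (coreN N)).map (coreN N).subtype = Q :=
      hKmax _ (P.2.map _) ((map_subtype_le _).trans hWK)
        (fun x hx => ⟨⟨x, hYW (hQY hx)⟩, hP hx, rfl⟩)
    refine ⟨P, ?_⟩
    rw [hPQ]
    exact ⟨hPY, ⟨x0, hUQ hx0U, hx01, hx0w⟩, hHF, hHtop, hHN⟩
  · exfalso
    have hgE : ∀ b ∈ E, (g : G) * b * (g : G)⁻¹ ∈ E := by
      have : E ≤ E.comap (MulAut.conj (g : G)).toMonoidHom := by
        refine sup_le (fun b hb' => ?_) (zpowers_le.2 ?_)
        · show (g : G) * b * (g : G)⁻¹ ∈ E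
          rw [hgA b hb', mul_inv_cancel_right]
          exact mem_sup_left hb'
        · show (g : G) * w * (g : G)⁻¹ ∈ E
          rw [show (g : G) * w * (g : G)⁻¹ = a * w from hgw]
          exact mul_mem (mem_sup_left ha) (mem_sup_right (mem_zpowers w))
      exact fun b hb' => this hb'
    have hgn : (g : G) ∈ normalizer (E : Set G) := mem_normalizer_fintype hgE
    have hgK : ∀ x ∈ K, (g : G) * x * (g : G)⁻¹ ∈ K := hKconj g fun r hr => by
      rw [hgR r hr, mul_inv_cancel_right]; exact hr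
    have hgKn : (g : G) ∈ normalizer (K : Set G) := mem_normalizer_fintype hgK
    obtain ⟨P, hP⟩ := (hQp.comap_of_injective K.subtype K.subtype_injective).exists_le_sylow
    have hPQ : (P : Subgroup K).map K.subtype = Q :=
      hKmax _ (P.2.map _) (map_subtype_le _) (fun x hx => ⟨⟨x, hYK (hQY hx)⟩, hP hx, rfl⟩)
    set Qg := Q.map (MulAut.conj (g : G)).toMonoidHom
    have hQgK : Qg ≤ K := by
      rintro _ ⟨x, hx, rfl⟩
      exact hgK x (hYK (hQY hx))
    obtain ⟨P', hP'⟩ := ((hQp.map (MulAut.conj (g : G)).toMonoidHom).comap_of_injective K.subtype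
      K.subtype_injective).exists_le_sylow
    have hP'eq : (P' : Subgroup K).map K.subtype = Qg := by
      refine (eq_of_le_of_card_ge ?_ ?_).symm
      · exact fun x hx => ⟨⟨x, hQgK hx⟩, hP' hx, rfl⟩
      · rw [card_map_of_injective K.subtype_injective, card_map_of_injective (MulAut.conj (g : G)).injective,
          ← hPQ, card_map_of_injective K.subtype_injective, P'.card_eq_multiplicity,
          P.card_eq_multiplicity]
    have hEK : E ≤ normalizer (K : Set G) := le_normalizer_iff.2 fun b hb' x hx =>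
      hKconj ⟨b, e.fourE_le_N hb hb'⟩ (hFconj ⟨b, e.fourE_le_N hb hb'⟩ (hEF hb')) x hx
    obtain ⟨c, hc, hcP⟩ := CfsgLib.Coprime.invariant_sylow_conj E K hEK
      (e.hyp_coprime hb hw hKodd).1 (e.hyp_coprime hb hw hKodd).2 p P' P (by
        rw [hP'eq]
        refine le_normalizer_iff.2 ?_
        rintro b hb' _ ⟨x, hx, rfl⟩
        refine ⟨((g : G)⁻¹ * b * g) * x * ((g : G)⁻¹ * b * g)⁻¹,
          (mem_normalizer_iff.1 (hPY ((mem_normalizer_iff''.1 hgn b).1 hb')) x).1 hx, ?_⟩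
        show (g : G) * ((g : G)⁻¹ * b * g * x * ((g : G)⁻¹ * b * g)⁻¹) * (g : G)⁻¹ =
          b * ((g : G) * x * (g : G)⁻¹) * b⁻¹
        group) (by rw [hPQ]; exact hPY)
    set g' := (c : G) * g with hg'
    have hg'H : g' ∈ H := mem_normalizer_fintype fun x hx => by
      rw [← hPQ, ← hcP]
      rw [SetLike.mem_coe, CfsgLib.Coprime.mem_map_subtype_smul, hP'eq]
      refine ⟨x, hx, ?_⟩
      show (g : G) * x * (g : G)⁻¹ = _
      simp only [hg']
      group
    have hg'w : g' * w * g'⁻¹ = a * w := by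
      have h1 : (c : G) * (a * w) = (a * w) * c :=
        (mem_centralizer_iff.1 hc (a * w) (mul_mem (mem_sup_left ha) (mem_sup_right (mem_zpowers w)))).symm
      calc g' * w * g'⁻¹ = c * ((g : G) * w * (g : G)⁻¹) * (c : G)⁻¹ := by simp only [hg']; group
        _ = a * w := by rw [show (g : G) * w * (g : G)⁻¹ = a * w from hgw, h1, mul_inv_cancel_right]
    refine e.false_of_fix hb ha ha1 fun P0 hP0 => ?_
    have h1 := smul_mem_fixPts (x := g') (e.smul_mem_fix (inv_mem (hHF hg'H)) hP0)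
    rw [smul_inv_smul, hg'w] at h1
    have h2 : (a * w) • P0 = P0 := h1
    rw [mul_smul, show w • P0 = P0 from hP0] at h2
    exact h2

theorem centralizerPPrimeCore_eq_bot_of_A (hW : coreN N ≠ ⊥) {w : G} (hb : Bad N w) (hw : A ≤ cent w) :
    Cfsg.centralizerPPrimeCore 2 w = ⊥ := by
  classical
  by_contra hne
  obtain ⟨p, hp, hpd⟩ := Nat.exists_prime_and_dvd (n := Nat.card (Cfsg.centralizerPPrimeCore 2 w))
    fun h => hne (card_eq_one.1 h)
  haveI : Fact p.Prime := ⟨hp⟩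
  obtain ⟨P1, hE1, ⟨x, hxQ, hx1, hxw⟩, hF1, ht1, hN1⟩ := e.exists_sylow_W hW hb hw hpd
  set Q1 := (P1 : Subgroup (coreN N)).map (coreN N).subtype
  have hw2 : w * w = 1 := by rw [← pow_two, ← hb.two]; exact pow_orderOf_eq_one w
  have hbad : ∀ y ∈ A, Bad N (w * y) ∧ A ≤ cent (w * y) := fun y hy => ⟨e.star w hb hw y hy,
    fun b hb' => mem_cent.2 (by
      calc b * (w * y) = (b * w) * y := by group
        _ = w * (b * y) := by rw [mem_cent.1 (hw hb')]; group
        _ = _ := by rw [e.setup.comm hb' hy]; group)⟩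
  obtain ⟨y, hy, hy1, hpy⟩ : ∃ y ∈ A, y ≠ 1 ∧
      p ∣ Nat.card (Cfsg.centralizerPPrimeCore 2 (w * y)) := by
    by_contra hcon
    push Not at hcon
    have hQodd : Odd (Nat.card Q1) :=
      Odd.of_dvd_nat e.setup.odd_card_coreN (card_dvd_of_le (map_subtype_le _))
    -- every `w y` inverts `x`
    have hinv : ∀ y ∈ A, y ≠ 1 → y * x * y⁻¹ = x⁻¹ := by
      intro y hy hy1
      obtain ⟨hby, hAy⟩ := hbad y hy
      have hwy : w * y ∈ normalizer (Q1 : Set G) :=
        mul_mem (hE1 (mem_sup_right (mem_zpowers w))) (hE1 (mem_sup_left hy))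
      have h := CfsgLib.LargeExtra.inverts_of_fixed_point_free hQodd hwy
        (by rw [← pow_two, ← hby.two]; exact pow_orderOf_eq_one _) ?_ hxQ
      · calc y * x * y⁻¹ = w⁻¹ * ((w * y) * x * (w * y)⁻¹) * w := by group
          _ = w⁻¹ * x⁻¹ * w := by rw [h]
          _ = x⁻¹ := by
            rw [mul_assoc, mem_cent.1 (inv_mem hxw), inv_mul_cancel_left]
      · intro k hk hkw
        have h1 : k ∈ Cfsg.centralizerPPrimeCore 2 (w * y) := by
          rw [← e.coreN_inf_cent hby]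
          exact ⟨map_subtype_le _ hk, mem_cent.2 hkw.symm⟩
        obtain ⟨j, hj⟩ := (P1.2.map (coreN N).subtype) ⟨k, hk⟩
        have hj' : k ^ p ^ j = 1 := congrArg Subtype.val hj
        exact orderOf_eq_one_iff.1 (Nat.eq_one_of_dvd_coprimes
          (Nat.Coprime.pow_right j ((hp.coprime_iff_not_dvd.2 (hcon y hy hy1)).symm))
          (Subgroup.orderOf_dvd_natCard _ h1) (orderOf_dvd_of_pow_eq_one hj'))
    obtain ⟨y1, hy1, hy11⟩ := (Subgroup.bot_or_exists_ne_one A).resolve_left fun h => by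
      have := e.setup.rank
      rw [h, Subgroup.card_bot] at this
      omega
    obtain ⟨y2, hy2, hy21, hy12⟩ : ∃ y2 ∈ A, y2 ≠ 1 ∧ y2 ≠ y1 := by
      by_contra hc
      push Not at hc
      have hsub : (A : Set G) ⊆ {1, y1} := fun b hb' => by
        rcases eq_or_ne b 1 with h | h
        · exact Or.inl h
        · exact Or.inr (hc b hb' h)
      have h1 := (Set.ncard_le_ncard hsub (Set.toFinite _)).trans (Set.ncard_insert_le _ _)
      rw [Set.ncard_singleton, ← Nat.card_coe_set_eq] at h1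
      have := e.setup.rank
      exact absurd h1 (by show ¬ Nat.card A ≤ 2; omega)
    have h12 := hinv (y1 * y2) (mul_mem hy1 hy2) fun h => hy12 (by
      rw [eq_inv_of_mul_eq_one_right h, inv_eq_of_mul_eq_one_right (e.setup.mul_self_eq_one hy1)])
    have h1 := hinv y1 hy1 hy11
    have h2 := hinv y2 hy2 hy21
    have hxx : x = x⁻¹ := by
      rw [← h12]
      calc x = (x⁻¹)⁻¹ := (inv_inv x).symm
        _ = (y1 * x * y1⁻¹)⁻¹ := by rw [h1]
        _ = y1 * x⁻¹ * y1⁻¹ := by group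
        _ = y1 * (y2 * x * y2⁻¹) * y1⁻¹ := by rw [h2]
        _ = _ := by group
    refine hx1 (orderOf_eq_one_iff.1 (Nat.eq_one_of_dvd_coprimes (Nat.coprime_two_right.2 hQodd)
      (Subgroup.orderOf_dvd_natCard Q1 hxQ) (orderOf_dvd_of_pow_eq_one ?_)))
    rw [pow_two]
    nth_rewrite 2 [hxx]
    exact mul_inv_cancel x
  obtain ⟨hb2, hw'⟩ := hbad y hy
  obtain ⟨P2, hE2, -, hF2, -, -⟩ := e.exists_sylow_W hW hb2 hw' hpy
  set E2 := fourE A (w * y)
  have hE12 : E2 ≤ normalizer (Q1 : Set G) := sup_le (le_sup_left.trans hE1)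
    (zpowers_le.2 (mul_mem (hE1 (mem_sup_right (mem_zpowers w))) (hE1 (mem_sup_left hy))))
  have hEW : E2 ≤ normalizer ((coreN N : Subgroup G) : Set G) := le_normalizer_iff.2 fun b hb' z hz =>
    e.setup.coreN_conj (e.fourE_le_N hb2 hb') hz
  obtain ⟨c, hc, hcP⟩ := CfsgLib.Coprime.invariant_sylow_conj E2 (coreN N) hEW
    (e.hyp_coprime hb2 hw' e.setup.odd_card_coreN).1 (e.hyp_coprime hb2 hw' e.setup.odd_card_coreN).2
    p P1 P2 hE12 hE2
  set H := normalizer (Q1 : Set G)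
  have hAH : A ≤ H := le_sup_left.trans hE1
  have hcw : (c : G) ∈ stabFix N (w * y) := e.cent_le_stabFix _ (mem_cent.2
    (mem_centralizer_iff.1 hc (w * y) (mem_sup_right (mem_zpowers _))).symm)
  have hF12 : H ≤ stabFix N (w * y) := by
    intro z hz
    have h1 : (c : G) * z * (c : G)⁻¹ ∈
        normalizer ((P2 : Subgroup (coreN N)).map (coreN N).subtype : Set G) := by
      refine mem_normalizer_fintype fun v hv => ?_
      rw [SetLike.mem_coe, ← hcP, CfsgLib.Coprime.mem_map_subtype_smul] at hv ⊢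
      have h3 := (mem_normalizer_iff.1 hz _).1 hv
      have e1 : (c : G)⁻¹ * ((c : G) * z * (c : G)⁻¹ * v * ((c : G) * z * (c : G)⁻¹)⁻¹) * c =
          z * ((c : G)⁻¹ * v * c) * z⁻¹ := by group
      rw [e1]
      exact h3
    have h2 := mul_mem (mul_mem (inv_mem hcw) (hF2 h1)) hcw
    simpa [mul_assoc] using h2
  refine e.false_of_fix hb hy hy1 fun P hP => ?_
  have h1 : P ∈ fixPts N (w * y) := by
    rw [← e.orbit_eq_of_le hb2 hAH ht1 hN1 hF12, e.orbit_eq_of_le hb hAH ht1 hN1 hF1]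
    exact hP
  have h3 : (w * y) • P = P := h1
  rw [← mem_cent.1 (hw hy), mul_smul, show w • P = P from hP] at h3
  exact h3

theorem core_bad_eq_bot : ∀ w, Bad N w → Cfsg.centralizerPPrimeCore 2 w = ⊥ := by
  intro x hx
  by_cases hW : coreN N = ⊥
  · rw [← e.coreN_inf_cent hx, hW, bot_inf_eq]
  obtain ⟨m, -, hbm, hAm⟩ := e.exists_conj_centralizes hx
  rw [eq_bot_iff]
  intro d hd
  have h1 := centralizerPPrimeCore_conj_le m x d hd
  rw [e.centralizerPPrimeCore_eq_bot_of_A hW hbm hAm, mem_bot] at h1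
  rw [mem_bot]
  calc d = m⁻¹ * (m * d * m⁻¹) * m := by group
    _ = 1 := by rw [h1]; group

/-- `A` centralizes `O(N)`. -/
theorem coreN_le_centralizer : coreN N ≤ centralizer (A : Set G) := by
  intro v hv
  rw [mem_centralizer_iff]
  intro a ha
  obtain ⟨w0, hw0⟩ := e.exists_bad
  obtain ⟨m, -, hbw, hAw⟩ := e.exists_conj_centralizes hw0
  set w := m * w0 * m⁻¹
  have hinv : ∀ t : G, Bad N t → t * v * t⁻¹ = v⁻¹ := fun t ht =>
    CfsgLib.LargeExtra.inverts_of_fixed_point_free e.setup.odd_card_coreN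
      (mem_normalizer_fintype fun y hy => e.setup.coreN_conj ht.mem hy)
      (by rw [← pow_two, ← ht.two]; exact pow_orderOf_eq_one t)
      (fun k hk hkt => by
        have h1 : k ∈ coreN N ⊓ cent t := ⟨hk, mem_cent.2 hkt.symm⟩
        rw [e.coreN_inf_cent ht, e.core_bad_eq_bot t ht, mem_bot] at h1
        exact h1) hv
  have h1 := hinv _ (e.star w hbw hAw a ha)
  rw [← hinv w hbw] at h1
  have h2 : a * v * a⁻¹ = v := by
    calc a * v * a⁻¹ = w⁻¹ * (w * a * v * (w * a)⁻¹) * w := by group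
      _ = w⁻¹ * (w * v * w⁻¹) * w := by rw [h1]
      _ = v := by group
  exact mul_inv_eq_iff_eq_mul.1 h2

/-- Stage V. -/
theorem normalizer_eq : N = normalizer (A : Set G) ∧
    ∀ w, Bad N w → Cfsg.centralizerPPrimeCore 2 w = ⊥ := by
  refine ⟨le_antisymm (fun x hx => ?_) e.setup.norm_le, e.core_bad_eq_bot⟩
  obtain ⟨v, hv, m, hm, rfl⟩ := e.factor x hx
  exact mul_mem (centralizer_le_normalizer _ (e.coreN_le_centralizer hv)) hm

end Endgame

end CfsgLib.ThreeFree
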