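import Cfsg.Agent.Lib.ThreeFree.CoreBasic
import Cfsg.Agent.Lib.ThreeFree.SzGood
import Cfsg.Agent.Lib.PCore.Basic
import Cfsg.Prelude.Def_Local

/-!
The abstract situation behind the key lemma on the core of the centralizer of a bad involution `w`:
`U` is the centralizer of the elementary abelian subgroup `A` in `N / O(N)`, `φ` the action of the
centralizer of `w` on the Suzuki group, `h` the torus.
-/

set_option autoImplicit false
set_option linter.style.haveILetI false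
set_option linter.unusedSectionVars false

namespace CfsgLib.ThreeFree.Core

open Subgroup
open scoped commutatorElement

universe u

/-- The centralizer of an element. -/
abbrev cw {U : Type*} [Group U] (w : U) : Subgroup U := centralizer ({w} : Set U)

/-- The hypotheses of the key lemma. -/
structure CoreHyp {U T : Type u} [Group U] [Group T] (A : Subgroup U) (w : U) (n : ℕ) (h : MulAut U)
    (φ : (cw w) →* T) (hT : MulAut T) : Prop where
  good : SzGood U
  core : Cfsg.pPrimeCore 2 U = ⊥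
  central : A ≤ center U
  sq : ∀ a ∈ A, a * a = 1
  three_le : 3 ≤ n
  card_A : Nat.card A = 2 ^ n
  w_sq : w * w = 1
  w_not : w ∉ A
  invol : ∀ x : U, x * x = 1 → x * w = w * x → x ∈ A ∨ w * x ∈ A
  h_w : h w = w
  h_A : ∀ a ∈ A, h a ∈ A
  h_trans : ∀ a ∈ A, a ≠ 1 → ∀ a' ∈ A, a' ≠ 1 → ∃ k : ℕ, (h ^ k) a = a'
  card_T : Nat.card T = (2 ^ n) ^ 2
  phi_surj : Function.Surjective φ
  phi_w : ∀ hx : w ∈ (cw w), φ ⟨w, hx⟩ = 1
  phi_A_surj : ∀ t : T, t * t = 1 →
    ∃ a : (cw w), (a : U) ∈ A ∧ φ a = t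
  phi_A_inj : ∀ a : (cw w), (a : U) ∈ A → φ a = 1 → a = 1
  phi_h : ∀ x y : (cw w), (y : U) = h x → φ y = hT (φ x)
  T_not_comm : ∃ s t : T, s * t ≠ t * s
  T_orbit : ∀ s t : T, s * s ≠ 1 → t * t ≠ 1 → ∃ k : ℕ, (t⁻¹ * (hT ^ k) s) * (t⁻¹ * (hT ^ k) s) = 1
  T_moves : ∀ s : T, s * s ≠ 1 → (s⁻¹ * hT s) * (s⁻¹ * hT s) ≠ 1
  bound : ∀ u : U, u * u = 1 → u ∉ A → ∀ X : Subgroup U, (∀ x ∈ X, x * u = u * x) →
    (∀ x ∈ X, x * x ∈ A) → Nat.card X ≤ 2 * (2 ^ n) ^ 2

namespace CoreHyp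

variable {U T : Type u} [Group U] [Group T] [Finite U] {A : Subgroup U} {w : U} {n : ℕ} {h : MulAut U}
  {φ : (cw w) →* T} {hT : MulAut T}

variable (c : CoreHyp A w n h φ hT)
include c

omit [Finite U] in
theorem w_inv : w⁻¹ = w := inv_eq_of_mul_eq_one_right c.w_sq

omit [Finite U] in
theorem comm_A {a : U} (ha : a ∈ A) (x : U) : x * a = a * x := mem_center_iff.1 (c.central ha) x

omit [Finite U] in
theorem A_normal : A.Normal := ⟨fun a ha x => by
  rw [c.comm_A ha x, mul_inv_cancel_right]; exact ha⟩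

omit [Finite U] in
theorem A_le_J : A ≤ (cw w) := fun _ ha => mem_centralizer_singleton_iff.2 (c.comm_A ha w).symm

omit [Finite U] in
theorem w_mem_J : w ∈ (cw w) := mem_centralizer_singleton_iff.2 rfl

omit [Finite U] in
theorem four_le : 8 ≤ 2 ^ n :=
  le_trans (by norm_num) (Nat.pow_le_pow_right two_pos c.three_le)

omit [Finite U] in
theorem pow_A (k : ℕ) {a : U} (ha : a ∈ A) : (h ^ k) a ∈ A := by
  induction k with
  | zero => simpa using ha
  | succ k ih => rw [pow_succ', MulAut.mul_apply]; exact c.h_A _ ih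

omit [Finite U] in
theorem pow_w (k : ℕ) : (h ^ k) w = w := by
  induction k with
  | zero => simp
  | succ k ih => rw [pow_succ', MulAut.mul_apply, ih, c.h_w]

omit [Finite U] in
theorem pow_J (k : ℕ) {x : U} (hx : x ∈ (cw w)) : (h ^ k) x ∈ (cw w) := by
  rw [mem_centralizer_singleton_iff] at hx ⊢
  conv_lhs => rw [← c.pow_w k]
  conv_rhs => rw [← c.pow_w k]
  rw [← map_mul, ← map_mul, hx]

omit [Finite U] in
theorem phi_pow (k : ℕ) (x : (cw w)) : φ ⟨(h ^ k) x, c.pow_J k x.2⟩ = (hT ^ k) (φ x) := by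
  induction k with
  | zero =>
    simp only [pow_zero, MulAut.one_apply]
  | succ k ih =>
    rw [c.phi_h ⟨(h ^ k) x, c.pow_J k x.2⟩ ⟨(h ^ (k + 1)) x, c.pow_J (k + 1) x.2⟩ (by
      show (h ^ (k + 1)) (x : U) = h ((h ^ k) x)
      rw [pow_succ', MulAut.mul_apply]), ih, pow_succ', MulAut.mul_apply]

omit [Finite U] in
/-- A nontrivial subgroup of `A` stable under the torus is `A`. -/
theorem A_irr {V : Subgroup U} (hV : ∀ v ∈ V, h v ∈ V) {a : U} (ha : a ∈ V) (haA : a ∈ A)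
    (ha1 : a ≠ 1) : A ≤ V := by
  have hk : ∀ k : ℕ, (h ^ k) a ∈ V := by
    intro k
    induction k with
    | zero => simpa using ha
    | succ k ih => rw [pow_succ', MulAut.mul_apply]; exact hV _ ih
  intro b hb
  rcases eq_or_ne b 1 with rfl | hb1
  · exact V.one_mem
  obtain ⟨k, rfl⟩ := c.h_trans a haA ha1 b hb hb1
  exact hk k

/-- The image of `A` in `T` is central. -/
theorem sq_central {z : T} (hz : z * z = 1) (t : T) : t * z = z * t := by
  obtain ⟨x, rfl⟩ := c.phi_surj t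
  obtain ⟨a, ha, rfl⟩ := c.phi_A_surj z hz
  rw [← map_mul, ← map_mul]
  exact congrArg φ (Subtype.ext (c.comm_A ha x))

/-- A conjugate of `w` centralizing `w` lies in `w A`. -/
theorem conj_mem {y : U} (hy : y * w * y⁻¹ ∈ (cw w)) : w * (y * w * y⁻¹) ∈ A := by
  refine (c.invol _ ?_ (mem_centralizer_singleton_iff.1 hy)).resolve_left fun hA => c.w_not ?_
  · calc y * w * y⁻¹ * (y * w * y⁻¹) = y * (w * w) * y⁻¹ := by group
      _ = 1 := by rw [c.w_sq]; group
  · have := c.A_normal.conj_mem _ hA y⁻¹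
    simpa [mul_assoc] using this

/-- An involution of the kernel of `φ` is `w`. -/
theorem eq_w_of_ker {x : (cw w)} (hx : φ x = 1) (h2 : x * x = 1) (h1 : x ≠ 1) : (x : U) = w := by
  rcases c.invol x (congrArg Subtype.val h2) (mem_centralizer_singleton_iff.1 x.2) with hA | hA
  · exact absurd (c.phi_A_inj x hA hx) h1
  · have := c.phi_A_inj (⟨w, c.w_mem_J⟩ * x) hA (by rw [map_mul, c.phi_w, hx, one_mul])
    have h3 : w * (x : U) = 1 := congrArg Subtype.val this
    rw [← inv_eq_of_mul_eq_one_right h3, c.w_inv]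

/-- `T` has squares and commutators in the image of `A`. -/
theorem sq_sq (t : T) : (t * t) * (t * t) = 1 := by
  by_contra ht
  have hp : IsPGroup 2 T := IsPGroup.of_card (n := n * 2) (by rw [c.card_T, ← pow_mul])
  obtain ⟨j, hj⟩ := hp t
  have key : ∃ s : T, s * s ≠ 1 ∧ (s * s) * (s * s) = 1 := by
    induction j generalizing t with
    | zero => exact absurd (by rw [pow_zero, pow_one] at hj; rw [hj]; simp) ht
    | succ j ih =>
      rcases eq_or_ne ((t * t) * (t * t) * ((t * t) * (t * t))) 1 with h4 | h4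
      · exact ⟨t * t, ht, h4⟩
      · exact ih (t * t) h4 (by rw [← pow_two, ← pow_mul, ← pow_succ']; exact hj)
  obtain ⟨s, hs, hs2⟩ := key
  obtain ⟨k, hk⟩ := c.T_orbit s t hs (fun e => ht (by rw [e, one_mul]))
  set z := t⁻¹ * (hT ^ k) s
  have e : t = (hT ^ k) s * z⁻¹ := by simp [z]
  have hzc : ∀ v : T, v * z⁻¹ = z⁻¹ * v := fun v => by
    rw [inv_eq_of_mul_eq_one_right hk]
    exact c.sq_central hk v
  have h1 : t * t = (hT ^ k) s * (hT ^ k) s := by
    rw [e]
    calc (hT ^ k) s * z⁻¹ * ((hT ^ k) s * z⁻¹) = (hT ^ k) s * (z⁻¹ * (hT ^ k) s) * z⁻¹ := by group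
      _ = (hT ^ k) s * ((hT ^ k) s * z⁻¹) * z⁻¹ := by rw [← hzc ((hT ^ k) s)]
      _ = (hT ^ k) s * (hT ^ k) s * (z * z)⁻¹ := by group
      _ = _ := by rw [hk, inv_one, mul_one]
  exact ht (by rw [h1, ← map_mul, ← map_mul, hs2, map_one])

theorem comm_sq (s t : T) : (s * t * s⁻¹ * t⁻¹) * (s * t * s⁻¹ * t⁻¹) = 1 := by
  have e : s * t * s⁻¹ * t⁻¹ = (s * t * (s * t)) * (t⁻¹ * (s⁻¹ * s⁻¹) * t) * (t⁻¹ * t⁻¹) := by group
  have h1 := c.sq_sq (s * t)
  have h2 := c.sq_sq s⁻¹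
  have h3 := c.sq_sq t⁻¹
  have h4 : t⁻¹ * (s⁻¹ * s⁻¹) * t = s⁻¹ * s⁻¹ := by
    rw [c.sq_central h2, mul_assoc, inv_mul_cancel, mul_one]
  rw [e, h4]
  have hab : ∀ a b : T, a * a = 1 → b * b = 1 → (a * b) * (a * b) = 1 := fun a b ha hb => by
    calc a * b * (a * b) = a * (b * a) * b := by group
      _ = a * (a * b) * b := by rw [c.sq_central ha b]
      _ = (a * a) * (b * b) := by group
      _ = 1 := by rw [ha, hb, one_mul]
  exact hab _ _ (hab _ _ h1 h2) h3

end CoreHyp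

end CfsgLib.ThreeFree.Core
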