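import Cfsg.Agent.Lib.ThreeFree.CoreAct
import Cfsg.Agent.Lib.ThreeFree.Balance
import Cfsg.Agent.Lib.ThreeFree.CoreBasic
import Cfsg.Agent.Lib.Involutions.BrauerSuzuki

/-!
The endgame, stage V: `C_W(x) = O(C(x))` for bad `x`; if `W ≠ 1` the centralizer of the component has
only one involution; the involutions commuting with it and with `A`.
-/

set_option autoImplicit false
set_option linter.style.haveILetI false
set_option linter.unusedSectionVars false

namespace CfsgLib.ThreeFree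

open Subgroup CfsgLib.Components
open scoped commutatorElement

universe u

variable {G : Type u} [Group G] [Finite G] {S : Sylow 2 G} {A N H : Subgroup G} {n : ℕ}

theorem Core.centralizerPPrimeCore_conj_le (m x : G) :
    ∀ y ∈ Cfsg.centralizerPPrimeCore 2 x,
      m * y * m⁻¹ ∈ Cfsg.centralizerPPrimeCore 2 (m * x * m⁻¹) := by
  haveI : Fact (Nat.Prime 2) := ⟨Nat.prime_two⟩
  have hC : ∀ g : G, g ∈ cent (m * x * m⁻¹) ↔ m⁻¹ * g * m ∈ cent x := fun g => by
    rw [mem_cent, mem_cent]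
    constructor <;> intro h
    · have := congrArg (fun t => m⁻¹ * t * m) h
      simpa [mul_assoc] using this
    · have := congrArg (fun t => m * t * m⁻¹) h
      simpa [mul_assoc] using this
  set D := Cfsg.centralizerPPrimeCore 2 x
  have hDn : ∀ c ∈ cent x, ∀ d ∈ D, c * d * c⁻¹ ∈ D := by
    rintro c hc _ ⟨d, hd, rfl⟩
    exact ⟨⟨c, hc⟩ * d * ⟨c, hc⟩⁻¹,
      (inferInstance : (Cfsg.pPrimeCore 2 (cent x)).Normal).conj_mem d hd _, rfl⟩
  have hle : D.map (MulAut.conj m).toMonoidHom ≤ cent (m * x * m⁻¹) := by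
    rintro _ ⟨d, hd, rfl⟩
    show m * d * m⁻¹ ∈ cent (m * x * m⁻¹)
    rw [hC, show m⁻¹ * (m * d * m⁻¹) * m = d by group]
    exact map_subtype_le _ hd
  set X := (D.map (MulAut.conj m).toMonoidHom).subgroupOf (cent (m * x * m⁻¹))
  have hXn : X.Normal := ⟨fun d hd g => by
    obtain ⟨d', hd', e⟩ := hd
    refine ⟨(m⁻¹ * g * m) * d' * (m⁻¹ * g * m)⁻¹, hDn _ ((hC g).1 g.2) d' hd', ?_⟩
    show m * ((m⁻¹ * g * m) * d' * (m⁻¹ * g * m)⁻¹) * m⁻¹ = (g : G) * d * (g : G)⁻¹
    rw [show (d : G) = m * d' * m⁻¹ from e.symm]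
    group⟩
  have hXc : (Nat.card X).Coprime 2 := by
    rw [Nat.card_congr (subgroupOfEquivOfLe hle).toEquiv,
      card_map_of_injective (MulAut.conj m).injective]
    exact card_centralizerCore_coprime ({x} : Set G)
  intro y hy
  exact ⟨⟨m * y * m⁻¹, hle ⟨y, hy, rfl⟩⟩,
    CfsgLib.PCore.le_pPrimeCore hXn hXc (show (⟨m * y * m⁻¹, _⟩ : cent _) ∈ X from ⟨y, hy, rfl⟩), rfl⟩

namespace Setup

theorem odd_card_coreN (_s : Setup G S A N) : Odd (Nat.card (coreN N)) := by
  rw [card_map_of_injective N.subtype_injective]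
  exact Nat.coprime_two_right.1 CfsgLib.PCore.pPrimeCore_coprime

theorem coreN_le (_s : Setup G S A N) : coreN N ≤ N := map_subtype_le _

theorem coreN_conj (_s : Setup G S A N) {g : G} (hg : g ∈ N) {y : G} (hy : y ∈ coreN N) :
    g * y * g⁻¹ ∈ coreN N := by
  obtain ⟨v, hv, rfl⟩ := hy
  exact ⟨⟨g, hg⟩ * v * ⟨g, hg⟩⁻¹,
    (inferInstance : (Cfsg.pPrimeCore 2 N).Normal).conj_mem v hv _, rfl⟩

end Setup

namespace Endgame

variable (e : Endgame S A N n)
include e

/-- A bad involution normalising `A` centralizes it; a bad involution is conjugate in `N` to such. -/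
theorem exists_conj_centralizes {x : G} (hx : Bad N x) :
    ∃ m ∈ N, Bad N (m * x * m⁻¹) ∧ A ≤ cent (m * x * m⁻¹) := by
  obtain ⟨m, hm, hmA⟩ := e.setup.exists_conj_normalizes hx.mem hx.two
  exact ⟨m, hm, hx.conj hm, e.centralizes _ (hx.conj hm) hmA⟩

theorem le_normalizer_A {w : G} (hw : A ≤ cent w) : w ∈ normalizer (A : Set G) :=
  centralizer_le_normalizer _ (mem_centralizer_iff.2 fun a ha => mem_cent.1 (hw ha))

theorem core_cent_le_coreN {w : G} (hb : Bad N w) (hw : A ≤ cent w) :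
    Cfsg.centralizerPPrimeCore 2 w ≤ coreN N := by
  haveI : Fact (Nat.Prime 2) := ⟨Nat.prime_two⟩
  set D := Cfsg.centralizerPPrimeCore 2 w
  have hDN : D ≤ N := e.setup.core_cent_le hb.two (e.le_normalizer_A hw)
  set C := centralizer ({⟨w, hb.mem⟩} : Set N)
  set X := (D.subgroupOf N).subgroupOf C
  have hXn : X.Normal := ⟨fun d hd g => by
    obtain ⟨d', hd', e'⟩ := (show ((d : N) : G) ∈ D from hd)
    have hg : ((g : N) : G) ∈ cent w := mem_cent.2
      (congrArg Subtype.val (mem_centralizer_singleton_iff.1 g.2))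
    show ((g : N) : G) * ((d : N) : G) * ((g : N) : G)⁻¹ ∈ D
    rw [← e']
    exact ⟨⟨_, hg⟩ * d' * ⟨_, hg⟩⁻¹,
      (inferInstance : (Cfsg.pPrimeCore 2 (cent w)).Normal).conj_mem d' hd' _, rfl⟩⟩
  have hDC : D.subgroupOf N ≤ C := fun d hd => mem_centralizer_singleton_iff.2
    (Subtype.ext (mem_cent.1 (map_subtype_le _ hd)))
  have hXc : (Nat.card X).Coprime 2 := by
    rw [Nat.card_congr (subgroupOfEquivOfLe hDC).toEquiv,
      Nat.card_congr (subgroupOfEquivOfLe hDN).toEquiv]
    exact card_centralizerCore_coprime ({w} : Set G)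
  have hle := centralizerPPrimeCore_le e.facts (e.setup.proper N e.setup.N_ne_top)
    (a := (⟨w, hb.mem⟩ : N)) (by rw [Subgroup.orderOf_mk]; exact hb.two)
  intro d hd
  exact ⟨⟨d, hDN hd⟩, hle ⟨⟨⟨d, hDN hd⟩, hDC hd⟩, CfsgLib.PCore.le_pPrimeCore hXn hXc hd, rfl⟩, rfl⟩

/-- `C_W(x) = O(C(x))` for a bad involution `x`. -/
theorem coreN_inf_cent {x : G} (hx : Bad N x) :
    coreN N ⊓ cent x = Cfsg.centralizerPPrimeCore 2 x := by
  obtain ⟨m, hm, hbm, hAm⟩ := e.exists_conj_centralizes hx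
  set x' := m * x * m⁻¹
  have hx' : coreN N ⊓ cent x' = Cfsg.centralizerPPrimeCore 2 x' := by
    refine le_antisymm ?_ (le_inf (e.core_cent_le_coreN hbm hAm) (map_subtype_le _))
    intro d hd
    have hodd : Odd (Nat.card ↥(coreN N ⊓ cent x')) :=
      Odd.of_dvd_nat e.setup.odd_card_coreN (card_dvd_of_le inf_le_left)
    exact ⟨⟨d, hd.2⟩, e.le_core hAm (e.setup.cent_ne_top hbm.two) hbm.out inf_le_right
      (inf_le_left.trans e.setup.coreN_le) hodd
      (fun g hg hgN y hy => Subgroup.mem_inf.2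
        ⟨e.setup.coreN_conj hgN hy.1, mul_mem (mul_mem hg hy.2) (inv_mem hg)⟩)
      ⟨d, hd.2⟩ hd, rfl⟩
  ext d
  have hiff : ∀ v : G, v ∈ coreN N ⊓ cent x ↔ m * v * m⁻¹ ∈ coreN N ⊓ cent x' := by
    intro v
    rw [Subgroup.mem_inf, Subgroup.mem_inf, mem_cent, mem_cent]
    constructor
    · rintro ⟨h1, h2⟩
      refine ⟨e.setup.coreN_conj hm h1, ?_⟩
      calc m * v * m⁻¹ * (m * x * m⁻¹) = m * (v * x) * m⁻¹ := by group
        _ = m * (x * v) * m⁻¹ := by rw [h2]
        _ = _ := by simp only [x']; group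
    · rintro ⟨h1, h2⟩
      constructor
      · have := e.setup.coreN_conj (inv_mem hm) h1
        simpa [mul_assoc] using this
      · have := congrArg (fun t => m⁻¹ * t * m) h2
        simpa [x', mul_assoc] using this
  rw [hiff, hx']
  constructor
  · intro h
    have := Core.centralizerPPrimeCore_conj_le m⁻¹ x' _ h
    simpa [x', mul_assoc] using this
  · exact fun h => Core.centralizerPPrimeCore_conj_le m x _ h

/-- If `W ≠ 1` the centralizer of the component has no two commuting involutions. -/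
theorem rank_one (hW : coreN N ≠ ⊥) (hA : A ≤ H) (hp : H ≠ ⊤) (ho : ¬ H ≤ N)
    {ub vb : H ⧸ Cfsg.pPrimeCore 2 H}
    (hu : ub ∈ centralizer (compL H A : Set (H ⧸ Cfsg.pPrimeCore 2 H)))
    (hv : vb ∈ centralizer (compL H A : Set (H ⧸ Cfsg.pPrimeCore 2 H)))
    (hu2 : orderOf ub = 2) (hv2 : orderOf vb = 2) (hc : ub * vb = vb * ub) : ub = vb := by
  classical
  haveI : Fact (Nat.Prime 2) := ⟨Nat.prime_two⟩
  by_contra hne
  have sd := e.sub H hA hp ho
  have hO : (Nat.card (Cfsg.pPrimeCore 2 H)).Coprime 2 := CfsgLib.PCore.pPrimeCore_coprime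
  have hker : Odd (Nat.card (qmap H).ker) := by
    rw [QuotientGroup.ker_mk']; exact Nat.coprime_two_right.1 hO
  obtain ⟨u0, rfl⟩ := QuotientGroup.mk'_surjective _ ub
  obtain ⟨u, -, huo, hue⟩ := Core.exists_lift_invol (qmap H) hker hu2
  -- lift `vb` into the centralizer of `u`
  have h2u : IsPGroup 2 (zpowers u) := Setup.isPGroup_zpowers_of_orderOf huo
  have hvc : vb ∈ (centralizer (zpowers u : Set H)).map (qmap H) := by
    show vb ∈ (centralizer (zpowers u : Set H)).map (QuotientGroup.mk' _)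
    rw [map_centralizer_quotient hO h2u, mem_centralizer_iff]
    rintro _ ⟨_, ⟨k, rfl⟩, rfl⟩
    have hcom : Commute (qmap H u) vb := by rw [hue]; exact hc
    show qmap H (u ^ k) * vb = vb * qmap H (u ^ k)
    rw [map_zpow]
    exact (hcom.zpow_left k).eq
  obtain ⟨v0, hv0, rfl⟩ := hvc
  obtain ⟨v, hvz, hvo, hve⟩ := Core.exists_lift_invol (qmap H) hker hv2
  have huv : u * v = v * u := by
    have h1 : v ∈ centralizer (zpowers u : Set H) := (zpowers_le.2 hv0) hvz
    exact mem_centralizer_iff.1 h1 u (mem_zpowers u)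
  have hu2' : u * u = 1 := by rw [← pow_two, ← huo]; exact pow_orderOf_eq_one u
  have hv2' : v * v = 1 := by rw [← pow_two, ← hvo]; exact pow_orderOf_eq_one v
  have huvne : u ≠ v := fun h => hne (by rw [← hue, h, hve])
  -- the four group
  let P : Subgroup H :=
    { carrier := {1, u, v, u * v}
      mul_mem' := by
        have e1 : u * (u * v) = v := by rw [← mul_assoc, hu2', one_mul]
        have e2 : v * (u * v) = u := by rw [huv, ← mul_assoc, hv2', one_mul]
        have e3 : u * v * u = v := by rw [huv, mul_assoc, hu2', mul_one]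
        have e4 : u * v * v = u := by rw [mul_assoc, hv2', mul_one]
        have e5 : u * v * (u * v) = 1 := by rw [← mul_assoc, e3, hv2']
        rintro a b (rfl | rfl | rfl | rfl) (rfl | rfl | rfl | rfl) <;>
          simp [hu2', hv2', e1, e2, e3, e4, e5, huv.symm]
      one_mem' := by simp
      inv_mem' := by
        have i1 : u⁻¹ = u := inv_eq_of_mul_eq_one_right hu2'
        have i2 : v⁻¹ = v := inv_eq_of_mul_eq_one_right hv2'
        rintro a (rfl | rfl | rfl | rfl) <;> simp [i1, i2, huv.symm] }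
  have huP : u ∈ P := by show u ∈ ({1, u, v, u * v} : Set H); simp
  have hvP : v ∈ P := by show v ∈ ({1, u, v, u * v} : Set H); simp
  have hPsq : ∀ p ∈ P, p * p = 1 := by
    rintro p (rfl | rfl | rfl | rfl)
    · simp
    · exact hu2'
    · exact hv2'
    · calc u * v * (u * v) = u * (v * u) * v := by group
        _ = u * (u * v) * v := by rw [huv]
        _ = (u * u) * (v * v) := by group
        _ = 1 := by rw [hu2', hv2', one_mul]
  have hP2 : IsPGroup 2 P := fun p => ⟨1, Subtype.ext (by simpa [pow_two] using hPsq p p.2)⟩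
  have hPC : ∀ p ∈ P, qmap H p ∈ centralizer (compL H A : Set (H ⧸ Cfsg.pPrimeCore 2 H)) := by
    rintro p (rfl | rfl | rfl | rfl)
    · rw [map_one]; exact one_mem _
    · rw [hue]; exact hu
    · rw [hve]; exact hv
    · rw [map_mul, hue, hve]; exact mul_mem hu hv
  have hCN : ∀ p : H, qmap H p ∈ centralizer (compL H A : Set (H ⧸ Cfsg.pPrimeCore 2 H)) →
      (p : G) ∈ N := fun p hp' => (sd.mem_iff p).2 (centralizer_le_normalizer _
        (mem_centralizer_iff.2 fun b hb => mem_centralizer_iff.1 hp' b (sd.le_comp hb)))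
  -- an element outside `N` centralizing it
  obtain ⟨g, hgP, hgN⟩ : ∃ g : H, (∀ p ∈ P, g * p = p * g) ∧ (g : G) ∉ N := by
    obtain ⟨l, hlL, hlN⟩ : ∃ l ∈ compL H A,
        l ∉ normalizer (barB H A : Set (H ⧸ Cfsg.pPrimeCore 2 H)) := by
      by_contra hcon
      push Not at hcon
      refine ho fun x hx => (sd.mem_iff ⟨x, hx⟩).2 ?_
      obtain ⟨l, hl, m, hm, hlm⟩ := sd.decomp (qmap H ⟨x, hx⟩)
      rw [hlm]
      exact mul_mem (hcon l hl) hm
    have hl : l ∈ (centralizer (P : Set H)).map (qmap H) := by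
      show l ∈ (centralizer (P : Set H)).map (QuotientGroup.mk' _)
      rw [map_centralizer_quotient hO hP2, mem_centralizer_iff]
      rintro _ ⟨p, hp', rfl⟩
      exact (mem_centralizer_iff.1 (hPC p hp') l hlL).symm
    obtain ⟨g, hg, rfl⟩ := hl
    exact ⟨g, fun p hp' => (mem_centralizer_iff.1 hg p hp').symm, fun hgN => hlN ((sd.mem_iff g).1 hgN)⟩
  -- it normalises `W`
  set W := coreN N
  set V := P.map H.subtype
  haveI : IsMulCommutative V := ⟨⟨fun a b => Subtype.ext (by
    obtain ⟨_, p, hp', rfl⟩ := a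
    obtain ⟨_, q, hq, rfl⟩ := b
    show H.subtype p * H.subtype q = H.subtype q * H.subtype p
    rw [← map_mul, ← map_mul]
    refine congrArg H.subtype ?_
    have hi : ∀ r ∈ P, r⁻¹ = r := fun r hr => inv_eq_of_mul_eq_one_right (hPsq r hr)
    calc p * q = (p * q)⁻¹ := (hi _ (mul_mem hp' hq)).symm
      _ = q * p := by rw [_root_.mul_inv_rev, hi p hp', hi q hq])⟩⟩
  have hVN : V ≤ N := by
    rintro _ ⟨p, hp', rfl⟩
    exact hCN p (hPC p hp')
  have hVn : V ≤ normalizer (W : Set G) := le_normalizer_iff.2 fun a ha y hy =>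
    e.setup.coreN_conj (hVN ha) hy
  have hVsq : ∀ a ∈ V, a * a = 1 := by
    rintro _ ⟨p, hp', rfl⟩
    exact congrArg H.subtype (hPsq p hp')
  have hVnc : ¬ IsCyclic V := by
    intro hcyc
    obtain ⟨⟨x, hx⟩, hgen⟩ := IsCyclic.exists_generator (α := V)
    have key : ∀ a : G, a ∈ V → a = 1 ∨ a = x := by
      intro a ha
      obtain ⟨k, hk⟩ := hgen ⟨a, ha⟩
      have hk' : x ^ k = a := congrArg Subtype.val hk
      rcases Int.even_or_odd k with ⟨j, rfl⟩ | ⟨j, rfl⟩
      · left
        rw [← hk', ← two_mul, zpow_mul, zpow_two, hVsq x hx, one_zpow]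
      · right
        rw [← hk', zpow_add, zpow_mul, zpow_two, hVsq x hx, one_zpow, one_mul, zpow_one]
    have h1 : (u : G) ≠ 1 := fun h => by
      rw [show u = 1 from Subtype.ext h, orderOf_one] at huo; omega
    have h2 : (v : G) ≠ 1 := fun h => by
      rw [show v = 1 from Subtype.ext h, orderOf_one] at hvo; omega
    exact huvne (Subtype.ext (((key _ ⟨u, huP, rfl⟩).resolve_left h1).trans
      ((key _ ⟨v, hvP, rfl⟩).resolve_left h2).symm))
  have hcop : (Nat.card V).Coprime (Nat.card W) := by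
    obtain ⟨k, hk⟩ := IsPGroup.iff_card.mp (hP2.map H.subtype)
    rw [hk]
    exact Nat.Coprime.pow_left k (Nat.coprime_two_left.2 e.setup.odd_card_coreN)
  have hgen := CfsgLib.CoprimeGeneration.iSup_centralizer_eq V W hVnc hVn hcop
  have hgW : ∀ y ∈ W, (g : G) * y * (g : G)⁻¹ ∈ W := by
    have h1 : W ≤ W.comap (MulAut.conj (g : G)).toMonoidHom := by
      conv_lhs => rw [← hgen]
      refine iSup₂_le fun a ha y hy => ?_
      obtain ⟨⟨p, hp', hpa⟩, ha1⟩ := ha
      change (p : G) = a at hpa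
      subst hpa
      have hgp : (g : G) ∈ cent (p : G) := mem_cent.2 (congrArg Subtype.val (hgP p hp'))
      have hp2 : orderOf (p : G) = 2 :=
        orderOf_eq_prime (by rw [pow_two]; exact congrArg Subtype.val (hPsq p hp')) ha1
      have hbad : Bad N (p : G) := ⟨hCN p (hPC p hp'), hp2, fun hle => hgN (hle hgp)⟩
      rw [e.coreN_inf_cent hbad] at hy
      have h2 := Core.centralizerPPrimeCore_conj_le (g : G) (p : G) y hy
      rw [mem_cent.1 hgp, mul_inv_cancel_right, ← e.coreN_inf_cent hbad] at h2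
      exact h2.1
    exact fun y hy => h1 hy
  have hgn : (g : G) ∈ normalizer (W : Set G) := mem_normalizer_fintype hgW
  have hNn : N ≤ normalizer (W : Set G) := le_normalizer_iff.2 fun a ha y hy => e.setup.coreN_conj ha hy
  rcases e.setup.coatom.le_iff.1 hNn with h | h
  · haveI := e.setup.simple
    have hWn : W.Normal := normalizer_eq_top_iff.1 h
    rcases hWn.eq_bot_or_eq_top with h' | h'
    · exact hW h'
    · exact e.setup.N_ne_top (eq_top_iff.2 (h' ▸ e.setup.coreN_le))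
  · exact hgN (h ▸ hgn)

/-- An element of order at most two of the centralizer of the component is the image of `w`. -/
theorem eq_w_of_mem_centralizer (hW : coreN N ≠ ⊥) (hA : A ≤ H) (hp : H ≠ ⊤) (ho : ¬ H ≤ N) {w : H}
    (hw2 : orderOf (w : G) = 2)
    (hwC : qmap H w ∈ centralizer (compL H A : Set (H ⧸ Cfsg.pPrimeCore 2 H)))
    {y : H ⧸ Cfsg.pPrimeCore 2 H}
    (hy : y ∈ centralizer (compL H A : Set (H ⧸ Cfsg.pPrimeCore 2 H))) (hy2 : y * y = 1)
    (hyw : y * qmap H w = qmap H w * y) : y = 1 ∨ y = qmap H w := by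
  rcases eq_or_ne y 1 with h | h
  · exact Or.inl h
  refine Or.inr (e.rank_one hW hA hp ho hy hwC (orderOf_eq_prime (by rw [pow_two, hy2]) h) ?_ hyw)
  haveI : Fact (Nat.Prime 2) := ⟨Nat.prime_two⟩
  have hw2' : w * w = 1 := by
    refine Subtype.ext ?_
    show (w : G) * w = 1
    rw [← pow_two, ← hw2]; exact pow_orderOf_eq_one _
  refine orderOf_eq_prime (by rw [pow_two, ← map_mul, hw2', map_one]) fun h1 => ?_
  have h2 := Core.eq_of_qmap hw2' (one_mul (1 : H)) (by group) (h1.trans (map_one (qmap H)).symm)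
  rw [h2, OneMemClass.coe_one, orderOf_one] at hw2
  omega

/-- An involution commuting with `A` and with `w` lies in `A ∪ w A`. -/
theorem invol_cases (hW : coreN N ≠ ⊥) {w : G} (hb : Bad N w) (hw : A ≤ cent w) {x : G}
    (hx2 : x * x = 1) (hxw : x * w = w * x) (hxA : ∀ a ∈ A, x * a = a * x) :
    x ∈ A ∨ w * x ∈ A := by
  have hp := e.setup.cent_ne_top hb.two
  have ho := hb.out
  set H := cent w
  set xh : H := ⟨x, mem_cent.2 hxw⟩
  set wh : H := ⟨w, mem_cent.2 rfl⟩
  obtain ⟨T, _, φ, -, -, hφk, hφA, -, -⟩ := e.exists_act hw hp ho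
  have hxc : qmap H xh ∈ centralizer (barB H A : Set (H ⧸ Cfsg.pPrimeCore 2 H)) := by
    rw [mem_centralizer_iff]
    rintro _ ⟨a, ha, rfl⟩
    rw [← map_mul, ← map_mul]
    exact congrArg _ (Subtype.ext (hxA a ha).symm)
  obtain ⟨y, ⟨a, ha, hay⟩, hy⟩ := hφA (φ ⟨_, hxc⟩) (by
    rw [← map_mul, ← map_one φ]
    refine congrArg φ (Subtype.ext ?_)
    show qmap H xh * qmap H xh = 1
    rw [← map_mul, ← map_one (qmap H)]
    exact congrArg _ (Subtype.ext hx2))
  have hC : qmap H (xh * a⁻¹) ∈ centralizer (compL H A : Set (H ⧸ Cfsg.pPrimeCore 2 H)) := by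
    have h1 := (hφk (⟨_, hxc⟩ * y⁻¹)).1 (by rw [map_mul, map_inv, hy, mul_inv_cancel])
    rw [map_mul, map_inv, hay]
    exact h1
  have hainv : (a : G)⁻¹ = a := inv_eq_of_mul_eq_one_right (e.setup.mul_self_eq_one ha)
  have hv : (xh * a⁻¹) * (xh * a⁻¹) = 1 := Subtype.ext (by
    show x * (a : G)⁻¹ * (x * (a : G)⁻¹) = 1
    rw [hainv]
    calc x * (a : G) * (x * a) = x * ((a : G) * x) * a := by group
      _ = x * (x * a) * a := by rw [hxA a ha]
      _ = (x * x) * ((a : G) * a) := by group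
      _ = 1 := by rw [hx2, e.setup.mul_self_eq_one (show (a : G) ∈ A from ha), one_mul])
  have hvw : (xh * a⁻¹) * wh = wh * (xh * a⁻¹) := Subtype.ext (mem_cent.1 (xh * a⁻¹).2)
  have hwC := e.fix_mem_centralizer hw hp ho (w := wh) fun g => by
    show (g : G) * w * (g : G)⁻¹ ∈ N
    rw [mem_cent.1 g.2, mul_inv_cancel_right]
    exact hb.mem
  have hw1 : wh * wh = 1 := Subtype.ext (by
    show w * w = 1
    rw [← pow_two, ← hb.two]; exact pow_orderOf_eq_one w)
  rcases e.eq_w_of_mem_centralizer hW hw hp ho (w := wh) hb.two hwC hC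
    (by rw [← map_mul, hv, map_one]) (by rw [← map_mul, ← map_mul, hvw]) with h | h
  · left
    have h2 : (xh * a⁻¹ : H) = 1 :=
      Core.eq_of_qmap hv (one_mul 1) (by rw [mul_one, one_mul]) (h.trans (map_one (qmap H)).symm)
    rw [mul_inv_eq_one] at h2
    rw [show x = (a : G) from congrArg Subtype.val h2]
    exact ha
  · right
    have h2 : (xh * a⁻¹ : H) = wh := Core.eq_of_qmap hv hw1 hvw h
    have h3 : x * (a : G)⁻¹ = w := congrArg Subtype.val h2
    rw [← hxw, ← h3, ← mul_assoc, hx2, one_mul]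
    exact inv_mem ha

/-- If the image of an involution is central modulo the core then `H = O(H) C(w)`. -/
theorem exists_decomp_of_fix (hW : coreN N ≠ ⊥) (hA : A ≤ H) (hp : H ≠ ⊤) (ho : ¬ H ≤ N) {w : H}
    (hw2 : orderOf (w : G) = 2)
    (hwC : qmap H w ∈ centralizer (compL H A : Set (H ⧸ Cfsg.pPrimeCore 2 H))) :
    ∀ x : H, ∃ y ∈ Cfsg.pPrimeCore 2 H, ((y⁻¹ * x : H) : G) ∈ cent (w : G) := by
  classical
  haveI : Fact (Nat.Prime 2) := ⟨Nat.prime_two⟩
  set L := compL H A
  haveI hLn : L.Normal := e.comp_normal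
  set C := centralizer (L : Set (H ⧸ Cfsg.pPrimeCore 2 H))
  have hw2' : w * w = 1 := by
    refine Subtype.ext ?_
    show (w : G) * w = 1
    rw [← pow_two, ← hw2]; exact pow_orderOf_eq_one _
  have hwo : orderOf (qmap H w) = 2 := by
    refine orderOf_eq_prime (by rw [pow_two, ← map_mul, hw2', map_one]) fun h1 => ?_
    have h2 := Core.eq_of_qmap hw2' (one_mul (1 : H)) (by group) (h1.trans (map_one (qmap H)).symm)
    rw [h2, OneMemClass.coe_one, orderOf_one] at hw2
    omega
  set z : C := ⟨qmap H w, hwC⟩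
  have hz : orderOf z = 2 := by rw [Subgroup.orderOf_mk]; exact hwo
  have huniq : ∀ s t : C, orderOf s = 2 → orderOf t = 2 → Commute s t → s = t := fun s t hs ht hst =>
    Subtype.ext (e.rank_one hW hA hp ho s.2 t.2 (by rw [Subgroup.orderOf_coe]; exact hs)
      (by rw [Subgroup.orderOf_coe]; exact ht) (congrArg Subtype.val hst.eq))
  have hstar := CfsgLib.Involutions.inZStar_of_rank_one huniq hz
  have hcore : Cfsg.pPrimeCore 2 C = ⊥ :=
    CfsgLib.PCore.pPrimeCore_eq_bot_of_normal C CfsgLib.PCore.pPrimeCore_quotient_pPrimeCore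
  intro x
  have hxw : qmap H x * qmap H w * (qmap H x)⁻¹ ∈ C :=
    (inferInstance : C.Normal).conj_mem _ hwC (qmap H x)
  have heq : (⟨_, hxw⟩ : C) = z := by
    refine huniq _ _ ?_ hz ?_
    · rw [Subgroup.orderOf_mk, CfsgLib.Involutions.orderOf_conj_eq]; exact hwo
    · have h1 := hstar (⟨_, hxw⟩ : C)
      rw [hcore, mem_bot, mul_inv_eq_one, mul_inv_eq_iff_eq_mul] at h1
      exact h1
  have hconj : qmap H (x * w * x⁻¹) = qmap H w := by
    rw [map_mul, map_mul, map_inv]; exact congrArg Subtype.val heq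
  obtain ⟨y, hy, -, hye⟩ := Core.exists_conj_of_mul_mem
    (Nat.coprime_two_right.1 (CfsgLib.PCore.pPrimeCore_coprime (p := 2) (G := H))) hw2'
    (v := x * w * x⁻¹) (by rw [show x * w * x⁻¹ * (x * w * x⁻¹) = x * (w * w) * x⁻¹ by group, hw2']; group)
    (by
      rw [← QuotientGroup.eq_one_iff]
      show qmap H (x * w * x⁻¹ * w) = 1
      rw [map_mul, hconj, ← map_mul, hw2', map_one])
  refine ⟨y, hy, mem_cent.2 ?_⟩
  have h1 : y⁻¹ * x * w = w * (y⁻¹ * x) := by
    calc y⁻¹ * x * w = y⁻¹ * (x * w * x⁻¹) * x := by group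
      _ = y⁻¹ * (y * w * y⁻¹) * x := by rw [hye]
      _ = _ := by group
  exact congrArg Subtype.val h1

end Endgame

end CfsgLib.ThreeFree
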