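import Cfsg.Agent.Lib.ThreeFree.CoreTools
import Cfsg.Agent.Lib.ThreeFree.Algebra

/-!
The key lemma, the case `C_O(w) = A`.
-/

set_option autoImplicit false
set_option linter.style.haveILetI false
set_option linter.unusedSectionVars false

namespace CfsgLib.ThreeFree.Core

open Subgroup CfsgLib.Components
open scoped commutatorElement

universe u

namespace CoreHyp

variable {U T : Type u} [Group U] [Group T] [Finite U] {A : Subgroup U} {w : U} {n : ℕ} {h : MulAut U}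
  {φ : cw w →* T} {hT : MulAut T} (c : CoreHyp A w n h φ hT)
include c

/-- The case `C_O(w) = A`: `O / A` is elementary abelian, and the torus centralizes `T` modulo `A`,
which is false. -/
theorem false_of_small (hF : SzFactsHold.{u}) {R K : Subgroup U} (hK : K = Cfsg.pCore 2 U)
    (hM : ∀ x ∈ Cfsg.pCore 2 U, x ∈ cw w → x ∈ A) (hKsq : ∀ x ∈ K, x * x ∈ A)
    (hKcomm : ∀ x ∈ K, ∀ y ∈ K, ⁅x, y⁆ ∈ A) (hR : R ≠ ⊥) (hRodd : Odd (Nat.card R))
    (hRc : ∀ r ∈ R, ∀ s ∈ R, r * s = s * r) (hRw : ∀ r ∈ R, w * r * w⁻¹ = r⁻¹)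
    (hRJ : ∀ x ∈ cw w, ∀ r ∈ R, x * r * x⁻¹ ∈ R) (hRh : ∀ r ∈ R, h r ∈ R) : False := by
  classical
  haveI : Fact (Nat.Prime 2) := ⟨Nat.prime_two⟩
  haveI hAn : A.Normal := c.A_normal
  subst hK
  set O := Cfsg.pCore 2 U
  have hOn : O.Normal := inferInstance
  have hC := c.centralizer_pCore_le hF
  obtain ⟨Γ, _, _, ι, τ, hι1, hg⟩ : ∃ (Γ : Type u) (_ : Group Γ) (_ : Finite Γ) (ι : U →* Γ)
      (τ : ℕ → Γ), (∀ x : U, ι x = 1 ↔ x ∈ A) ∧
        ∀ (k : ℕ) (x : U), τ k * ι x * (τ k)⁻¹ = ι ((h ^ k) x) := by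
    set π := QuotientGroup.mk' A with hπ
    let hb : MulAut (U ⧸ A) := QuotientGroup.congr A A h (le_antisymm
      (by rintro _ ⟨a, ha, rfl⟩; exact c.h_A a ha)
      (fun a ha => by
        have hinj : Function.Injective (fun y : A => (⟨h y, c.h_A y y.2⟩ : A)) :=
          fun y z e => Subtype.ext (h.injective (congrArg Subtype.val e))
        obtain ⟨y, hy⟩ := Finite.surjective_of_injective hinj ⟨a, ha⟩
        exact ⟨y, y.2, congrArg Subtype.val hy⟩))
    have hhb : ∀ (k : ℕ) (x : U), (hb ^ k) (π x) = π ((h ^ k) x) := by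
      intro k
      induction k with
      | zero => intro x; simp
      | succ k ih => intro x; rw [pow_succ', pow_succ', MulAut.mul_apply, MulAut.mul_apply, ih]; rfl
    refine ⟨(U ⧸ A) ⋊[MonoidHom.id (MulAut (U ⧸ A))] (MulAut (U ⧸ A)), inferInstance,
      Finite.of_equiv _ SemidirectProduct.equivProd.symm, SemidirectProduct.inl.comp π,
      fun k => SemidirectProduct.inr (hb ^ k), fun x => ?_, fun k x => ?_⟩
    · show SemidirectProduct.inl (π x) = 1 ↔ _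
      rw [← map_one SemidirectProduct.inl, SemidirectProduct.inl_inj]
      exact QuotientGroup.eq_one_iff x
    · show _ = SemidirectProduct.inl (π ((h ^ k) x))
      rw [← hhb, ← map_inv]
      exact (SemidirectProduct.inl_aut (φ := MonoidHom.id (MulAut (U ⧸ A))) (hb ^ k) (π x)).symm
  have hι : ∀ x y : U, ι x = ι y ↔ x⁻¹ * y ∈ A := fun x y => by
    rw [← hι1, map_mul, map_inv, inv_mul_eq_one]
  have hodd : ∀ r ∈ R, Odd (orderOf r) := fun r hr =>
    Odd.of_dvd_nat hRodd (Subgroup.orderOf_dvd_natCard R hr)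
  have hlit : ∀ r ∈ R, ∀ x : U, r * x * r⁻¹ * x⁻¹ ∈ A → r * x = x * r := by
    intro r hr x hx
    refine commute_of_sq (hodd r hr) ?_
    set a := r * x * r⁻¹ * x⁻¹ with ha
    have h1 : r * x * r⁻¹ = a * x := by simp [ha]
    have h2 : r * a * r⁻¹ = a := by rw [c.comm_A hx r, mul_inv_cancel_right]
    have h3 : r * r * x * (r * r)⁻¹ = x := by
      calc r * r * x * (r * r)⁻¹ = r * (r * x * r⁻¹) * r⁻¹ := by group
        _ = r * (a * x) * r⁻¹ := by rw [h1]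
        _ = (r * a * r⁻¹) * (r * x * r⁻¹) := by group
        _ = a * a * x := by rw [h2, h1]; group
        _ = x := by rw [c.sq a hx, one_mul]
    exact mul_inv_eq_iff_eq_mul.1 h3
  have hfaith : ∀ r ∈ R, (∀ x ∈ O, r * x * r⁻¹ * x⁻¹ ∈ A) → r = 1 := by
    intro r hr hx
    have hrO : r ∈ O := hC (mem_centralizer_iff.2 fun x hx' => (hlit r hr x (hx x hx')).symm)
    exact (Subgroup.eq_bot_iff_forall _).1
      (CfsgLib.PCore.inf_eq_bot_of_isPGroup_coprime CfsgLib.PCore.pCore_isPGroup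
        (Nat.coprime_two_right.2 hRodd)) r ⟨hrO, hr⟩
  -- the semiregular action
  obtain ⟨hfpf, hcyc⟩ : (∀ m ∈ R.map ι, m ≠ 1 → ∀ a ∈ O.map ι, m * a * m⁻¹ = a → a = 1) ∧
      IsCyclic (R.map ι) := by
    refine fpf_of_trans_inverted (w := ι w) ?_ ?_ ?_ ?_ ?_ ?_ ?_ ?_ ?_ ?_ ?_
    · intro e
      rw [eq_bot_iff_forall] at e
      obtain ⟨r, hr, hr1⟩ := (Subgroup.bot_or_exists_ne_one R).resolve_left hR
      refine hr1 (hfaith r hr fun x hx => ?_)
      exact (hι1 _).1 (e _ (mem_map_of_mem ι (mul_mem (hOn.conj_mem x hx r) (inv_mem hx))))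
    · rintro _ ⟨x, hx, rfl⟩
      rw [← map_mul, hι1]
      exact hKsq x hx
    · rintro _ ⟨x, hx, rfl⟩ _ ⟨y, hy, rfl⟩
      rw [← commutatorElement_eq_one_iff_mul_comm, ← map_commutatorElement, hι1]
      exact hKcomm x hx y hy
    · rintro _ ⟨r, -, rfl⟩ _ ⟨x, hx, rfl⟩
      rw [← map_inv, ← map_mul, ← map_mul]
      exact mem_map_of_mem ι (hOn.conj_mem x hx r)
    · rintro _ ⟨r, hr, rfl⟩ _ ⟨s, hs, rfl⟩
      rw [← map_mul, ← map_mul, hRc r hr s hs]
    · exact Odd.of_dvd_nat hRodd (R.card_map_dvd ι)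
    · rintro _ ⟨r, hr, rfl⟩ hr1
      rw [hfaith r hr fun x hx => ?_, map_one]
      rw [← hι1, map_mul, map_mul, map_mul, map_inv, map_inv, hr1 _ (mem_map_of_mem ι hx),
        mul_inv_cancel]
    · rw [← map_mul, c.w_sq, map_one]
    · rintro _ ⟨x, hx, rfl⟩
      rw [← map_inv, ← map_mul, ← map_mul]
      exact mem_map_of_mem ι (hOn.conj_mem x hx w)
    · rintro _ ⟨r, hr, rfl⟩
      rw [← map_inv, ← map_inv, ← map_mul, ← map_mul, hRw r hr]
    · rintro _ ⟨x, hx, rfl⟩ _ ⟨y, hy, rfl⟩ hxw hyw hx1 hy1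
      have hco : ∀ z ∈ O, ι w * ι z * (ι w)⁻¹ = ι z → z ∈ c.co1 := by
        intro z hz e
        refine c.mem_co1_of_fixed hz (c.A_le_J ?_)
        rw [← hι, ← e, map_mul, map_mul, map_inv]
      have hfx : w * x * w * x⁻¹ ≠ 1 := fun e => hx1 ((hι1 x).2 (hM x hx (by
        rw [mem_centralizer_singleton_iff]
        calc x * w = (w * w) * x * w := by rw [c.w_sq, one_mul]
          _ = w * ((w * x * w * x⁻¹) * x) := by group
          _ = w * x := by rw [e, one_mul])))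
      have hfy : w * y * w * y⁻¹ ≠ 1 := fun e => hy1 ((hι1 y).2 (hM y hy (by
        rw [mem_centralizer_singleton_iff]
        calc y * w = (w * w) * y * w := by rw [c.w_sq, one_mul]
          _ = w * ((w * y * w * y⁻¹) * y) := by group
          _ = w * y := by rw [e, one_mul])))
      obtain ⟨k, hk⟩ := c.h_trans _ (hco x hx hxw).2 hfx _ (hco y hy hyw).2 hfy
      refine ⟨τ k, ?_, ?_⟩
      · rintro _ ⟨r, hr, rfl⟩
        rw [hg]
        refine mem_map_of_mem ι ?_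
        clear hk
        induction k with
        | zero => simpa using hr
        | succ k ih => rw [pow_succ', MulAut.mul_apply]; exact hRh _ ih
      · rw [hg, hι]
        have hkO : (h ^ k) x ∈ O := (characteristic_iff_map_le.1 inferInstance (h ^ k)) ⟨x, hx, rfl⟩
        rw [map_mul, map_mul, map_mul, map_inv, c.pow_w] at hk
        refine hM _ (mul_mem (inv_mem hkO) hy) (mem_centralizer_singleton_iff.2 ?_)
        calc ((h ^ k) x)⁻¹ * y * w = ((h ^ k) x)⁻¹ * (w * w) * y * w * y⁻¹ * y := by rw [c.w_sq]; group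
          _ = ((h ^ k) x)⁻¹ * w * (w * y * w * y⁻¹) * y := by group
          _ = ((h ^ k) x)⁻¹ * (w * w) * (h ^ k) x * w * ((h ^ k) x)⁻¹ * y := by rw [← hk]; group
          _ = w * (((h ^ k) x)⁻¹ * y) := by rw [c.w_sq]; group
  obtain ⟨r, hr, hr1⟩ := (Subgroup.bot_or_exists_ne_one R).resolve_left hR
  have hRA : ∀ s ∈ R, ι s = 1 → s = 1 := fun s hs e =>
    (Subgroup.eq_bot_iff_forall _).1
      (CfsgLib.PCore.inf_eq_bot_of_isPGroup_coprime CfsgLib.PCore.pCore_isPGroup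
        (Nat.coprime_two_right.2 hRodd)) s ⟨c.A_le_O ((hι1 s).1 e), hs⟩
  have hfpf' : ∀ x ∈ O, r * x * r⁻¹ * x⁻¹ ∈ A → x ∈ A := fun x hx e => by
    refine (hι1 x).1 (hfpf _ (mem_map_of_mem ι hr) (fun e1 => hr1 (hRA r hr e1)) _
      (mem_map_of_mem ι hx) ?_)
    rw [← hι1, map_mul, map_mul, map_mul, map_inv, map_inv, mul_inv_eq_one] at e
    exact e
  -- an element moved by the torus modulo `A`
  obtain ⟨s, hs⟩ : ∃ s : T, s * s ≠ 1 := by
    by_contra hcon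
    push Not at hcon
    obtain ⟨s, t, hst⟩ := c.T_not_comm
    exact hst (c.sq_central (hcon t) s)
  obtain ⟨j, hj⟩ := c.phi_surj s
  set d : cw w := j⁻¹ * ⟨h j, c.h_J j.2⟩ with hd
  have hφd : φ d = s⁻¹ * hT s := by
    rw [hd, map_mul, map_inv, hj, c.phi_h j ⟨h j, c.h_J j.2⟩ rfl, hj]
  have hdR : ∀ u ∈ R, (d : U) * u = u * d := by
    obtain ⟨⟨_, g0, hg0, rfl⟩, hgen⟩ := IsCyclic.exists_generator (α := R.map ι)
    have hpow : ∀ u ∈ R, ∃ i : ℤ, g0 ^ i = u := fun u hu => by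
      obtain ⟨i, hi⟩ := hgen ⟨ι u, mem_map_of_mem ι hu⟩
      have e : ι (g0 ^ i) = ι u := by rw [map_zpow]; exact congrArg Subtype.val hi
      refine ⟨i, inv_mul_eq_one.1 (hRA _ (mul_mem (inv_mem (zpow_mem hg0 i)) hu) ?_)⟩
      rw [map_mul, map_inv, e, inv_mul_cancel]
    have hinj : Function.Injective (fun y : R => (⟨h y, hRh y y.2⟩ : R)) :=
      fun y z e => Subtype.ext (h.injective (congrArg Subtype.val e))
    obtain ⟨⟨g1, hg1⟩, hgh⟩ := Finite.surjective_of_injective hinj ⟨g0, hg0⟩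
    have hgh' : h g1 = g0 := congrArg Subtype.val hgh
    obtain ⟨a, ha⟩ := hpow _ (hRJ j j.2 g0 hg0)
    obtain ⟨i, hi⟩ := hpow g1 hg1
    have hkey : h j * g0 * (h j)⁻¹ = g0 ^ a := by
      conv_lhs => rw [← hgh']
      rw [← map_inv, ← map_mul, ← map_mul, ← hi, ← conj_zpow, ← ha, ← zpow_mul, mul_comm, zpow_mul,
        map_zpow, hi, hgh']
    intro u hu
    obtain ⟨l, rfl⟩ := hpow u hu
    refine (Commute.zpow_right ?_ l).eq
    show (j : U)⁻¹ * h j * g0 = g0 * ((j : U)⁻¹ * h j)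
    calc (j : U)⁻¹ * h j * g0 = (j : U)⁻¹ * (h j * g0 * (h j)⁻¹) * h j := by group
      _ = (j : U)⁻¹ * ((j : U) * g0 * (j : U)⁻¹) * h j := by rw [hkey, ha]
      _ = _ := by group
  have hdw : (d : U) * w = w * d := mem_centralizer_singleton_iff.1 d.2
  let S : Subgroup U :=
    { carrier := {x | x ∈ O ∧ (d : U) * x * (d : U)⁻¹ * x⁻¹ ∈ A}
      mul_mem' := by
        rintro x y ⟨hx, hxA⟩ ⟨hy, hyA⟩
        refine ⟨mul_mem hx hy, ?_⟩
        have e : (d : U) * (x * y) * (d : U)⁻¹ * (x * y)⁻¹ = (d : U) * x * (d : U)⁻¹ *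
            ((d : U) * y * (d : U)⁻¹ * y⁻¹) * x⁻¹ := by group
        rw [e, mul_assoc _ ((d : U) * y * (d : U)⁻¹ * y⁻¹) x⁻¹, ← c.comm_A hyA x⁻¹, ← mul_assoc]
        exact mul_mem hxA hyA
      one_mem' := ⟨one_mem _, by simp⟩
      inv_mem' := by
        rintro x ⟨hx, hxA⟩
        refine ⟨inv_mem hx, ?_⟩
        have e : (d : U) * x⁻¹ * (d : U)⁻¹ * x⁻¹⁻¹ =
            x⁻¹ * ((d : U) * x * (d : U)⁻¹ * x⁻¹)⁻¹ * x⁻¹⁻¹ := by group
        rw [e]
        exact hAn.conj_mem _ (inv_mem hxA) _ }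
  have hSf : ∀ z ∈ O, w * z * w * z⁻¹ ∈ S := by
    intro z hz
    set v := w * z * w * z⁻¹ with hv
    have hvO : v ∈ O := by
      have := mul_mem (hOn.conj_mem z hz w) (inv_mem hz)
      rwa [c.w_inv] at this
    have hv1 : w * v * w = v⁻¹ := by
      simp only [hv, _root_.mul_inv_rev, inv_inv, c.w_inv]
      calc w * (w * z * w * z⁻¹) * w = (w * w) * z * w * z⁻¹ * w := by group
        _ = _ := by rw [c.w_sq]; group
    have hvA : w * v * w * v⁻¹ ∈ A := by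
      rw [hv1, ← _root_.mul_inv_rev]; exact inv_mem (hKsq v hvO)
    refine ⟨hvO, ?_⟩
    have hm : v⁻¹ * ((d : U) * v * (d : U)⁻¹) ∈ cw w := by
      have e1 : (d : U) * (w * v * w * v⁻¹) * (d : U)⁻¹ = w * v * w * v⁻¹ := by
        rw [c.comm_A hvA, mul_inv_cancel_right]
      have hdw' : w * (d : U)⁻¹ = (d : U)⁻¹ * w :=
        (Commute.inv_right (show Commute w (d : U) from hdw.symm)).eq
      have e2 : w * ((d : U) * v * (d : U)⁻¹) * w * ((d : U) * v * (d : U)⁻¹)⁻¹ =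
          w * v * w * v⁻¹ := by
        rw [← e1]
        calc w * ((d : U) * v * (d : U)⁻¹) * w * ((d : U) * v * (d : U)⁻¹)⁻¹
            = (w * d) * v * ((d : U)⁻¹ * w) * d * v⁻¹ * (d : U)⁻¹ := by group
          _ = (d * w) * v * (w * (d : U)⁻¹) * d * v⁻¹ * (d : U)⁻¹ := by rw [← hdw, hdw']
          _ = _ := by group
      rw [mem_centralizer_singleton_iff]
      set v' := (d : U) * v * (d : U)⁻¹
      calc v⁻¹ * v' * w = v⁻¹ * (w * w) * v' * w * v'⁻¹ * v' := by rw [c.w_sq]; group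
        _ = v⁻¹ * w * (w * v' * w * v'⁻¹) * v' := by group
        _ = v⁻¹ * (w * w) * v * w * v⁻¹ * v' := by rw [e2]; group
        _ = w * (v⁻¹ * v') := by rw [c.w_sq]; group
    have h2 := hM _ (mul_mem (inv_mem hvO) (hOn.conj_mem v hvO d)) hm
    have := hAn.conj_mem _ h2 v
    simpa [mul_assoc] using this
  have hSconj : ∀ u ∈ R, ∀ x ∈ S, u * x * u⁻¹ ∈ S := by
    rintro u hu x ⟨hx, hxA⟩
    refine ⟨hOn.conj_mem x hx u, ?_⟩
    have hdu : (d : U) * u = u * d := hdR u hu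
    have hdu' : u⁻¹ * (d : U)⁻¹ = (d : U)⁻¹ * u⁻¹ := by rw [← _root_.mul_inv_rev, ← _root_.mul_inv_rev, hdu]
    have e : (d : U) * (u * x * u⁻¹) * (d : U)⁻¹ * (u * x * u⁻¹)⁻¹ =
        u * ((d : U) * x * (d : U)⁻¹ * x⁻¹) * u⁻¹ := by
      calc (d : U) * (u * x * u⁻¹) * (d : U)⁻¹ * (u * x * u⁻¹)⁻¹
          = ((d : U) * u) * x * (u⁻¹ * (d : U)⁻¹) * u * x⁻¹ * u⁻¹ := by group
        _ = (u * d) * x * ((d : U)⁻¹ * u⁻¹) * u * x⁻¹ * u⁻¹ := by rw [hdu, hdu']
        _ = _ := by group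
    rw [e]
    exact hAn.conj_mem _ hxA u
  have hAS : A ≤ S := fun a ha => ⟨c.A_le_O ha, by
    rw [c.comm_A ha, mul_inv_cancel_right, mul_inv_cancel]; exact A.one_mem⟩
  have hcommS : ∀ x ∈ O, ∀ y ∈ S, x * y * x⁻¹ ∈ S := fun x hx y hy => by
    have e : x * y * x⁻¹ = ⁅x, y⁆ * y := by rw [commutatorElement_def]; group
    rw [e]; exact mul_mem (hAS (hKcomm x hx y hy.1)) hy
  -- `R` acts trivially modulo `S`, so `O = S`
  have hRS : ∀ x ∈ O, r * x * r⁻¹ * x⁻¹ ∈ S := by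
    intro x hx
    let Stab : Subgroup U :=
      { carrier := {g | g ∈ R ∧ ∀ y ∈ O, g * y * g⁻¹ * y⁻¹ ∈ S}
        mul_mem' := by
          rintro g g' ⟨hg, hgS⟩ ⟨hg', hg'S⟩
          refine ⟨mul_mem hg hg', fun y hy => ?_⟩
          have e : g * g' * y * (g * g')⁻¹ * y⁻¹ =
              g * (g' * y * g'⁻¹ * y⁻¹) * g⁻¹ * (g * y * g⁻¹ * y⁻¹) := by group
          rw [e]
          exact mul_mem (hSconj g hg _ (hg'S y hy)) (hgS y hy)
        one_mem' := ⟨one_mem _, fun y _ => by simp⟩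
        inv_mem' := by
          rintro g ⟨hg, hgS⟩
          refine ⟨inv_mem hg, fun y hy => ?_⟩
          have e : g⁻¹ * y * g⁻¹⁻¹ * y⁻¹ = g⁻¹ * (g * y * g⁻¹ * y⁻¹)⁻¹ * g⁻¹⁻¹ := by group
          rw [e]
          exact hSconj _ (inv_mem hg) _ (inv_mem (hgS y hy)) }
    have hrr : r * r ∈ Stab := by
      refine ⟨mul_mem hr hr, fun y hy => ?_⟩
      -- `r y r⁻¹` and `r⁻¹ y r` are congruent modulo `S`
      have hyO := hOn.conj_mem y hy r⁻¹
      have h1 := hSf _ hyO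
      have h2 := hSf y hy
      have hwr : w * r⁻¹ = r * w := by
        conv_rhs => rw [← inv_inv r, ← hRw r hr]
        simp only [_root_.mul_inv_rev, c.w_inv, inv_inv]
        calc w * r⁻¹ = w * r⁻¹ * (w * w) := by rw [c.w_sq, mul_one]
          _ = _ := by group
      have hwr' : r * w = w * r⁻¹ := hwr.symm
      have e : w * (r⁻¹ * y * r⁻¹⁻¹) * w * (r⁻¹ * y * r⁻¹⁻¹)⁻¹ =
          r * (w * y * w * y⁻¹) * r⁻¹ * (r * y * r⁻¹) * (r⁻¹ * y * r)⁻¹ := by
        have hrw2 : r * w * r = w := by rw [hwr', mul_assoc, inv_mul_cancel, mul_one]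
        calc w * (r⁻¹ * y * r⁻¹⁻¹) * w * (r⁻¹ * y * r⁻¹⁻¹)⁻¹
            = (w * r⁻¹) * y * (r * w * r) * r⁻¹ * (r⁻¹ * y * r)⁻¹ := by group
          _ = (r * w) * y * w * r⁻¹ * (r⁻¹ * y * r)⁻¹ := by rw [hwr, hrw2]
          _ = _ := by group
      rw [e] at h1
      have h3 := mul_mem (inv_mem (hSconj r hr _ h2)) h1
      have e3 : (r * (w * y * w * y⁻¹) * r⁻¹)⁻¹ *
          (r * (w * y * w * y⁻¹) * r⁻¹ * (r * y * r⁻¹) * (r⁻¹ * y * r)⁻¹) =
          r⁻¹ * (r * r * y * (r * r)⁻¹ * y⁻¹) * r⁻¹⁻¹ := by group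
      rw [e3] at h3
      have h4 := hSconj r hr _ h3
      simpa [mul_assoc] using h4
    exact (mem_of_sq_mem (hodd r hr) hrr).2 x hx
  have hOS : O ≤ S := by
    intro x hx
    have hinj : Function.Injective (fun y : O.map ι =>
        (⟨ι r * y * (ι r)⁻¹ * (y : Γ)⁻¹, by
          obtain ⟨z, hz, e⟩ := y.2
          rw [← e, ← map_inv, ← map_inv, ← map_mul, ← map_mul, ← map_mul]
          exact mem_map_of_mem ι (mul_mem (hOn.conj_mem z hz r) (inv_mem hz))⟩ : O.map ι)) := by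
      rintro ⟨_, y, hy, rfl⟩ ⟨_, z, hz, rfl⟩ e
      have e' := congrArg Subtype.val e
      simp only [← map_inv, ← map_mul, hι] at e'
      refine Subtype.ext ?_
      rw [hι]
      refine hfpf' _ (mul_mem (inv_mem hy) hz) ?_
      have h5 : r * (y⁻¹ * z) * r⁻¹ * (y⁻¹ * z)⁻¹ =
          (r * y * r⁻¹)⁻¹ * ((r * z * r⁻¹ * z⁻¹) * y) := by group
      rw [h5]
      have h6 : (r * y * r⁻¹)⁻¹ * (r * z * r⁻¹ * z⁻¹ * y) =
          y⁻¹ * ((r * y * r⁻¹ * y⁻¹)⁻¹ * (r * z * r⁻¹ * z⁻¹)) * y⁻¹⁻¹ := by group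
      rw [h6]
      exact hAn.conj_mem _ e' _
    obtain ⟨⟨_, y, hy, rfl⟩, hy2⟩ :=
      Finite.surjective_of_injective hinj ⟨ι x, mem_map_of_mem ι hx⟩
    have e := congrArg Subtype.val hy2
    simp only [← map_inv, ← map_mul, hι] at e
    have h7 := mul_mem (hRS y hy) (hAS e)
    rwa [mul_inv_cancel_left] at h7
  -- so `d` lies in `O`
  let Sd : Subgroup U :=
    { carrier := {g | ∀ x ∈ O, ⁅g, x⁆ ∈ A}
      mul_mem' := fun {g g'} hg hg' x hx => by
        have e : ⁅g * g', x⁆ = g * ⁅g', x⁆ * g⁻¹ * ⁅g, x⁆ := by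
          simp only [commutatorElement_def]; group
        rw [e]; exact mul_mem (hAn.conj_mem _ (hg' x hx) g) (hg x hx)
      one_mem' := fun x _ => by simp [commutatorElement_def]
      inv_mem' := fun {g} hg x hx => by
        have e : ⁅g⁻¹, x⁆ = g⁻¹ * ⁅g, x⁆⁻¹ * g⁻¹⁻¹ := by simp only [commutatorElement_def]; group
        rw [e]; exact hAn.conj_mem _ (inv_mem (hg x hx)) _ }
  have hSdn : Sd.Normal := ⟨fun g hg u x hx => by
    have hx' : u⁻¹ * x * u ∈ O := by simpa using hOn.conj_mem x hx u⁻¹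
    have e : ⁅u * g * u⁻¹, x⁆ = u * ⁅g, u⁻¹ * x * u⁆ * u⁻¹ := by
      simp only [commutatorElement_def]; group
    rw [e]; exact hAn.conj_mem _ (hg _ hx') u⟩
  have hSdO : Sd ≤ O := by
    refine CfsgLib.PCore.le_pCore hSdn ?_
    rintro ⟨g, hg⟩
    have hgg : g * g ∈ O := hC (mem_centralizer_iff.2 fun x hx => by
      have h1 := hg x hx
      have e : ⁅g * g, x⁆ = 1 := by
        have e2 : ⁅g * g, x⁆ = g * ⁅g, x⁆ * g⁻¹ * ⁅g, x⁆ := by
          simp only [commutatorElement_def]; group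
        rw [e2, c.comm_A h1 g, mul_inv_cancel_right]; exact c.sq _ h1
      exact (commutatorElement_eq_one_iff_mul_comm.1 e).symm)
    obtain ⟨i, hi⟩ := CfsgLib.PCore.pCore_isPGroup (p := 2) (G := U) ⟨_, hgg⟩
    refine ⟨i + 1, Subtype.ext ?_⟩
    have hi' := congrArg Subtype.val hi
    simp only [SubmonoidClass.coe_pow, OneMemClass.coe_one] at hi' ⊢
    rw [pow_succ', pow_mul, pow_two, hi']
  have hdO : (d : U) ∈ O := hSdO fun x hx => by
    rw [commutatorElement_def]; exact (hOS hx).2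
  refine c.T_moves s hs ?_
  rw [← hφd, ← map_mul, show d * d = 1 from Subtype.ext (c.sq _ (hM _ hdO d.2)), map_one]

end CoreHyp

end CfsgLib.ThreeFree.Core
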