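import Cfsg.Agent.Lib.ThreeFree.CoreRank

/-!
The endgame, stage V: the setwise stabilizer of the fixed points of a bad involution `w` is
`Y C(w)` for its odd core `Y`.
-/

set_option autoImplicit false
set_option linter.style.haveILetI false
set_option linter.unusedSectionVars false

open scoped Pointwise

namespace CfsgLib.ThreeFree

open Subgroup CfsgLib.Components CfsgLib.ThreeFree.Core

universe u

variable {G : Type u} [Group G] [Finite G] {S : Sylow 2 G} {A N : Subgroup G} {n : ℕ}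

/-- The setwise stabilizer of the fixed points of `w`. -/
abbrev stabFix (N : Subgroup G) (w : G) : Subgroup G := MulAction.stabilizer G (fixPts N w)

/-- Its odd core, as a subgroup of the group. -/
abbrev stabCore (N : Subgroup G) (w : G) : Subgroup G :=
  (Cfsg.pPrimeCore 2 (stabFix N w)).map (stabFix N w).subtype

theorem Core.mem_fixPts_one {N : Subgroup G} {w : G} (hw : w ∈ N) :
    ((1 : G) : G ⧸ N) ∈ fixPts N w := by
  rw [mem_fixPts]; simpa using hw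

theorem Core.smul_one_eq {N : Subgroup G} (x : G) : x • ((1 : G) : G ⧸ N) = (x : G ⧸ N) := by
  rw [MulAction.Quotient.smul_coe, smul_eq_mul, mul_one]

namespace Endgame

variable (e : Endgame S A N n)
include e

theorem cent_le_stabFix (w : G) : cent w ≤ stabFix N w := by
  intro x hx
  rw [MulAction.mem_stabilizer_set_iff_subset_smul_set (Set.toFinite _)]
  intro P hP
  refine ⟨x⁻¹ • P, ?_, smul_inv_smul x P⟩
  have h := smul_mem_fixPts (x := x⁻¹) hP
  rwa [mem_cent.1 (inv_mem hx), mul_inv_cancel_right] at h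

theorem smul_mem_fix {w x : G} (hx : x ∈ stabFix N w) {P : G ⧸ N} (hP : P ∈ fixPts N w) :
    x • P ∈ fixPts N w := by
  have h : x • fixPts N w = fixPts N w := hx
  rw [← h]
  exact Set.smul_mem_smul_set hP

theorem conj_mem_N {w x : G} (hw : w ∈ N) (hx : x ∈ stabFix N w) : x * w * x⁻¹ ∈ N := by
  have h := e.smul_mem_fix (inv_mem hx) (mem_fixPts_one hw)
  rw [smul_one_eq, mem_fixPts, inv_inv] at h
  exact h

theorem stabFix_ne_top {w : G} (hb : Bad N w) : stabFix N w ≠ ⊤ := by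
  intro htop
  obtain ⟨g, hg⟩ := e.setup.exists_conj_notMem (w := w) fun h => by
    have := hb.two
    rw [h, orderOf_one] at this
    omega
  exact hg (e.conj_mem_N hb.mem (htop.symm ▸ mem_top g))

theorem stabFix_not_le {w : G} (hb : Bad N w) : ¬ stabFix N w ≤ N := fun h =>
  hb.out ((e.cent_le_stabFix w).trans h)

theorem A_le_stabFix {w : G} (hw : A ≤ cent w) : A ≤ stabFix N w := hw.trans (e.cent_le_stabFix w)

theorem stabCore_le {w : G} (hb : Bad N w) (hw : A ≤ cent w) : stabCore N w ≤ N := by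
  rintro _ ⟨y, hy, rfl⟩
  exact (e.sub _ (e.A_le_stabFix hw) (e.stabFix_ne_top hb) (e.stabFix_not_le hb)).core_le y hy

theorem stabCore_conj {w x : G} (hx : x ∈ stabFix N w) {y : G} (hy : y ∈ stabCore N w) :
    x * y * x⁻¹ ∈ stabCore N w := by
  obtain ⟨v, hv, rfl⟩ := hy
  exact ⟨⟨x, hx⟩ * v * ⟨x, hx⟩⁻¹,
    (inferInstance : (Cfsg.pPrimeCore 2 (stabFix N w)).Normal).conj_mem v hv _, rfl⟩

theorem odd_card_stabCore (w : G) : Odd (Nat.card (stabCore N w)) := by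
  haveI : Fact (Nat.Prime 2) := ⟨Nat.prime_two⟩
  rw [card_map_of_injective (stabFix N w).subtype_injective]
  exact Nat.coprime_two_right.1 CfsgLib.PCore.pPrimeCore_coprime

theorem stabFix_decomp (hW : coreN N ≠ ⊥) {w : G} (hb : Bad N w) (hw : A ≤ cent w) {x : G}
    (hx : x ∈ stabFix N w) : ∃ y ∈ stabCore N w, y⁻¹ * x ∈ cent w := by
  have hwH : w ∈ stabFix N w := e.cent_le_stabFix w (mem_cent.2 rfl)
  have hA := e.A_le_stabFix hw
  have hp := e.stabFix_ne_top hb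
  have ho := e.stabFix_not_le hb
  have hC := e.fix_mem_centralizer hA hp ho (w := ⟨w, hwH⟩) fun g => e.conj_mem_N hb.mem g.2
  obtain ⟨y, hy, hyx⟩ := e.exists_decomp_of_fix hW hA hp ho (w := ⟨w, hwH⟩) hb.two hC ⟨x, hx⟩
  exact ⟨y, ⟨y, hy, rfl⟩, hyx⟩

theorem stabCore_inf_cent {w : G} (hb : Bad N w) (hw : A ≤ cent w) {y : G}
    (hy : y ∈ stabCore N w) (hyw : y ∈ cent w) : y ∈ coreN N := by
  have hodd : Odd (Nat.card ↥(stabCore N w ⊓ cent w)) :=
    Odd.of_dvd_nat (e.odd_card_stabCore w) (card_dvd_of_le inf_le_left)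
  have h1 := e.le_core hw (e.setup.cent_ne_top hb.two) hb.out
    (X := stabCore N w ⊓ cent w) inf_le_right (inf_le_left.trans (e.stabCore_le hb hw)) hodd
    (fun g hg _ z hz => Subgroup.mem_inf.2
      ⟨e.stabCore_conj (e.cent_le_stabFix w hg) hz.1, mul_mem (mul_mem hg hz.2) (inv_mem hg)⟩)
    ⟨y, hyw⟩ ⟨hy, hyw⟩
  exact e.core_cent_le_coreN hb hw ⟨_, h1, rfl⟩

/-- An odd subgroup of `Y C(w)` normalised by representatives of `C(w)` modulo `Y` lies in `Y`. -/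
theorem le_stabCore (hW : coreN N ≠ ⊥) {w : G} (hb : Bad N w) (hw : A ≤ cent w) {X : Subgroup G}
    (hXF : X ≤ stabFix N w) (hX : Odd (Nat.card X))
    (hn : ∀ c ∈ cent w, ∃ d ∈ stabCore N w, ∀ x ∈ X, (d * c) * x * (d * c)⁻¹ ∈ X) :
    X ≤ stabCore N w := by
  classical
  haveI : Fact (Nat.Prime 2) := ⟨Nat.prime_two⟩
  set H := stabFix N w
  set Xb := (X.subgroupOf H).map (qmap H)
  have hXn : Xb.Normal := by
    refine ⟨fun v hv q => ?_⟩
    obtain ⟨v0, hv0, rfl⟩ := hv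
    obtain ⟨x, rfl⟩ := QuotientGroup.mk'_surjective _ q
    obtain ⟨y, hy, hyx⟩ := e.stabFix_decomp hW hb hw x.2
    obtain ⟨d, hd, hdn⟩ := hn _ hyx
    have hdH : d ∈ H := map_subtype_le _ hd
    have hyH : y ∈ H := map_subtype_le _ hy
    set x' : H := ⟨d, hdH⟩ * (⟨y, hyH⟩⁻¹ * x)
    have hx' : qmap H x' = qmap H x := by
      have h1 : ∀ (z : G) (hz : z ∈ stabCore N w) (hzH : z ∈ H), qmap H ⟨z, hzH⟩ = 1 := by
        rintro _ ⟨z, hz, rfl⟩ hzH
        exact (QuotientGroup.eq_one_iff z).2 hz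
      rw [map_mul, map_mul, map_inv, h1 d hd hdH, h1 y hy hyH, inv_one, one_mul, one_mul]
    rw [show (QuotientGroup.mk' (Cfsg.pPrimeCore 2 H)) x = qmap H x from rfl, ← hx']
    exact ⟨x' * v0 * x'⁻¹, hdn v0 hv0, by simp⟩
  have hodd : (Nat.card Xb).Coprime 2 := by
    refine Nat.Coprime.coprime_dvd_left (card_map_dvd _ _) ?_
    rw [Nat.card_congr (subgroupOfEquivOfLe hXF).toEquiv]
    exact Nat.coprime_two_right.2 hX
  intro x hx
  have h1 := CfsgLib.PCore.le_pPrimeCore hXn hodd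
    (mem_map_of_mem (qmap H) (show (⟨x, hXF hx⟩ : H) ∈ X.subgroupOf H from hx))
  rw [CfsgLib.PCore.pPrimeCore_quotient_pPrimeCore, mem_bot] at h1
  exact ⟨⟨x, hXF hx⟩, (QuotientGroup.eq_one_iff _).1 h1, rfl⟩

theorem core_cent_le_stabCore (hW : coreN N ≠ ⊥) {w : G} (hb : Bad N w) (hw : A ≤ cent w) :
    Cfsg.centralizerPPrimeCore 2 w ≤ stabCore N w := by
  haveI : Fact (Nat.Prime 2) := ⟨Nat.prime_two⟩
  refine e.le_stabCore hW hb hw ((map_subtype_le _).trans (e.cent_le_stabFix w))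
    (Nat.coprime_two_right.1 (card_centralizerCore_coprime ({w} : Set G))) fun c hc => ⟨1, one_mem _, ?_⟩
  rintro _ ⟨x, hx, rfl⟩
  exact ⟨⟨c, hc⟩ * x * ⟨c, hc⟩⁻¹,
    (inferInstance : (Cfsg.pPrimeCore 2 (cent w)).Normal).conj_mem x hx _, by simp⟩

/-- The orbit of `N` under a subgroup `H`. -/
theorem ncard_orbit {H : Subgroup G} (hA : A ≤ H) (hp : H ≠ ⊤) (ho : ¬ H ≤ N) :
    {P : G ⧸ N | ∃ x ∈ H, (x : G ⧸ N) = P}.ncard = (2 ^ n) ^ 2 + 1 := by
  have horb : {P : G ⧸ N | ∃ x ∈ H, (x : G ⧸ N) = P} = MulAction.orbit H ((1 : G) : G ⧸ N) := by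
    ext P
    constructor
    · rintro ⟨x, hx, rfl⟩
      exact ⟨⟨x, hx⟩, smul_one_eq x⟩
    · rintro ⟨⟨x, hx⟩, rfl⟩
      exact ⟨x, hx, (smul_one_eq x).symm⟩
  have hst : MulAction.stabilizer H ((1 : G) : G ⧸ N) = N.subgroupOf H := by
    ext ⟨x, hx⟩
    rw [MulAction.mem_stabilizer_iff, mem_subgroupOf]
    show x • ((1 : G) : G ⧸ N) = _ ↔ x ∈ N
    rw [smul_one_eq, eq_comm, QuotientGroup.eq, inv_one, one_mul]
  rw [horb, ← MulAction.index_stabilizer, hst]
  exact (e.sub H hA hp ho).index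

theorem orbit_eq_of_le {w : G} (hb : Bad N w) {H : Subgroup G} (hA : A ≤ H) (hp : H ≠ ⊤)
    (ho : ¬ H ≤ N) (hH : H ≤ stabFix N w) :
    {P : G ⧸ N | ∃ x ∈ H, (x : G ⧸ N) = P} = fixPts N w := by
  refine Set.eq_of_subset_of_ncard_le ?_ (by rw [e.ncard_orbit hA hp ho, e.ncard_fix w hb]) (Set.toFinite _)
  rintro _ ⟨x, hx, rfl⟩
  rw [← smul_one_eq x]
  exact e.smul_mem_fix (hH hx) (mem_fixPts_one hb.mem)

theorem le_stabFix_of_cover {w : G} (hb : Bad N w) (hw : A ≤ cent w) {H : Subgroup G} (hA : A ≤ H)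
    (hp : H ≠ ⊤) (ho : ¬ H ≤ N)
    (hcov : ∀ c ∈ cent w, ∃ d ∈ Cfsg.centralizerPPrimeCore 2 w, d * c ∈ H) : H ≤ stabFix N w := by
  have hfull : Full A w := fun g _ _ => by
    rw [inf_eq_left.2 hw]
    exact (Subgroup.card_le_of_le inf_le_left).trans (card_cj g A).le
  have hO : {P : G ⧸ N | ∃ x ∈ H, (x : G ⧸ N) = P} = fixPts N w := by
    refine (Set.eq_of_subset_of_ncard_le (fun P hP => ?_)
      (by rw [e.ncard_orbit hA hp ho, e.ncard_fix w hb]) (Set.toFinite _)).symm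
    obtain ⟨c, hc, rfl⟩ := e.setup.fix_orbit hb (e.le_normalizer_A hw) hfull hP
    obtain ⟨d, hd, hdc⟩ := hcov c hc
    refine ⟨d * c, hdc, QuotientGroup.eq.2 ?_⟩
    have hdD : c⁻¹ * d⁻¹ * c ∈ Cfsg.centralizerPPrimeCore 2 w := by
      obtain ⟨v, hv, rfl⟩ := hd
      exact ⟨⟨c, hc⟩⁻¹ * v⁻¹ * ⟨c, hc⟩, by
        have := (inferInstance : (Cfsg.pPrimeCore 2 (cent w)).Normal).conj_mem _ (inv_mem hv)
          (⟨c, hc⟩ : cent w)⁻¹
        rwa [inv_inv] at this, rfl⟩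
    rw [_root_.mul_inv_rev]
    exact e.setup.core_cent_le hb.two (e.le_normalizer_A hw) hdD
  intro x hx
  rw [MulAction.mem_stabilizer_set_iff_subset_smul_set (Set.toFinite _), ← hO]
  rintro _ ⟨y, hy, rfl⟩
  exact ⟨((x⁻¹ * y : G) : G ⧸ N), ⟨_, mul_mem (inv_mem hx) hy, rfl⟩, by
    show x • ((x⁻¹ * y : G) : G ⧸ N) = _
    rw [MulAction.Quotient.smul_coe, smul_eq_mul, mul_inv_cancel_left]⟩

/-- An involution fixing two points is not moved within its coset `w A`. -/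
theorem false_of_fix {w a : G} (hb : Bad N w) (ha : a ∈ A) (ha1 : a ≠ 1)
    (h : ∀ P ∈ fixPts N w, a • P = P) : False := by
  obtain ⟨x, hx, hxN⟩ := SetLike.not_le_iff_exists.1 hb.out
  have h1 := h _ (e.smul_mem_fix (e.cent_le_stabFix w hx) (mem_fixPts_one hb.mem))
  rw [smul_one_eq] at h1
  have h2 : x⁻¹ * a * x ∈ N := mem_fixPts.1 h1
  refine hxN ?_
  have h3 := e.setup.mem_of_conj_mem ha ha1 (g := x⁻¹) (by rwa [inv_inv])
  simpa using inv_mem h3

end Endgame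

end CfsgLib.ThreeFree
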