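import Cfsg.Agent.Lib.ThreeFree.CoreComp

/-!
Tools for the key lemma: the elements of `O₂(U)` fixed by `w` modulo `A`.
-/

set_option autoImplicit false
set_option linter.style.haveILetI false
set_option linter.unusedSectionVars false

namespace CfsgLib.ThreeFree.Core

open Subgroup CfsgLib.Components
open scoped commutatorElement

universe u

/-- An element commuting with `r * r` commutes with `r` when `r` has odd order. -/
theorem commute_of_sq {G : Type*} [Group G] {r x : G} (ho : Odd (orderOf r))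
    (h : r * r * x = x * (r * r)) : r * x = x * r := by
  obtain ⟨m, hm⟩ := ho
  have e : r = (r * r) ^ (m + 1) := by
    rw [← pow_two, ← pow_mul, show 2 * (m + 1) = orderOf r + 1 by omega, pow_succ,
      pow_orderOf_eq_one, one_mul]
  rw [e]
  exact (Commute.pow_left (show Commute (r * r) x from h) (m + 1)).eq

theorem mem_of_sq_mem {G : Type*} [Group G] {r : G} {S : Subgroup G} (ho : Odd (orderOf r))
    (h : r * r ∈ S) : r ∈ S := by
  obtain ⟨m, hm⟩ := ho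
  have e : r = (r * r) ^ (m + 1) := by
    rw [← pow_two, ← pow_mul, show 2 * (m + 1) = orderOf r + 1 by omega, pow_succ,
      pow_orderOf_eq_one, one_mul]
  rw [e]
  exact pow_mem h _

/-- The elements of order at most two of the centre of `O` modulo `M`. -/
theorem exists_omega_center {G : Type*} [Group G] [Finite G] {O M : Subgroup G} (hO : IsPGroup 2 O)
    (hMO : M < O) (hn : ∀ x ∈ O, ∀ m ∈ M, x * m * x⁻¹ ∈ M) :
    ∃ Z : Subgroup G, Z ≤ O ∧ M ≤ Z ∧ ¬ Z ≤ M ∧ (∀ z ∈ Z, z * z ∈ M) ∧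
      (∀ z ∈ Z, ∀ x ∈ O, ⁅z, x⁆ ∈ M) ∧
      ∀ α : MulAut G, (∀ x ∈ O, α x ∈ O) → (∀ m ∈ M, α m ∈ M) → ∀ z ∈ Z, α z ∈ Z := by
  classical
  haveI : Fact (Nat.Prime 2) := ⟨Nat.prime_two⟩
  let Z : Subgroup G :=
    { carrier := {z | z ∈ O ∧ z * z ∈ M ∧ ∀ x ∈ O, ⁅z, x⁆ ∈ M}
      mul_mem' := by
        rintro z z' ⟨hz, hz2, hzc⟩ ⟨hz', hz'2, hz'c⟩
        refine ⟨mul_mem hz hz', ?_, fun x hx => ?_⟩
        · have e : z * z' * (z * z') = z * ⁅z', z⁆ * z⁻¹ * (z * z) * (z' * z') := by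
            rw [commutatorElement_def]; group
          rw [e]
          exact mul_mem (mul_mem (hn z hz _ (hz'c z hz)) hz2) hz'2
        · have e : ⁅z * z', x⁆ = z * ⁅z', x⁆ * z⁻¹ * ⁅z, x⁆ := by
            simp only [commutatorElement_def]; group
          rw [e]
          exact mul_mem (hn z hz _ (hz'c x hx)) (hzc x hx)
      one_mem' := ⟨O.one_mem, by simp, fun x _ => by simp [commutatorElement_def]⟩
      inv_mem' := by
        rintro z ⟨hz, hz2, hzc⟩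
        refine ⟨inv_mem hz, by rw [← _root_.mul_inv_rev]; exact inv_mem hz2, fun x hx => ?_⟩
        have e : ⁅z⁻¹, x⁆ = z⁻¹ * ⁅z, x⁆⁻¹ * z⁻¹⁻¹ := by
          simp only [commutatorElement_def]; group
        rw [e]
        exact hn _ (inv_mem hz) _ (inv_mem (hzc x hx)) }
  refine ⟨Z, fun z hz => hz.1, fun m hm => ⟨hMO.le hm, mul_mem hm hm, fun x hx => ?_⟩, ?_,
    fun z hz => hz.2.1, fun z hz => hz.2.2, fun α hαO hαM z hz => ?_⟩
  · have e : ⁅m, x⁆ = m * (x * m⁻¹ * x⁻¹) := by simp only [commutatorElement_def]; group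
    rw [e]
    exact mul_mem hm (hn x hx _ (inv_mem hm))
  · intro hle
    haveI hnorm : (M.subgroupOf O).Normal := ⟨fun m hm x => hn x x.2 _ hm⟩
    have hne : M.subgroupOf O ≠ ⊤ := fun e => hMO.not_ge (subgroupOf_eq_top.1 e)
    haveI : Nontrivial (O ⧸ M.subgroupOf O) := QuotientGroup.nontrivial_iff.2 hne
    have hq : IsPGroup 2 (O ⧸ M.subgroupOf O) := hO.to_quotient _
    haveI := hq.center_nontrivial
    have hdvd : 2 ∣ Nat.card (center (O ⧸ M.subgroupOf O)) := by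
      obtain ⟨k, hk⟩ := IsPGroup.iff_card.mp (hq.to_subgroup (center (O ⧸ M.subgroupOf O)))
      rw [hk]
      refine dvd_pow_self 2 fun h0 => ?_
      rw [h0, pow_zero] at hk
      have := Finite.one_lt_card (α := center (O ⧸ M.subgroupOf O))
      omega
    obtain ⟨⟨y, hy⟩, hy2⟩ := exists_prime_orderOf_dvd_card' 2 hdvd
    obtain ⟨x, rfl⟩ := QuotientGroup.mk'_surjective (M.subgroupOf O) y
    have hyy : (x * x) ∈ M.subgroupOf O := by
      rw [← QuotientGroup.eq_one_iff, QuotientGroup.mk_mul]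
      have := pow_orderOf_eq_one (⟨_, hy⟩ : center (O ⧸ M.subgroupOf O))
      rw [hy2, pow_two] at this
      exact congrArg Subtype.val this
    have hxZ : (x : G) ∈ Z := ⟨x.2, hyy, fun u hu => by
      have h1 : ⁅x, ⟨u, hu⟩⁆ ∈ M.subgroupOf O := by
        rw [← QuotientGroup.eq_one_iff]
        show QuotientGroup.mk' (M.subgroupOf O) ⁅x, ⟨u, hu⟩⁆ = 1
        rw [map_commutatorElement, commutatorElement_eq_one_iff_mul_comm]
        exact (mem_center_iff.1 hy _).symm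
      exact h1⟩
    have hxM : x ∈ M.subgroupOf O := hle hxZ
    have h1 : (⟨_, hy⟩ : center (O ⧸ M.subgroupOf O)) = 1 :=
      Subtype.ext ((QuotientGroup.eq_one_iff x).2 hxM)
    rw [h1, orderOf_one] at hy2
    omega
  · refine ⟨hαO z hz.1, by rw [← map_mul]; exact hαM _ hz.2.1, fun x hx => ?_⟩
    have hsurj : ∃ x' ∈ O, α x' = x := by
      have hinj : Function.Injective (fun y : O => (⟨α y, hαO y y.2⟩ : O)) :=
        fun a b e => Subtype.ext (α.injective (congrArg Subtype.val e))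
      obtain ⟨y, hy⟩ := Finite.surjective_of_injective hinj ⟨x, hx⟩
      exact ⟨y, y.2, congrArg Subtype.val hy⟩
    obtain ⟨x', hx', rfl⟩ := hsurj
    rw [← map_commutatorElement]
    exact hαM _ (hz.2.2 x' hx')

namespace CoreHyp

variable {U T : Type u} [Group U] [Group T] [Finite U] {A : Subgroup U} {w : U} {n : ℕ} {h : MulAut U}
  {φ : cw w →* T} {hT : MulAut T}

/-- The elements of `O₂(U)` that `w` fixes modulo `A`. -/
def co1 (c : CoreHyp A w n h φ hT) : Subgroup U where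
  carrier := {x | x ∈ Cfsg.pCore 2 U ∧ w * x * w * x⁻¹ ∈ A}
  mul_mem' := by
    rintro x y ⟨hx, hxA⟩ ⟨hy, hyA⟩
    refine ⟨mul_mem hx hy, ?_⟩
    have e : w * (x * y) * w * (x * y)⁻¹ = w * x * w⁻¹ * (w * y * w * y⁻¹) * x⁻¹ := by
      rw [c.w_inv]
      calc w * (x * y) * w * (x * y)⁻¹ = w * x * 1 * y * w * y⁻¹ * x⁻¹ := by group
        _ = w * x * (w * w) * y * w * y⁻¹ * x⁻¹ := by rw [c.w_sq]
        _ = _ := by group
    have e2 : w * x * w⁻¹ * (w * y * w * y⁻¹) * x⁻¹ = (w * x * w * x⁻¹) * (w * y * w * y⁻¹) := by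
      rw [mul_assoc _ (w * y * w * y⁻¹) x⁻¹, ← c.comm_A hyA x⁻¹, ← mul_assoc, c.w_inv]
    rw [e, e2]
    exact mul_mem hxA hyA
  one_mem' := ⟨one_mem _, by rw [mul_one, c.w_sq]; simp⟩
  inv_mem' := by
    rintro x ⟨hx, hxA⟩
    refine ⟨inv_mem hx, ?_⟩
    have e : w * x⁻¹ * w * x⁻¹⁻¹ = x⁻¹ * (w * x * w * x⁻¹)⁻¹ * x⁻¹⁻¹ := by
      simp only [_root_.mul_inv_rev, c.w_inv, inv_inv]; group
    rw [e]
    exact c.A_normal.conj_mem _ (inv_mem hxA) _

variable (c : CoreHyp A w n h φ hT)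
include c

theorem A_le_O : A ≤ Cfsg.pCore 2 U := by
  refine CfsgLib.PCore.le_pCore c.A_normal (fun a => ⟨1, Subtype.ext ?_⟩)
  simpa [pow_two] using c.sq a a.2

theorem h_O {x : U} (hx : x ∈ Cfsg.pCore 2 U) : h x ∈ Cfsg.pCore 2 U :=
  (characteristic_iff_map_le.1 inferInstance h) ⟨x, hx, rfl⟩

theorem h_J {x : U} (hx : x ∈ cw w) : h x ∈ cw w := by
  simpa using c.pow_J 1 hx

theorem f_h (x : U) : h (w * x * w * x⁻¹) = w * h x * w * (h x)⁻¹ := by
  rw [map_mul, map_mul, map_mul, map_inv, c.h_w]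

theorem h_co1 {x : U} (hx : x ∈ c.co1) : h x ∈ c.co1 :=
  ⟨c.h_O hx.1, by rw [← c.f_h]; exact c.h_A _ hx.2⟩

theorem mem_co1_of_fixed {x : U} (hx : x ∈ Cfsg.pCore 2 U) (h1 : x⁻¹ * (w * x * w⁻¹) ∈ cw w) :
    x ∈ c.co1 := by
  have h2 : x⁻¹ * w * x⁻¹⁻¹ ∈ cw w := by
    have : x⁻¹ * w * x⁻¹⁻¹ = x⁻¹ * (w * x * w⁻¹) * w := by group
    rw [this]
    exact mul_mem h1 c.w_mem_J
  have h3 : x⁻¹ ∈ c.co1 := ⟨inv_mem hx, by
    have := c.conj_mem h2
    simpa [mul_assoc] using this⟩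
  simpa using c.co1.inv_mem h3

theorem eq_one_of_phi {x : cw w} (hw : w ∉ Cfsg.pCore 2 U) (hx : (x : U) ∈ Cfsg.pCore 2 U)
    (h1 : φ x = 1) : x = 1 := by
  haveI : Fact (Nat.Prime 2) := ⟨Nat.prime_two⟩
  obtain ⟨j, hj⟩ := CfsgLib.PCore.pCore_isPGroup (p := 2) (G := U) ⟨x, hx⟩
  have hj' : x ^ 2 ^ j = 1 := Subtype.ext (by simpa using congrArg Subtype.val hj)
  clear hj
  induction j with
  | zero => simpa using hj'
  | succ j ih =>
    refine ih ?_
    by_contra hne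
    refine hw ?_
    rw [← c.eq_w_of_ker (x := x ^ 2 ^ j) (by rw [map_pow, h1, one_pow])
      (by rw [← pow_two, ← pow_mul, ← pow_succ]; exact hj') hne]
    exact pow_mem hx _

theorem M_cases (hw : w ∉ Cfsg.pCore 2 U) {M : Subgroup U} (hMO : M ≤ Cfsg.pCore 2 U) (hMJ : M ≤ cw w)
    (hAM : A ≤ M) (hMh : ∀ x ∈ M, h x ∈ M) :
    M = A ∨ ∀ t : T, ∃ x : cw w, (x : U) ∈ M ∧ φ x = t := by
  by_cases hMA : M ≤ A
  · exact Or.inl (le_antisymm hMA hAM)
  right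
  obtain ⟨x, hx, hxA⟩ := SetLike.not_le_iff_exists.1 hMA
  set s := φ ⟨x, hMJ hx⟩
  have hk : ∀ k : ℕ, (h ^ k) x ∈ M := by
    intro k
    induction k with
    | zero => simpa using hx
    | succ k ih => rw [pow_succ', MulAut.mul_apply]; exact hMh _ ih
  have hs : s * s ≠ 1 := by
    intro hs
    obtain ⟨a, ha, hφa⟩ := c.phi_A_surj s hs
    have h1 := c.eq_one_of_phi hw (x := ⟨x, hMJ hx⟩ * a⁻¹) (mul_mem (hMO hx) (inv_mem (c.A_le_O ha)))
      (by rw [map_mul, map_inv, hφa, mul_inv_cancel])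
    exact hxA (by rw [show x = (a : U) from congrArg Subtype.val (mul_inv_eq_one.1 h1)]; exact ha)
  intro t
  by_cases ht : t * t = 1
  · obtain ⟨a, ha, hφa⟩ := c.phi_A_surj t ht
    exact ⟨a, hAM ha, hφa⟩
  obtain ⟨k, hk2⟩ := c.T_orbit s t hs ht
  obtain ⟨a, ha, hφa⟩ := c.phi_A_surj _ hk2
  refine ⟨⟨(h ^ k) x, c.pow_J k (hMJ hx)⟩ * a⁻¹, mul_mem (hk k) (inv_mem (hAM ha)), ?_⟩
  rw [map_mul, map_inv, hφa, c.phi_pow k ⟨x, hMJ hx⟩, _root_.mul_inv_rev, inv_inv]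
  show (hT ^ k) s * (((hT ^ k) s)⁻¹ * t) = t
  rw [mul_inv_cancel_left]

theorem co1_irr {S : Subgroup U} (hS : S ≤ c.co1) (hSh : ∀ x ∈ S, h x ∈ S) {x : U} (hx : x ∈ S)
    (hxJ : x ∉ cw w) {y : U} (hy : y ∈ c.co1) : ∃ s ∈ S, s⁻¹ * y ∈ Cfsg.pCore 2 U ⊓ cw w := by
  let f : S →* U := MonoidHom.mk' (fun s => w * s * w * (s : U)⁻¹) fun s t => by
    have e : w * ((s : U) * t) * w * ((s : U) * t)⁻¹ =
        w * s * w⁻¹ * (w * t * w * (t : U)⁻¹) * (s : U)⁻¹ := by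
      rw [c.w_inv]
      calc w * ((s : U) * t) * w * ((s : U) * t)⁻¹ = w * s * 1 * t * w * (t : U)⁻¹ * (s : U)⁻¹ := by group
        _ = w * s * (w * w) * t * w * (t : U)⁻¹ * (s : U)⁻¹ := by rw [c.w_sq]
        _ = _ := by group
    show w * ((s : U) * t) * w * ((s : U) * t)⁻¹ = _
    rw [e, mul_assoc _ (w * t * w * (t : U)⁻¹) (s : U)⁻¹, ← c.comm_A (hS t.2).2 (s : U)⁻¹,
      ← mul_assoc, c.w_inv]
  have hAV : A ≤ f.range := by
    refine c.A_irr ?_ (a := w * x * w * x⁻¹) ⟨⟨x, hx⟩, rfl⟩ (hS hx).2 fun e => hxJ ?_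
    · rintro _ ⟨s, rfl⟩
      exact ⟨⟨h s, hSh s s.2⟩, (c.f_h s).symm⟩
    · rw [mem_centralizer_singleton_iff]
      calc x * w = (w * w) * x * w := by rw [c.w_sq, one_mul]
        _ = w * ((w * x * w * x⁻¹) * x) := by group
        _ = w * x := by rw [e, one_mul]
  obtain ⟨s, hs⟩ := hAV hy.2
  refine ⟨s, s.2, Subgroup.mul_mem _ (Subgroup.inv_mem _ (hS s.2).1) hy.1, ?_⟩
  have hs' : w * (s : U) * w * (s : U)⁻¹ = w * y * w * y⁻¹ := hs
  show (s : U)⁻¹ * y ∈ cw w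
  rw [mem_centralizer_singleton_iff]
  calc (s : U)⁻¹ * y * w = (s : U)⁻¹ * (w * w) * y * w * y⁻¹ * y := by rw [c.w_sq]; group
    _ = (s : U)⁻¹ * w * (w * y * w * y⁻¹) * y := by group
    _ = (s : U)⁻¹ * (w * w) * s * w * (s : U)⁻¹ * y := by rw [← hs']; group
    _ = w * ((s : U)⁻¹ * y) := by rw [c.w_sq]; group

end CoreHyp

end CfsgLib.ThreeFree.Core
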