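import Cfsg.Agent.Lib.ThreeFree.Fix

/-!
The facts on bad involutions from which the endgame starts.
-/

set_option autoImplicit false
set_option linter.style.haveILetI false

namespace CfsgLib.ThreeFree

open Subgroup

universe u

/-- The odd core of `N`, as a subgroup of the group. -/
abbrev coreN {G : Type u} [Group G] (N : Subgroup G) : Subgroup G :=
  (Cfsg.pPrimeCore 2 N).map N.subtype

/-- What is known about bad involutions when the endgame starts (there is at least one). -/
structure Endgame {G : Type u} [Group G] (S : Sylow 2 G) (A N : Subgroup G) (n : ℕ) : Prop where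
  setup : Setup G S A N
  facts : SzFactsHold.{u}
  exists_bad : ∃ w, Bad N w
  odd_n : Odd n
  three_le : 3 ≤ n
  card_A : Nat.card A = 2 ^ n
  centralizes : ∀ w, Bad N w → w ∈ normalizer (A : Set G) → A ≤ cent w
  star : ∀ w, Bad N w → A ≤ cent w → ∀ y ∈ A, Bad N (w * y)
  factor : ∀ x ∈ N, ∃ v ∈ coreN N, ∃ m ∈ normalizer (A : Set G), x = v * m
  dichotomy : ∀ i ∈ N, orderOf i = 2 → Bad N i ∨ ∃ g ∈ N, g * i * g⁻¹ ∈ A
  ncard_fix : ∀ w, Bad N w → (fixPts N w).ncard = (2 ^ n) ^ 2 + 1
  sub : ∀ H : Subgroup G, A ≤ H → H ≠ ⊤ → ¬ H ≤ N → SubData N H A n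

end CfsgLib.ThreeFree
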