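import Cfsg.Agent.Lib.ThreeFree.AComp
import Cfsg.Agent.Lib.TwoGroups.ControlledTransfer

/-!
A moved component whose centralizer in `A` is not larger than its complement does not exist.
-/

set_option autoImplicit false
set_option linter.style.haveILetI false
set_option linter.unusedSectionVars false

namespace CfsgLib.ThreeFree

open Subgroup CfsgLib.Components

universe u

variable {G : Type u} [Group G] [Finite G] {S : Sylow 2 G} {A : Subgroup G}

/-- `B` and `Z` form an orbit of `N(A)`; `B` centralizes a component `L` with `Z ≤ L`, and `Z` one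
containing `B`. -/
structure Pair (A B Z : Subgroup G) (n : ℕ) : Prop where
  three_le : 3 ≤ n
  le_B : B ≤ A
  le_Z : Z ≤ A
  inf : Z ⊓ B = ⊥
  cardB : Nat.card B = 2 ^ n
  cardZ : Nat.card Z = 2 ^ n
  cardA : Nat.card A = 2 ^ n * 2 ^ n
  sup : ∀ a ∈ A, ∃ z ∈ Z, ∃ b ∈ B, a = z * b
  orbit : ∀ m ∈ normalizer (A : Set G), cj m B = B ∧ cj m Z = Z ∨ cj m B = Z ∧ cj m Z = B
  swap : ∃ g ∈ normalizer (A : Set G), cj g B = Z
  comp : ∃ (a : G) (L : Subgroup G), AComp A a L ∧ fixComp A L = B ∧ Z ≤ L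

theorem Pair.ne {B Z : Subgroup G} {n : ℕ} (p : Pair A B Z n) : B ≠ Z := by
  intro e
  have h := p.inf
  rw [e, inf_idem] at h
  have h2 := p.cardZ
  rw [h, Subgroup.card_bot] at h2
  have : 2 ^ 3 ≤ 2 ^ n := Nat.pow_le_pow_right (by norm_num) p.three_le
  omega

namespace Frame

/-- A small component gives a pair. -/
theorem exists_pair (s : Frame G S A) (hF : SzFactsHold.{u})
    (hc : ∀ a ∈ A, a ≠ 1 → Cfsg.pPrimeCore 2 (cent a) = ⊥) {a : G} {L Z : Subgroup G} {n : ℕ}
    {x : G} (h : AComp A a L) (t : TorusG A a L n Z x)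
    (hsmall : Nat.card (fixComp A L) ≤ 2 ^ n) : Pair A (fixComp A L) Z n := by
  set B := fixComp A L with hB
  have hsplit : SplitHyp (normalizer (A : Set G)) A Z B n := by
    refine ⟨fun u hu => s.sq hu, fun u hu v hv => s.comm hu hv, fun m hm => s.cj_A hm,
      fun h3 => s.three (h3.trans (card_subgroup_dvd_card _)),
      fun V hV hinv => s.irr V hV fun m hm => mem_normalizer_iff_map_conj_eq.2 (hinv m hm),
      t.le_A, inf_le_left, t.inf, t.sup, t.card, t.odd_n, by have := t.three_le; omega,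
      h.fixComp_ne_bot, t.card.symm ▸ hsmall, ?_, ?_⟩
    · intro m hm
      refine or_iff_not_imp_right.2 fun hne => ?_
      obtain ⟨u, hu, hu1⟩ := (Subgroup.bot_or_exists_ne_one _).resolve_left hne
      obtain ⟨hum, huB⟩ := Subgroup.mem_inf.1 hu
      by_cases hL : cj m L = L
      · rw [hB, ← s.fixComp_cj hm, hL]
      exfalso
      rw [hB, ← s.fixComp_cj hm] at hum
      have h1 := s.acomp_of_mem hF h huB hu1 (hc u huB.1 hu1)
      have h2 := s.acomp_of_mem hF (s.acomp_conj h hm) hum hu1 (hc u huB.1 hu1)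
      have hZ' : Z ≤ fixComp A (cj m L) :=
        le_inf t.le_A (t.le_L.trans (h1.le_centralizer h2 (Ne.symm hL)))
      have he : Z = fixComp A (cj m L) := Subgroup.eq_of_le_of_card_ge hZ' (by
        rw [s.fixComp_cj hm, card_cj, t.card]; exact hsmall)
      rw [← he] at hum
      exact hu1 ((Subgroup.eq_bot_iff_forall _).1 t.inf u ⟨hum, huB⟩)
    · intro z hz z' hz' h1 h1'
      obtain ⟨k, hk⟩ := t.trans z hz z' hz' h1 h1'
      refine ⟨x ^ k, Subgroup.pow_mem _ t.x_norm k, fun b hb => ?_, hk⟩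
      rw [mem_centralizer_iff.1 (Subgroup.mem_inf.1 hb).2 _ (L.pow_mem t.x_mem k),
        mul_inv_cancel_right]
  obtain ⟨g, hg, hgB, hgZ, horb⟩ := hsplit.split_main
  have hcB : Nat.card B = 2 ^ n := by rw [← t.card, ← hgB, card_cj]
  refine ⟨t.three_le, inf_le_left, t.le_A, t.inf, hcB, t.card, by rw [t.card_A, ← hB, hcB], t.sup,
    fun m hm => ?_, ⟨g, hg, hgB⟩, a, L, h, rfl, t.le_L⟩
  have hinj : cj m B ≠ cj m Z := fun e => by
    have := Subgroup.map_injective (MulEquiv.injective (MulAut.conj m)) e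
    have h0 := t.inf
    rw [← hB, this, inf_idem] at h0
    rw [h0] at hgB
    exact h.fixComp_ne_bot (le_bot_iff.1 (by
      rw [← hB, ← cj_inv_eq hgB]
      exact le_of_eq (Subgroup.map_bot _)))
  have hmg := horb (m * g) (mul_mem hm hg)
  rw [← cj_mul, hgB] at hmg
  rcases horb m hm with e | e <;> rcases hmg with e' | e'
  · exact absurd (e.trans e'.symm) hinj
  · exact Or.inl ⟨e, e'⟩
  · exact Or.inr ⟨e, e'⟩
  · exact absurd (e.trans e'.symm) hinj

theorem pair_symm (s : Frame G S A) {B Z : Subgroup G} {n : ℕ} (p : Pair A B Z n) :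
    Pair A Z B n := by
  obtain ⟨g, hg, hgB⟩ := p.swap
  have hgZ : cj g Z = B := by
    rcases p.orbit g hg with ⟨e, -⟩ | ⟨-, e⟩
    · exact absurd (e.symm.trans hgB) p.ne
    · exact e
  obtain ⟨a, L, h, hfix, hZL⟩ := p.comp
  refine ⟨p.three_le, p.le_Z, p.le_B, by rw [inf_comm]; exact p.inf, p.cardZ, p.cardB, p.cardA,
    fun a ha => ?_, fun m hm => ?_, ⟨g, hg, hgZ⟩, g * a * g⁻¹, cj g L, s.acomp_conj h hg,
    by rw [s.fixComp_cj hg, hfix, hgB], hgZ ▸ Subgroup.map_mono hZL⟩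
  · obtain ⟨z, hz, b, hb, rfl⟩ := p.sup a ha
    exact ⟨b, hb, z, hz, s.comm (p.le_Z hz) (p.le_B hb)⟩
  · rcases p.orbit m hm with ⟨e, e'⟩ | ⟨e, e'⟩
    · exact Or.inl ⟨e', e⟩
    · exact Or.inr ⟨e', e⟩

/-- The fixed group of any moved component is one of the two. -/
theorem fixComp_eq (s : Frame G S A) (hF : SzFactsHold.{u})
    (hc : ∀ a ∈ A, a ≠ 1 → Cfsg.pPrimeCore 2 (cent a) = ⊥) {B Z : Subgroup G} {n : ℕ}
    (p : Pair A B Z n) {a x : G} {L₀ : Subgroup G} (t : TorusG A a L₀ n Z x)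
    (hfix₀ : fixComp A L₀ = B) {d : G} {L' : Subgroup G} (h' : AComp A d L') :
    fixComp A L' = B ∨ fixComp A L' = Z := by
  by_contra hcon
  push Not at hcon
  obtain ⟨hnB, hnZ⟩ := hcon
  set B' := fixComp A L' with hB'
  -- meeting one of them nontrivially forces the other one inside
  have key : ∀ {B Z : Subgroup G}, Pair A B Z n → B' ≠ B → B' ⊓ B ≠ ⊥ → Z ≤ B' := by
    intro B Z p hne hmeet
    obtain ⟨u, hu, hu1⟩ := (Subgroup.bot_or_exists_ne_one _).resolve_left hmeet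
    obtain ⟨a, L, h, hfix, hZL⟩ := p.comp
    have huA : u ∈ A := p.le_B hu.2
    have h1 := s.acomp_of_mem hF h (hfix.symm ▸ hu.2) hu1 (hc u huA hu1)
    have h2 := s.acomp_of_mem hF h' hu.1 hu1 (hc u huA hu1)
    refine le_inf p.le_Z (hZL.trans (h1.le_centralizer h2 fun e => hne ?_))
    rw [hB', ← e, hfix]
  have hpq := s.pair_symm p
  have hno : ∀ {B Z : Subgroup G}, Pair A B Z n → Pair A Z B n → B' ≠ B → B' ≠ Z → B' ⊓ B = ⊥ := by
    intro B Z p q hneB hneZ
    by_contra hne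
    have hZ := key p hneB hne
    have hB : B ≤ B' := key q hneZ fun e => by
      rw [inf_eq_right.2 hZ] at e
      have h2 := p.cardZ
      rw [e, Subgroup.card_bot] at h2
      have : 2 ^ 3 ≤ 2 ^ n := Nat.pow_le_pow_right (by norm_num) p.three_le
      omega
    refine h'.moved fun b hb => ?_
    obtain ⟨z, hz, c, hc, rfl⟩ := p.sup b hb
    exact (Subgroup.mem_inf.1 (mul_mem (hZ hz) (hB hc))).2
  have h0 := hno p hpq hnB hnZ
  have h0' := hno hpq p hnZ hnB
  obtain ⟨n', Z', x', t'⟩ := s.acomp_torus hF (hc d h'.mem h'.ne) h'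
  have hle : Nat.card B' ≤ 2 ^ n := by
    have h1 := card_mul_card_le (inf_le_left : B' ≤ A) p.le_B h0
    rw [p.cardB, p.cardA] at h1
    exact Nat.le_of_mul_le_mul_right h1 (by positivity)
  have hsmall : Nat.card (fixComp A L') ≤ 2 ^ n' := by
    have h2 := t'.card_A
    rw [p.cardA, ← hB'] at h2
    rw [← hB']
    by_contra hlt
    push Not at hlt
    have h3 : 2 ^ n' * Nat.card B' < 2 ^ n * 2 ^ n := by
      calc 2 ^ n' * Nat.card B' < Nat.card B' * Nat.card B' :=
            Nat.mul_lt_mul_of_pos_right hlt Nat.card_pos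
        _ ≤ _ := Nat.mul_le_mul hle hle
    omega
  have p' := s.exists_pair hF hc h' t' hsmall
  rw [← hB'] at p'
  -- the square of the torus element fixes `B'`
  have hxM : x * x ∈ normalizer (A : Set G) := mul_mem t.x_norm t.x_norm
  have hfix' : cj (x * x) B' = B' := by
    rw [← cj_mul]
    rcases p'.orbit x t.x_norm with ⟨e, -⟩ | ⟨e, e'⟩
    · rw [e, e]
    · rw [e, e']
  obtain ⟨z, hz, b, hb, hzb⟩ := p.sup d h'.mem
  have hdB : d ∈ B' := h'.mem_fixComp
  have hz1 : z ≠ 1 := by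
    rintro rfl
    rw [one_mul] at hzb
    exact h'.ne ((Subgroup.eq_bot_iff_forall _).1 h0 d ⟨hdB, hzb.symm ▸ hb⟩)
  have hxb : x * x * b * (x * x)⁻¹ = b := by
    have hbL : b ∈ centralizer (L₀ : Set G) := (Subgroup.mem_inf.1 (hfix₀.symm ▸ hb : b ∈ fixComp A L₀)).2
    rw [mem_centralizer_iff.1 hbL _ (L₀.mul_mem t.x_mem t.x_mem), mul_inv_cancel_right]
  have hd' : x * x * d * (x * x)⁻¹ ∈ B' := by
    have h1 := cj_mem (m := x * x).2 hdB
    rwa [hfix'] at h1
  have hmem : d * (x * x * d * (x * x)⁻¹) = z * (x * x * z * (x * x)⁻¹) := by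
    have hzz := s.conj_A hxM (t.le_A hz)
    rw [hzb, show x * x * (z * b) * (x * x)⁻¹ =
      (x * x * z * (x * x)⁻¹) * (x * x * b * (x * x)⁻¹) by group, hxb]
    calc z * b * (x * x * z * (x * x)⁻¹ * b) = z * (b * (x * x * z * (x * x)⁻¹)) * b := by group
      _ = z * (x * x * z * (x * x)⁻¹ * b) * b := by rw [s.comm (p.le_B hb) hzz]
      _ = z * (x * x * z * (x * x)⁻¹) * (b * b) := by group
      _ = _ := by rw [s.sq (p.le_B hb), mul_one]
  have hZx : x * x * z * (x * x)⁻¹ ∈ Z := by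
    have h1 := cj_mem (m := x * x).2 hz
    have h2 : cj (x * x) Z = Z := by
      rcases p.orbit _ hxM with ⟨-, e⟩ | ⟨-, e⟩
      · exact e
      · rw [← cj_mul]
        rcases p.orbit x t.x_norm with ⟨f, f'⟩ | ⟨f, f'⟩
        · rw [f', f']
        · rw [f', f]
    rwa [h2] at h1
  have hone : d * (x * x * d * (x * x)⁻¹) = 1 := (Subgroup.eq_bot_iff_forall _).1 h0' _
    ⟨mul_mem hdB hd', by rw [hmem]; exact mul_mem hz hZx⟩
  rw [hmem] at hone
  refine t.fpf2 z hz hz1 ?_
  rw [pow_two, ← inv_eq_of_mul_eq_one_right hone, inv_eq_of_mul_eq_one_right (s.sq (t.le_A hz))]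

/-- Centralizers of diagonal elements lie in `N(A)`. -/
theorem cent_le_of_pair (s : Frame G S A) (hF : SzFactsHold.{u})
    (hc : ∀ a ∈ A, a ≠ 1 → Cfsg.pPrimeCore 2 (cent a) = ⊥) {B Z : Subgroup G}
    (hfix : ∀ {d : G} {L : Subgroup G}, AComp A d L → fixComp A L = B ∨ fixComp A L = Z)
    {d : G} (hd : d ∈ A) (hdB : d ∉ B) (hdZ : d ∉ Z) : cent d ≤ normalizer (A : Set G) := by
  have hd1 : d ≠ 1 := fun e => hdB (e ▸ B.one_mem)
  refine s.cent_le_of_acomp hF hd hd1 (hc d hd hd1) le_rfl fun L hL => ?_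
  rcases hfix hL with e | e
  · exact absurd (e ▸ hL.mem_fixComp) hdB
  · exact absurd (e ▸ hL.mem_fixComp) hdZ

/-- An element of `S` normalizing `B` centralizes `Z`. -/
theorem comm_of_normalizes (s : Frame G S A) (hF : SzFactsHold.{u})
    (hc : ∀ a ∈ A, a ≠ 1 → Cfsg.pPrimeCore 2 (cent a) = ⊥) {B Z : Subgroup G} {n : ℕ}
    (p : Pair A B Z n) {y : G} (hyS : y ∈ (S : Subgroup G)) (hy : cj y B = B) {z : G} (hz : z ∈ Z) :
    y * z = z * y := by
  haveI : Fact (Nat.Prime 2) := ⟨Nat.prime_two⟩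
  have hyA : y ∈ normalizer (A : Set G) := s.le_normalizer_of_two S.2 s.closed.1 hyS
  -- a fixed point of `y` in `B`
  obtain ⟨b, hb, hb1, hyb⟩ : ∃ b ∈ B, b ≠ 1 ∧ y * b = b * y := by
    set Q := zpowers y ⊔ B
    have hQ : Q ≤ (S : Subgroup G) := sup_le (zpowers_le.2 hyS) (p.le_B.trans s.closed.1)
    have hn : (B.subgroupOf Q).Normal := (normal_subgroupOf_iff_le_normalizer le_sup_right).2
      (sup_le (zpowers_le.2 (mem_normalizer_iff_map_conj_eq.2 hy)) le_normalizer)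
    have hne : B.subgroupOf Q ≠ ⊥ := by
      intro e
      have h1 := Nat.card_congr (subgroupOfEquivOfLe (le_sup_right : B ≤ Q)).toEquiv
      rw [e, Subgroup.card_bot, p.cardB] at h1
      have : 2 ^ 3 ≤ 2 ^ n := Nat.pow_le_pow_right (by norm_num) p.three_le
      omega
    haveI := hn
    haveI : Nontrivial (B.subgroupOf Q) := (Subgroup.nontrivial_iff_ne_bot _).2 hne
    haveI := (IsPGroup.to_le S.2 hQ).isNilpotent
    obtain ⟨u, hu, hu1⟩ : ∃ u ∈ B.subgroupOf Q ⊓ center Q, u ≠ 1 := by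
      refine (Subgroup.bot_or_exists_ne_one _).resolve_left ?_
      rw [inf_comm]
      exact CfsgLib.OddOrder.PuigSeries.inf_center_ne_bot _ hne
    exact ⟨(u : G), hu.1, fun e => hu1 (Subtype.ext e),
      congrArg Subtype.val (mem_center_iff.1 hu.2 ⟨y, mem_sup_left (mem_zpowers y)⟩)⟩
  have hbA := p.le_B hb
  obtain ⟨a, L, h, hfix, -⟩ := p.comp
  have hb' := s.acomp_of_mem hF h (hfix.symm ▸ hb) hb1 (hc b hbA hb1)
  obtain ⟨n', Z', x', t'⟩ := s.acomp_torus hF (hc b hbA hb1) hb'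
  have hA : Nat.card A = 2 ^ n' * 2 ^ n := by rw [t'.card_A, hfix, p.cardB]
  have hn : 2 ^ n' = 2 ^ n := Nat.eq_of_mul_eq_mul_right (by positivity) (hA.symm.trans p.cardA)
  have p' := s.exists_pair hF hc hb' t' (by rw [hfix, p.cardB, hn])
  rw [hfix] at p'
  have hZZ : Z' = Z := by
    obtain ⟨g, hg, hgB⟩ := p'.swap
    rcases p.orbit g hg with ⟨e, -⟩ | ⟨e, -⟩
    · exact absurd (e.symm.trans hgB) p'.ne
    · exact hgB.symm.trans e
  subst hZZ
  have hyL : y ∈ normalizer (L : Set G) := by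
    rw [mem_normalizer_iff_map_conj_eq]
    by_contra hne
    have h2 := s.acomp_conj hb' hyA
    rw [hyb, mul_inv_cancel_right] at h2
    have hfix2 : fixComp A (cj y L) = B := by rw [s.fixComp_cj hyA, hfix, hy]
    have hZB : Z' ≤ B := hfix2 ▸
      le_inf t'.le_A (t'.le_L.trans (hb'.le_centralizer h2 (Ne.symm hne)))
    have h3 := p.inf
    rw [inf_eq_left.2 hZB] at h3
    have h4 := p.cardZ
    rw [h3, Subgroup.card_bot] at h4
    have : 2 ^ 3 ≤ 2 ^ n := Nat.pow_le_pow_right (by norm_num) p.three_le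
    omega
  have hyZ : cj y Z' = Z' := by
    rcases p.orbit y hyA with ⟨-, e⟩ | ⟨e, -⟩
    · exact e
    · exact absurd (hy.symm.trans e) p.ne
  obtain ⟨k, hk⟩ := S.2 ⟨y, hyS⟩
  exact mul_inv_eq_iff_eq_mul.1 (t'.fix_two y (mem_cent.2 hyb) hyL
    ⟨k, congrArg Subtype.val hk⟩ (fun w hw => hyZ ▸ cj_mem.2 hw) z hz)

/-- An element of `S` normalizing `B` centralizes `A`. -/
theorem comm_A_of_normalizes (s : Frame G S A) (hF : SzFactsHold.{u})
    (hc : ∀ a ∈ A, a ≠ 1 → Cfsg.pPrimeCore 2 (cent a) = ⊥) {B Z : Subgroup G} {n : ℕ}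
    (p : Pair A B Z n) {y : G} (hyS : y ∈ (S : Subgroup G)) (hy : cj y B = B) {a : G} (ha : a ∈ A) :
    y * a = a * y := by
  obtain ⟨z, hz, b, hb, rfl⟩ := p.sup a ha
  have hyZ : cj y Z = Z := by
    rcases p.orbit y (s.le_normalizer_of_two S.2 s.closed.1 hyS) with ⟨-, e⟩ | ⟨e, -⟩
    · exact e
    · exact absurd (hy.symm.trans e) p.ne
  have h1 := s.comm_of_normalizes hF hc p hyS hy hz
  have h2 := s.comm_of_normalizes hF hc (s.pair_symm p) hyS hyZ hb
  rw [← mul_assoc, h1, mul_assoc, h2, mul_assoc]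

/-- The kernel of the action of `S` on the pair is weakly closed in `S`. -/
theorem fusion_kernel (s : Frame G S A) (hF : SzFactsHold.{u})
    (hc : ∀ a ∈ A, a ≠ 1 → Cfsg.pPrimeCore 2 (cent a) = ⊥) {B Z : Subgroup G} {n : ℕ}
    (p : Pair A B Z n)
    (hfix : ∀ {d : G} {L : Subgroup G}, AComp A d L → fixComp A L = B ∨ fixComp A L = Z)
    {y : G} (hyS : y ∈ (S : Subgroup G)) (hy : cj y B = B) (g : G)
    (hgS : g * y * g⁻¹ ∈ (S : Subgroup G)) : cj (g * y * g⁻¹) B = B := by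
  haveI : Fact (Nat.Prime 2) := ⟨Nat.prime_two⟩
  set x := g * y * g⁻¹ with hx
  by_contra hxB
  have hxA : x ∈ normalizer (A : Set G) := s.le_normalizer_of_two S.2 s.closed.1 hgS
  obtain ⟨hswap, hswap'⟩ : cj x B = Z ∧ cj x Z = B :=
    (p.orbit x hxA).resolve_left fun e => hxB e.1
  -- the conjugate of `A` centralized by `x`
  have hA1 : cj g A ≤ cent x := by
    refine cj_le_of_forall fun a ha => mem_cent.2 ?_
    have := s.comm_A_of_normalizes hF hc p hyS hy ha
    calc g * a * g⁻¹ * x = g * (a * y) * g⁻¹ := by rw [hx]; group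
      _ = g * (y * a) * g⁻¹ := by rw [this]
      _ = x * (g * a * g⁻¹) := by rw [hx]; group
  -- a diagonal element centralized by `x`
  obtain ⟨b, hb, hb1⟩ : ∃ b ∈ B, b ≠ 1 := by
    refine (Subgroup.bot_or_exists_ne_one B).resolve_left fun e => ?_
    have h1 := p.cardB
    rw [e, Subgroup.card_bot] at h1
    have : 2 ^ 3 ≤ 2 ^ n := Nat.pow_le_pow_right (by norm_num) p.three_le
    omega
  set b' := x * b * x⁻¹ with hb'
  have hb'Z : b' ∈ Z := hswap ▸ cj_mem.2 hb
  have hx2 : cj (x * x) B = B := by rw [← cj_mul, hswap, hswap']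
  have hback : x * b' * x⁻¹ = b := by
    have := s.comm_A_of_normalizes hF hc p ((S : Subgroup G).mul_mem hgS hgS) hx2 (p.le_B hb)
    calc x * b' * x⁻¹ = x * x * b * (x * x)⁻¹ := by rw [hb']; group
      _ = b := by rw [this, mul_inv_cancel_right]
  set d := b * b' with hd
  have hdA : d ∈ A := mul_mem (p.le_B hb) (p.le_Z hb'Z)
  have hdB : d ∉ B := fun h => by
    have h1 : b' ∈ B := (Subgroup.mul_mem_cancel_left B hb).1 h
    have h2 : b' = 1 := (Subgroup.eq_bot_iff_forall _).1 p.inf b' ⟨hb'Z, h1⟩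
    exact hb1 (conj_eq_one_iff.1 (hb' ▸ h2))
  have hdZ : d ∉ Z := fun h => hb1 ((Subgroup.eq_bot_iff_forall _).1 p.inf b
    ⟨(Subgroup.mul_mem_cancel_right Z hb'Z).1 h, hb⟩)
  have hdx : d ∈ cent x := by
    rw [mem_cent]
    calc d * x = b * b' * x := rfl
      _ = b' * b * x := by rw [s.comm (p.le_B hb) (p.le_Z hb'Z)]
      _ = b' * (x * b' * x⁻¹) * x := by rw [hback]
      _ = x * d := by rw [hd, hb']; group
  -- both in one 2-subgroup of `C(x)`
  obtain ⟨P, hP⟩ := (IsPGroup.comap_subtype ((s.isPGroup_of_le le_rfl).map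
    (MulAut.conj g).toMonoidHom) : IsPGroup 2 ((cj g A).subgroupOf (cent x))).exists_le_sylow
  obtain ⟨Q, hQ⟩ := (IsPGroup.of_card (n := 1) (by
    rw [Nat.card_zpowers, Subgroup.orderOf_mk, s.orderOf_eq_two hdA
      (fun e => hdB (e ▸ B.one_mem)), pow_one]) :
    IsPGroup 2 (zpowers (⟨d, hdx⟩ : cent x))).exists_le_sylow
  obtain ⟨k, hk⟩ := MulAction.exists_smul_eq (cent x) P Q
  have hQmem : ∀ u : cent x, u ∈ (P : Subgroup (cent x)) → k * u * k⁻¹ ∈ (Q : Subgroup (cent x)) := by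
    intro u hu
    rw [← hk]
    exact ⟨u, hu, rfl⟩
  set R := (Q : Subgroup (cent x)).map (cent x).subtype
  set c := (k : G) * g with hcdef
  have hAR : cj c A ≤ R := cj_le_of_forall fun a ha => by
    refine ⟨_, hQmem ⟨g * a * g⁻¹, hA1 (cj_mem.2 ha)⟩ (hP (cj_mem.2 ha)), ?_⟩
    show (k : G) * (g * a * g⁻¹) * (k : G)⁻¹ = _
    rw [hcdef]; group
  have hR' : IsPGroup 2 (cj c⁻¹ R) := (Q.2.map _).map _
  have hAR' : A ≤ cj c⁻¹ R := fun a ha => by
    rw [mem_cj, inv_inv]
    exact hAR (cj_mem.2 ha)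
  have hd0 : c⁻¹ * d * c⁻¹⁻¹ ∈ A := s.mem_of_conj_mem_two hR' hAR' hdA
    (cj_mem.2 ⟨⟨d, hdx⟩, hQ (mem_zpowers _), rfl⟩)
  rw [inv_inv] at hd0
  obtain ⟨m, hm, hme⟩ := s.fus _ hd0 c (by simpa [mul_assoc] using hdA)
  have hcm : c * m⁻¹ ∈ cent d := by
    rw [mem_cent]
    have e : c * (c⁻¹ * d * c) * c⁻¹ = d := by group
    rw [e] at hme
    calc c * m⁻¹ * d = c * m⁻¹ * (m * (c⁻¹ * d * c) * m⁻¹) := by rw [hme]
      _ = _ := by group
  have hcM : c ∈ normalizer (A : Set G) := by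
    simpa using mul_mem (s.cent_le_of_pair hF hc hfix hdA hdB hdZ hcm) hm
  -- so `x` centralizes `A`
  have hAx : A ≤ cent x := by
    intro a ha
    have h1 : (k : G)⁻¹ * a * k ∈ cent x := hA1 (by
      rw [mem_cj]
      simpa [hcdef, mul_assoc] using s.conj_A (inv_mem hcM) ha)
    simpa [mul_assoc] using (cent x).mul_mem ((cent x).mul_mem k.2 h1) ((cent x).inv_mem k.2)
  refine hxB (mem_normalizer_iff_map_conj_eq.1 (centralizer_le_normalizer _ ?_))
  exact mem_centralizer_iff.2 fun u hu => mem_cent.1 (hAx (p.le_B hu))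

/-- There is no pair. -/
theorem false_of_pair (s : Frame G S A) (hF : SzFactsHold.{u})
    (hc : ∀ a ∈ A, a ≠ 1 → Cfsg.pPrimeCore 2 (cent a) = ⊥) {B Z : Subgroup G} {n : ℕ}
    (p : Pair A B Z n)
    (hfix : ∀ {d : G} {L : Subgroup G}, AComp A d L → fixComp A L = B ∨ fixComp A L = Z) :
    False := by
  classical
  haveI : Fact (Nat.Prime 2) := ⟨Nat.prime_two⟩
  haveI := s.simple
  obtain ⟨g, hg, hgB⟩ := p.swap
  set M := normalizer (A : Set G)
  have hSM : (S : Subgroup G) ≤ M := s.le_normalizer_of_two S.2 s.closed.1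
  have hcomp : ∀ u ∈ M, ∀ v ∈ M, cj u B ≠ B → cj v B ≠ B → cj (u * v) B = B := by
    intro u hu v hv h1 h2
    rw [← cj_mul, ((p.orbit v hv).resolve_left fun e => h2 e.1).1,
      ((p.orbit u hu).resolve_left fun e => h1 e.1).2]
  -- some element of `S` interchanges the pair
  obtain ⟨w, hwS, hwB⟩ : ∃ w ∈ (S : Subgroup G), cj w B ≠ B := by
    by_contra hcon
    push Not at hcon
    set H := normalizer (B : Set G) ⊓ M
    have hSH : (S : Subgroup G) ≤ H :=
      fun w hw => ⟨mem_normalizer_iff_map_conj_eq.2 (hcon w hw), hSM hw⟩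
    have h2 : H.relIndex M = 2 := by
      rw [Subgroup.relIndex, Subgroup.index_eq_two_iff]
      refine ⟨⟨g, hg⟩, fun b => ?_⟩
      have hiff : ∀ v : M, v ∈ H.subgroupOf M ↔ cj (v : G) B = B := fun v =>
        ⟨fun h => mem_normalizer_iff_map_conj_eq.1 h.1,
          fun h => ⟨mem_normalizer_iff_map_conj_eq.2 h, v.2⟩⟩
      simp only [Xor, hiff]
      by_cases hb : cj (b : G) B = B
      · refine Or.inr ⟨hb, fun e => ?_⟩
        change cj ((b : G) * g) B = B at e
        rw [← cj_mul, hgB] at e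
        rcases p.orbit _ b.2 with ⟨-, e'⟩ | ⟨e', -⟩
        · exact p.ne (e.symm.trans e')
        · exact p.ne (hb.symm.trans e')
      · refine Or.inl ⟨?_, hb⟩
        exact hcomp _ b.2 g hg hb fun e => p.ne (e.symm.trans hgB)
    have h3 : 2 ∣ (S : Subgroup G).index := by
      rw [← relIndex_mul_index hSH, ← relIndex_mul_index (inf_le_right : H ≤ M), h2]
      exact dvd_mul_of_dvd_right (dvd_mul_right 2 _) _
    exact S.not_dvd_index h3
  set Q := (normalizer (B : Set G)).subgroupOf (S : Subgroup G) with hQdef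
  have hQmem : ∀ v : (S : Subgroup G), v ∈ Q ↔ cj (v : G) B = B :=
    fun v => mem_normalizer_iff_map_conj_eq
  have hQ2 : Q.index = 2 := by
    rw [Subgroup.index_eq_two_iff]
    refine ⟨⟨w, hwS⟩, fun b => ?_⟩
    simp only [Xor, hQmem]
    by_cases hb : cj (b : G) B = B
    · refine Or.inr ⟨hb, fun e => hwB ?_⟩
      change cj ((b : G) * w) B = B at e
      rw [← cj_mul] at e
      exact Subgroup.map_injective (MulEquiv.injective (MulAut.conj (b : G))) (e.trans hb.symm)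
    · exact Or.inl ⟨hcomp _ (hSM b.2) w (hSM hwS) hb hwB, hb⟩
  -- transfer
  haveI : Q.Normal := Subgroup.normal_of_index_eq_two hQ2
  have hcyc : IsCyclic ((S : Subgroup G) ⧸ Q) := isCyclic_of_prime_card (p := 2) hQ2
  letI : CommGroup ((S : Subgroup G) ⧸ Q) :=
    { (inferInstance : Group ((S : Subgroup G) ⧸ Q)) with
      mul_comm := fun a b => hcyc.isMulCommutative.is_comm.comm a b }
  let φ : (S : Subgroup G) →* (S : Subgroup G) ⧸ Q := QuotientGroup.mk' Q
  have hiff : ∀ (u v : (S : Subgroup G)), (u ∈ Q ↔ v ∈ Q) → φ u = φ v := by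
    intro u v huv
    refine QuotientGroup.eq.2 ?_
    rw [Subgroup.mul_mem_iff_of_index_two hQ2, inv_mem_iff]
    exact huv
  have htr := CfsgLib.TwoGroups.transfer_eq_pow_of_controlled φ w hwS (fun k a hk => by
    rw [← map_pow]
    refine hiff _ _ ⟨fun h => ?_, fun h => ?_⟩
    · have h1 := s.fusion_kernel hF hc p hfix hk ((hQmem _).1 h) a
        (by simpa [mul_assoc] using pow_mem hwS k)
      exact (hQmem _).2 (by simpa [mul_assoc] using h1)
    · have h1 := s.fusion_kernel hF hc p hfix (pow_mem hwS k) ((hQmem _).1 h) a⁻¹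
        (by simpa using hk)
      exact (hQmem _).2 (by simpa using h1))
  have hperf : commutator G = ⊤ :=
    (inferInstance : (commutator G).Normal).eq_bot_or_eq_top.resolve_left fun e => by
      obtain ⟨u, v, huv⟩ := s.nc
      refine huv (commutatorElement_eq_one_iff_mul_comm.1 ?_)
      rw [← Subgroup.mem_bot, ← e]
      exact commutator_mem_commutator (mem_top u) (mem_top v)
  have h1 : MonoidHom.transfer φ w = 1 := by
    have hker : commutator G ≤ (MonoidHom.transfer φ).ker := Abelianization.commutator_subset_ker _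
    rw [hperf] at hker
    exact MonoidHom.mem_ker.1 (hker (mem_top w))
  obtain ⟨r, hr⟩ : Odd (S : Subgroup G).index :=
    Nat.odd_iff.2 (Nat.two_dvd_ne_zero.1 S.not_dvd_index)
  have hsq : φ ⟨w, hwS⟩ * φ ⟨w, hwS⟩ = 1 := by
    rw [← map_mul]
    exact (QuotientGroup.eq_one_iff _).2 (Subgroup.mul_self_mem_of_index_two hQ2 _)
  rw [h1, hr, pow_succ, pow_mul, pow_two, hsq, one_pow, one_mul] at htr
  exact hwB ((hQmem ⟨w, hwS⟩).1 ((QuotientGroup.eq_one_iff _).1 htr.symm))

/-- Every moved component has a large centralizer in `A`. -/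
theorem fixComp_large (s : Frame G S A) (hF : SzFactsHold.{u})
    (hc : ∀ a ∈ A, a ≠ 1 → Cfsg.pPrimeCore 2 (cent a) = ⊥) {a : G} {L Z : Subgroup G} {n : ℕ}
    {x : G} (h : AComp A a L) (t : TorusG A a L n Z x) : 2 ^ n < Nat.card (fixComp A L) := by
  by_contra hle
  push Not at hle
  have p := s.exists_pair hF hc h t hle
  exact s.false_of_pair hF hc p fun {_ _} h' => s.fixComp_eq hF hc p t rfl h'

end Frame

end CfsgLib.ThreeFree
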