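import Cfsg.Agent.Lib.ThreeFree.Functor
import Cfsg.Agent.Lib.ThreeFree.SmallComp
import Cfsg.Agent.Lib.ThreeFree.ClosedSubgroup
import Cfsg.Agent.Lib.ThreeFree.SzFacts

/-!
A simple group of order prime to `3` with good proper subgroups has a maximal subgroup containing the
normalizer of a strongly closed elementary abelian 2-subgroup and the centralizers of its involutions.
-/

set_option autoImplicit false
set_option linter.style.haveILetI false
set_option linter.unusedSectionVars false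

namespace CfsgLib.ThreeFree

open Subgroup CfsgLib.Components

universe u

variable {G : Type u} [Group G] [Finite G] {S : Sylow 2 G} {A : Subgroup G}

namespace Frame

theorem A_ne_bot (s : Frame G S A) : A ≠ ⊥ := fun e => by
  have := s.rank
  rw [e, Subgroup.card_bot] at this
  omega

theorem normalizer_ne_top (s : Frame G S A) : normalizer (A : Set G) ≠ ⊤ := by
  intro e
  haveI := s.simple
  haveI : A.Normal := normalizer_eq_top_iff.1 e
  rcases (inferInstance : A.Normal).eq_bot_or_eq_top with h | h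
  · exact s.A_ne_bot h
  · obtain ⟨x, y, hxy⟩ := s.nc
    exact hxy (s.comm (h.ge (mem_top x)) (h.ge (mem_top y)))

/-- Components with large centralizers in `A` commute pairwise. -/
theorem acomp_eq_or_commute (s : Frame G S A) (hF : SzFactsHold.{u})
    (hc : ∀ a ∈ A, a ≠ 1 → Cfsg.pPrimeCore 2 (cent a) = ⊥) {a a' : G} {L L' : Subgroup G}
    (h : AComp A a L) (h' : AComp A a' L') : L = L' ∨ L ≤ centralizer (L' : Set G) := by
  obtain ⟨n, Z, x, t⟩ := s.acomp_torus hF (hc a h.mem h.ne) h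
  obtain ⟨n', Z', x', t'⟩ := s.acomp_torus hF (hc a' h'.mem h'.ne) h'
  have hb := s.fixComp_large hF hc h t
  have hb' := s.fixComp_large hF hc h' t'
  obtain ⟨b, hbm, hb1⟩ : ∃ b ∈ fixComp A L ⊓ fixComp A L', b ≠ 1 := by
    refine (Subgroup.bot_or_exists_ne_one _).resolve_left fun e => ?_
    have h1 := card_mul_card_le (inf_le_left : fixComp A L ≤ A) inf_le_left e
    have h2 : Nat.card (fixComp A L') ≤ 2 ^ n := by
      rw [t.card_A, mul_comm (2 ^ n)] at h1
      exact Nat.le_of_mul_le_mul_left h1 Nat.card_pos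
    have h3 : Nat.card (fixComp A L) ≤ 2 ^ n' := by
      rw [t'.card_A] at h1
      exact Nat.le_of_mul_le_mul_right h1 Nat.card_pos
    omega
  have hbA : b ∈ A := hbm.1.1
  have h1 := s.acomp_of_mem hF h hbm.1 hb1 (hc b hbA hb1)
  have h2 := s.acomp_of_mem hF h' hbm.2 hb1 (hc b hbA hb1)
  by_cases he : L = L'
  · exact Or.inl he
  · exact Or.inr (h1.le_centralizer h2 he)

theorem exists_of_core_eq_bot (s : Frame G S A) (hF : SzFactsHold.{u})
    (hc : ∀ a ∈ A, a ≠ 1 → Cfsg.pPrimeCore 2 (cent a) = ⊥) :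
    ∃ K : Subgroup G, K ≠ ⊤ ∧ normalizer (A : Set G) ≤ K ∧ ∀ a ∈ A, a ≠ 1 → cent a ≤ K := by
  haveI := s.simple
  by_cases hex : ∃ a L, AComp A a L
  swap
  · exact ⟨_, s.normalizer_ne_top, le_rfl, fun a ha h1 =>
      s.cent_le_of_acomp hF ha h1 (hc a ha h1) le_rfl fun L hL => absurd ⟨a, L, hL⟩ hex⟩
  obtain ⟨a₀, L₀, h₀⟩ := hex
  set E := sSup {L : Subgroup G | ∃ a, AComp A a L}
  have hLE : ∀ {a : G} {L : Subgroup G}, AComp A a L → L ≤ E := fun {a _} h => le_sSup ⟨a, h⟩
  have hM : normalizer (A : Set G) ≤ normalizer (E : Set G) :=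
    CfsgLib.Structure.le_normalizer_sSup fun g hg K ⟨a, hK⟩ => ⟨_, s.acomp_conj hK hg⟩
  refine ⟨normalizer (E : Set G), fun e => ?_, hM, fun a ha h1 =>
    s.cent_le_of_acomp hF ha h1 (hc a ha h1) hM fun L hL => (hLE hL).trans le_normalizer⟩
  haveI : E.Normal := normalizer_eq_top_iff.1 e
  rcases (inferInstance : E.Normal).eq_bot_or_eq_top with h | h
  · exact h₀.ne_bot (le_bot_iff.1 (h ▸ hLE h₀))
  have hn : normalizer (L₀ : Set G) = ⊤ := by
    rw [eq_top_iff, ← h]
    refine sSup_le fun L ⟨a, hL⟩ => ?_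
    rcases s.acomp_eq_or_commute hF hc hL h₀ with rfl | he
    · exact le_normalizer
    · exact he.trans (centralizer_le_normalizer _)
  haveI : L₀.Normal := normalizer_eq_top_iff.1 hn
  rcases (inferInstance : L₀.Normal).eq_bot_or_eq_top with h' | h'
  · exact h₀.ne_bot h'
  · exact s.cent_ne_top h₀.ne (top_le_iff.1 (h' ▸ h₀.le))

theorem exists_setup (s : Frame G S A) : ∃ N : Subgroup G, Setup G S A N := by
  have hF : SzFactsHold.{u} := szFactsHold
  obtain ⟨K, hK, hMK, hcK⟩ : ∃ K : Subgroup G, K ≠ ⊤ ∧ normalizer (A : Set G) ≤ K ∧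
      ∀ a ∈ A, a ≠ 1 → cent a ≤ K := by
    by_cases hW : coreW A = ⊥
    · refine s.exists_of_core_eq_bot hF fun a ha h1 => ?_
      have h2 := (core_le_coreW ha h1).trans hW.le
      exact (Subgroup.map_eq_bot_iff_of_injective _ (cent a).subtype_injective).1 (le_bot_iff.1 h2)
    · exact s.exists_of_coreW_ne_bot hF hW
  obtain ⟨N, hN, hKN⟩ := (eq_top_or_exists_le_coatom K).resolve_left hK
  exact ⟨N, s.simple, s.three, s.proper, s.elem, s.closed, s.rank, s.irr, s.fus, hN,
    hMK.trans hKN, fun a ha h1 => (hcK a ha h1).trans hKN⟩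

end Frame

/-- A simple group of order prime to `3` with good proper subgroups carries a setup. -/
theorem exists_setup [IsSimpleGroup G] (hnc : ∃ a b : G, a * b ≠ b * a) (h3 : ¬ 3 ∣ Nat.card G)
    (hgood : ∀ X : Subgroup G, X ≠ ⊤ → SzGood X) (S : Sylow 2 G) :
    ∃ A N : Subgroup G, Setup G S A N := by
  obtain ⟨A, hel, hcl, hrank, hirr, hfus⟩ := exists_closed hnc h3 S
  obtain ⟨N, hN⟩ := Frame.exists_setup (S := S) (A := A)
    ⟨inferInstance, hnc, pPrimeCore_eq_bot_of_simple hnc, even_card_of_simple hnc, h3, hgood, hel,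
      hcl, hrank, hirr, hfus⟩
  exact ⟨A, N, hN⟩

end CfsgLib.ThreeFree
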