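import Cfsg.Agent.Lib.ThreeFree.SwapFinal

/-!
The normal case of the endgame, given the shape of `C(A)`.
-/

set_option autoImplicit false

namespace CfsgLib.ThreeFree

open Subgroup

universe u

variable {G : Type u} [Group G] [Finite G] {S : Sylow 2 G} {A N : Subgroup G} {n : ℕ}

/-- The normal case is impossible once the shape of `C(A)` is known. -/
theorem Endgame.false_of_normal_of_shape (e : Endgame S A N n)
    (hN : N = normalizer (A : Set G))
    (hD : ∀ w, Bad N w → Cfsg.centralizerPPrimeCore 2 w = ⊥)
    (hshape : NormalGame S A N n → ∃ w h P, UShape A N n w h P) : False :=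
  let g : NormalGame S A N n := ⟨e, hN, hD⟩
  let ⟨_, _, _, us⟩ := hshape g
  g.false_of_shape us

end CfsgLib.ThreeFree
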