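import Cfsg.Agent.Lib.ThreeFree.ReduceEnd
import Cfsg.Agent.Lib.ThreeFree.CoreFinal
import Cfsg.Agent.Lib.ThreeFree.SwapEnd

/-!
Simple groups of order prime to three, given the shape of `C(A)` in the normal case.
-/

set_option autoImplicit false

namespace CfsgLib.ThreeFree

universe u

/-- The endgame is impossible, given the shape of `C(A)`. -/
theorem noEndgame_of_shape
    (hshape : ∀ {G : Type u} [Group G] [Finite G] {S : Sylow 2 G} {A N : Subgroup G} {n : ℕ},
      NormalGame S A N n → ∃ w h P, UShape A N n w h P) : NoEndgame.{u} :=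
  fun _ _ _ _ _ _ _ e => e.false_of_normal_of_shape e.normalizer_eq.1 e.normalizer_eq.2
    fun g => hshape g

theorem threeFreeSimple_of_shape
    (hshape : ∀ {G : Type u} [Group G] [Finite G] {S : Sylow 2 G} {A N : Subgroup G} {n : ℕ},
      NormalGame S A N n → ∃ w h P, UShape A N n w h P) :
    CfsgLib.PiHomog86.ThreeFreeSimple.{u} :=
  threeFree_of_noEndgame (noEndgame_of_shape hshape)

end CfsgLib.ThreeFree
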