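import Cfsg.Agent.Lib.ThreeFree.SubData

/-!
Fixed points of involutions on the cosets of `N`.
-/

set_option autoImplicit false
set_option linter.style.haveILetI false

namespace CfsgLib.ThreeFree

open Subgroup CfsgLib.Components

universe u

variable {G : Type u} [Group G]

/-- The cosets of `N` fixed by `w`. -/
def fixPts (N : Subgroup G) (w : G) : Set (G ⧸ N) := {P | w • P = P}

theorem mem_fixPts {N : Subgroup G} {w g : G} :
    (g : G ⧸ N) ∈ fixPts N w ↔ g⁻¹ * w * g ∈ N := by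
  change w • (g : G ⧸ N) = g ↔ _
  rw [eq_comm, MulAction.Quotient.smul_coe, QuotientGroup.eq, smul_eq_mul, ← mul_assoc]

theorem smul_mem_fixPts {N : Subgroup G} {w x : G} {P : G ⧸ N} (hP : P ∈ fixPts N w) :
    x • P ∈ fixPts N (x * w * x⁻¹) := by
  change (x * w * x⁻¹) • x • P = x • P
  rw [← mul_smul, inv_mul_cancel_right, mul_smul, show w • P = P from hP]

theorem Bad.conj {N : Subgroup G} {w n : G} (hb : Bad N w) (hn : n ∈ N) :
    Bad N (n * w * n⁻¹) := by
  refine ⟨mul_mem (mul_mem hn hb.mem) (inv_mem hn),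
    (CfsgLib.Involutions.orderOf_conj_eq n w).trans hb.two, fun h => hb.out fun x hx => ?_⟩
  have h1 : n * x * n⁻¹ ∈ N := h (mem_cent.2 (by
    have hx' := mem_cent.1 hx
    calc n * x * n⁻¹ * (n * w * n⁻¹) = n * (x * w) * n⁻¹ := by group
      _ = n * (w * x) * n⁻¹ := by rw [hx']
      _ = _ := by group))
  simpa [mul_assoc] using mul_mem (mul_mem (inv_mem hn) h1) hn

namespace Setup

variable [Finite G] {S : Sylow 2 G} {A N : Subgroup G}

theorem exists_sylow_closed (s : Setup G S A N) {H : Subgroup G} (hA : A ≤ H) :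
    ∃ P : Sylow 2 H, Cfsg.IsStronglyClosed (A.subgroupOf H) (P : Subgroup H) := by
  haveI : Fact (Nat.Prime 2) := ⟨Nat.prime_two⟩
  obtain ⟨P, hP⟩ := (IsPGroup.comap_subtype (H := A) (K := H) (s.isPGroup_of_le le_rfl)).exists_le_sylow
  obtain ⟨R, hR⟩ := (P.2.map H.subtype).exists_le_sylow
  obtain ⟨g, hg⟩ := MulAction.exists_smul_eq G S R
  have hRS : ∀ x, x ∈ (R : Subgroup G) ↔ g⁻¹ * x * g ∈ (S : Subgroup G) := by
    intro x
    rw [← hg, Sylow.coe_subgroup_smul, Subgroup.mem_pointwise_smul_iff_inv_smul_mem]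
    simp
  have hAg : cj g A = A := by
    refine (Subgroup.eq_of_le_of_card_ge ?_ (card_cj g A).le).symm
    intro a ha
    rw [mem_cj]
    have h1 : g⁻¹ * a * g ∈ (S : Subgroup G) :=
      (hRS a).1 (hR (mem_map_of_mem H.subtype (hP (x := ⟨a, hA ha⟩) ha)))
    simpa using s.closed.2 a ha g⁻¹ (by simpa using h1)
  refine ⟨P, hP, fun x hx k hk => ?_⟩
  show ((k * x * k⁻¹ : H) : G) ∈ A
  rw [← hAg, mem_cj]
  have h1 := (hRS _).1 (hR (mem_map_of_mem H.subtype hk))
  have h2 := s.closed.2 (x : G) hx (g⁻¹ * k) (by simpa [mul_assoc] using h1)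
  simpa [mul_assoc] using h2

/-- A 2-subgroup containing `A` normalizes it. -/
theorem two_group_le_normalizer (s : Setup G S A N) {Q : Subgroup G} (hQ : IsPGroup 2 Q)
    (hA : A ≤ Q) : Q ≤ normalizer (A : Set G) := by
  haveI : Fact (Nat.Prime 2) := ⟨Nat.prime_two⟩
  obtain ⟨P, hP⟩ := s.exists_sylow_closed hA
  have htop : (P : Subgroup Q) = ⊤ :=
    (P.is_maximal' (hQ.of_equiv Subgroup.topEquiv.symm) le_top).symm
  rw [le_normalizer_iff]
  intro q hq a ha
  exact hP.2 ⟨a, hA ha⟩ ha ⟨q, hq⟩ (htop ▸ mem_top _)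

/-- The setting of a proper subgroup containing `A`, not in `N`. -/
theorem subSetting_of_le (s : Setup G S A N) {H : Subgroup G} (hA : A ≤ H) (hp : H ≠ ⊤)
    (ho : ¬ H ≤ N) : SubSetting A N H A :=
  ⟨le_rfl, hA, le_trans (by norm_num) s.rank, hp, ho, s.exists_sylow_closed hA⟩

theorem subSetting_cent (s : Setup G S A N) {w : G} (hb : Bad N w)
    (hwA : w ∈ normalizer (A : Set G)) (hfull : Full A w) :
    SubSetting A N (cent w) (A ⊓ cent w) := by
  obtain ⟨P, hP, -⟩ := s.exists_sylow_cent hb hwA hfull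
  exact ⟨inf_le_left, inf_le_right, s.fixA_large hb.two hwA, s.cent_ne_top hb.two, hb.out, P, hP⟩

theorem exists_conj_normalizes (s : Setup G S A N) {w : G} (hw : w ∈ N) (h2 : orderOf w = 2) :
    ∃ m ∈ N, m * w * m⁻¹ ∈ normalizer (A : Set G) := by
  obtain ⟨m, hm, h⟩ := s.exists_elt_conj_into_S hw (isPGroup_zpowers_of_orderOf h2)
  exact ⟨m, hm, s.S_le_normalizer h⟩

theorem exists_ne_one_fixA (s : Setup G S A N) {w : G} (hw : orderOf w = 2)
    (hwA : w ∈ normalizer (A : Set G)) : ∃ a ∈ A, a ≠ 1 ∧ a ∈ cent w := by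
  obtain ⟨a, ha, ha1⟩ :=
    (Subgroup.bot_or_exists_ne_one (A ⊓ cent w)).resolve_left fun e => by
      have := s.fixA_large hw hwA
      rw [e, Subgroup.card_bot] at this
      omega
  exact ⟨a, ha.1, ha1, ha.2⟩

/-- A point fixed by an involution `w` of `N` is fixed by an element of a conjugate of `A`
centralized by `w`. -/
theorem exists_conjA_at (s : Setup G S A N) {w g : G} (h2 : orderOf w = 2)
    (hg : g⁻¹ * w * g ∈ N) :
    ∃ a ∈ A, a ≠ 1 ∧ ∃ k : G, k * a * k⁻¹ ∈ cent w ∧ (k : G ⧸ N) = g := by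
  have h2' : orderOf (g⁻¹ * w * g) = 2 := by
    rw [show g⁻¹ * w * g = g⁻¹ * w * g⁻¹⁻¹ by group, CfsgLib.Involutions.orderOf_conj_eq, h2]
  obtain ⟨m, hm, hmA⟩ := s.exists_conj_normalizes hg h2'
  obtain ⟨a, ha, ha1, hac⟩ := s.exists_ne_one_fixA
    ((CfsgLib.Involutions.orderOf_conj_eq m _).trans h2') hmA
  refine ⟨a, ha, ha1, g * m⁻¹, mem_cent.2 ?_, ?_⟩
  · have h := mem_cent.1 hac
    calc g * m⁻¹ * a * (g * m⁻¹)⁻¹ * w
        = g * m⁻¹ * (a * (m * (g⁻¹ * w * g) * m⁻¹)) * (g * m⁻¹)⁻¹ := by group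
      _ = g * m⁻¹ * ((m * (g⁻¹ * w * g) * m⁻¹) * a) * (g * m⁻¹)⁻¹ := by rw [h]
      _ = _ := by group
  · rw [QuotientGroup.eq, mul_inv_rev, inv_inv, mul_assoc, inv_mul_cancel, mul_one]
    exact hm

/-- An involution of `N` is bad if and only if it fixes another point. -/
theorem bad_iff (s : Setup G S A N) {w : G} :
    Bad N w ↔ w ∈ N ∧ orderOf w = 2 ∧ ∃ g ∉ N, g⁻¹ * w * g ∈ N := by
  constructor
  · intro hb
    obtain ⟨x, hx, hxN⟩ := SetLike.not_le_iff_exists.1 hb.out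
    refine ⟨hb.mem, hb.two, x, hxN, ?_⟩
    rw [mul_assoc, ← mem_cent.1 hx, inv_mul_cancel_left]
    exact hb.mem
  · rintro ⟨hw, h2, g, hgN, hg⟩
    refine ⟨hw, h2, fun hle => hgN ?_⟩
    obtain ⟨a, ha, ha1, k, hka, hkg⟩ := s.exists_conjA_at h2 hg
    have hk : k ∈ N := s.mem_of_conj_mem ha ha1 (hle hka)
    simpa using mul_mem hk (QuotientGroup.eq.1 hkg)

theorem not_bad_of_mem_A (s : Setup G S A N) {a : G} (ha : a ∈ A) : ¬ Bad N a := fun hb =>
  hb.out (s.cent_le a ha fun e => by simpa [e] using hb.two)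

/-- A conjugate of an involution outside `N`. -/
theorem exists_conj_notMem (s : Setup G S A N) {w : G} (h1 : w ≠ 1) :
    ∃ g : G, g * w * g⁻¹ ∉ N := by
  by_contra hcon
  push_neg at hcon
  haveI := s.simple
  have hle : normalClosure ({w} : Set G) ≤ N := by
    refine (Subgroup.closure_le _).2 fun x hx => ?_
    obtain ⟨y, hy, hc⟩ := Group.mem_conjugatesOfSet_iff.1 hx
    rw [Set.mem_singleton_iff] at hy
    subst hy
    obtain ⟨g, hg⟩ := isConj_iff.1 hc
    rw [← hg]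
    exact hcon g
  rcases (normalClosure_normal (s := ({w} : Set G))).eq_bot_or_eq_top with e | e
  · exact h1 ((Subgroup.eq_bot_iff_forall _).1 e w (subset_normalClosure rfl))
  · exact s.N_ne_top (top_le_iff.1 (e ▸ hle))

theorem exists_full (s : Setup G S A N) {w : G} (hb : Bad N w)
    (hwA : w ∈ normalizer (A : Set G)) :
    ∃ g ∈ N, Bad N (g⁻¹ * w * g) ∧ g⁻¹ * w * g ∈ normalizer (A : Set G) ∧ Full A (g⁻¹ * w * g) ∧
      A ⊓ cent w ≤ cj g A := by
  classical
  haveI : Fintype G := Fintype.ofFinite G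
  let T : Finset G := Finset.univ.filter fun g =>
    w ∈ normalizer ((cj g A : Subgroup G) : Set G) ∧ A ⊓ cent w ≤ cj g A
  have hT : T.Nonempty := ⟨1, Finset.mem_filter.2 ⟨Finset.mem_univ _, by rw [cj_one]; exact hwA,
    by rw [cj_one]; exact inf_le_left⟩⟩
  obtain ⟨g, hgT, hmax⟩ :=
    Finset.exists_max_image T (fun g => Nat.card ↥(cj g A ⊓ cent w)) hT
  obtain ⟨-, hgn, hgle⟩ := Finset.mem_filter.1 hgT
  have hgN : g ∈ N := by
    obtain ⟨a, ha, ha1, hac⟩ := s.exists_ne_one_fixA hb.two hwA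
    exact s.conjugator_mem ha ha1 (hgle ⟨ha, hac⟩)
  have hcw : cj g (cent (g⁻¹ * w * g)) = cent w := by
    ext x
    rw [mem_cj, mem_cent, mem_cent]
    constructor <;> intro h
    · have := congrArg (fun t => g * t * g⁻¹) h
      simpa [mul_assoc] using this
    · have := congrArg (fun t => g⁻¹ * t * g) h
      simpa [mul_assoc] using this
  have hinf : ∀ C : Subgroup G, cj g C ⊓ cent w = cj g (C ⊓ cent (g⁻¹ * w * g)) := fun C => by
    rw [← hcw, cj, cj, cj, map_inf_eq _ _ _ (MulAut.conj g).injective]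
  have hnorm : ∀ C : Subgroup G, g⁻¹ * w * g ∈ normalizer (C : Set G) ↔
      w ∈ normalizer ((cj g C : Subgroup G) : Set G) := fun C => by
    constructor <;> intro h <;> rw [mem_normalizer_iff] at h ⊢ <;> intro x
    · rw [mem_cj, mem_cj, h (g⁻¹ * x * g)]
      simp [mul_assoc]
    · have := h (g * x * g⁻¹)
      rw [cj_mem, mem_cj] at this
      rw [this]
      simp [mul_assoc]
  refine ⟨g, hgN, ?_, (hnorm A).2 hgn, fun g' hg'n hg'le => ?_, hgle⟩
  · have := hb.conj (inv_mem hgN)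
    rwa [inv_inv] at this
  · have h1 := hmax (g * g') (Finset.mem_filter.2 ⟨Finset.mem_univ _, by
      rw [← cj_mul]; exact (hnorm _).1 hg'n, by
      rw [← cj_mul]
      refine le_trans ?_ (Subgroup.map_mono (f := (MulAut.conj g).toMonoidHom) hg'le)
      show A ⊓ cent w ≤ cj g (A ⊓ cent (g⁻¹ * w * g))
      rw [← hinf]
      exact le_inf hgle inf_le_right⟩)
    simp only [← cj_mul, hinf, card_cj] at h1
    exact h1

/-- Every point fixed by a full bad involution is in the orbit of its centralizer. -/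
theorem fix_orbit (s : Setup G S A N) {w : G} (hb : Bad N w)
    (hwA : w ∈ normalizer (A : Set G)) (hfull : Full A w) {P : G ⧸ N} (hP : P ∈ fixPts N w) :
    ∃ x ∈ cent w, (x : G ⧸ N) = P := by
  haveI : Fact (Nat.Prime 2) := ⟨Nat.prime_two⟩
  obtain ⟨g, rfl⟩ := QuotientGroup.mk_surjective P
  obtain ⟨a, ha, ha1, k, hka, hkg⟩ := s.exists_conjA_at hb.two (mem_fixPts.1 hP)
  obtain ⟨R, -, hR⟩ := s.exists_sylow_cent hb hwA hfull
  have h2 : IsPGroup 2 (zpowers (⟨_, hka⟩ : cent w)) := by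
    refine isPGroup_zpowers_of_orderOf ?_
    rw [Subgroup.orderOf_mk, CfsgLib.Involutions.orderOf_conj_eq, s.orderOf_eq_two ha ha1]
  obtain ⟨R', hR'⟩ := h2.exists_le_sylow
  obtain ⟨y, hy⟩ := MulAction.exists_smul_eq (cent w) R' R
  have h1 : (y : G) * (k * a * k⁻¹) * (y : G)⁻¹ ∈ cent w :=
    mul_mem (mul_mem y.2 hka) (inv_mem y.2)
  have h3 : y * ⟨_, hka⟩ * y⁻¹ ∈ (R : Subgroup (cent w)) := by
    rw [← hy]
    exact Subgroup.smul_mem_pointwise_smul _ (MulAut.conj y) _ (hR' (mem_zpowers _))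
  have e : (y : G) * k * a * ((y : G) * k)⁻¹ = (y : G) * (k * a * k⁻¹) * (y : G)⁻¹ := by group
  have h4 : (y : G) * k * a * ((y : G) * k)⁻¹ ∈ A := hR a ha _ (e ▸ h1) (by
    convert h3 using 1
    exact Subtype.ext e)
  have hyk := s.mem_of_conj_mem ha ha1 (s.A_le h4)
  refine ⟨(y : G)⁻¹, inv_mem y.2, ?_⟩
  rw [← hkg, QuotientGroup.eq, inv_inv]
  exact hyk

/-- A full bad involution fixes `q ^ 2 + 1` points. -/
theorem ncard_fixPts (s : Setup G S A N) {w : G} (hb : Bad N w)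
    (hwA : w ∈ normalizer (A : Set G)) (hfull : Full A w) :
    (fixPts N w).ncard = (N.subgroupOf (cent w)).index := by
  have horb : fixPts N w = MulAction.orbit (cent w) ((1 : G) : G ⧸ N) := by
    ext P
    constructor
    · intro hP
      obtain ⟨x, hx, rfl⟩ := s.fix_orbit hb hwA hfull hP
      refine ⟨⟨x, hx⟩, ?_⟩
      show x • ((1 : G) : G ⧸ N) = x
      rw [MulAction.Quotient.smul_coe, smul_eq_mul, mul_one]
    · rintro ⟨⟨x, hx⟩, rfl⟩
      show w • x • ((1 : G) : G ⧸ N) = x • ((1 : G) : G ⧸ N)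
      rw [← mul_smul, ← mem_cent.1 hx, mul_smul]
      congr 1
      rw [MulAction.Quotient.smul_coe, QuotientGroup.eq, smul_eq_mul, mul_one, mul_one]
      exact inv_mem hb.mem
  have hst : MulAction.stabilizer (cent w) ((1 : G) : G ⧸ N) = N.subgroupOf (cent w) := by
    ext ⟨x, hx⟩
    rw [MulAction.mem_stabilizer_iff, mem_subgroupOf]
    show x • ((1 : G) : G ⧸ N) = _ ↔ x ∈ N
    rw [MulAction.Quotient.smul_coe, eq_comm, QuotientGroup.eq, smul_eq_mul, mul_one, inv_one,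
      one_mul]
  rw [horb, ← hst, MulAction.index_stabilizer]

end Setup

end CfsgLib.ThreeFree
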