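import Mathlib

/-!
A group of order prime to `3` acting irreducibly on an elementary abelian 2-group `A = Z × B`, with
`|Z| = 2^n`, `n` odd, such that the conjugates of `B` meet trivially and the pointwise stabiliser of
`B` is transitive on the nontrivial elements of `Z`: then `{B, Z}` is the orbit of `B`.
-/

set_option autoImplicit false
set_option linter.style.haveILetI false

namespace CfsgLib.ThreeFree

open Subgroup

universe u

variable {G : Type u} [Group G]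

/-- The conjugate subgroup. -/
abbrev cj (m : G) (B : Subgroup G) : Subgroup G := B.map (MulAut.conj m).toMonoidHom

theorem mem_cj {m x : G} {B : Subgroup G} : x ∈ cj m B ↔ m⁻¹ * x * m ∈ B := by
  rw [Subgroup.mem_map_equiv, MulAut.conj_symm_apply]

theorem cj_mem {m x : G} {B : Subgroup G} : m * x * m⁻¹ ∈ cj m B ↔ x ∈ B := by
  rw [mem_cj]; simp [mul_assoc]

theorem cj_mul (m g : G) (B : Subgroup G) : cj m (cj g B) = cj (m * g) B := by
  ext x; simp [mem_cj, mul_assoc]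

theorem cj_one (B : Subgroup G) : cj 1 B = B := by ext x; simp [mem_cj]

theorem cj_inv_eq {m : G} {B C : Subgroup G} (h : cj m B = C) : cj m⁻¹ C = B := by
  rw [← h, cj_mul, inv_mul_cancel, cj_one]

theorem card_cj (m : G) (B : Subgroup G) : Nat.card (cj m B) = Nat.card B :=
  Nat.card_congr (B.equivMapOfInjective _ (MulEquiv.injective (MulAut.conj m))).symm.toEquiv

theorem cj_le_of_forall {m : G} {B C : Subgroup G} (h : ∀ x ∈ B, m * x * m⁻¹ ∈ C) : cj m B ≤ C := by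
  rintro _ ⟨x, hx, rfl⟩
  exact h x hx

/-- Hypotheses of the splitting lemma. -/
structure SplitHyp (M A Z B : Subgroup G) (n : ℕ) : Prop where
  elem : ∀ a ∈ A, a * a = 1
  comm : ∀ a ∈ A, ∀ b ∈ A, a * b = b * a
  normal : ∀ m ∈ M, cj m A = A
  three : ¬ 3 ∣ Nat.card M
  irr : ∀ V : Subgroup G, V ≤ A → (∀ m ∈ M, cj m V = V) → V = ⊥ ∨ V = A
  le_Z : Z ≤ A
  le_B : B ≤ A
  inf : Z ⊓ B = ⊥
  sup : ∀ a ∈ A, ∃ z ∈ Z, ∃ b ∈ B, a = z * b
  cardZ : Nat.card Z = 2 ^ n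
  odd_n : Odd n
  two_n : 2 ≤ n
  bne : B ≠ ⊥
  le_card : Nat.card B ≤ Nat.card Z
  ti : ∀ m ∈ M, cj m B = B ∨ cj m B ⊓ B = ⊥
  trans : ∀ z ∈ Z, ∀ z' ∈ Z, z ≠ 1 → z' ≠ 1 →
    ∃ m ∈ M, (∀ b ∈ B, m * b * m⁻¹ = b) ∧ m * z * m⁻¹ = z'

variable {M A Z B : Subgroup G} {n : ℕ}

/-- The nontrivial elements with a conjugate in `B`. -/
def orb (M B : Subgroup G) : Set G := {x | x ≠ 1 ∧ ∃ m ∈ M, m⁻¹ * x * m ∈ B}

theorem orb_conj {m x : G} (hm : m ∈ M) (hx : x ∈ orb M B) : m * x * m⁻¹ ∈ orb M B := by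
  obtain ⟨h1, g, hg, hgB⟩ := hx
  refine ⟨fun h => h1 ?_, m * g, mul_mem hm hg, by simpa [mul_assoc] using hgB⟩
  have := congrArg (fun t => m⁻¹ * t * m) h
  simpa [mul_assoc] using this

theorem orb_conj_iff {m x : G} (hm : m ∈ M) : m * x * m⁻¹ ∈ orb M B ↔ x ∈ orb M B :=
  ⟨fun h => by simpa [mul_assoc] using orb_conj (inv_mem hm) h, orb_conj hm⟩

namespace SplitHyp

theorem mem_orb_B {b : G} (hb : b ∈ B) (h1 : b ≠ 1) : b ∈ orb M B :=
  ⟨h1, 1, M.one_mem, by simpa using hb⟩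

theorem orb_le (h : SplitHyp M A Z B n) {x : G} (hx : x ∈ orb M B) : x ∈ A := by
  obtain ⟨_, m, hm, hmB⟩ := hx
  rw [← h.normal m hm, mem_cj]
  exact h.le_B hmB

theorem conj_hyp (h : SplitHyp M A Z B n) {g : G} (hg : g ∈ M) :
    SplitHyp M A (cj g Z) (cj g B) n := by
  refine ⟨h.elem, h.comm, h.normal, h.three, h.irr, ?_, ?_, ?_, ?_, ?_, h.odd_n, h.two_n, ?_, ?_, ?_, ?_⟩
  · rw [← h.normal g hg]; exact Subgroup.map_mono h.le_Z
  · rw [← h.normal g hg]; exact Subgroup.map_mono h.le_B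
  · rw [cj, cj, ← Subgroup.map_inf _ _ _ (MulEquiv.injective (MulAut.conj g)), h.inf, Subgroup.map_bot]
  · intro a ha
    rw [← h.normal g hg, mem_cj] at ha
    obtain ⟨z, hz, b, hb, hab⟩ := h.sup _ ha
    refine ⟨g * z * g⁻¹, cj_mem.2 hz, g * b * g⁻¹, cj_mem.2 hb, ?_⟩
    calc a = g * (g⁻¹ * a * g) * g⁻¹ := by group
      _ = _ := by rw [hab]; group
  · rw [card_cj, h.cardZ]
  · simpa [cj] using (Subgroup.map_eq_bot_iff_of_injective B (MulEquiv.injective (MulAut.conj g))).not.2 h.bne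
  · rw [card_cj, card_cj]; exact h.le_card
  · intro m hm
    rw [cj_mul]
    rcases h.ti (g⁻¹ * m * g) (mul_mem (mul_mem (inv_mem hg) hm) hg) with he | he
    · left
      have := congrArg (cj g) he
      rwa [cj_mul, show g * (g⁻¹ * m * g) = m * g by group] at this
    · right
      have := congrArg (cj g) he
      rw [show cj g ⊥ = ⊥ from Subgroup.map_bot _] at this
      rw [cj, Subgroup.map_inf _ _ _ (MulEquiv.injective (MulAut.conj g))] at this
      change cj g (cj (g⁻¹ * m * g) B) ⊓ cj g B = ⊥ at this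
      rwa [cj_mul, show g * (g⁻¹ * m * g) = m * g by group] at this
  · intro z hz z' hz' h1 h1'
    rw [mem_cj] at hz hz'
    obtain ⟨m, hm, hmB, hmz⟩ := h.trans _ hz _ hz' (fun e => h1 (by simpa [mul_assoc] using congrArg (fun t => g * t * g⁻¹) e))
      (fun e => h1' (by simpa [mul_assoc] using congrArg (fun t => g * t * g⁻¹) e))
    refine ⟨g * m * g⁻¹, mul_mem (mul_mem hg hm) (inv_mem hg), fun b hb => ?_, ?_⟩
    · rw [mem_cj] at hb
      calc g * m * g⁻¹ * b * (g * m * g⁻¹)⁻¹ = g * (m * (g⁻¹ * b * g) * m⁻¹) * g⁻¹ := by group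
        _ = b := by rw [hmB _ hb]; group
    · calc g * m * g⁻¹ * z * (g * m * g⁻¹)⁻¹ = g * (m * (g⁻¹ * z * g) * m⁻¹) * g⁻¹ := by group
        _ = z' := by rw [hmz]; group

end SplitHyp

theorem orb_cj {g : G} (hg : g ∈ M) : orb M (cj g B) = orb M B := by
  ext x
  refine and_congr_right fun _ => ⟨?_, ?_⟩
  · rintro ⟨m, hm, hx⟩
    rw [mem_cj] at hx
    exact ⟨m * g, mul_mem hm hg, by simpa [mul_assoc] using hx⟩
  · rintro ⟨m, hm, hx⟩
    exact ⟨m * g⁻¹, mul_mem hm (inv_mem hg), by rw [mem_cj]; simpa [mul_assoc] using hx⟩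

namespace SplitHyp

theorem Z_orb (h : SplitHyp M A Z B n) {z z' : G} (hz : z ∈ Z) (hz' : z' ∈ Z) (h1 : z' ≠ 1)
    (ho : z ∈ orb M B) : z' ∈ orb M B := by
  obtain ⟨m, hm, -, hmz⟩ := h.trans z hz z' hz' ho.1 h1
  exact hmz ▸ orb_conj hm ho

theorem coset_orb (h : SplitHyp M A Z B n) {z z' b : G} (hz : z ∈ Z) (hz1 : z ≠ 1) (hb : b ∈ B)
    (hb1 : b ≠ 1) (ho : z * b ∈ orb M B) (hz' : z' ∈ Z) : z' * b ∈ orb M B := by
  rcases eq_or_ne z' 1 with rfl | h1
  · simpa using mem_orb_B hb hb1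
  · obtain ⟨m, hm, hmb, hmz⟩ := h.trans z hz z' hz' hz1 h1
    have := orb_conj hm ho
    rwa [← conj_mul, hmz, hmb b hb] at this

theorem unique_split (h : SplitHyp M A Z B n) {z z' b b' : G} (hz : z ∈ Z) (hz' : z' ∈ Z)
    (hb : b ∈ B) (hb' : b' ∈ B) (he : z * b = z' * b') : z = z' ∧ b = b' := by
  have h1 : z'⁻¹ * z = b' * b⁻¹ := by
    calc z'⁻¹ * z = z'⁻¹ * (z * b) * b⁻¹ := by group
      _ = b' * b⁻¹ := by rw [he]; group
  have h2 : z'⁻¹ * z ∈ Z ⊓ B :=
    Subgroup.mem_inf.2 ⟨mul_mem (Z.inv_mem hz') hz, h1 ▸ mul_mem hb' (B.inv_mem hb)⟩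
  rw [h.inf, Subgroup.mem_bot, inv_mul_eq_one] at h2
  subst h2
  exact ⟨rfl, mul_left_cancel he⟩

theorem mul_self_cancel (h : SplitHyp M A Z B n) {x y : G} (hx : x ∈ A) : x * (x * y) = y := by
  rw [← mul_assoc, h.elem x hx, one_mul]

theorem inv_eq (h : SplitHyp M A Z B n) {x : G} (hx : x ∈ A) : x⁻¹ = x :=
  inv_eq_of_mul_eq_one_right (h.elem x hx)

theorem Z_not_invariant (h : SplitHyp M A Z B n) (hinv : ∀ m ∈ M, cj m Z = Z) : False := by
  rcases h.irr Z h.le_Z hinv with he | he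
  · have := h.cardZ
    rw [he, Subgroup.card_bot] at this
    have h2 := h.two_n
    have : 2 ^ 2 ≤ 2 ^ n := Nat.pow_le_pow_right (by norm_num) h2
    omega
  · exact h.bne (le_bot_iff.1 (h.inf ▸ le_inf (he ▸ h.le_B) le_rfl))

section main

variable [Finite G]

theorem exists_bad (h : SplitHyp M A Z B n) :
    ∃ b ∈ B, b ≠ 1 ∧ ∀ z ∈ Z, z ≠ 1 → z * b ∉ orb M B := by
  by_contra hcon
  push_neg at hcon
  have hout : ∀ x ∈ A, x ∉ Z → x ∈ orb M B := by
    intro x hx hxZ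
    obtain ⟨z, hz, b, hb, rfl⟩ := h.sup x hx
    have hb1 : b ≠ 1 := fun e => hxZ (by simpa [e] using hz)
    obtain ⟨z₀, hz₀, hz₀1, ho⟩ := hcon b hb hb1
    exact h.coset_orb hz₀ hz₀1 hb hb1 ho hz
  have hall : ∀ x ∈ A, x ≠ 1 → x ∈ orb M B := by
    intro x hx hx1
    by_cases hxZ : x ∈ Z
    · by_contra hno
      refine h.Z_not_invariant fun m hm => ?_
      apply SetLike.ext'
      refine Set.eq_of_subset_of_ncard_le (fun y hy => ?_) ?_ (Set.toFinite _)
      · rw [SetLike.mem_coe, mem_cj] at hy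
        rw [SetLike.mem_coe]
        by_contra hyZ
        have hyA : y ∈ A := by rw [← h.normal m hm, mem_cj]; exact h.le_Z hy
        have hyO := orb_conj (inv_mem hm) (hout y hyA hyZ)
        rw [inv_inv] at hyO
        exact hno (h.Z_orb hy hxZ hx1 hyO)
      · exact le_of_eq (card_cj m Z).symm
    · exact hout x hx hxZ
  -- the conjugates of `B` partition the nontrivial elements
  classical
  haveI : Fintype G := Fintype.ofFinite G
  let X : Set (Subgroup G) := (fun m => cj m B) '' (M : Set G)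
  have hX : X.Finite := Set.toFinite _
  have hk : (Nat.card A - 1) = hX.toFinset.card * (Nat.card B - 1) := by
    have hcover : ((A : Set G) \ {1}).toFinset =
        hX.toFinset.biUnion fun C => ((C : Set G) \ {1}).toFinset := by
      ext x
      simp only [Set.mem_toFinset, Set.mem_diff, SetLike.mem_coe, Set.mem_singleton_iff,
        Finset.mem_biUnion, Set.Finite.mem_toFinset]
      constructor
      · rintro ⟨hx, hx1⟩
        obtain ⟨-, m, hm, hmx⟩ := hall x hx hx1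
        exact ⟨cj m B, ⟨m, hm, rfl⟩, mem_cj.2 hmx, hx1⟩
      · rintro ⟨C, ⟨m, hm, rfl⟩, hxC, hx1⟩
        exact ⟨h.orb_le ⟨hx1, m, hm, mem_cj.1 hxC⟩, hx1⟩
    have hcard : ∀ K : Subgroup G, ((K : Set G) \ {1}).toFinset.card = Nat.card K - 1 := by
      intro K
      rw [← Set.ncard_eq_toFinset_card', Set.ncard_diff (Set.singleton_subset_iff.2 K.one_mem),
        Set.ncard_singleton]
      exact congrArg (· - 1) (Nat.card_coe_set_eq (K : Set G)).symm
    rw [← hcard A, hcover, Finset.card_biUnion]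
    · rw [Finset.sum_congr rfl (fun C hC => ?_), Finset.sum_const, smul_eq_mul]
      obtain ⟨m, hm, rfl⟩ := hX.mem_toFinset.1 hC
      rw [hcard, card_cj]
    · intro C hC D hD hne
      obtain ⟨m, hm, rfl⟩ := hX.mem_toFinset.1 hC
      obtain ⟨m', hm', rfl⟩ := hX.mem_toFinset.1 hD
      refine Finset.disjoint_left.2 fun x hx hx' => ?_
      simp only [Set.mem_toFinset, Set.mem_diff, SetLike.mem_coe, Set.mem_singleton_iff] at hx hx'
      rcases (h.conj_hyp hm).ti (m' * m⁻¹) (mul_mem hm' (inv_mem hm)) with he | he <;>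
        rw [cj_mul, inv_mul_cancel_right] at he
      · exact hne he.symm
      · exact hx.2 ((Subgroup.eq_bot_iff_forall _).1 he x ⟨hx'.1, hx.1⟩)
  have hkdvd : hX.toFinset.card ∣ Nat.card M := by
    letI : MulAction M (Subgroup G) :=
      { smul := fun m C => cj (m : G) C
        one_smul := fun C => cj_one C
        mul_smul := fun a b C => (cj_mul (a : G) (b : G) C).symm }
    have horb : MulAction.orbit M B = X := by
      ext C
      exact ⟨fun ⟨m, hm⟩ => ⟨m, m.2, hm⟩, fun ⟨m, hm, he⟩ => ⟨⟨m, hm⟩, he⟩⟩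
    rw [← Set.ncard_eq_toFinset_card _ hX, ← horb, ← Nat.card_coe_set_eq,
      Nat.card_congr (MulAction.orbitEquivQuotientStabilizer M B)]
    exact Subgroup.card_quotient_dvd_card _
  -- arithmetic
  have hcardA : Nat.card A = Nat.card Z * Nat.card B := by
    rw [← Nat.card_prod]
    refine (Nat.card_congr (Equiv.ofBijective
      (fun p : Z × B => (⟨p.1 * p.2, mul_mem (h.le_Z p.1.2) (h.le_B p.2.2)⟩ : A)) ⟨?_, ?_⟩)).symm
    · rintro ⟨z, b⟩ ⟨z', b'⟩ he
      obtain ⟨e1, e2⟩ := h.unique_split z.2 z'.2 b.2 b'.2 (congrArg Subtype.val he)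
      exact Prod.ext (Subtype.ext e1) (Subtype.ext e2)
    · rintro ⟨a, ha⟩
      obtain ⟨z, hz, b, hb, rfl⟩ := h.sup a ha
      exact ⟨(⟨z, hz⟩, ⟨b, hb⟩), rfl⟩
  haveI : Fact (Nat.Prime 2) := ⟨Nat.prime_two⟩
  obtain ⟨m, hm⟩ : ∃ m, Nat.card B = 2 ^ m :=
    IsPGroup.iff_card.mp (fun x => ⟨1, Subtype.ext (by simpa [sq] using h.elem _ (h.le_B x.2))⟩)
  rw [hcardA, h.cardZ, hm, ← pow_add] at hk
  have hm1 : m ≠ 0 := fun e => h.bne (Subgroup.card_eq_one.1 (by rw [hm, e, pow_zero]))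
  have hmd : m ∣ n + m := by
    have hg : Nat.gcd (2 ^ (n + m) - 1) (2 ^ m - 1) = 2 ^ m - 1 :=
      Nat.gcd_eq_right ⟨hX.toFinset.card, by rw [hk]; ring⟩
    rw [Nat.pow_sub_one_gcd_pow_sub_one] at hg
    have h2 : (2 : ℕ) ^ (Nat.gcd (n + m) m) = 2 ^ m := by
      have := Nat.one_le_two_pow (n := Nat.gcd (n + m) m)
      have := Nat.one_le_two_pow (n := m)
      omega
    have := Nat.pow_right_injective le_rfl h2
    calc m = Nat.gcd (n + m) m := this.symm
      _ ∣ n + m := Nat.gcd_dvd_left _ _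
  have hmo : Odd m := (Odd.of_dvd_nat h.odd_n (by
    have := Nat.dvd_sub hmd (dvd_refl m); simpa using this))
  have h3 : 3 ∣ hX.toFinset.card := by
    obtain ⟨a, ha⟩ := h.odd_n
    obtain ⟨b, hb⟩ := hmo
    have e1 : 2 ^ (n + m) % 3 = 1 := by
      rw [show n + m = 2 * (a + b + 1) by omega, pow_mul, Nat.pow_mod]; norm_num
    have e2 : 2 ^ m % 3 = 2 := by
      rw [hb, pow_succ, pow_mul, Nat.mul_mod, Nat.pow_mod]; norm_num
    have h3k : 3 ∣ hX.toFinset.card * (2 ^ m - 1) := by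
      rw [← hk]; omega
    exact (Nat.prime_three.dvd_mul.1 h3k).resolve_right (by omega)
  exact h.three (h3.trans hkdvd)

/-- A complement moved onto the other factor. -/
theorem inf_cj_eq_bot (h : SplitHyp M A Z B n) {b₀ : G} (hb₀ : b₀ ∈ B) (hb₀1 : b₀ ≠ 1)
    (hbad : ∀ z ∈ Z, z ≠ 1 → z * b₀ ∉ orb M B) {g : G} (hg : g ∈ M) (hgB : cj g B ≠ B) :
    Z ⊓ cj g Z = ⊥ := by
  refine (Subgroup.eq_bot_iff_forall _).2 fun z ⟨hz, hz'⟩ => ?_
  by_contra hz1
  have h' := h.conj_hyp hg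
  obtain ⟨z₁, hz₁, β, hβ, he⟩ := h'.sup b₀ (h.le_B hb₀)
  have hO : b₀ ∈ orb M (cj g B) := by rw [orb_cj hg]; exact mem_orb_B hb₀ hb₀1
  refine hbad z hz hz1 ?_
  rw [← orb_cj hg]
  have hzb : z * b₀ ≠ 1 := by
    intro e
    have : b₀ ∈ Z ⊓ B :=
      ⟨by rw [← inv_eq_of_mul_eq_one_right e]; exact Z.inv_mem hz, hb₀⟩
    exact hb₀1 (by simpa [h.inf] using this)
  by_cases hβ1 : β = 1
  · subst hβ1
    rw [mul_one] at he
    subst he
    exact h'.Z_orb hz₁ (mul_mem hz' hz₁) hzb hO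
  by_cases hz₁1 : z₁ = 1
  · subst hz₁1
    rw [one_mul] at he
    subst he
    exact absurd ((Subgroup.eq_bot_iff_forall _).1 ((h.ti g hg).resolve_left hgB) _ ⟨hβ, hb₀⟩) hb₀1
  rw [he, ← mul_assoc]
  exact h'.coset_orb hz₁ hz₁1 hβ hβ1 (he ▸ hO) (mul_mem hz' hz₁)



theorem proj_surj (h : SplitHyp M A Z B n) {Z' : Subgroup G} (hle : Z' ≤ A) (hinf : Z ⊓ Z' = ⊥)
    (hcard : Nat.card Z' = Nat.card Z) {β : G} (hβ : β ∈ B) : ∃ z ∈ Z, z * β ∈ Z' := by
  choose pz hpz pb hpb hsplit using fun a : Z' => h.sup (a : G) (hle a.2)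
  have hinj : Function.Injective (fun a : Z' => (⟨pb a, hpb a⟩ : B)) := by
    intro a b e
    have e' : pb a = pb b := congrArg Subtype.val e
    have hm : (a : G) * (b : G)⁻¹ ∈ Z ⊓ Z' := by
      refine Subgroup.mem_inf.2 ⟨?_, mul_mem a.2 (Z'.inv_mem b.2)⟩
      rw [hsplit a, hsplit b, e']
      simpa [mul_assoc] using mul_mem (hpz a) (Z.inv_mem (hpz b))
    rw [hinf, Subgroup.mem_bot, mul_inv_eq_one] at hm
    exact Subtype.ext hm
  obtain ⟨a, ha⟩ :=
    (Function.Injective.bijective_of_nat_card_le hinj (hcard ▸ h.le_card)).2 ⟨β, hβ⟩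
  have ha' : pb a = β := congrArg Subtype.val ha
  exact ⟨pz a, hpz a, by rw [← ha', ← hsplit a]; exact a.2⟩

/-- A moved complement has its partner equal to `B`. -/
theorem cj_Z_eq (h : SplitHyp M A Z B n) {b₀ : G} (hb₀ : b₀ ∈ B) (hb₀1 : b₀ ≠ 1)
    (hbad₀ : ∀ z ∈ Z, z ≠ 1 → z * b₀ ∉ orb M B) {g : G} (hg : g ∈ M) (hgB : cj g B ≠ B) :
    cj g Z = B := by
  have hinf := h.inf_cj_eq_bot hb₀ hb₀1 hbad₀ hg hgB
  have h' := h.conj_hyp hg
  have hsur : ∀ β ∈ B, ∃ z ∈ Z, z * β ∈ cj g Z := fun β hβ =>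
    h.proj_surj h'.le_Z hinf (card_cj g Z) hβ
  -- `b Z' ⊆ orb ∪ {1}` for every bad `b`
  have hcos : ∀ b ∈ B, b ≠ 1 → (∀ z ∈ Z, z ≠ 1 → z * b ∉ orb M B) → ∀ z' ∈ cj g Z,
      z' * b ≠ 1 → z' * b ∈ orb M B := by
    intro b hb hb1 _ z' hz' hne
    have hO : b ∈ orb M (cj g B) := by rw [orb_cj hg]; exact mem_orb_B hb hb1
    obtain ⟨z₁, hz₁, β, hβ, he⟩ := h'.sup b (h.le_B hb)
    rw [← orb_cj hg]
    by_cases hβ1 : β = 1
    · subst hβ1
      rw [mul_one] at he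
      subst he
      exact h'.Z_orb hz₁ (mul_mem hz' hz₁) hne hO
    by_cases hz₁1 : z₁ = 1
    · subst hz₁1
      rw [one_mul] at he
      subst he
      exact absurd ((Subgroup.eq_bot_iff_forall _).1 ((h.ti g hg).resolve_left hgB) _ ⟨hβ, hb⟩) hb1
    rw [he, ← mul_assoc]
    exact h'.coset_orb hz₁ hz₁1 hβ hβ1 (he ▸ hO) (mul_mem hz' hz₁)
  -- `Z` lies in the orbit
  have hZO : ∀ z ∈ Z, z ≠ 1 → z ∈ orb M B := by
    intro z hz hz1
    by_contra hno
    obtain ⟨w, hw, hw'⟩ := hsur b₀ hb₀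
    by_cases hw1 : w = 1
    · subst hw1
      rw [one_mul] at hw'
      refine hno ?_
      have := orb_conj (inv_mem hg) (mem_orb_B (M := M) hb₀ hb₀1)
      exact h.Z_orb (mem_cj.1 hw') hz hz1 (by simpa [mul_assoc] using this)
    · have he : w * b₀ * b₀ = w := by rw [mul_assoc, h.elem b₀ (h.le_B hb₀), mul_one]
      have := hcos b₀ hb₀ hb₀1 hbad₀ _ hw' (by rwa [he])
      rw [he] at this
      exact hno (h.Z_orb hw hz hz1 this)
  -- bad elements differ by elements of `Z' ⊓ B`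
  have hpair : ∀ b ∈ B, b ≠ 1 → (∀ z ∈ Z, z ≠ 1 → z * b ∉ orb M B) →
      ∀ b' ∈ B, b' ≠ 1 → (∀ z ∈ Z, z ≠ 1 → z * b' ∉ orb M B) → b * b' ∈ cj g Z := by
    intro b hb hb1 hbad b' hb' hb'1 hbad'
    obtain ⟨w, hw, hw'⟩ := hsur (b * b') (mul_mem hb hb')
    by_cases hw1 : w = 1
    · simpa [hw1] using hw'
    · have e : w * (b * b') * b = w * b' := by
        rw [mul_assoc, mul_assoc b, h.comm b' (h.le_B hb') b (h.le_B hb),
          h.mul_self_cancel (h.le_B hb)]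
      refine absurd ?_ (hbad' w hw hw1)
      rw [← e]
      refine hcos b hb hb1 hbad _ hw' ?_
      rw [e]
      intro e'
      have h2 := h.unique_split hw Z.one_mem hb' B.one_mem (by rw [e', one_mul])
      exact hw1 h2.1
  -- conclusion
  by_contra hne
  set C : Set G := {x | x ∈ A ∧ x ≠ 1 ∧ x ∉ orb M B} with hCdef
  have hCconj : ∀ m ∈ M, ∀ x ∈ C, m * x * m⁻¹ ∈ C := by
    intro m hm x hx
    refine ⟨?_, fun e => hx.2.1 ?_, fun e => hx.2.2 ((orb_conj_iff hm).1 e)⟩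
    · rw [← h.normal m hm]; exact cj_mem.2 hx.1
    · simpa [mul_assoc] using congrArg (fun t => m⁻¹ * t * m) e
  have hspan : closure C = A := by
    refine (h.irr _ (Subgroup.closure_le _ |>.2 fun x hx => hx.1) fun m hm => ?_).resolve_left ?_
    · have key : ∀ m ∈ M, cj m (closure C) ≤ closure C := fun m hm => by
        rw [cj, MonoidHom.map_closure]
        exact closure_mono (by rintro _ ⟨x, hx, rfl⟩; exact hCconj m hm x hx)
      refine le_antisymm (key m hm) fun x hx => ?_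
      rw [mem_cj]
      exact key m⁻¹ (inv_mem hm) (by rw [mem_cj, inv_inv]; simpa [mul_assoc] using hx)
    · intro e
      obtain ⟨z, hz, hz1⟩ : ∃ z ∈ Z, z ≠ 1 := by
        refine (Subgroup.bot_or_exists_ne_one Z).resolve_left fun e' => ?_
        have := h.cardZ
        rw [e', Subgroup.card_bot] at this
        have h2 := h.two_n
        have : 2 ^ 2 ≤ 2 ^ n := Nat.pow_le_pow_right (by norm_num) h2
        omega
      have : z * b₀ ∈ C := ⟨mul_mem (h.le_Z hz) (h.le_B hb₀), fun e' => by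
        have h2 := h.unique_split hz Z.one_mem hb₀ B.one_mem (by rw [e', one_mul])
        exact hz1 h2.1, hbad₀ z hz hz1⟩
      have := Subgroup.subset_closure this
      rw [e, SetLike.mem_coe, Subgroup.mem_bot] at this
      exact hz1 (h.unique_split hz Z.one_mem hb₀ B.one_mem (by rw [this, one_mul])).1
  -- the hyperplane `U`
  set R : Subgroup G := cj g Z ⊓ B with hR
  have hCform : ∀ x ∈ C, ∃ z ∈ Z, ∃ b ∈ B, x = z * b ∧ z ≠ 1 ∧ b * b₀ ∈ R := by
    intro x hx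
    obtain ⟨z, hz, b, hb, rfl⟩ := h.sup x hx.1
    have hb1 : b ≠ 1 := fun e => by
      subst e
      exact hx.2.2 (by simpa using hZO z hz (by simpa using hx.2.1))
    have hz1 : z ≠ 1 := fun e => by
      subst e
      exact hx.2.2 (by simpa using mem_orb_B (M := M) hb hb1)
    have hbad : ∀ z' ∈ Z, z' ≠ 1 → z' * b ∉ orb M B := fun z' hz' hz'1 ho =>
      hx.2.2 (h.coset_orb hz' hz'1 hb hb1 ho hz)
    exact ⟨z, hz, b, hb, rfl, hz1, Subgroup.mem_inf.2
      ⟨hpair b hb hb1 hbad b₀ hb₀ hb₀1 hbad₀, mul_mem hb hb₀⟩⟩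
  set U : Subgroup G := Z ⊔ R with hU
  have hUA : U ≤ A := sup_le h.le_Z (inf_le_right.trans h.le_B)
  have hUmem : ∀ x, x ∈ U ↔ ∃ z ∈ Z, ∃ r ∈ R, x = z * r := by
    intro x
    refine ⟨fun hx => ?_, ?_⟩
    · have hx' := hx
      rw [hU, sup_eq_closure] at hx'
      refine Subgroup.closure_induction ?_ ⟨1, Z.one_mem, 1, R.one_mem, (one_mul 1).symm⟩ ?_ ?_ hx'
      · rintro y (hy | hy)
        · exact ⟨y, hy, 1, R.one_mem, (mul_one y).symm⟩
        · exact ⟨1, Z.one_mem, y, hy, (one_mul y).symm⟩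
      · rintro a b - - ⟨z, hz, r, hr, rfl⟩ ⟨z', hz', r', hr', rfl⟩
        refine ⟨z * z', mul_mem hz hz', r * r', mul_mem hr hr', ?_⟩
        calc z * r * (z' * r') = z * (r * z') * r' := by group
          _ = z * (z' * r) * r' := by rw [h.comm r (h.le_B hr.2) z' (h.le_Z hz')]
          _ = _ := by group
      · rintro a - ⟨z, hz, r, hr, rfl⟩
        refine ⟨z⁻¹, Z.inv_mem hz, r⁻¹, R.inv_mem hr, ?_⟩
        rw [mul_inv_rev, h.comm r⁻¹ (A.inv_mem (h.le_B hr.2)) z⁻¹ (A.inv_mem (h.le_Z hz))]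
    · rintro ⟨z, hz, r, hr, rfl⟩
      exact mul_mem (Subgroup.mem_sup_left hz) (Subgroup.mem_sup_right hr)
  have hb₀R : b₀ ∉ R := by
    intro hbR
    have hle : closure C ≤ U := by
      rw [Subgroup.closure_le]
      intro x hx
      obtain ⟨z, hz, b', hb', rfl, -, hbb⟩ := hCform x hx
      have hb'R : b' ∈ R := by
        simpa [mul_assoc, h.elem b₀ (h.le_B hb₀)] using mul_mem hbb hbR
      exact (hUmem _).2 ⟨z, hz, b', hb'R, rfl⟩
    have hBR : ∀ b ∈ B, b ∈ cj g Z := by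
      intro b hb
      obtain ⟨z, hz, r, hr, he⟩ := (hUmem _).1 (hle (hspan ▸ h.le_B hb))
      obtain ⟨-, rfl⟩ := h.unique_split Z.one_mem hz hb hr.2 (by rw [one_mul]; exact he)
      exact hr.1
    refine hne (le_antisymm (fun x hx => ?_) hBR)
    obtain ⟨z, hz, β, hβ, rfl⟩ := h.sup x (h'.le_Z hx)
    have : z ∈ cj g Z := by simpa using mul_mem hx ((cj g Z).inv_mem (hBR β hβ))
    have := (Subgroup.eq_bot_iff_forall _).1 hinf z ⟨hz, this⟩
    simpa [this] using hβ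
  have hCU : ∀ x ∈ C, x ∉ U := by
    intro x hx hxU
    obtain ⟨z, hz, b, hb, rfl, -, hbb⟩ := hCform x hx
    obtain ⟨z', hz', r, hr, he⟩ := (hUmem _).1 hxU
    obtain ⟨-, rfl⟩ := h.unique_split hz hz' hb hr.2 he
    exact hb₀R (by simpa [h.mul_self_cancel (h.le_B hb)] using mul_mem hr hbb)
  have hidx : ∀ x ∈ A, x ∉ U → x * b₀ ∈ U := by
    intro x hx
    rw [← hspan] at hx
    suffices x ∈ U ∨ x * b₀ ∈ U from fun hn => this.resolve_left hn
    have hA : ∀ {y}, y ∈ closure C → y ∈ A := fun {y} hy => hspan ▸ hy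
    refine Subgroup.closure_induction (fun y hy => Or.inr ?_) (Or.inl U.one_mem) ?_ ?_ hx
    · obtain ⟨z, hz, b, hb, rfl, -, hbb⟩ := hCform y hy
      exact (hUmem _).2 ⟨z, hz, b * b₀, hbb, mul_assoc _ _ _⟩
    · intro y y' hy hy' h1 h2
      have hc := h.comm b₀ (h.le_B hb₀) y' (hA hy')
      rcases h1 with h1 | h1 <;> rcases h2 with h2 | h2
      · exact Or.inl (mul_mem h1 h2)
      · exact Or.inr (by rw [mul_assoc]; exact mul_mem h1 h2)
      · refine Or.inr ?_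
        rw [mul_assoc, ← hc, ← mul_assoc]
        exact mul_mem h1 h2
      · refine Or.inl ?_
        have he : y * b₀ * (y' * b₀) = y * y' := by
          rw [← hc, mul_assoc, h.mul_self_cancel (h.le_B hb₀)]
        exact he ▸ mul_mem h1 h2
    · intro y hy h1
      rwa [h.inv_eq (hA hy)]
  -- a second hyperplane
  obtain ⟨k, hk, hkU⟩ : ∃ k ∈ M, cj k U ≠ U := by
    by_contra hcon
    push_neg at hcon
    rcases h.irr U hUA hcon with e | e
    · refine h.Z_not_invariant fun m hm => ?_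
      have : Z = ⊥ := le_bot_iff.1 (e ▸ (le_sup_left : Z ≤ U))
      rw [this]
      exact Subgroup.map_bot _
    · exact hb₀R (by
        obtain ⟨z, hz, r, hr, he⟩ := (hUmem b₀).1 (e ▸ h.le_B hb₀)
        obtain ⟨-, rfl⟩ := h.unique_split Z.one_mem hz hb₀ hr.2 (by rw [one_mul]; exact he)
        exact hr)
  have hiff : ∀ (V : Subgroup G) (c : G), c ∈ A → (∀ x ∈ A, x ∉ V → x * c ∈ V) → ∀ x ∈ A, ∀ y ∈ A,
      (x * y ∈ V ↔ (x ∈ V ↔ y ∈ V)) := by
    intro V c hc hV x hx y hy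
    by_cases h1 : x ∈ V <;> by_cases h2 : y ∈ V
    · simp [h1, h2, mul_mem h1 h2]
    · simp [h1, h2, Subgroup.mul_mem_cancel_left V h1]
    · simp [h1, h2, Subgroup.mul_mem_cancel_right V h2]
    · have he : x * c * (y * c) = x * y := by
        rw [← h.comm c hc y hy, mul_assoc, h.mul_self_cancel hc]
      simp [h1, h2, he ▸ mul_mem (hV x hx h1) (hV y hy h2)]
  have hkA : ∀ x ∈ A, k⁻¹ * x * k ∈ A := fun x hx => mem_cj.1 ((h.normal k hk).symm ▸ hx)
  have hidx' : ∀ x ∈ A, x ∉ cj k U → x * (k * b₀ * k⁻¹) ∈ cj k U := by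
    intro x hx hxn
    rw [mem_cj] at hxn ⊢
    simpa [mul_assoc] using hidx _ (hkA x hx) hxn
  have hcA : k * b₀ * k⁻¹ ∈ A := by rw [← h.normal k hk]; exact cj_mem.2 (h.le_B hb₀)
  have hsame : ∀ x ∈ A, (x ∈ U ↔ x ∈ cj k U) := by
    intro x hx
    rw [← hspan] at hx
    refine Subgroup.closure_induction (fun y hy => ?_) (by simp) ?_ ?_ hx
    · have := hCU _ (hCconj k⁻¹ (inv_mem hk) y hy)
      rw [inv_inv] at this
      exact iff_of_false (hCU y hy) fun e => this (mem_cj.1 e)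
    · intro y y' hy hy' h1 h2
      rw [hiff U b₀ (h.le_B hb₀) hidx y (hspan ▸ hy) y' (hspan ▸ hy'),
        hiff (cj k U) _ hcA hidx' y (hspan ▸ hy) y' (hspan ▸ hy'), h1, h2]
    · intro y hy h1
      simpa using h1
  refine hkU (le_antisymm (fun x hx => ?_) (fun x hx => ?_))
  · exact (hsame x ((h.normal k hk).le (Subgroup.map_mono hUA hx))).2 hx
  · exact (hsame x (hUA hx)).1 hx

/-- The splitting lemma. -/
theorem split_main (h : SplitHyp M A Z B n) :
    ∃ g ∈ M, cj g B = Z ∧ cj g Z = B ∧ ∀ m ∈ M, cj m B = B ∨ cj m B = Z := by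
  obtain ⟨b₀, hb₀, hb₀1, hbad⟩ := h.exists_bad
  obtain ⟨g, hg, hgB⟩ : ∃ g ∈ M, cj g B ≠ B := by
    by_contra hcon
    push_neg at hcon
    rcases h.irr B h.le_B hcon with e | e
    · exact h.bne e
    · refine h.Z_not_invariant fun m hm => ?_
      have : Z = ⊥ := by rw [← h.inf, e, inf_eq_left.2 h.le_Z]
      rw [this]
      exact Subgroup.map_bot _
  have key : ∀ m ∈ M, cj m B ≠ B → cj m B = Z := by
    intro m hm hmB
    have hm' : cj m⁻¹ B ≠ B := fun e => hmB (by simpa using cj_inv_eq e)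
    simpa using cj_inv_eq (h.cj_Z_eq hb₀ hb₀1 hbad (inv_mem hm) hm')
  exact ⟨g, hg, key g hg hgB, h.cj_Z_eq hb₀ hb₀1 hbad hg hgB,
    fun m hm => or_iff_not_imp_left.2 (key m hm)⟩


end main

end SplitHyp

end CfsgLib.ThreeFree
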