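import Cfsg.Agent.Lib.ThreeFree.Structure
import Cfsg.Agent.S1250

/-!
Passage to the quotient by the odd core.
-/

set_option autoImplicit false
set_option linter.style.haveILetI false

namespace CfsgLib.ThreeFree

open Subgroup

universe u

variable {X : Type u} [Group X] [Finite X]

/-- The image of a closed elementary abelian 2-subgroup modulo the odd core. -/
theorem closedSetting_quotient (hX : SzGood X) (P : Sylow 2 X) {B : Subgroup X}
    (hB : Cfsg.IsElementaryAbelian 2 B) (hc : Cfsg.IsStronglyClosed B (P : Subgroup X)) :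
    ClosedSetting (B.map (QuotientGroup.mk' (Cfsg.pPrimeCore 2 X)))
      (P.mapSurjective (QuotientGroup.mk'_surjective (Cfsg.pPrimeCore 2 X))) := by
  haveI : Fact (Nat.Prime 2) := ⟨Nat.prime_two⟩
  refine ⟨hX.quotient _, CfsgLib.PCore.pPrimeCore_quotient_pPrimeCore, ⟨?_, ?_⟩, ?_⟩
  · haveI := hB.1
    infer_instance
  · rintro _ ⟨a, ha, rfl⟩
    rw [← map_pow, hB.2 a ha, map_one]
  · exact Cfsg.Agent.S1250.result P B hc _

/-- An element of the odd core of a 2-subgroup is trivial. -/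
theorem eq_one_of_mem_oddCore {B : Subgroup X} (hB : IsPGroup 2 B) {b : X} (hb : b ∈ B)
    (hO : b ∈ Cfsg.pPrimeCore 2 X) : b = 1 := by
  haveI : Fact (Nat.Prime 2) := ⟨Nat.prime_two⟩
  have h := CfsgLib.PCore.inf_eq_bot_of_isPGroup_coprime hB
    (CfsgLib.PCore.pPrimeCore_coprime (p := 2) (G := X))
  exact (Subgroup.eq_bot_iff_forall _).1 h b ⟨hb, hO⟩

theorem mk_injOn {B : Subgroup X} (hB : IsPGroup 2 B) {a b : X} (ha : a ∈ B) (hb : b ∈ B)
    (h : QuotientGroup.mk' (Cfsg.pPrimeCore 2 X) a = QuotientGroup.mk' (Cfsg.pPrimeCore 2 X) b) :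
    a = b :=
  inv_mul_eq_one.1 (eq_one_of_mem_oddCore hB (mul_mem (inv_mem ha) hb) (QuotientGroup.eq.1 h))

end CfsgLib.ThreeFree
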