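import Cfsg.Agent.Lib.ThreeFree.Setup
import Cfsg.Agent.Lib.ThreeFree.Quot
import Cfsg.Agent.Lib.ThreeFree.Linear
import Cfsg.Agent.Lib.Solvable.CoprimeGeneration
import Cfsg.Agent.Lib.Components.Local

/-!
The centralizer of a bad involution: an involution of `N` whose centralizer is not in `N`.
-/

set_option autoImplicit false
set_option linter.style.haveILetI false

namespace CfsgLib.ThreeFree

open Subgroup CfsgLib.Components

universe u

variable {G : Type u} [Group G]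

/-- The centralizer of an element. -/
abbrev cent (w : G) : Subgroup G := centralizer ({w} : Set G)

theorem mem_cent {w x : G} : x ∈ cent w ↔ x * w = w * x := mem_centralizer_singleton_iff

/-- An involution of `N` with centralizer outside `N`. -/
structure Bad (N : Subgroup G) (w : G) : Prop where
  mem : w ∈ N
  two : orderOf w = 2
  out : ¬ cent w ≤ N

/-- No conjugate of `A` normalized by `w` through `C_A(w)` has more fixed points. -/
def Full (A : Subgroup G) (w : G) : Prop :=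
  ∀ g : G, w ∈ normalizer ((cj g A : Subgroup G) : Set G) → A ⊓ cent w ≤ cj g A →
    Nat.card ↥(cj g A ⊓ cent w) ≤ Nat.card ↥(A ⊓ cent w)

/-- The quotient map of a subgroup by its odd core. -/
abbrev qmap (X : Subgroup G) : X →* X ⧸ Cfsg.pPrimeCore 2 X := QuotientGroup.mk' _

/-- The image of `C_A(w)` in `C(w) / O(C(w))`. -/
abbrev fixBar (A : Subgroup G) (w : G) : Subgroup (cent w ⧸ Cfsg.pPrimeCore 2 (cent w)) :=
  ((A ⊓ cent w).subgroupOf (cent w)).map (qmap (cent w))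

namespace Setup

variable [Finite G] {S : Sylow 2 G} {A N : Subgroup G}

theorem comm (s : Setup G S A N) {a b : G} (ha : a ∈ A) (hb : b ∈ A) : a * b = b * a :=
  congrArg Subtype.val (s.elem.1.is_comm.comm (⟨a, ha⟩ : A) ⟨b, hb⟩)

theorem mul_self_eq_one (s : Setup G S A N) {a : G} (ha : a ∈ A) : a * a = 1 := by
  rw [← pow_two]; exact s.elem.2 a ha

theorem isPGroup_of_le (s : Setup G S A N) {B : Subgroup G} (hB : B ≤ A) : IsPGroup 2 B :=
  IsPGroup.to_le S.2 (hB.trans s.le_S)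

theorem fixA_large (s : Setup G S A N) {w : G} (hw : orderOf w = 2)
    (hwA : w ∈ normalizer (A : Set G)) : 4 ≤ Nat.card ↥(A ⊓ cent w) := by
  have hw2 : w * w = 1 := by rw [← pow_two, ← hw, pow_orderOf_eq_one]
  have hinv : w⁻¹ = w := inv_eq_of_mul_eq_one_right hw2
  have hAw : ∀ a ∈ A, w * a * w⁻¹ ∈ A := fun a ha => (mem_normalizer_iff.1 hwA a).1 ha
  let f : A →* A :=
    { toFun := fun a => a * ⟨w * a * w⁻¹, hAw a a.2⟩
      map_one' := Subtype.ext (by simp)
      map_mul' := fun a b => Subtype.ext (by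
        show (a : G) * b * (w * ((a : G) * b) * w⁻¹) = a * (w * a * w⁻¹) * (b * (w * b * w⁻¹))
        have hc := s.comm b.2 (hAw a a.2)
        calc (a : G) * b * (w * ((a : G) * b) * w⁻¹)
            = a * (b * (w * a * w⁻¹)) * (w * b * w⁻¹) := by group
          _ = a * (w * a * w⁻¹ * b) * (w * b * w⁻¹) := by rw [hc]
          _ = _ := by group) }
  have hker : ∀ a : A, a ∈ f.ker → (a : G) ∈ A ⊓ cent w := by
    intro a ha
    have h1 : (a : G) * (w * a * w⁻¹) = 1 := congrArg Subtype.val ha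
    refine Subgroup.mem_inf.2 ⟨a.2, mem_cent.2 ?_⟩
    have h2 : w * a * w⁻¹ = a := by
      rw [← inv_eq_of_mul_eq_one_right h1, inv_eq_of_mul_eq_one_right (s.mul_self_eq_one a.2)]
    calc (a : G) * w = w * a * w⁻¹ * w := by rw [h2]
      _ = w * a := by group
  have hrange : ∀ a : A, (f a : G) ∈ A ⊓ cent w := by
    intro a
    refine Subgroup.mem_inf.2 ⟨(f a).2, mem_cent.2 ?_⟩
    show (a : G) * (w * a * w⁻¹) * w = w * ((a : G) * (w * a * w⁻¹))
    calc (a : G) * (w * a * w⁻¹) * w = a * w * a := by group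
      _ = w * w * (a * w * a) := by rw [hw2, one_mul]
      _ = w * ((w * a * w⁻¹) * a) := by rw [hinv]; group
      _ = w * ((a : G) * (w * a * w⁻¹)) := by rw [s.comm a.2 (hAw a a.2)]
  have h1 : Nat.card f.ker ≤ Nat.card ↥(A ⊓ cent w) :=
    Nat.card_le_card_of_injective (fun a => (⟨a, hker a a.2⟩ : ↥(A ⊓ cent w)))
      fun a b e => Subtype.ext (Subtype.ext (congrArg Subtype.val e :))
  have h2 : Nat.card f.range ≤ Nat.card ↥(A ⊓ cent w) :=
    Nat.card_le_card_of_injective (fun a => (⟨(a : A), by obtain ⟨c, hc⟩ := a.2; rw [← hc]; exact hrange c⟩ :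
        ↥(A ⊓ cent w)))
      fun a b e => Subtype.ext (Subtype.ext (congrArg Subtype.val e :))
  have h3 : Nat.card A = Nat.card f.ker * Nat.card f.range := by
    rw [← Subgroup.index_ker, Subgroup.card_mul_index]
  haveI : Fact (Nat.Prime 2) := ⟨Nat.prime_two⟩
  obtain ⟨k, hk⟩ := IsPGroup.iff_card.mp (s.isPGroup_of_le (inf_le_left : A ⊓ cent w ≤ A))
  have h4 := s.rank
  have h5 := Nat.mul_le_mul h1 h2
  rcases Nat.lt_or_ge k 2 with hk2 | hk2
  · have : 2 ^ k ≤ 2 ^ 1 := Nat.pow_le_pow_right (by norm_num) (by omega)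
    nlinarith
  · calc 4 = 2 ^ 2 := rfl
      _ ≤ 2 ^ k := Nat.pow_le_pow_right (by norm_num) hk2
      _ = _ := hk.symm

/-- A conjugate of `A` meeting `N ∩ A` nontrivially is conjugate in `N`. -/
theorem conjugator_mem (s : Setup G S A N) {g a : G} (ha : a ∈ A) (h1 : a ≠ 1) (hg : a ∈ cj g A) :
    g ∈ N := by
  rw [mem_cj] at hg
  have := s.mem_of_conj_mem hg (fun e => h1 (by rw [show a = g * (g⁻¹ * a * g) * g⁻¹ by group, e]; group))
    (g := g) (by rw [show g * (g⁻¹ * a * g) * g⁻¹ = a by group]; exact s.A_le ha)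
  exact this

/-- Normalizers of nontrivial subgroups of `A` lie in `N`. -/
theorem normalizer_le (s : Setup G S A N) {B : Subgroup G} (hB : B ≤ A) (hne : B ≠ ⊥) :
    normalizer (B : Set G) ≤ N := by
  intro g hg
  obtain ⟨b, hb, hb1⟩ := (Subgroup.bot_or_exists_ne_one B).resolve_left hne
  exact s.mem_of_conj_mem (hB hb) hb1 (s.A_le (hB ((mem_normalizer_iff.1 hg b).1 hb)))

theorem cent_ne_top (s : Setup G S A N) {w : G} (hw : orderOf w = 2) : cent w ≠ ⊤ := by
  intro e
  haveI := s.simple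
  have hc : w ∈ center G := mem_center_iff.2 fun g =>
    mem_cent.1 (show g ∈ cent w from e ▸ mem_top g)
  rcases (inferInstance : (center G).Normal).eq_bot_or_eq_top with hz | hz
  · rw [hz, Subgroup.mem_bot] at hc
    simp [hc] at hw
  · obtain ⟨a, ha, ha1, -⟩ := s.exists_central
    refine s.N_ne_top (eq_top_iff.2 fun g _ => s.cent_le a ha ha1 (mem_cent.2 ?_))
    exact (mem_center_iff.1 (hz ▸ mem_top g) a).symm

/-- The Sylow subgroup of `C(w)` in which `C_A(w)` is strongly closed. -/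
theorem exists_sylow_cent (s : Setup G S A N) {w : G} (hb : Bad N w)
    (hwA : w ∈ normalizer (A : Set G)) (hfull : Full A w) :
    ∃ P : Sylow 2 (cent w),
      Cfsg.IsStronglyClosed ((A ⊓ cent w).subgroupOf (cent w)) (P : Subgroup (cent w)) ∧
      ∀ a ∈ A, ∀ k : G, ∀ h : k * a * k⁻¹ ∈ cent w,
        (⟨k * a * k⁻¹, h⟩ : cent w) ∈ (P : Subgroup (cent w)) → k * a * k⁻¹ ∈ A := by
  haveI : Fact (Nat.Prime 2) := ⟨Nat.prime_two⟩
  set X := cent w with hX
  have hB2 : IsPGroup 2 ((A ⊓ X).subgroupOf X) :=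
    IsPGroup.comap_subtype (s.isPGroup_of_le inf_le_left)
  obtain ⟨P, hP⟩ := hB2.exists_le_sylow
  have hwX : w ∈ X := mem_cent.2 rfl
  have hwP : (⟨w, hwX⟩ : X) ∈ (P : Subgroup X) := by
    have hn : (P : Subgroup X) ≤ normalizer ((zpowers (⟨w, hwX⟩ : X)) : Set X) := by
      refine le_trans ?_ (centralizer_le_normalizer _)
      rw [le_centralizer_iff, zpowers_le]
      refine mem_centralizer_iff.2 fun x _ => Subtype.ext ?_
      exact mem_cent.1 x.2
    have h2 : IsPGroup 2 (zpowers (⟨w, hwX⟩ : X)) :=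
      isPGroup_zpowers_of_orderOf (by rw [Subgroup.orderOf_mk, hb.two])
    have := IsPGroup.to_sup_of_normal_right' P.2 h2 hn
    exact (P.is_maximal' this le_sup_left) ▸ mem_sup_right (mem_zpowers _)
  obtain ⟨R, hR⟩ := (P.2.map X.subtype).exists_le_sylow
  obtain ⟨g, hg⟩ := MulAction.exists_smul_eq G S R
  have hRS : ∀ x, x ∈ (R : Subgroup G) ↔ g⁻¹ * x * g ∈ (S : Subgroup G) := by
    intro x
    rw [← hg, Sylow.coe_subgroup_smul, Subgroup.mem_pointwise_smul_iff_inv_smul_mem]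
    simp
  -- members of conjugates of `A` inside `R`
  have hmem : ∀ a ∈ A, ∀ k : G, k * a * k⁻¹ ∈ (R : Subgroup G) → k * a * k⁻¹ ∈ cj g A := by
    intro a ha k hk
    rw [mem_cj]
    rw [hRS] at hk
    have := s.closed.2 a ha (g⁻¹ * k) (by simpa [mul_assoc] using hk)
    simpa [mul_assoc] using this
  have hle : A ⊓ X ≤ cj g A := by
    intro a ha
    have := hmem a ha.1 1 (by simpa using hR (mem_map_of_mem X.subtype (hP (x := ⟨a, ha.2⟩) ha)))
    simpa using this
  have hwg : w ∈ normalizer ((cj g A : Subgroup G) : Set G) := by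
    have hw' : g⁻¹ * w * g ∈ normalizer (A : Set G) :=
      s.S_le_normalizer ((hRS w).1 (hR ⟨⟨w, hwX⟩, hwP, rfl⟩))
    rw [mem_normalizer_iff] at hw' ⊢
    intro x
    rw [mem_cj, mem_cj, hw' (g⁻¹ * x * g)]
    simp [mul_assoc]
  have heq : cj g A ⊓ X = A ⊓ X :=
    (Subgroup.eq_of_le_of_card_ge (le_inf hle inf_le_right) (hfull g hwg hle)).symm
  refine ⟨P, ⟨hP, fun x hx k hk => ?_⟩, fun a ha k h hk => ?_⟩
  swap
  · have h1 : k * a * k⁻¹ ∈ cj g A ⊓ X :=
      Subgroup.mem_inf.2 ⟨hmem a ha k (hR (mem_map_of_mem X.subtype hk)), h⟩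
    rw [heq] at h1
    exact h1.1
  have hx' : (x : G) ∈ A ⊓ X := hx
  show ((k * x * k⁻¹ : X) : G) ∈ A ⊓ X
  rw [← heq]
  exact Subgroup.mem_inf.2 ⟨hmem x hx'.1 k (hR (mem_map_of_mem X.subtype hk)), (k * x * k⁻¹).2⟩

theorem not_isCyclic_fixA (s : Setup G S A N) {w : G} (hw : orderOf w = 2)
    (hwA : w ∈ normalizer (A : Set G)) : ¬ IsCyclic ↥(A ⊓ cent w) := by
  intro hc
  haveI := hc
  obtain ⟨g, hg⟩ := IsCyclic.exists_generator (α := ↥(A ⊓ cent w))
  have h1 : Nat.card ↥(A ⊓ cent w) ≤ 2 := by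
    rw [← orderOf_eq_card_of_forall_mem_zpowers hg]
    exact Nat.le_of_dvd two_pos (orderOf_dvd_of_pow_eq_one
      (Subtype.ext (by simpa using s.elem.2 _ g.2.1)))
  have := s.fixA_large hw hwA
  omega

/-- The odd core of `C(w)` lies in `N`. -/
theorem core_cent_le (s : Setup G S A N) {w : G} (hw : orderOf w = 2)
    (hwA : w ∈ normalizer (A : Set G)) :
    Cfsg.centralizerPPrimeCore 2 w ≤ N := by
  haveI : Fact (Nat.Prime 2) := ⟨Nat.prime_two⟩
  haveI hcomm : IsMulCommutative ↥(A ⊓ cent w) :=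
    ⟨⟨fun a b => Subtype.ext (s.comm a.2.1 b.2.1)⟩⟩
  set K := Cfsg.centralizerPPrimeCore 2 w
  have hn : A ⊓ cent w ≤ normalizer (K : Set G) := by
    rw [le_normalizer_iff]
    rintro a ha _ ⟨y, hy, rfl⟩
    exact ⟨⟨a, ha.2⟩ * y * ⟨a, ha.2⟩⁻¹,
      (inferInstance : (Cfsg.pPrimeCore 2 (cent w)).Normal).conj_mem y hy _, rfl⟩
  obtain ⟨k, hk⟩ := IsPGroup.iff_card.mp (s.isPGroup_of_le (inf_le_left : A ⊓ cent w ≤ A))
  have hcop : (Nat.card ↥(A ⊓ cent w)).Coprime (Nat.card K) := by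
    rw [hk]
    exact Nat.Coprime.pow_left k (CfsgLib.Components.card_centralizerCore_coprime ({w} : Set G)).symm
  rw [← CfsgLib.CoprimeGeneration.iSup_centralizer_eq (A ⊓ cent w) K (s.not_isCyclic_fixA hw hwA) hn hcop]
  exact iSup₂_le fun a ha => inf_le_right.trans (s.cent_le a ha.1.1 ha.2)

theorem normalizer_fixBar_le (s : Setup G S A N) {w : G} (hb : Bad N w)
    (hwA : w ∈ normalizer (A : Set G)) {x : cent w}
    (hx : qmap (cent w) x ∈ normalizer (fixBar A w : Set (cent w ⧸ Cfsg.pPrimeCore 2 (cent w)))) :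
    (x : G) ∈ N := by
  haveI : Fact (Nat.Prime 2) := ⟨Nat.prime_two⟩
  change qmap (cent w) x ∈ normalizer (((A ⊓ cent w).subgroupOf (cent w)).map
    (QuotientGroup.mk' (Cfsg.pPrimeCore 2 (cent w))) : Set (cent w ⧸ Cfsg.pPrimeCore 2 (cent w))) at hx
  have hP : IsPGroup 2 ((A ⊓ cent w).subgroupOf (cent w)) :=
    IsPGroup.comap_subtype (s.isPGroup_of_le inf_le_left)
  rw [← map_normalizer_quotient CfsgLib.PCore.pPrimeCore_coprime hP] at hx
  obtain ⟨y, hy, hyx⟩ := hx
  have hyN : (y : G) ∈ N := by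
    obtain ⟨a, ha, ha1⟩ := (Subgroup.bot_or_exists_ne_one (A ⊓ cent w)).resolve_left fun e => by
      have := s.fixA_large hb.two hwA
      rw [e, Subgroup.card_bot] at this
      omega
    refine s.mem_of_conj_mem ha.1 ha1 (g := (y : G)) ?_
    exact s.A_le ((mem_normalizer_iff.1 hy ⟨a, ha.2⟩).1 ha).1
  have hc : ((y⁻¹ * x : cent w) : G) ∈ N :=
    s.core_cent_le hb.two hwA ⟨_, QuotientGroup.eq.1 hyx, rfl⟩
  simpa using N.mul_mem hyN hc

end Setup

end CfsgLib.ThreeFree
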