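import Cfsg.Agent.Lib.ThreeFree.CompSplit
import Cfsg.Agent.Lib.ThreeFree.Local

/-!
The hypotheses under which the maximal subgroup `N` is constructed: the strongly closed subgroup `A`
and the centralizers of its involutions.
-/

set_option autoImplicit false
set_option linter.style.haveILetI false
set_option linter.unusedSectionVars false

namespace CfsgLib.ThreeFree

open Subgroup CfsgLib.Components

universe u

/-- The setting without the subgroup `N`. -/
structure Frame (G : Type u) [Group G] (S : Sylow 2 G) (A : Subgroup G) : Prop where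
  simple : IsSimpleGroup G
  nc : ∃ a b : G, a * b ≠ b * a
  core : Cfsg.pPrimeCore 2 G = ⊥
  even : 2 ∣ Nat.card G
  three : ¬ 3 ∣ Nat.card G
  proper : ∀ X : Subgroup G, X ≠ ⊤ → SzGood X
  elem : Cfsg.IsElementaryAbelian 2 A
  closed : Cfsg.IsStronglyClosed A (S : Subgroup G)
  rank : 8 ≤ Nat.card A
  irr : ∀ V : Subgroup G, V ≤ A → normalizer (A : Set G) ≤ normalizer (V : Set G) → V = ⊥ ∨ V = A
  fus : ∀ a ∈ A, ∀ g : G, g * a * g⁻¹ ∈ A →
    ∃ m ∈ normalizer (A : Set G), m * a * m⁻¹ = g * a * g⁻¹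

/-- The image of `A` in the centralizer of an element modulo its odd core. -/
abbrev barA {G : Type u} [Group G] (A : Subgroup G) (a : G) :
    Subgroup (cent a ⧸ Cfsg.pPrimeCore 2 (cent a)) :=
  (A.subgroupOf (cent a)).map (qmap (cent a))

namespace Frame

variable {G : Type u} [Group G] [Finite G] {S : Sylow 2 G} {A : Subgroup G}

theorem comm (s : Frame G S A) {a b : G} (ha : a ∈ A) (hb : b ∈ A) : a * b = b * a :=
  congrArg Subtype.val (s.elem.1.is_comm.comm (⟨a, ha⟩ : A) ⟨b, hb⟩)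

theorem sq (s : Frame G S A) {a : G} (ha : a ∈ A) : a * a = 1 := by
  rw [← pow_two]; exact s.elem.2 a ha

theorem orderOf_eq_two (s : Frame G S A) {a : G} (ha : a ∈ A) (h1 : a ≠ 1) : orderOf a = 2 :=
  orderOf_eq_prime (hp := ⟨Nat.prime_two⟩) (s.elem.2 a ha) h1

theorem isPGroup_of_le (s : Frame G S A) {B : Subgroup G} (hB : B ≤ A) : IsPGroup 2 B :=
  IsPGroup.to_le S.2 (hB.trans s.closed.1)

theorem A_le_cent (s : Frame G S A) {a : G} (ha : a ∈ A) : A ≤ cent a :=
  fun _ hb => mem_cent.2 (s.comm hb ha)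

theorem conj_A (s : Frame G S A) {m a : G} (hm : m ∈ normalizer (A : Set G)) (ha : a ∈ A) :
    m * a * m⁻¹ ∈ A :=
  (mem_normalizer_iff.1 hm a).1 ha

theorem cj_A (_s : Frame G S A) {m : G} (hm : m ∈ normalizer (A : Set G)) : cj m A = A :=
  mem_normalizer_iff_map_conj_eq.1 hm

theorem center_eq_bot (s : Frame G S A) : center G = ⊥ := by
  haveI := s.simple
  refine (inferInstance : (center G).Normal).eq_bot_or_eq_top.resolve_right fun e => ?_
  obtain ⟨x, y, hxy⟩ := s.nc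
  exact hxy ((mem_center_iff.1 (e.ge (mem_top y))) x)

theorem cent_ne_top (s : Frame G S A) {a : G} (h1 : a ≠ 1) : cent a ≠ ⊤ := fun e => by
  have h : a ∈ center G := mem_center_iff.2 fun g => mem_cent.1 (show g ∈ cent a from e ▸ mem_top g)
  rw [s.center_eq_bot, Subgroup.mem_bot] at h
  exact h1 h

theorem good_cent (s : Frame G S A) {a : G} (h1 : a ≠ 1) : SzGood (cent a) :=
  s.proper _ (s.cent_ne_top h1)

/-- In a 2-subgroup containing `A` the conjugates of elements of `A` lie in `A`. -/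
theorem mem_of_conj_mem_two (s : Frame G S A) {Q : Subgroup G} (hQ : IsPGroup 2 Q) (hA : A ≤ Q)
    {a : G} (ha : a ∈ A) {k : G} (hk : k * a * k⁻¹ ∈ Q) : k * a * k⁻¹ ∈ A := by
  haveI : Fact (Nat.Prime 2) := ⟨Nat.prime_two⟩
  obtain ⟨R, hR⟩ := hQ.exists_le_sylow
  obtain ⟨g, hg⟩ := MulAction.exists_smul_eq G S R
  have hRS : ∀ x, x ∈ (R : Subgroup G) → g⁻¹ * x * g ∈ (S : Subgroup G) := by
    intro x hx
    rw [← hg, Sylow.coe_subgroup_smul, Subgroup.mem_pointwise_smul_iff_inv_smul_mem] at hx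
    simpa using hx
  have hgn : g⁻¹ ∈ normalizer (A : Set G) := mem_normalizer_fintype fun b hb =>
    s.closed.2 b hb g⁻¹ (by simpa using hRS b (hR (hA hb)))
  have h1 := s.closed.2 a ha (g⁻¹ * k) (by simpa [mul_assoc] using hRS _ (hR hk))
  have h2 := s.conj_A (inv_mem hgn) h1
  simpa [mul_assoc] using h2

theorem le_normalizer_of_two (s : Frame G S A) {Q : Subgroup G} (hQ : IsPGroup 2 Q) (hA : A ≤ Q) :
    Q ≤ normalizer (A : Set G) := fun q hq => mem_normalizer_fintype fun a ha =>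
  s.mem_of_conj_mem_two hQ hA ha (mul_mem (mul_mem hq (hA ha)) (Q.inv_mem hq))

theorem exists_sylow (s : Frame G S A) {a : G} (ha : a ∈ A) :
    ∃ P : Sylow 2 (cent a),
      Cfsg.IsStronglyClosed (A.subgroupOf (cent a)) (P : Subgroup (cent a)) := by
  haveI : Fact (Nat.Prime 2) := ⟨Nat.prime_two⟩
  obtain ⟨P, hP⟩ := (IsPGroup.comap_subtype (s.isPGroup_of_le le_rfl) :
    IsPGroup 2 (A.subgroupOf (cent a))).exists_le_sylow
  refine ⟨P, hP, fun x hx k hk => ?_⟩
  refine s.mem_of_conj_mem_two (P.2.map (cent a).subtype) (fun b hb => ?_) hx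
    (k := (k : G)) ⟨_, hk, rfl⟩
  exact ⟨⟨b, s.A_le_cent ha hb⟩, hP (show (⟨b, _⟩ : cent a) ∈ A.subgroupOf (cent a) from hb), rfl⟩

theorem elem_subgroupOf (s : Frame G S A) (X : Subgroup G) :
    Cfsg.IsElementaryAbelian 2 (A.subgroupOf X) :=
  ⟨⟨⟨fun x y => Subtype.ext (Subtype.ext (s.comm x.2 y.2))⟩⟩,
    fun x hx => Subtype.ext (by simpa using s.elem.2 _ hx)⟩

theorem setting_bar (s : Frame G S A) {a : G} (ha : a ∈ A) (h1 : a ≠ 1) :
    ∃ P, ClosedSetting (barA A a) P := by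
  obtain ⟨P, hP⟩ := s.exists_sylow ha
  exact ⟨_, closedSetting_quotient (s.good_cent h1) P (s.elem_subgroupOf _) hP⟩

theorem setting_of_core (s : Frame G S A) {a : G} (ha : a ∈ A) (h1 : a ≠ 1)
    (hc : Cfsg.pPrimeCore 2 (cent a) = ⊥) :
    ∃ P, ClosedSetting (A.subgroupOf (cent a)) P := by
  obtain ⟨P, hP⟩ := s.exists_sylow ha
  exact ⟨P, s.good_cent h1, hc, s.elem_subgroupOf _, hP⟩

theorem mk_inj (s : Frame G S A) {a : G} {u v : cent a} (hu : (u : G) ∈ A) (hv : (v : G) ∈ A)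
    (h : qmap (cent a) u = qmap (cent a) v) : u = v :=
  mk_injOn (IsPGroup.comap_subtype (s.isPGroup_of_le le_rfl)) (B := A.subgroupOf (cent a)) hu hv h

/-- An element of `C(a)` normalizing the image of `A` modulo the core is, modulo the core, in
`N(A)`. -/
theorem exists_norm_lift (s : Frame G S A) {a : G} {x : cent a}
    (hx : qmap (cent a) x ∈ normalizer (barA A a : Set (cent a ⧸ Cfsg.pPrimeCore 2 (cent a))))
    (ha : a ∈ A) :
    ∃ y : cent a, qmap (cent a) y = qmap (cent a) x ∧ (y : G) ∈ normalizer (A : Set G) := by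
  haveI : Fact (Nat.Prime 2) := ⟨Nat.prime_two⟩
  have hP : IsPGroup 2 (A.subgroupOf (cent a)) :=
    IsPGroup.comap_subtype (s.isPGroup_of_le le_rfl)
  change qmap (cent a) x ∈ normalizer (((A.subgroupOf (cent a)).map
    (QuotientGroup.mk' (Cfsg.pPrimeCore 2 (cent a))) :
    Subgroup (cent a ⧸ Cfsg.pPrimeCore 2 (cent a))) : Set (cent a ⧸ Cfsg.pPrimeCore 2 (cent a))) at hx
  rw [← map_normalizer_quotient CfsgLib.PCore.pPrimeCore_coprime hP] at hx
  obtain ⟨y, hy, hyx⟩ := hx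
  exact ⟨y, hyx, mem_normalizer_fintype fun b hb =>
    (mem_normalizer_iff.1 hy ⟨b, s.A_le_cent ha hb⟩).1 hb⟩

/-- A criterion for containing `C(a)`. -/
theorem cent_le_of_comps (s : Frame G S A) (hF : SzFactsHold.{u}) {a : G} (ha : a ∈ A) (h1 : a ≠ 1)
    {K : Subgroup G} (hθ : Cfsg.centralizerPPrimeCore 2 a ≤ K)
    (hM : normalizer (A : Set G) ≤ K)
    (hcomp : ∀ L ∈ movedComponents (barA A a), ∀ x : cent a, qmap (cent a) x ∈ L → (x : G) ∈ K) :
    cent a ≤ K := by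
  intro y hy
  obtain ⟨P, c⟩ := s.setting_bar ha h1
  obtain ⟨e, he, m, hm, hem⟩ := c.exists_decomp hF (qmap (cent a) ⟨y, hy⟩)
  set H := (K.subgroupOf (cent a)).map (qmap (cent a))
  have hEH : sSup (movedComponents (barA A a)) ≤ H := sSup_le fun L hL l hl => by
    obtain ⟨x, rfl⟩ := QuotientGroup.mk'_surjective (Cfsg.pPrimeCore 2 (cent a)) l
    exact mem_map_of_mem _ (mem_subgroupOf.2 (hcomp L hL x hl))
  obtain ⟨e', he', rfl⟩ := hEH he
  obtain ⟨m', rfl⟩ := QuotientGroup.mk'_surjective (Cfsg.pPrimeCore 2 (cent a)) m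
  obtain ⟨z, hz, hzA⟩ := s.exists_norm_lift hm ha
  change qmap (cent a) ⟨y, hy⟩ = qmap (cent a) e' * qmap (cent a) m' at hem
  rw [← hz, ← map_mul] at hem
  have ho : (e' * z)⁻¹ * ⟨y, hy⟩ ∈ Cfsg.pPrimeCore 2 (cent a) := QuotientGroup.eq.1 hem.symm
  have hoK : (((e' * z)⁻¹ * ⟨y, hy⟩ : cent a) : G) ∈ K := hθ ⟨_, ho, rfl⟩
  have heK : ((e' * z : cent a) : G) ∈ K := K.mul_mem he' (hM hzA)
  simpa [mul_assoc] using K.mul_mem heK hoK

end Frame

end CfsgLib.ThreeFree
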