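import Cfsg.Agent.Lib.ThreeFree.Frame
import Cfsg.Agent.Lib.Signalizer74.Main
import Cfsg.Agent.Lib.SignalizerConn42
import Cfsg.Agent.Lib.PF.OddOrder

/-!
The completion of the signalizer functor `a ↦ O(C(a))`.  If it is nontrivial its normalizer contains
the centralizers of all involutions of `A`.
-/

set_option autoImplicit false
set_option linter.style.haveILetI false
set_option linter.unusedSectionVars false

namespace CfsgLib.ThreeFree

open Subgroup CfsgLib.Components

universe u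

/-- The completion of the functor `a ↦ O(C(a))`. -/
abbrev coreW {G : Type u} [Group G] (A : Subgroup G) : Subgroup G :=
  ⨆ a : {a : G // a ∈ A ∧ a ≠ 1}, Cfsg.centralizerPPrimeCore 2 (a : G)

namespace Frame

variable {G : Type u} [Group G] [Finite G] {S : Sylow 2 G} {A : Subgroup G}

theorem core_le_coreW {a : G} (ha : a ∈ A) (h1 : a ≠ 1) :
    Cfsg.centralizerPPrimeCore 2 a ≤ coreW A :=
  le_iSup (fun b : {b : G // b ∈ A ∧ b ≠ 1} => Cfsg.centralizerPPrimeCore 2 (b : G)) ⟨a, ha, h1⟩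

theorem conj_mem_core {a g x : G} (hga : g * a * g⁻¹ = a) (hx : x ∈ Cfsg.centralizerPPrimeCore 2 a) :
    g * x * g⁻¹ ∈ Cfsg.centralizerPPrimeCore 2 a := by
  haveI : Fact (Nat.Prime 2) := ⟨Nat.prime_two⟩
  have := CfsgLib.SignalizerConn42.centralizerPPrimeCore_conj (p := 2) a g (mem_map_of_mem _ hx)
  rw [hga] at this
  exact this

theorem isSolvableSignalizerFunctor (s : Frame G S A) (hF : SzFactsHold.{u}) :
    Cfsg.IsSolvableSignalizerFunctor 2 A (fun a => Cfsg.centralizerPPrimeCore 2 a) := by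
  haveI : Fact (Nat.Prime 2) := ⟨Nat.prime_two⟩
  have hodd : ∀ a : G, ¬ 2 ∣ Nat.card (Cfsg.centralizerPPrimeCore 2 a) := fun a =>
    (Nat.prime_two.coprime_iff_not_dvd).mp
      (CfsgLib.Components.card_centralizerCore_coprime ({a} : Set G)).symm
  refine ⟨⟨fun a _ _ => map_subtype_le _, fun a _ _ => hodd a, ?_, ?_⟩,
    fun a _ _ => CfsgLib.PF.oddSolvable _ (Nat.odd_iff.2 (Nat.two_dvd_ne_zero.1 (hodd a)))⟩
  · intro a ha _ b hb x hx
    exact conj_mem_core (by rw [s.comm hb ha, mul_inv_cancel_right]) hx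
  · intro a ha ha1 b hb hb1 x hx
    obtain ⟨⟨⟨x, hxa⟩, hxO, rfl⟩, hxb⟩ := Subgroup.mem_inf.1 hx
    set Y := cent b
    have haY : a ∈ Y := s.A_le_cent hb ha
    set D := centralizer ({⟨a, haY⟩} : Set Y)
    -- the trace of `O(C(a))` on `C(b)`
    let K : Subgroup D := (Cfsg.centralizerPPrimeCore 2 a).comap (Y.subtype.comp D.subtype)
    haveI hKn : K.Normal := by
      refine ⟨fun k hk g => ?_⟩
      show ((g : Y) : G) * ((k : Y) : G) * ((g : Y) : G)⁻¹ ∈ Cfsg.centralizerPPrimeCore 2 a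
      refine conj_mem_core ?_ hk
      have : ((g : Y) : G) * a = a * ((g : Y) : G) :=
        congrArg Subtype.val (mem_centralizer_singleton_iff.1 g.2)
      rw [this, mul_inv_cancel_right]
    have hKc : (Nat.card K).Coprime 2 := by
      have hinj : Function.Injective (Y.subtype.comp D.subtype) :=
        Y.subtype_injective.comp D.subtype_injective
      refine Nat.Coprime.coprime_dvd_left ?_ (CfsgLib.Components.card_centralizerCore_coprime ({a} : Set G))
      rw [Nat.card_congr (K.equivMapOfInjective _ hinj).toEquiv]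
      exact card_dvd_of_le (map_comap_le _ _)
    have hle := CfsgLib.PCore.le_pPrimeCore hKn hKc
    have hxY : (⟨x, hxb⟩ : Y) ∈ D := mem_centralizer_singleton_iff.2 (Subtype.ext (mem_cent.1 hxa))
    have hmem : (⟨x, hxb⟩ : Y) ∈ Cfsg.centralizerPPrimeCore 2 (⟨a, haY⟩ : Y) :=
      ⟨⟨_, hxY⟩, hle (show ((⟨_, hxY⟩ : D)) ∈ K from ⟨_, hxO, rfl⟩), rfl⟩
    exact ⟨_, centralizerPPrimeCore_le hF (s.good_cent hb1)
      (by rw [Subgroup.orderOf_mk, s.orderOf_eq_two ha ha1]) hmem, rfl⟩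

theorem coreW_spec (s : Frame G S A) (hF : SzFactsHold.{u}) :
    ¬ 2 ∣ Nat.card (coreW A) ∧ (∀ b ∈ A, ∀ x ∈ coreW A, b * x * b⁻¹ ∈ coreW A) ∧
      ∀ a ∈ A, a ≠ 1 → coreW A ⊓ cent a = Cfsg.centralizerPPrimeCore 2 a := by
  haveI : Fact (Nat.Prime 2) := ⟨Nat.prime_two⟩
  obtain ⟨h1, h2⟩ := CfsgLib.Signalizer74.completion s.elem (by simpa using s.rank)
    (s.isSolvableSignalizerFunctor hF)
  exact ⟨h1.2.1, h1.2.2.1, h2⟩

theorem centralizer_le_normalizer_coreW (s : Frame G S A) (hF : SzFactsHold.{u}) {B : Subgroup G}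
    (hB : B ≤ A) (hnc : ¬ IsCyclic B) : centralizer (B : Set G) ≤ normalizer (coreW A : Set G) := by
  haveI : Fact (Nat.Prime 2) := ⟨Nat.prime_two⟩
  obtain ⟨hodd, hinv, hcap⟩ := s.coreW_spec hF
  haveI : IsMulCommutative B := ⟨⟨fun a b => Subtype.ext (s.comm (hB a.2) (hB b.2))⟩⟩
  obtain ⟨k, hk⟩ := IsPGroup.iff_card.mp (s.isPGroup_of_le hB)
  have hcop : (Nat.card B).Coprime (Nat.card (coreW A)) := by
    rw [hk]
    exact Nat.Coprime.pow_left k (Nat.prime_two.coprime_iff_not_dvd.2 hodd)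
  have hn : B ≤ normalizer (coreW A : Set G) :=
    fun b hb => mem_normalizer_fintype fun x hx => hinv b (hB hb) x hx
  have hgen := CfsgLib.CoprimeGeneration.iSup_centralizer_eq B (coreW A) hnc hn hcop
  intro g hg
  rw [mem_normalizer_iff_map_conj_eq]
  refine Subgroup.eq_of_le_of_card_ge ?_ (le_of_eq (card_cj g _).symm)
  conv_lhs => rw [← hgen]
  rw [Subgroup.map_iSup]
  refine iSup_le fun b => ?_
  rw [Subgroup.map_iSup]
  refine iSup_le fun hb => ?_
  rw [hcap b (hB hb.1) hb.2]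
  rintro _ ⟨y, hy, rfl⟩
  refine core_le_coreW (hB hb.1) hb.2 (conj_mem_core ?_ hy)
  rw [← mem_centralizer_iff.1 hg b hb.1, mul_inv_cancel_right]

theorem normalizer_le_normalizer_coreW (s : Frame G S A) :
    normalizer (A : Set G) ≤ normalizer (coreW A : Set G) := by
  haveI : Fact (Nat.Prime 2) := ⟨Nat.prime_two⟩
  intro g hg
  rw [mem_normalizer_iff_map_conj_eq]
  refine Subgroup.eq_of_le_of_card_ge ?_ (le_of_eq (card_cj g _).symm)
  rw [coreW, Subgroup.map_iSup]
  refine iSup_le fun b => ?_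
  refine le_trans (CfsgLib.SignalizerConn42.centralizerPPrimeCore_conj (p := 2) (b : G) g) ?_
  refine core_le_coreW (s.conj_A hg b.2.1) fun e => b.2.2 ?_
  have := congrArg (fun t => g⁻¹ * t * g) e
  simpa [mul_assoc] using this

/-- The preimage of a moved component lies in the normalizer of the completion. -/
theorem comp_le_normalizer_coreW (s : Frame G S A) (hF : SzFactsHold.{u}) {a : G} (ha : a ∈ A)
    (h1 : a ≠ 1) {L : Subgroup (cent a ⧸ Cfsg.pPrimeCore 2 (cent a))}
    (hL : L ∈ movedComponents (barA A a)) {x : cent a} (hx : qmap (cent a) x ∈ L) :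
    (x : G) ∈ normalizer (coreW A : Set G) := by
  haveI : Fact (Nat.Prime 2) := ⟨Nat.prime_two⟩
  obtain ⟨P, c⟩ := s.setting_bar ha h1
  set Bp : Subgroup G :=
    A ⊓ ((centralizer (L : Set (cent a ⧸ Cfsg.pPrimeCore 2 (cent a)))).comap (qmap (cent a))).map
      (cent a).subtype with hBp
  have hBmem : ∀ u : cent a, (u : G) ∈ Bp ↔
      (u : G) ∈ A ∧ qmap (cent a) u ∈ centralizer (L : Set _) := by
    intro u
    rw [hBp, Subgroup.mem_inf]
    refine and_congr_right fun _ => ⟨?_, fun h => ⟨u, h, rfl⟩⟩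
    rintro ⟨v, hv, hvu⟩
    obtain rfl : v = u := Subtype.ext hvu
    exact hv
  have haa : a ∈ cent a := mem_cent.2 rfl
  have haB : a ∈ Bp := (hBmem ⟨a, haa⟩).2 ⟨ha, mem_centralizer_iff.2 fun l _ => by
    obtain ⟨u, rfl⟩ := QuotientGroup.mk'_surjective (Cfsg.pPrimeCore 2 (cent a)) l
    show qmap (cent a) u * qmap (cent a) ⟨a, haa⟩ = qmap (cent a) ⟨a, haa⟩ * qmap (cent a) u
    rw [← map_mul, ← map_mul]
    exact congrArg _ (Subtype.ext (mem_cent.1 u.2))⟩
  by_cases hcyc : IsCyclic Bp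
  · exfalso
    -- then `B = ⟨a⟩`
    obtain ⟨g, hg⟩ := IsCyclic.exists_generator (α := Bp)
    have hcard : Nat.card Bp ≤ 2 := by
      rw [← orderOf_eq_card_of_forall_mem_zpowers hg]
      exact Nat.le_of_dvd two_pos (orderOf_dvd_of_pow_eq_one
        (Subtype.ext (by simpa using s.elem.2 _ g.2.1)))
    have hBp2 : Bp = zpowers a := (Subgroup.eq_of_le_of_card_ge (zpowers_le.2 haB)
      (by rw [Nat.card_zpowers, s.orderOf_eq_two ha h1]; exact hcard)).symm
    have hBone : ∀ b ∈ Bp, b = 1 ∨ b = a := by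
      intro b hb
      classical
      rw [hBp2, mem_zpowers_iff_mem_range_orderOf, s.orderOf_eq_two ha h1] at hb
      obtain ⟨i, hi, rfl⟩ := Finset.mem_image.1 hb
      rw [Finset.mem_range] at hi
      interval_cases i <;> simp
    obtain ⟨n, Z, xb, td⟩ := c.torus_data hF hL.1 hL.2
    obtain ⟨x0, rfl⟩ := QuotientGroup.mk'_surjective (Cfsg.pPrimeCore 2 (cent a)) xb
    obtain ⟨y, hy, hyA⟩ := s.exists_norm_lift td.x_norm ha
    set Zg : Subgroup G := A ⊓ (Z.comap (qmap (cent a))).map (cent a).subtype with hZg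
    have hZmem : ∀ u : cent a, (u : G) ∈ Zg ↔ (u : G) ∈ A ∧ qmap (cent a) u ∈ Z := by
      intro u
      rw [hZg, Subgroup.mem_inf]
      refine and_congr_right fun _ => ⟨?_, fun h => ⟨u, h, rfl⟩⟩
      rintro ⟨v, hv, hvu⟩
      obtain rfl : v = u := Subtype.ext hvu
      exact hv
    have hlift : ∀ z ∈ Z, ∃ u : cent a, (u : G) ∈ A ∧ qmap (cent a) u = z := fun z hz => by
      obtain ⟨u, hu, rfl⟩ := td.le_B hz
      exact ⟨u, hu, rfl⟩
    have hin : ∀ {u : G}, u ∈ A → u ∈ cent a := fun hu => s.A_le_cent ha hu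
    have hyk : ∀ k : ℕ, ((y ^ k : cent a) : G) ∈ normalizer (A : Set G) := fun k =>
      Subgroup.pow_mem _ hyA k
    have hcardZ : Nat.card Zg = 2 ^ n := by
      rw [← td.card]
      refine Nat.card_congr (Equiv.ofBijective
        (fun u : Zg => (⟨qmap (cent a) ⟨u, hin u.2.1⟩, ((hZmem ⟨u, hin u.2.1⟩).1 u.2).2⟩ : Z))
        ⟨fun u v e => Subtype.ext (congrArg Subtype.val
          (s.mk_inj u.2.1 v.2.1 (congrArg Subtype.val e)) :), ?_⟩)
      rintro ⟨z, hz⟩
      obtain ⟨u, hu, rfl⟩ := hlift z hz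
      exact ⟨⟨u, (hZmem u).2 ⟨hu, hz⟩⟩, rfl⟩
    have hsplit : SplitHyp (normalizer (A : Set G)) A Zg Bp n := by
      refine ⟨fun u hu => s.sq hu, fun u hu v hv => s.comm hu hv, fun m hm => s.cj_A hm,
        fun h3 => s.three (h3.trans (card_subgroup_dvd_card _)),
        fun V hV hinv => s.irr V hV fun m hm => mem_normalizer_iff_map_conj_eq.2 (hinv m hm),
        inf_le_left, inf_le_left, ?_, ?_, ?_, td.odd_n, by have := td.three_le; omega,
        fun e => h1 ((Subgroup.eq_bot_iff_forall _).1 e a haB), ?_, ?_, ?_⟩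
      · refine (Subgroup.eq_bot_iff_forall _).2 fun u hu => ?_
        have huA : u ∈ A := hu.1.1
        obtain ⟨-, h2⟩ := (hZmem ⟨u, hin huA⟩).1 hu.1
        obtain ⟨-, h3⟩ := (hBmem ⟨u, hin huA⟩).1 hu.2
        have h4 : qmap (cent a) ⟨u, hin huA⟩ = 1 := (Subgroup.eq_bot_iff_forall _).1 td.inf _
          ⟨h2, mem_map_of_mem _ (show (⟨u, hin huA⟩ : cent a) ∈ A.subgroupOf _ from huA), h3⟩
        exact congrArg Subtype.val (s.mk_inj huA A.one_mem (h4.trans (map_one _).symm))
      · intro u hu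
        obtain ⟨z, hz, e, he, hze⟩ :=
          td.sup _ (mem_map_of_mem _ (show (⟨u, hin hu⟩ : cent a) ∈ A.subgroupOf _ from hu))
        obtain ⟨z', hz', rfl⟩ := hlift z hz
        obtain ⟨e', he', rfl⟩ := (Subgroup.mem_inf.1 he).1
        refine ⟨z', (hZmem z').2 ⟨hz', hz⟩, e', (hBmem e').2 ⟨he', (Subgroup.mem_inf.1 he).2⟩, ?_⟩
        rw [← map_mul] at hze
        exact congrArg Subtype.val (s.mk_inj (u := ⟨u, hin hu⟩) hu (A.mul_mem hz' he') hze)
      · exact hcardZ
      · rw [hBp2, Nat.card_zpowers, s.orderOf_eq_two ha h1, hcardZ]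
        calc 2 = 2 ^ 1 := rfl
          _ ≤ 2 ^ n := Nat.pow_le_pow_right (by norm_num) (by have := td.three_le; omega)
      · intro m hm
        refine or_iff_not_imp_right.2 fun hne => ?_
        obtain ⟨u, hu, hu1⟩ := (Subgroup.bot_or_exists_ne_one _).resolve_left hne
        obtain ⟨hu1', hu2⟩ := Subgroup.mem_inf.1 hu
        rw [(hBone u hu2).resolve_left hu1] at hu1'
        refine (Subgroup.eq_of_le_of_card_ge ?_ (le_of_eq (card_cj m Bp))).symm
        intro b hb
        rcases hBone b hb with rfl | rfl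
        · exact one_mem _
        · exact hu1'
      · intro z hz z' hz' hz1 hz1'
        obtain ⟨hzA, hzb⟩ := (hZmem ⟨z, hin hz.1⟩).1 hz
        obtain ⟨hzA', hzb'⟩ := (hZmem ⟨z', hin hz'.1⟩).1 hz'
        have hne : ∀ {w : G} (hw : w ∈ A), w ≠ 1 → qmap (cent a) ⟨w, hin hw⟩ ≠ 1 := fun hw hw1 e =>
          hw1 (congrArg Subtype.val (s.mk_inj (v := 1) hw A.one_mem (e.trans (map_one _).symm)))
        obtain ⟨k, hk⟩ := td.trans _ hzb _ hzb' (hne hzA hz1) (hne hzA' hz1')
        refine ⟨((y ^ k : cent a) : G), hyk k, fun b hb => ?_, ?_⟩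
        · have hc : ((y ^ k : cent a) : G) * a = a * ((y ^ k : cent a) : G) := mem_cent.1 (y ^ k).2
          rcases hBone b hb with rfl | rfl
          · simp
          · rw [hc, mul_inv_cancel_right]
        · change qmap (cent a) y = qmap (cent a) x0 at hy
          rw [← hy, ← map_pow, ← map_mul, ← map_inv, ← map_mul] at hk
          exact congrArg Subtype.val (s.mk_inj (s.conj_A (hyk k) hzA) hzA' hk)
    obtain ⟨g', hg', hgB, -, -⟩ := hsplit.split_main
    have h2 := card_cj g' Bp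
    rw [hgB, hsplit.cardZ, hBp2, Nat.card_zpowers, s.orderOf_eq_two ha h1] at h2
    have : 2 ^ 3 ≤ 2 ^ n := Nat.pow_le_pow_right (by norm_num) td.three_le
    omega
  · -- `L` is covered by `C(B)`
    have hP : IsPGroup 2 (Bp.subgroupOf (cent a)) :=
      IsPGroup.comap_subtype (s.isPGroup_of_le inf_le_left)
    have hxc : qmap (cent a) x ∈ centralizer
        (((Bp.subgroupOf (cent a)).map (qmap (cent a)) : Subgroup _) :
          Set (cent a ⧸ Cfsg.pPrimeCore 2 (cent a))) := by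
      rw [mem_centralizer_iff]
      rintro _ ⟨u, hu, rfl⟩
      exact (mem_centralizer_iff.1 ((hBmem u).1 hu).2 _ hx).symm
    change qmap (cent a) x ∈ centralizer (((Bp.subgroupOf (cent a)).map
      (QuotientGroup.mk' (Cfsg.pPrimeCore 2 (cent a))) : Subgroup _) :
        Set (cent a ⧸ Cfsg.pPrimeCore 2 (cent a))) at hxc
    rw [← map_centralizer_quotient CfsgLib.PCore.pPrimeCore_coprime hP] at hxc
    obtain ⟨y, hy, hyx⟩ := hxc
    have hyN : (y : G) ∈ normalizer (coreW A : Set G) :=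
      s.centralizer_le_normalizer_coreW hF (B := Bp) inf_le_left hcyc (mem_centralizer_iff.2
        fun b hb => congrArg Subtype.val
          (mem_centralizer_iff.1 hy ⟨b, s.A_le_cent ha hb.1⟩ hb))
    have hoN : ((y⁻¹ * x : cent a) : G) ∈ normalizer (coreW A : Set G) :=
      le_normalizer (core_le_coreW ha h1 ⟨_, QuotientGroup.eq.1 hyx, rfl⟩)
    simpa using mul_mem hyN hoN

/-- The completion is trivial or its normalizer is proper and contains `N(A)` and every `C(a)`. -/
theorem exists_of_coreW_ne_bot (s : Frame G S A) (hF : SzFactsHold.{u}) (hW : coreW A ≠ ⊥) :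
    ∃ K : Subgroup G, K ≠ ⊤ ∧ normalizer (A : Set G) ≤ K ∧
      ∀ a ∈ A, a ≠ 1 → cent a ≤ K := by
  refine ⟨normalizer (coreW A : Set G), fun e => ?_, s.normalizer_le_normalizer_coreW,
    fun a ha h1 => s.cent_le_of_comps hF ha h1
      ((core_le_coreW ha h1).trans le_normalizer) s.normalizer_le_normalizer_coreW
      fun L hL x hx => s.comp_le_normalizer_coreW hF ha h1 hL hx⟩
  haveI := s.simple
  haveI : (coreW A).Normal := normalizer_eq_top_iff.1 e
  rcases (inferInstance : (coreW A).Normal).eq_bot_or_eq_top with h | h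
  · exact hW h
  · have := (s.coreW_spec hF).1
    rw [h, Subgroup.card_top] at this
    exact this s.even

end Frame

end CfsgLib.ThreeFree
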