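import Cfsg.Agent.Lib.ThreeFree.SzData
import Mathlib.GroupTheory.Transfer
import Mathlib.GroupTheory.IsPerfect

/-!
A perfect group `Q` with `Q / Z(Q)` a Suzuki group and `Z(Q)` a 2-group has trivial centre if the
centre of a Sylow 2-subgroup of the quotient lifts to a subgroup `B` meeting `Z(Q)` trivially and
invariant under the preimage of the normalizer of the Sylow subgroup: squaring is constant on the
torus orbit, so it is trivial modulo `B` and the transfer kills the centre.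
-/

set_option autoImplicit false
set_option linter.style.haveILetI false

namespace CfsgLib.ThreeFree

open Subgroup

universe u

namespace SzData

variable {Q : Type u} [Group Q] [Finite Q] {n : ℕ} {T : Sylow 2 Q} {Z : Subgroup Q} {h : Q}

omit [Finite Q] in
theorem h_pow_conj_mem_T (d : SzData Q n T Z h) (k : ℕ) {t : Q} (ht : t ∈ (T : Subgroup Q)) :
    h ^ k * t * (h ^ k)⁻¹ ∈ (T : Subgroup Q) :=
  (mem_normalizer_iff.1 (pow_mem d.h_mem k) t).1 ht

omit [Finite Q] in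
theorem h_pow_conj_mem_Z (d : SzData Q n T Z h) (k : ℕ) {z : Q} (hz : z ∈ Z) :
    h ^ k * z * (h ^ k)⁻¹ ∈ Z :=
  (mem_normalizer_iff.1 (d.norm_Z.symm ▸ pow_mem d.h_mem k) z).1 hz

omit [Finite Q] in
theorem Z_inv (d : SzData Q n T Z h) {z : Q} (hz : z ∈ Z) : z⁻¹ = z :=
  inv_eq_of_mul_eq_one_right (d.Z_sq z hz)

omit [Finite Q] in
theorem Z_mul_comm (d : SzData Q n T Z h) {z z' : Q} (hz : z ∈ Z) (hz' : z' ∈ Z) :
    z * z' = z' * z :=
  d.Z_comm z hz z' (d.Z_le hz')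

omit [Finite Q] in
theorem two_pow_large (d : SzData Q n T Z h) : 8 ≤ 2 ^ n :=
  le_trans (by norm_num) (Nat.pow_le_pow_right (by norm_num) d.three_le)

/-- An element of the torus fixing a coset of `Z` in `T` fixes one of `Z`. -/
theorem eq_mem_Z_of_fix (d : SzData Q n T Z h) {k : ℕ} (hk : h ^ k ≠ 1) {t : Q}
    (ht : t ∈ (T : Subgroup Q)) (hfix : t⁻¹ * (h ^ k * t * (h ^ k)⁻¹) ∈ Z) : t ∈ Z := by
  let g : Z → Z := fun w => ⟨h ^ k * w * (h ^ k)⁻¹ * (w : Q)⁻¹,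
    mul_mem (d.h_pow_conj_mem_Z k w.2) (inv_mem w.2)⟩
  have hginj : Function.Injective g := by
    intro w w' e
    have e' : h ^ k * w * (h ^ k)⁻¹ * (w : Q)⁻¹ = h ^ k * w' * (h ^ k)⁻¹ * (w' : Q)⁻¹ :=
      congrArg Subtype.val e
    refine Subtype.ext (inv_mul_eq_one.1 (d.h_fpf k hk ((w : Q)⁻¹ * w')
      (d.Z_le (mul_mem (inv_mem w.2) w'.2)) ?_))
    have hc : (w : Q)⁻¹ * w' = w' * (w : Q)⁻¹ := d.Z_mul_comm (inv_mem w.2) w'.2
    calc h ^ k * ((w : Q)⁻¹ * w')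
        = (h ^ k * w * (h ^ k)⁻¹)⁻¹ * (h ^ k * w' * (h ^ k)⁻¹) * h ^ k := by group
      _ = (h ^ k * w * (h ^ k)⁻¹ * (w : Q)⁻¹ * w)⁻¹ *
          (h ^ k * w' * (h ^ k)⁻¹ * (w' : Q)⁻¹ * w') * h ^ k := by group
      _ = (w : Q)⁻¹ * w' * h ^ k := by rw [e']; group
  obtain ⟨⟨w, hw⟩, hgw⟩ := (Finite.injective_iff_surjective.1 hginj) ⟨_, hfix⟩
  have he : h ^ k * w * (h ^ k)⁻¹ * w⁻¹ = t⁻¹ * (h ^ k * t * (h ^ k)⁻¹) := congrArg Subtype.val hgw
  have hfix' : h ^ k * (t * w⁻¹) = t * w⁻¹ * h ^ k := by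
    have hwz : h ^ k * w⁻¹ * (h ^ k)⁻¹ = w⁻¹ * (h ^ k * w * (h ^ k)⁻¹ * w⁻¹)⁻¹ := by group
    have hcz : (h ^ k * w * (h ^ k)⁻¹ * w⁻¹) * w⁻¹ = w⁻¹ * (h ^ k * w * (h ^ k)⁻¹ * w⁻¹) :=
      d.Z_mul_comm (mul_mem (d.h_pow_conj_mem_Z k hw) (inv_mem hw)) (inv_mem hw)
    calc h ^ k * (t * w⁻¹)
        = t * (t⁻¹ * (h ^ k * t * (h ^ k)⁻¹)) * (h ^ k * w⁻¹ * (h ^ k)⁻¹) * h ^ k := by group
      _ = t * ((h ^ k * w * (h ^ k)⁻¹ * w⁻¹) * w⁻¹) * (h ^ k * w * (h ^ k)⁻¹ * w⁻¹)⁻¹ * h ^ k := by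
          rw [← he, hwz]; group
      _ = t * w⁻¹ * h ^ k := by rw [hcz]; group
  rw [mul_inv_eq_one.1 (d.h_fpf k hk _ (mul_mem ht (d.Z_le (inv_mem hw))) hfix')]
  exact hw

/-- The torus is transitive on the nontrivial cosets of `Z` in `T`. -/
theorem trans_mod_Z (d : SzData Q n T Z h) {t t' : Q} (ht : t ∈ (T : Subgroup Q)) (htZ : t ∉ Z)
    (ht' : t' ∈ (T : Subgroup Q)) (htZ' : t' ∉ Z) :
    ∃ k : ℕ, ∃ z ∈ Z, t' = h ^ k * t * (h ^ k)⁻¹ * z := by
  classical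
  let f : Fin (2 ^ n - 1) × Z → {x : Q // x ∈ (T : Subgroup Q) ∧ x ∉ Z} := fun p =>
    ⟨h ^ (p.1 : ℕ) * t * (h ^ (p.1 : ℕ))⁻¹ * p.2,
      mul_mem (d.h_pow_conj_mem_T _ ht) (d.Z_le p.2.2), fun hmem => htZ (by
        have h2 : h ^ (p.1 : ℕ) * t * (h ^ (p.1 : ℕ))⁻¹ ∈ Z := by
          simpa using mul_mem hmem (inv_mem p.2.2)
        have h3 := (mem_normalizer_iff.1 (d.norm_Z.symm ▸ pow_mem d.h_mem (p.1 : ℕ)) t).2 h2
        exact h3)⟩
  have hinj : Function.Injective f := by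
    rintro ⟨i, z⟩ ⟨j, z'⟩ e
    have e' : h ^ (i : ℕ) * t * (h ^ (i : ℕ))⁻¹ * z = h ^ (j : ℕ) * t * (h ^ (j : ℕ))⁻¹ * z' :=
      congrArg Subtype.val e
    have key : ∀ (a b : ℕ) (u v : Z), a ≤ b → b < 2 ^ n - 1 →
        h ^ a * t * (h ^ a)⁻¹ * u = h ^ b * t * (h ^ b)⁻¹ * v → a = b := by
      intro a b u v hab hb e
      by_contra hne
      obtain ⟨c, rfl⟩ := Nat.exists_eq_add_of_le hab
      have hc : h ^ c ≠ 1 := fun e1 => by
        have hdvd := orderOf_dvd_of_pow_eq_one e1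
        rw [d.h_order] at hdvd
        have := Nat.le_of_dvd (by omega) hdvd
        omega
      refine htZ (d.eq_mem_Z_of_fix hc ht ?_)
      have e2 : t⁻¹ * (h ^ c * t * (h ^ c)⁻¹) =
          (h ^ a)⁻¹ * ((u : Q) * (v : Q)⁻¹) * h ^ a := by
        calc t⁻¹ * (h ^ c * t * (h ^ c)⁻¹)
            = (h ^ a)⁻¹ * ((h ^ a * t * (h ^ a)⁻¹)⁻¹ *
              (h ^ (a + c) * t * (h ^ (a + c))⁻¹ * v) * (v : Q)⁻¹) * h ^ a := by
              rw [pow_add]; group
          _ = _ := by rw [← e]; group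
      rw [e2]
      exact (mem_normalizer_iff.1 (d.norm_Z.symm ▸ pow_mem d.h_mem a) _).2
        (by simpa [mul_assoc] using mul_mem u.2 (inv_mem v.2))
    have hij : (i : ℕ) = j := by
      rcases le_total (i : ℕ) j with hle | hle
      · exact key i j z z' hle j.2 e'
      · exact (key j i z' z hle i.2 e'.symm).symm
    rw [hij] at e'
    exact Prod.ext (Fin.ext hij) (Subtype.ext (mul_left_cancel e'))
  have hcard : Nat.card (Fin (2 ^ n - 1) × Z) =
      Nat.card {x : Q // x ∈ (T : Subgroup Q) ∧ x ∉ Z} := by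
    have h1 : Nat.card {x : Q // x ∈ (T : Subgroup Q) ∧ x ∉ Z} =
        (((T : Subgroup Q) : Set Q) \ (Z : Set Q)).ncard := by
      rw [← Nat.card_coe_set_eq]
      rfl
    rw [h1, Set.ncard_sdiff (fun x hx => d.Z_le hx) (Set.toFinite _), ← Nat.card_coe_set_eq,
      ← Nat.card_coe_set_eq, Nat.card_prod, Nat.card_fin]
    show (2 ^ n - 1) * Nat.card Z = Nat.card (T : Subgroup Q) - Nat.card Z
    rw [d.card_T, d.card_Z, pow_two, Nat.sub_mul, one_mul]
  obtain ⟨⟨i, z⟩, hiz⟩ := (hinj.bijective_of_nat_card_le hcard.ge).2 ⟨t', ht', htZ'⟩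
  exact ⟨i, z, z.2, (congrArg Subtype.val hiz).symm⟩

/-- Squares of elements of `T` lie in `Z`. -/
theorem T_sq_mem (d : SzData Q n T Z h) {t : Q} (ht : t ∈ (T : Subgroup Q)) : t * t ∈ Z := by
  haveI : Fact (Nat.Prime 2) := ⟨Nat.prime_two⟩
  by_cases htZ : t ∈ Z
  · rw [d.Z_sq t htZ]; exact one_mem _
  obtain ⟨j, hj⟩ := T.2 ⟨t, ht⟩
  have hex : ∃ i : ℕ, t ^ (2 ^ i) ∈ Z :=
    ⟨j, by
      rw [show t ^ 2 ^ j = 1 from congrArg Subtype.val hj]
      exact one_mem _⟩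
  classical
  have hi : t ^ (2 ^ Nat.find hex) ∈ Z := Nat.find_spec hex
  obtain ⟨i, hi'⟩ : ∃ i, Nat.find hex = i + 1 := by
    refine ⟨Nat.find hex - 1, ?_⟩
    have : Nat.find hex ≠ 0 := fun e => htZ (by simpa [e] using hi)
    omega
  rw [hi'] at hi
  have hu : t ^ (2 ^ i) ∉ Z := Nat.find_min hex (by omega)
  have huu : t ^ (2 ^ i) * t ^ (2 ^ i) ∈ Z := by
    rwa [← pow_add, ← two_mul, ← pow_succ']
  obtain ⟨k, z, hz, e⟩ := d.trans_mod_Z (pow_mem ht _) hu ht htZ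
  set u := t ^ (2 ^ i)
  rw [e]
  have hzc : z * (h ^ k * u * (h ^ k)⁻¹) = (h ^ k * u * (h ^ k)⁻¹) * z :=
    d.Z_comm z hz _ (d.h_pow_conj_mem_T k (pow_mem ht _))
  have e' : h ^ k * u * (h ^ k)⁻¹ * z * (h ^ k * u * (h ^ k)⁻¹ * z) =
      h ^ k * (u * u) * (h ^ k)⁻¹ * (z * z) := by
    calc h ^ k * u * (h ^ k)⁻¹ * z * (h ^ k * u * (h ^ k)⁻¹ * z)
        = h ^ k * u * (h ^ k)⁻¹ * (z * (h ^ k * u * (h ^ k)⁻¹)) * z := by group
      _ = h ^ k * (u * u) * (h ^ k)⁻¹ * (z * z) := by rw [hzc]; group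
  rw [e', d.Z_sq z hz, mul_one]
  exact d.h_pow_conj_mem_Z k huu

/-- There are three elements of `T` independent modulo `Z`. -/
theorem exists_three (d : SzData Q n T Z h) :
    ∃ u ∈ (T : Subgroup Q), ∃ v ∈ (T : Subgroup Q), ∃ s ∈ (T : Subgroup Q),
      u ∉ Z ∧ v ∉ Z ∧ s ∉ Z ∧ u * v ∉ Z ∧ u * s ∉ Z ∧ v * s ∉ Z ∧ u * (v * s) ∉ Z := by
  classical
  have hq := d.two_pow_large
  have hpick : ∀ U : Set Q, U.ncard < 8 → ∃ x ∈ (T : Subgroup Q), ∀ y ∈ U, y * x ∉ Z := by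
    intro U hU
    by_contra hcon
    push Not at hcon
    have hsub : (T : Set Q) ⊆ (fun p : Q × Q => p.1⁻¹ * p.2) '' (U ×ˢ (Z : Set Q)) := by
      intro x hx
      obtain ⟨y, hy, hyx⟩ := hcon x hx
      exact ⟨(y, y * x), ⟨hy, hyx⟩, inv_mul_cancel_left y x⟩
    have h1 := (Set.ncard_le_ncard hsub (Set.toFinite _)).trans
      (Set.ncard_image_le (Set.toFinite _))
    rw [Set.ncard_prod, ← Nat.card_coe_set_eq, ← Nat.card_coe_set_eq (Z : Set Q)] at h1
    change Nat.card (T : Subgroup Q) ≤ U.ncard * Nat.card Z at h1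
    rw [d.card_T, d.card_Z, pow_two] at h1
    have := Nat.le_of_mul_le_mul_right h1 (by positivity)
    omega
  obtain ⟨u, hu, hu'⟩ := hpick {1} (by simp)
  obtain ⟨v, hv, hv'⟩ := hpick {1, u} (lt_of_le_of_lt (Set.ncard_insert_le _ _) (by simp))
  obtain ⟨s, hs, hs'⟩ := hpick {1, u, v, u * v} (by
    refine lt_of_le_of_lt (Set.ncard_insert_le _ _) ?_
    refine lt_of_le_of_lt (Nat.add_le_add_right (Set.ncard_insert_le _ _) 1) ?_
    refine lt_of_le_of_lt (Nat.add_le_add_right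
      (Nat.add_le_add_right (Set.ncard_insert_le _ _) 1) 1) ?_
    simp)
  refine ⟨u, hu, v, hv, s, hs, ?_, ?_, ?_, ?_, ?_, ?_, ?_⟩
  · simpa using hu' 1 rfl
  · simpa using hv' 1 (by simp)
  · simpa using hs' 1 (by simp)
  · exact hv' u (by simp)
  · exact hs' u (by simp)
  · exact hs' v (by simp)
  · simpa [mul_assoc] using hs' (u * v) (by simp)

end SzData

/-- In a group where all squares of three independent elements and their products equal the same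
central element, that element is trivial. -/
theorem eq_one_of_const_sq {R : Type u} [Group R] {i u v s : R} (hc : ∀ x : R, i * x = x * i)
    (hi : i * i = 1) (hu : u * u = i) (hv : v * v = i) (hs : s * s = i)
    (huv : u * v * (u * v) = i) (hus : u * s * (u * s) = i) (hvs : v * s * (v * s) = i)
    (huvs : u * (v * s) * (u * (v * s)) = i) : i = 1 := by
  have hinv : i⁻¹ = i := inv_eq_of_mul_eq_one_right hi
  have key : ∀ p r : R, p * p = i → r * r = i → p * r * (p * r) = i → r * p = p * r * i := by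
    intro p r hp hr hpr
    have e1 : r * p = p⁻¹ * (p * r * (p * r)) * r⁻¹ := by group
    have hp' : p⁻¹ = p * i := inv_eq_of_mul_eq_one_right (by rw [← mul_assoc, hp, hi])
    have hr' : r⁻¹ = r * i := inv_eq_of_mul_eq_one_right (by rw [← mul_assoc, hr, hi])
    rw [e1, hpr, hp', hr', mul_assoc p i i, hi, mul_one, ← mul_assoc]
  have h1 := key u v hu hv huv
  have h2 := key u s hu hs hus
  have h3 := key u (v * s) hu hvs huvs
  have h4 : v * s * u = u * (v * s) := by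
    calc v * s * u = v * (s * u) := mul_assoc _ _ _
      _ = (v * u) * (s * i) := by rw [h2]; group
      _ = u * v * (i * (s * i)) := by rw [h1, mul_assoc]
      _ = u * v * (s * (i * i)) := by rw [hc (s * i), mul_assoc s i i]
      _ = u * (v * s) := by rw [hi, mul_one, mul_assoc]
  rw [h4] at h3
  exact (mul_eq_left.1 h3.symm)

variable {Q : Type u} [Group Q] [Finite Q] {n : ℕ}

/-- The centre is trivial. -/
theorem center_eq_bot_of_closed [Group.IsPerfect Q] {B : Subgroup Q}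
    {T : Sylow 2 (Q ⧸ center Q)} {Z : Subgroup (Q ⧸ center Q)} {h : Q ⧸ center Q}
    (d : SzData (Q ⧸ center Q) n T Z h) (hZ2 : IsPGroup 2 (center Q))
    (hBc : ∀ b ∈ B, b ∈ center Q → b = 1)
    (himg : B.map (QuotientGroup.mk' (center Q)) = Z)
    (hnorm : ∀ x : Q, QuotientGroup.mk' (center Q) x ∈
      normalizer ((T : Subgroup (Q ⧸ center Q)) : Set (Q ⧸ center Q)) → ∀ b ∈ B, x * b * x⁻¹ ∈ B) :
    center Q = ⊥ := by
  classical
  haveI : Fact (Nat.Prime 2) := ⟨Nat.prime_two⟩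
  set π := QuotientGroup.mk' (center Q) with hπ
  set P := ((T : Subgroup (Q ⧸ center Q))).comap π with hPdef
  have hmemP : ∀ p : Q, p ∈ P ↔ π p ∈ (T : Subgroup (Q ⧸ center Q)) := fun p => Iff.rfl
  have hzP : ∀ z ∈ center Q, z ∈ P := fun z hz => by
    rw [hmemP, show π z = 1 from (QuotientGroup.eq_one_iff z).2 hz]
    exact one_mem _
  have hcomm : ∀ p ∈ P, ∀ b ∈ B, p * b = b * p := by
    intro p hp b hb
    have hπb : π b ∈ Z := himg ▸ mem_map_of_mem π hb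
    have hc : p * b * p⁻¹ * b⁻¹ = 1 := by
      refine hBc _ (mul_mem (hnorm p (le_normalizer hp) b hb) (inv_mem hb)) ?_
      refine (QuotientGroup.eq_one_iff _).1 ?_
      show π (p * b * p⁻¹ * b⁻¹) = 1
      rw [map_mul, map_mul, map_mul, map_inv, map_inv, ← d.Z_comm _ hπb _ hp]
      group
    calc p * b = p * b * p⁻¹ * b⁻¹ * (b * p) := by group
      _ = b * p := by rw [hc, one_mul]
  have hcz : ∀ {z : Q}, z ∈ center Q → ∀ x : Q, x * z = z * x := fun hz x => mem_center_iff.1 hz x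
  -- `B` times the squares of the centre
  let M₀ : Subgroup Q :=
    { carrier := {x | ∃ b ∈ B, ∃ z ∈ center Q, x = b * (z * z)}
      one_mem' := ⟨1, one_mem _, 1, one_mem _, by simp⟩
      mul_mem' := by
        rintro x y ⟨b, hb, z, hz, rfl⟩ ⟨b', hb', z', hz', rfl⟩
        refine ⟨b * b', mul_mem hb hb', z * z', mul_mem hz hz', ?_⟩
        have e1 : z * z * b' = b' * (z * z) := ((hcz (mul_mem hz hz)) b').symm
        have e2 : z' * z = z * z' := (hcz hz) z'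
        calc b * (z * z) * (b' * (z' * z')) = b * (z * z * b') * (z' * z') := by group
          _ = b * b' * (z * (z * z') * z') := by rw [e1]; group
          _ = b * b' * (z * z' * (z * z')) := by
            rw [show z * z' * (z * z') = z * (z' * z) * z' by group, e2]
      inv_mem' := by
        rintro x ⟨b, hb, z, hz, rfl⟩
        refine ⟨b⁻¹, inv_mem hb, z⁻¹, inv_mem hz, ?_⟩
        have e1 := hcz (inv_mem (mul_mem hz hz)) b⁻¹
        rw [mul_inv_rev, ← e1, mul_inv_rev] }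
  have hM₀ : ∀ {x}, x ∈ M₀ ↔ ∃ b ∈ B, ∃ z ∈ center Q, x = b * (z * z) := Iff.rfl
  have hM₀P : ∀ p ∈ P, ∀ m ∈ M₀, p * m = m * p := by
    intro p hp m hm
    obtain ⟨b, hb, z, hz, rfl⟩ := hM₀.1 hm
    rw [← mul_assoc, hcomm p hp b hb, mul_assoc, hcz (mul_mem hz hz) p, ← mul_assoc]
  have hsplit : ∀ p : Q, π p ∈ Z → ∃ b ∈ B, ∃ z ∈ center Q, p = b * z := by
    intro p hp
    obtain ⟨b, hb, hbp⟩ : π p ∈ B.map π := himg.symm ▸ hp
    exact ⟨b, hb, b⁻¹ * p, QuotientGroup.eq.1 hbp, by group⟩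
  have hZsq : ∀ p : Q, π p ∈ Z → p * p ∈ M₀ ∧ ∀ r ∈ P, p * r = r * p := by
    intro p hp
    obtain ⟨b, hb, z, hz, rfl⟩ := hsplit p hp
    refine ⟨hM₀.2 ⟨b * b, mul_mem hb hb, z, hz, ?_⟩, fun r hr => ?_⟩
    · calc b * z * (b * z) = b * (z * b) * z := by group
        _ = b * b * (z * z) := by rw [← hcz hz b]; group
    · rw [mul_assoc, ← hcz hz r, ← mul_assoc, ← hcomm r hr b hb, mul_assoc]
  -- squares modulo `M₀`
  haveI hM₀n : (M₀.subgroupOf P).Normal := ⟨fun m hm p => by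
    have := hM₀P p p.2 m (mem_subgroupOf.1 hm)
    rw [mem_subgroupOf]
    simpa [this] using mem_subgroupOf.1 hm⟩
  let f := QuotientGroup.mk' (M₀.subgroupOf P)
  have hf : ∀ {p r : P}, f p = f r ↔ (p : Q)⁻¹ * r ∈ M₀ := fun {p r} => by
    rw [show f p = f r ↔ (p : P ⧸ M₀.subgroupOf P) = r from Iff.rfl, QuotientGroup.eq, mem_subgroupOf]
    simp
  obtain ⟨u, hu, v, hv, s, hs, hu1, hv1, hs1, huv, hus, hvs, huvs⟩ := d.exists_three
  obtain ⟨u, rfl⟩ := QuotientGroup.mk'_surjective (center Q) u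
  obtain ⟨v, rfl⟩ := QuotientGroup.mk'_surjective (center Q) v
  obtain ⟨s, rfl⟩ := QuotientGroup.mk'_surjective (center Q) s
  obtain ⟨x, hx⟩ := QuotientGroup.mk'_surjective (center Q) h
  have hxn : ∀ k : ℕ, ∀ b ∈ B, x ^ k * b * (x ^ k)⁻¹ ∈ B := fun k =>
    hnorm (x ^ k) (by rw [map_pow, hπ, hx]; exact pow_mem d.h_mem k)
  set i := f (⟨u, hu⟩ * ⟨u, hu⟩) with hi
  have hout : ∀ p : P, π p ∉ Z → f p * f p = i := by
    intro p hp
    obtain ⟨k, z, hz, e⟩ := d.trans_mod_Z hu hu1 p.2 hp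
    set u' := x ^ k * u * (x ^ k)⁻¹ with hu'
    have hπu' : π u' = h ^ k * π u * (h ^ k)⁻¹ := by
      rw [hu', map_mul, map_mul, map_inv, map_pow, hπ, hx]
    have hu'P : u' ∈ P := by rw [hmemP, hπu']; exact d.h_pow_conj_mem_T k hu
    have hm : π (u'⁻¹ * p) ∈ Z := by
      rw [map_mul, map_inv, hπu', e, inv_mul_cancel_left]
      exact hz
    obtain ⟨hm2, hmc⟩ := hZsq _ hm
    obtain ⟨b, hb, c, hc, huu⟩ := hsplit (u * u) (by rw [map_mul]; exact d.T_sq_mem hu)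
    rw [← map_mul, eq_comm, hi, hf]
    have e1 : (p : Q) * p = u' * u' * ((u'⁻¹ * p) * (u'⁻¹ * p)) := by
      calc (p : Q) * p = u' * ((u'⁻¹ * p) * u') * (u'⁻¹ * p) := by group
        _ = u' * (u' * (u'⁻¹ * p)) * (u'⁻¹ * p) := by rw [hmc u' hu'P]
        _ = _ := by group
    have e2 : u' * u' = x ^ k * b * (x ^ k)⁻¹ * c := by
      have h2 : (x ^ k)⁻¹ * c = c * (x ^ k)⁻¹ := hcz hc _
      calc u' * u' = x ^ k * (u * u) * (x ^ k)⁻¹ := by rw [hu']; group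
        _ = x ^ k * b * (c * (x ^ k)⁻¹) := by rw [huu]; group
        _ = _ := by rw [← h2]; group
    simp only [Subgroup.coe_mul]
    rw [e1, huu, e2]
    have hbc : (b * c)⁻¹ * (x ^ k * b * (x ^ k)⁻¹ * c) = b⁻¹ * (x ^ k * b * (x ^ k)⁻¹) := by
      have h3 : c⁻¹ * (b⁻¹ * (x ^ k * b * (x ^ k)⁻¹)) = (b⁻¹ * (x ^ k * b * (x ^ k)⁻¹)) * c⁻¹ :=
        (hcz (inv_mem hc) _).symm
      calc (b * c)⁻¹ * (x ^ k * b * (x ^ k)⁻¹ * c)
          = (c⁻¹ * (b⁻¹ * (x ^ k * b * (x ^ k)⁻¹))) * c := by group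
        _ = _ := by rw [h3]; group
    rw [← mul_assoc, hbc]
    exact mul_mem (hM₀.2 ⟨_, mul_mem (inv_mem hb) (hxn k b hb), 1, one_mem _, by simp⟩) hm2
  have hi1 : i = 1 := by
    refine eq_one_of_const_sq (u := f ⟨u, hu⟩) (v := f ⟨v, hv⟩) (s := f ⟨s, hs⟩) ?_ ?_
      (hout ⟨u, hu⟩ hu1) (hout ⟨v, hv⟩ hv1) (hout ⟨s, hs⟩ hs1) ?_ ?_ ?_ ?_
    · intro r
      obtain ⟨r, rfl⟩ := QuotientGroup.mk'_surjective _ r
      rw [hi, ← map_mul, ← map_mul]
      refine congrArg f (Subtype.ext ?_)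
      simp only [Subgroup.coe_mul]
      exact (hZsq (u * u) (by rw [map_mul]; exact d.T_sq_mem hu)).2 r r.2
    · rw [hi, ← map_mul, ← map_one f, eq_comm, hf]
      simpa [mul_assoc] using (hZsq (u * u) (by rw [map_mul]; exact d.T_sq_mem hu)).1
    · rw [← map_mul f ⟨u, hu⟩]; exact hout _ (by simp only [Subgroup.coe_mul, map_mul]; exact huv)
    · rw [← map_mul f ⟨u, hu⟩]; exact hout _ (by simp only [Subgroup.coe_mul, map_mul]; exact hus)
    · rw [← map_mul f ⟨v, hv⟩]; exact hout _ (by simp only [Subgroup.coe_mul, map_mul]; exact hvs)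
    · rw [← map_mul f ⟨v, hv⟩, ← map_mul f ⟨u, hu⟩]
      exact hout _ (by simp only [Subgroup.coe_mul, map_mul]; exact huvs)
  have hexp : ∀ r : P ⧸ M₀.subgroupOf P, r * r = 1 := by
    intro r
    obtain ⟨p, rfl⟩ := QuotientGroup.mk'_surjective _ r
    by_cases hp : π (p : Q) ∈ Z
    · rw [← map_mul]
      exact (QuotientGroup.eq_one_iff _).2 (by simpa [mem_subgroupOf] using (hZsq p hp).1)
    · exact (hout p hp).trans hi1
  -- transfer
  letI : CommGroup (P ⧸ M₀.subgroupOf P) :=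
    { (inferInstance : Group (P ⧸ M₀.subgroupOf P)) with
      mul_comm := fun a b => by
        have ha : a⁻¹ = a := inv_eq_of_mul_eq_one_right (hexp a)
        have hb : b⁻¹ = b := inv_eq_of_mul_eq_one_right (hexp b)
        calc a * b = (a * b)⁻¹ := (inv_eq_of_mul_eq_one_right (hexp (a * b))).symm
          _ = b * a := by rw [mul_inv_rev, ha, hb] }
  let φ : P →* P ⧸ M₀.subgroupOf P := f
  have hker : ∀ g : Q, MonoidHom.transfer φ g = 1 := by
    intro g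
    have hle : commutator Q ≤ (MonoidHom.transfer φ).ker :=
      Abelianization.commutator_subset_ker _
    rw [Group.IsPerfect.commutator_eq_top] at hle
    exact hle (mem_top g)
  have hodd : Odd P.index := by
    rw [hPdef, index_comap_of_surjective _ (QuotientGroup.mk'_surjective (center Q)),
      Nat.odd_iff]
    have := T.not_dvd_index
    omega
  have hsqmem : ∀ z ∈ center Q, ∃ c ∈ center Q, c * c = z := by
    intro z hz
    have key : ∀ (k : ℕ) (g₀ : Q), g₀⁻¹ * z ^ k * g₀ ∈ P → g₀⁻¹ * z ^ k * g₀ = z ^ k :=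
      fun k g₀ _ => by rw [mul_assoc, ← hcz (pow_mem hz k) g₀, inv_mul_cancel_left]
    have h1 := hker z
    rw [MonoidHom.transfer_eq_pow φ z key] at h1
    have h2 : z ^ P.index ∈ M₀ := mem_subgroupOf.1 ((QuotientGroup.eq_one_iff _).1 h1)
    obtain ⟨b, hb, c, hc, e⟩ := hM₀.1 h2
    have hb1 : b = 1 := hBc b hb (by
      have : b = z ^ P.index * (c * c)⁻¹ := by rw [e, mul_inv_cancel_right]
      rw [this]
      exact mul_mem (pow_mem hz _) (inv_mem (mul_mem hc hc)))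
    obtain ⟨r, hr⟩ := hodd
    rw [hb1, one_mul, hr, pow_succ] at e
    refine ⟨(z ^ r)⁻¹ * c, mul_mem (inv_mem (pow_mem hz r)) hc, ?_⟩
    have hcm : c * (z ^ r)⁻¹ = (z ^ r)⁻¹ * c := hcz (inv_mem (pow_mem hz r)) c
    calc (z ^ r)⁻¹ * c * ((z ^ r)⁻¹ * c) = (z ^ r)⁻¹ * (c * (z ^ r)⁻¹) * c := by group
      _ = (z ^ r)⁻¹ * (z ^ r)⁻¹ * (c * c) := by rw [hcm]; group
      _ = z := by rw [← e, two_mul, pow_add]; group
  by_contra hne
  haveI : Nontrivial (center Q) := (Subgroup.nontrivial_iff_ne_bot _).2 hne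
  obtain ⟨j, hj, hcard⟩ := hZ2.nontrivial_iff_card.1 inferInstance
  obtain ⟨z, hz⟩ := exists_prime_orderOf_dvd_card' 2 (hcard ▸ dvd_pow_self 2 hj.ne')
  let sq : center Q → center Q := fun c => c * c
  have hsur : Function.Surjective sq := fun c => by
    obtain ⟨d', hd', e⟩ := hsqmem c c.2
    exact ⟨⟨d', hd'⟩, Subtype.ext e⟩
  have h1 : z = 1 := (Finite.injective_iff_surjective.2 hsur) (show sq z = sq 1 by
    show z * z = 1 * 1
    rw [one_mul, ← pow_two, ← hz, pow_orderOf_eq_one])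
  rw [h1, orderOf_one] at hz
  omega

end CfsgLib.ThreeFree
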