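import Cfsg.Agent.Lib.ThreeFree.LinePts
import Cfsg.Agent.Lib.ThreeFree.LineCenter

/-!
The component of the centralizer of a bad involution is a Suzuki group equal to the line group; two
lines with two common points are equal.
-/

set_option autoImplicit false
set_option linter.style.haveILetI false
set_option linter.unusedSectionVars false

namespace CfsgLib.ThreeFree

open Subgroup CfsgLib.Components

universe u

theorem szCard_injective {n m : ℕ} (hn : 1 ≤ n) (hm : 1 ≤ m)
    (h : (2 ^ n) ^ 2 * ((2 ^ n) ^ 2 + 1) * (2 ^ n - 1) =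
      (2 ^ m) ^ 2 * ((2 ^ m) ^ 2 + 1) * (2 ^ m - 1)) : n = m := by
  have key : ∀ a b : ℕ, 1 ≤ a → a < b →
      (2 ^ a) ^ 2 * ((2 ^ a) ^ 2 + 1) * (2 ^ a - 1) <
        (2 ^ b) ^ 2 * ((2 ^ b) ^ 2 + 1) * (2 ^ b - 1) := by
    intro a b ha hab
    have h1 : 2 ^ a < 2 ^ b := Nat.pow_lt_pow_right (by norm_num) hab
    have h2 : 2 ≤ 2 ^ a := by
      calc 2 = 2 ^ 1 := rfl
        _ ≤ 2 ^ a := Nat.pow_le_pow_right (by norm_num) ha
    have h3 : (2 ^ a) ^ 2 < (2 ^ b) ^ 2 := Nat.pow_lt_pow_left h1 (by norm_num)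
    exact Nat.mul_lt_mul_of_lt_of_le (Nat.mul_lt_mul_of_lt_of_le h3 (by omega) (by positivity))
      (by omega) (by omega)
  rcases lt_trichotomy n m with h' | h' | h'
  · exact absurd h (key n m hn h').ne
  · exact h'
  · exact absurd h.symm (key m n hm h').ne

variable {G : Type u} [Group G] [Finite G] {S : Sylow 2 G} {A N : Subgroup G} {n : ℕ}

namespace NormalGame

theorem core_cent (e : NormalGame S A N n) {w : G} (hw : Bad N w) :
    Cfsg.pPrimeCore 2 (cent w) = ⊥ := by
  have h := e.core w hw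
  rwa [Cfsg.centralizerPPrimeCore,
    Subgroup.map_eq_bot_iff_of_injective _ (cent w).subtype_injective] at h

theorem component_exists (e : NormalGame S A N n) {w : G} (hw : Bad N w) :
    ∃ L : Subgroup G, A ≤ L ∧ L ≤ cent w ∧ cent w ≤ normalizer (L : Set G) ∧
      L ⊓ centralizer (L : Set G) = ⊥ ∧
      (∃ (T : Sylow 2 L) (h : L), SzData L n T (A.subgroupOf L) h) ∧
      (∀ x ∈ cent w, x ∉ N → A ⊔ cj x A = L) := by
  classical
  haveI : Fact (Nat.Prime 2) := ⟨Nat.prime_two⟩
  have s := e.setup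
  have hA := e.bad_centralizes hw
  have d := e.base.sub (cent w) hA (s.cent_ne_top hw.two) hw.out
  set H := cent w with hH
  set π := qmap H with hπ
  have hker : Function.Injective π := by
    rw [← MonoidHom.ker_eq_bot_iff, hπ, QuotientGroup.ker_mk']
    exact e.core_cent hw
  set C := compL H A with hC
  set L := (C.comap π).map H.subtype with hL
  have hmemL : ∀ x : H, (x : G) ∈ L ↔ π x ∈ C := fun x =>
    ⟨fun ⟨y, hy, hyx⟩ => by rwa [← Subtype.ext (hyx : (y : G) = x)], fun h => ⟨x, h, rfl⟩⟩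
  have hLH : L ≤ H := map_subtype_le _
  have hAL : A ≤ L := fun a ha =>
    (hmemL ⟨a, hA ha⟩).2 (d.le_comp (mem_map_of_mem π (mem_subgroupOf.2 ha)))
  obtain ⟨S', T₀, Z₀, h₀, c, cd⟩ := d.data
  haveI : Group.IsPerfect C := d.component.2.1
  -- the centre
  have hcent : center C = ⊥ := by
    refine center_eq_bot_of_closed (B := (barB H A).subgroupOf C) cd.sz ?_ ?_ ?_ ?_
    · have h2 := IsPGroup.to_le (CfsgLib.PCore.pCore_isPGroup (p := 2) (G := H ⧸ Cfsg.pPrimeCore 2 H))
        (component_center_le_pCore c.core d.component)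
      rw [← map_center_subtype] at h2
      exact h2.of_equiv ((center C).equivMapOfInjective _ C.subtype_injective).symm
    · intro b hb hbz
      have h1 : (b : H ⧸ Cfsg.pPrimeCore 2 H) ∈ barB H A ⊓ centralizer (C : Set _) :=
        Subgroup.mem_inf.2 ⟨hb, mem_centralizer_iff.2 fun g hg =>
          congrArg Subtype.val (mem_center_iff.1 hbz ⟨g, hg⟩)⟩
      rw [d.disj, Subgroup.mem_bot] at h1
      exact Subtype.ext h1
    · refine le_antisymm ?_ fun z hz => ?_
      · rintro _ ⟨b, hb, rfl⟩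
        exact cd.image_mem _ hb b (by
          show (b : H ⧸ Cfsg.pPrimeCore 2 H) * (b : H ⧸ Cfsg.pPrimeCore 2 H)⁻¹ ∈ _
          rw [mul_inv_cancel]
          exact one_mem _)
      · obtain ⟨b, hb, l, hbl, rfl⟩ := cd.image_surj z hz
        refine ⟨⟨b, d.le_comp hb⟩, hb, ?_⟩
        refine (QuotientGroup.eq.2 (mem_center_iff.2 fun g => Subtype.ext ?_))
        have hcl : (b⁻¹ * (l : H ⧸ Cfsg.pPrimeCore 2 H)) ∈ centralizer (C : Set _) := by
          have hbn := normalizer_le_normalizer_centralizer C (le_normalizer (inv_mem (d.le_comp hb)))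
          have h3 := (mem_normalizer_iff.1 hbn _).1 (inv_mem hbl)
          simpa [mul_assoc] using h3
        exact mem_centralizer_iff.1 hcl g g.2
    · intro x hx b hb
      exact mem_subgroupOf.2
        ((mem_normalizer_iff.1 ((cd.normalizes x).2 hx) _).1 (mem_subgroupOf.1 hb))
  -- the isomorphism
  let f : L →* C :=
    { toFun := fun l => ⟨π ⟨l, hLH l.2⟩, (hmemL ⟨l, hLH l.2⟩).1 l.2⟩
      map_one' := Subtype.ext (by
        show π ⟨((1 : L) : G), _⟩ = 1
        rw [show (⟨((1 : L) : G), hLH (1 : L).2⟩ : H) = 1 from rfl, map_one])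
      map_mul' := fun a b => Subtype.ext (by
        show π ⟨((a * b : L) : G), _⟩ = π ⟨a, _⟩ * π ⟨b, _⟩
        rw [← map_mul]
        rfl) }
  have hfb : Function.Bijective f := by
    refine ⟨fun a b hab => Subtype.ext (congrArg (fun t : H => (t : G))
      (hker (congrArg Subtype.val hab))), fun y => ?_⟩
    obtain ⟨x, hx⟩ := QuotientGroup.mk'_surjective _ (y : H ⧸ Cfsg.pPrimeCore 2 H)
    exact ⟨⟨x, (hmemL x).2 (hx.symm ▸ y.2)⟩, Subtype.ext hx⟩
  let φ : L ≃* C := MulEquiv.ofBijective f hfb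
  have hLc : L ⊓ centralizer (L : Set G) = ⊥ := by
    rw [eq_bot_iff]
    rintro z ⟨hz, hzc⟩
    have h1 : φ ⟨z, hz⟩ ∈ center C := mem_center_iff.2 fun y => by
      obtain ⟨l, rfl⟩ := φ.surjective y
      rw [← map_mul, ← map_mul]
      exact congrArg φ (Subtype.ext (mem_centralizer_iff.1 hzc l l.2))
    rw [hcent, Subgroup.mem_bot, MulEquiv.map_eq_one_iff] at h1
    exact congrArg Subtype.val h1
  -- Suzuki data
  have hiso : Cfsg.Lie.IsoSuzuki L := by
    obtain ⟨F, i1, i2, m, hm, hF, ⟨ψ⟩⟩ := component_iso c.good d.component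
    have hb : Function.Bijective (QuotientGroup.mk' (center C)) :=
      ⟨(MonoidHom.ker_eq_bot_iff _).1 (by rw [QuotientGroup.ker_mk', hcent]),
        QuotientGroup.mk'_surjective _⟩
    exact ⟨F, i1, i2, m, hm, hF, ⟨(φ.trans (MulEquiv.ofBijective _ hb)).trans ψ⟩⟩
  obtain ⟨T, hT⟩ := (IsPGroup.comap_subtype (H := A) (K := L)
    (s.isPGroup_of_le le_rfl)).exists_le_sylow
  obtain ⟨n', Z, h, d'⟩ := e.base.facts L hiso T
  have hn : n = n' := by
    refine szCard_injective (le_trans (by norm_num) e.base.three_le)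
      (le_trans (by norm_num) d'.three_le) ?_
    have hnn : Nat.card A = 2 ^ n := e.base.card_A
    rw [← d'.card]
    have hn2 := d.card_B
    have hc1 : Nat.card L = Nat.card (C ⧸ center C) := by
      rw [← Subgroup.index_eq_card, hcent, Subgroup.index_bot]
      exact Nat.card_congr φ.toEquiv
    rw [hc1, cd.sz.card]
  subst hn
  have hZA : A.subgroupOf L = Z := by
    refine Subgroup.eq_of_le_of_card_ge (fun a ha => d'.invol_mem a (hT ha)
      (Subtype.ext (s.mul_self_eq_one ha))) ?_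
    rw [d'.card_Z, Nat.card_congr (subgroupOfEquivOfLe hAL).toEquiv, e.base.card_A]
  subst hZA
  refine ⟨L, hAL, hLH, ?_, hLc, ⟨T, h, d'⟩, fun x hx hxN => ?_⟩
  · rw [le_normalizer_iff]
    intro x hx l hl
    refine (hmemL (⟨x, hx⟩ * ⟨l, hLH hl⟩ * ⟨x, hx⟩⁻¹)).2 ?_
    rw [map_mul, map_mul, map_inv]
    exact (inferInstance : (compL H A).Normal).conj_mem _ ((hmemL ⟨l, hLH hl⟩).1 hl) _
  · have hgen := d.gen (π ⟨x, hx⟩) fun h => hxN ((d.mem_iff ⟨x, hx⟩).2 h)
    refine le_antisymm (sup_le hAL (cj_le_of_forall fun a ha => ?_)) fun l hl => ?_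
    · refine (hmemL (⟨x, hx⟩ * ⟨a, hA ha⟩ * ⟨x, hx⟩⁻¹)).2 ?_
      rw [map_mul, map_mul, map_inv]
      exact (inferInstance : (compL H A).Normal).conj_mem _
        ((hmemL ⟨a, hA ha⟩).1 (hAL ha)) _
    · have hle : barB H A ⊔ cj (π ⟨x, hx⟩) (barB H A) ≤
          ((A ⊔ cj x A).subgroupOf H).map π := by
        refine sup_le (Subgroup.map_mono fun a ha => mem_subgroupOf.2 (mem_sup_left ha)) ?_
        rintro _ ⟨_, ⟨a, ha, rfl⟩, rfl⟩
        refine ⟨⟨x, hx⟩ * a * ⟨x, hx⟩⁻¹, mem_subgroupOf.2 (mem_sup_right ?_), ?_⟩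
        · simpa using (cj_mem (m := x)).2 (mem_subgroupOf.1 ha)
        · simp [map_mul, map_inv, hπ]
      rw [hgen] at hle
      obtain ⟨y, hy, hyl⟩ := hle ((hmemL ⟨l, hLH hl⟩).1 hl)
      rw [hker hyl] at hy
      exact mem_subgroupOf.1 hy

theorem lineGrp_props (e : NormalGame S A N n) {w : G} (hw : Bad N w) :
    A ≤ lineGrp A N w ∧ lineGrp A N w ≤ cent w ∧
      cent w ≤ normalizer (lineGrp A N w : Set G) ∧
      lineGrp A N w ⊓ centralizer (lineGrp A N w : Set G) = ⊥ ∧
      (∃ (T : Sylow 2 (lineGrp A N w)) (h : lineGrp A N w),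
        SzData (lineGrp A N w) n T (A.subgroupOf (lineGrp A N w)) h) ∧
      (∀ x ∈ cent w, x ∉ N → A ⊔ cj x A = lineGrp A N w) ∧
      ∀ P ∈ fixPts N w, ∃ l ∈ lineGrp A N w, (l : G ⧸ N) = P := by
  classical
  obtain ⟨L, hAL, hLw, hn, hc, ⟨T, h, d⟩, hgen⟩ := e.component_exists hw
  -- `L ∩ N` and the orbit
  have hNT : N.subgroupOf L = normalizer ((T : Subgroup L) : Set L) := by
    rw [← d.norm_Z]
    ext l
    rw [mem_subgroupOf, mem_normalizer_iff]
    constructor
    · intro hl a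
      rw [mem_subgroupOf, mem_subgroupOf]
      rw [e.eq_norm] at hl
      exact mem_normalizer_iff.1 hl a
    · intro hl
      rw [e.eq_norm]
      refine mem_normalizer_fintype fun a ha => ?_
      have := (hl ⟨a, hAL ha⟩).1 (mem_subgroupOf.2 ha)
      simpa [mem_subgroupOf] using this
  let f : L ⧸ N.subgroupOf L → G ⧸ N :=
    Quotient.map' (fun l : L => (l : G)) fun a b hab => by
      rw [QuotientGroup.leftRel_apply] at hab ⊢
      simpa [mem_subgroupOf] using hab
  have hfinj : Function.Injective f := by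
    rintro ⟨a⟩ ⟨b⟩ heq
    refine Quotient.sound' ?_
    have e' := Quotient.exact' heq
    rw [QuotientGroup.leftRel_apply] at e' ⊢
    simpa [mem_subgroupOf] using e'
  have hrange : Set.range f = fixPts N w := by
    refine Set.eq_of_subset_of_ncard_le ?_ ?_ (Set.toFinite _)
    · rintro _ ⟨⟨l⟩, rfl⟩
      refine mem_fixPts.2 ?_
      show (l : G)⁻¹ * w * l ∈ N
      rw [mul_assoc, ← mem_cent.1 (hLw l.2), inv_mul_cancel_left]
      exact hw.mem
    · rw [Set.ncard_range_of_injective hfinj, e.base.ncard_fix w hw, ← Subgroup.index_eq_card, hNT,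
        d.index_R]
  have horb : ∀ P ∈ fixPts N w, ∃ l ∈ L, (l : G ⧸ N) = P := by
    intro P hP
    rw [← hrange] at hP
    obtain ⟨⟨l⟩, hl⟩ := hP
    exact ⟨l, l.2, hl⟩
  have heq : lineGrp A N w = L := by
    refine le_antisymm (iSup₂_le fun P hP => ?_) ?_
    · obtain ⟨l, hl, rfl⟩ := horb P hP
      rw [e.ptA_mk]
      exact cj_le_of_forall fun a ha => mul_mem (mul_mem hl (hAL ha)) (inv_mem hl)
    · obtain ⟨x, hx, hxN⟩ : ∃ x ∈ L, x ∉ N := by
        by_contra hcon
        push Not at hcon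
        have h1 := d.index_R
        rw [← hNT, show N.subgroupOf L = ⊤ from
          eq_top_iff.2 fun l _ => mem_subgroupOf.2 (hcon l l.2), index_top] at h1
        have : 0 < (2 ^ n) ^ 2 := by positivity
        omega
      rw [← hgen x (hLw hx) hxN]
      refine sup_le ?_ ?_
      · exact e.ptA_base.ge.trans
          (le_iSup₂ (f := fun P (_ : P ∈ fixPts N w) => ptA A P) _ (base_mem_fixPts.2 hw.mem))
      · rw [← e.ptA_mk]
        refine le_iSup₂ (f := fun P (_ : P ∈ fixPts N w) => ptA A P) _ (mem_fixPts.2 ?_)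
        rw [mul_assoc, ← mem_cent.1 (hLw hx), inv_mul_cancel_left]
        exact hw.mem
  subst heq
  exact ⟨hAL, hLw, hn, hc, ⟨T, h, d⟩, hgen, horb⟩

/-- Two lines with two common points, one of them `N`, are equal. -/
theorem lines (e : NormalGame S A N n) {v v' : G} {R : G ⧸ N} (hv : Bad N v) (hv' : Bad N v')
    (hR : R ≠ ((1 : G) : G ⧸ N)) (h : R ∈ fixPts N v) (h' : R ∈ fixPts N v') :
    fixPts N v = fixPts N v' := by
  obtain ⟨-, hLv, -, -, -, hgen, horb⟩ := e.lineGrp_props hv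
  obtain ⟨x, hx, rfl⟩ := horb R h
  have hxN : x ∉ N := fun hmem => hR (coe_eq_base.2 hmem)
  have hle : lineGrp A N v ≤ cent v' := by
    rw [← hgen x (hLv hx) hxN]
    refine sup_le (e.bad_centralizes hv') ?_
    rw [← e.ptA_mk]
    exact e.centralizes_at (e.bad_axial hv') h'
  refine Set.eq_of_subset_of_ncard_le ?_
    (by rw [e.base.ncard_fix v hv, e.base.ncard_fix v' hv']) (Set.toFinite _)
  intro P hP
  obtain ⟨l, hl, rfl⟩ := horb P hP
  refine mem_fixPts.2 ?_
  rw [mul_assoc, ← mem_cent.1 (hle hl), inv_mul_cancel_left]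
  exact hv'.mem

/-- Two lines with two common points are equal. -/
theorem axial_lines (e : NormalGame S A N n) {v v' : G} {P Q : G ⧸ N} (hv : Axial N v)
    (hv' : Axial N v') (hne : P ≠ Q) (hP : P ∈ fixPts N v) (hQ : Q ∈ fixPts N v)
    (hP' : P ∈ fixPts N v') (hQ' : Q ∈ fixPts N v') : fixPts N v = fixPts N v' := by
  obtain ⟨g, rfl⟩ := QuotientGroup.mk_surjective P
  have key : ∀ {x : G}, Q ∈ fixPts N x → g⁻¹ • Q ∈ fixPts N (g⁻¹ * x * g) := fun {x} hx => by
    have h := smul_mem_fixPts (x := g⁻¹) hx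
    rwa [inv_inv] at h
  have h := e.lines (e.axial_bad_at hv hP) (e.axial_bad_at hv' hP') (R := g⁻¹ • Q)
    (fun h => hne (by rw [← smul_base g, ← h, smul_inv_smul])) (key hQ) (key hQ')
  rw [show v = g * (g⁻¹ * v * g) * g⁻¹ by group, show v' = g * (g⁻¹ * v' * g) * g⁻¹ by group,
    fixPts_conj, fixPts_conj g (g⁻¹ * v' * g), h]

theorem lineGrp_congr {w v : G} (h : fixPts N v = fixPts N w) :
    lineGrp A N v = lineGrp A N w := by
  rw [lineGrp, lineGrp, h]

end NormalGame

end CfsgLib.ThreeFree
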