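import Cfsg.Agent.Lib.ThreeFree.Endgame

/-!
The geometry of the fixed point sets ("lines") of the bad involutions in the case that `N` is the
normalizer of `A` and the centralizers of bad involutions have trivial odd cores: statements.
-/

set_option autoImplicit false
set_option linter.style.haveILetI false

namespace CfsgLib.ThreeFree

open Subgroup

universe u

variable {G : Type u} [Group G]

/-- The endgame with `N = N(A)` and trivial cores of the centralizers of bad involutions. -/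
structure NormalGame (S : Sylow 2 G) (A N : Subgroup G) (n : ℕ) : Prop where
  base : Endgame S A N n
  eq_norm : N = normalizer (A : Set G)
  core : ∀ w, Bad N w → Cfsg.centralizerPPrimeCore 2 w = ⊥

/-- The conjugate of `A` belonging to a point. -/
noncomputable def ptA {N : Subgroup G} (A : Subgroup G) (P : G ⧸ N) : Subgroup G := cj P.out A

/-- The group generated by the conjugates of `A` at the points of the line of `w`. -/
noncomputable def lineGrp (A N : Subgroup G) (w : G) : Subgroup G :=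
  ⨆ P ∈ fixPts N w, ptA A P

/-- The elements centralizing `w` and its line group. -/
noncomputable def kerK (A N : Subgroup G) (w : G) : Subgroup G :=
  cent w ⊓ centralizer (lineGrp A N w : Set G)

/-- The subgroup generated by the involutions of `kerK`. -/
noncomputable def kInv (A N : Subgroup G) (w : G) : Subgroup G :=
  Subgroup.closure {k | k ∈ kerK A N w ∧ k * k = 1}

/-- `C(A) ∩ C(w)`. -/
def jGrp (A : Subgroup G) (w : G) : Subgroup G := centralizer (A : Set G) ⊓ cent w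

/-- The Sylow 2-subgroup at `N` of the line group. -/
noncomputable def tGrp (A N : Subgroup G) (w : G) : Subgroup G :=
  lineGrp A N w ⊓ centralizer (A : Set G)

/-- `A` times the involutions of `kerK`. -/
noncomputable def eGrp (A N : Subgroup G) (w : G) : Subgroup G := A ⊔ kInv A N w

/-- The elements of `C(A)` fixing the coset `wA`. -/
def t1Grp (A : Subgroup G) (w : G) : Subgroup G :=
  centralizer (A : Set G) ⊓ normalizer ((A ⊔ zpowers w : Subgroup G) : Set G)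

/-- What is known on the line of a bad involution `w`; `h` is a torus of the line group. -/
structure LineData (A N : Subgroup G) (n : ℕ) (w h : G) : Prop where
  bad : Bad N w
  A_le : A ≤ lineGrp A N w
  le_cent : lineGrp A N w ≤ cent w
  cent_le_normalizer : cent w ≤ normalizer (lineGrp A N w : Set G)
  sz : ∃ (T : Sylow 2 (lineGrp A N w)) (hT : lineGrp A N w),
    SzData (lineGrp A N w) n T (A.subgroupOf (lineGrp A N w)) hT
  center_eq : lineGrp A N w ⊓ centralizer (lineGrp A N w : Set G) = ⊥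
  gen : ∀ l ∈ lineGrp A N w, l ∉ N → A ⊔ cj l A = lineGrp A N w
  orbit : ∀ P ∈ fixPts N w, ∃ l ∈ lineGrp A N w, (l : G ⧸ N) = P
  invariant : ∀ x ∈ cent w, ∀ P ∈ fixPts N w, x • P ∈ fixPts N w
  regular : ∀ P, P ∉ fixPts N w → ∀ Q, Q ∉ fixPts N w → ∃! l : G, l ∈ lineGrp A N w ∧ l • P = Q
  card_points : Nat.card (G ⧸ N) + (2 ^ n) ^ 4 = (2 ^ n) ^ 5 + (2 ^ n) ^ 3 + 1
  through : ∀ P, P ∉ fixPts N w →
    ∃ R ∈ fixPts N w, ∃ y ∈ ptA A R, y ≠ 1 ∧ P ∈ fixPts N (w * y)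
  through_unique : ∀ P, P ∉ fixPts N w → ∀ R ∈ fixPts N w, ∀ R' ∈ fixPts N w,
    ∀ y ∈ ptA A R, ∀ y' ∈ ptA A R', P ∈ fixPts N (w * y) → P ∈ fixPts N (w * y') → R = R' ∧ y = y'
  -- the torus
  h_mem : h ∈ lineGrp A N w
  h_mem_N : h ∈ N
  h_order : orderOf h = 2 ^ n - 1
  h_fpf : ∀ k : ℕ, h ^ k ≠ 1 → ∀ a ∈ A, h ^ k * a = a * h ^ k → a = 1
  h_trans : ∀ a ∈ A, a ≠ 1 → ∀ b ∈ A, b ≠ 1 → ∃ k : ℕ, h ^ k * a * (h ^ k)⁻¹ = b
  -- `T`
  T_two : IsPGroup 2 (tGrp A N w)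
  T_card : Nat.card (tGrp A N w) = (2 ^ n) ^ 2
  T_invol : ∀ t ∈ tGrp A N w, t * t = 1 → t ∈ A
  T_sq : ∀ t ∈ tGrp A N w, t * t ∈ A
  T_le_J : tGrp A N w ≤ jGrp A w
  T_conj_h : h ∈ normalizer (tGrp A N w : Set G)
  -- `K`
  K_two : IsPGroup 2 (kerK A N w)
  K_card_le : Nat.card (kerK A N w) ≤ (2 ^ n) ^ 2
  K_le_J : kerK A N w ≤ jGrp A w
  w_mem_K : w ∈ kerK A N w
  K_fix : ∀ k ∈ kerK A N w, ∀ P ∈ fixPts N w, k • P = P
  K_comm_L : ∀ k ∈ kerK A N w, ∀ l ∈ lineGrp A N w, k * l = l * k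
  K_invol_central : ∀ k ∈ kerK A N w, k * k = 1 → ∀ x ∈ kerK A N w, k * x = x * k
  mem_kInv : ∀ k, k ∈ kInv A N w ↔ k ∈ kerK A N w ∧ k * k = 1
  kInv_card_le : Nat.card (kInv A N w) ≤ 2 ^ n
  K_invol : ∀ k ∈ kerK A N w, k * k = 1 → k ≠ 1 → Bad N k ∧ fixPts N k = fixPts N w
  -- `J`
  J_two : IsPGroup 2 (jGrp A w)
  J_decomp : ∀ x ∈ jGrp A w, ∃ t ∈ tGrp A N w, ∃ k ∈ kerK A N w, x = t * k
  J_card : Nat.card (jGrp A w) = (2 ^ n) ^ 2 * Nat.card (kerK A N w)
  -- `E`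
  mem_E : ∀ x, x ∈ eGrp A N w ↔ x ∈ jGrp A w ∧ x * x = 1
  E_decomp : ∀ x ∈ eGrp A N w, ∃ a ∈ A, ∃ k ∈ kInv A N w, x = a * k
  E_card : Nat.card (eGrp A N w) = 2 ^ n * Nat.card (kInv A N w)
  E_central : ∀ x ∈ eGrp A N w, ∀ j ∈ jGrp A w, x * j = j * x
  E_bad : ∀ x ∈ eGrp A N w, x ∉ A → Bad N x
  -- labels of the lines through `N` which are invariant under `w`
  lbl_exists : ∀ v, Bad N v → v * w = w * v → ∃ y ∈ A, fixPts N v = fixPts N (w * y)
  lbl_inj : ∀ y ∈ A, ∀ y' ∈ A, fixPts N (w * y) = fixPts N (w * y') → y = y'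
  lbl_linear : ∀ k ∈ kInv A N w, k ≠ 1 →
    ∃ m : ℕ, ∀ a ∈ A, fixPts N (k * a) = fixPts N (w * (h ^ m * a * (h ^ m)⁻¹))
  affine : ∀ g ∈ N, g * w * g⁻¹ ∈ eGrp A N w → ∃ c ∈ A, ∃ m : ℕ, ∀ y ∈ A,
    fixPts N (g * (w * y) * g⁻¹) =
      fixPts N (w * (h ^ m * (c * (g * y * g⁻¹)) * (h ^ m)⁻¹))

/-- A bad involution with largest kernel, and the two shapes of a Sylow 2-subgroup of `C(A)`. -/
structure MaxLine (A N : Subgroup G) (n : ℕ) (w h : G) : Prop where
  line : LineData A N n w h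
  max : ∀ v, Bad N v → Nat.card (kerK A N v) ≤ Nat.card (kerK A N w)
  sylow :
    (∀ Q : Subgroup G, IsPGroup 2 Q → Q ≤ centralizer (A : Set G) → jGrp A w ≤ Q →
      Q = jGrp A w) ∨
    (IsPGroup 2 (t1Grp A w) ∧
      Nat.card (t1Grp A w) = 2 ^ n * Nat.card (jGrp A w) ∧
      (∀ a ∈ A, ∃ x ∈ t1Grp A w, x * w * x⁻¹ = w * a) ∧
      ∀ Q : Subgroup G, IsPGroup 2 Q → Q ≤ centralizer (A : Set G) → t1Grp A w ≤ Q →
        Q = t1Grp A w)

end CfsgLib.ThreeFree
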