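import Cfsg.Agent.Lib.ThreeFree.LineReg

/-!
The kernel `K` of a bad involution on its line, `C(A) ∩ C(w) = T K`, labels of lines: the data of a
line.
-/

set_option autoImplicit false
set_option linter.style.haveILetI false
set_option linter.unusedSectionVars false

namespace CfsgLib.ThreeFree

open Subgroup

universe u

variable {G : Type u} [Group G] [Finite G] {S : Sylow 2 G} {A N : Subgroup G} {n : ℕ}

theorem tGrp_commute_kerK {w t k : G} (ht : t ∈ tGrp A N w) (hk : k ∈ kerK A N w) :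
    k * t = t * k :=
  (mem_centralizer_iff.1 hk.2 t ht.1).symm

namespace NormalGame

theorem kerK_le_jGrp (e : NormalGame S A N n) {w : G} (hw : Bad N w) :
    kerK A N w ≤ jGrp A w := fun _ hk =>
  ⟨centralizer_le (SetLike.coe_subset_coe.2 (e.lineGrp_props hw).1) hk.2, hk.1⟩

theorem tGrp_le_jGrp (e : NormalGame S A N n) {w : G} (hw : Bad N w) :
    tGrp A N w ≤ jGrp A w := fun _ ht => ⟨ht.2, (e.lineGrp_props hw).2.1 ht.1⟩

theorem mem_N_of_cent_A (e : NormalGame S A N n) {x : G} (hx : x ∈ centralizer (A : Set G)) :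
    x ∈ N := by
  rw [e.eq_norm]
  exact centralizer_le_normalizer _ hx

theorem tGrp_eq_map (e : NormalGame S A N n) {w : G} {T : Sylow 2 (lineGrp A N w)}
    {h : lineGrp A N w} (d : SzData (lineGrp A N w) n T (A.subgroupOf (lineGrp A N w)) h)
    (hAL : A ≤ lineGrp A N w) :
    tGrp A N w = (T : Subgroup (lineGrp A N w)).map (lineGrp A N w).subtype := by
  ext t
  constructor
  · rintro ⟨htL, htc⟩
    exact ⟨⟨t, htL⟩, (e.mem_tGrp_iff d hAL _).2 htc, rfl⟩
  · rintro ⟨l, hl, rfl⟩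
    exact ⟨l.2, (e.mem_tGrp_iff d hAL l).1 hl⟩

theorem card_tGrp (e : NormalGame S A N n) {w : G} (hw : Bad N w) :
    Nat.card (tGrp A N w) = (2 ^ n) ^ 2 := by
  obtain ⟨hAL, -, -, -, ⟨T, h, d⟩, -, -⟩ := e.lineGrp_props hw
  rw [e.tGrp_eq_map d hAL, Subgroup.card_map_of_injective (Subgroup.subtype_injective _)]
  exact d.card_T

theorem inf_eq_one (e : NormalGame S A N n) {w x : G} (hw : Bad N w) (hx : x ∈ lineGrp A N w)
    (hx' : x ∈ kerK A N w) : x = 1 := by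
  obtain ⟨-, -, -, hcen, -, -, -⟩ := e.lineGrp_props hw
  have h1 : x ∈ lineGrp A N w ⊓ centralizer (lineGrp A N w : Set G) := ⟨hx, hx'.2⟩
  rwa [hcen, Subgroup.mem_bot] at h1

theorem tGrp_sq (e : NormalGame S A N n) {w t : G} (hw : Bad N w) (ht : t ∈ tGrp A N w) :
    t * t ∈ A ∧ (t * t = 1 → t ∈ A) := by
  obtain ⟨hAL, -, -, -, ⟨T, h, d⟩, -, -⟩ := e.lineGrp_props hw
  have hT := (e.mem_tGrp_iff d hAL ⟨t, ht.1⟩).2 ht.2
  exact ⟨mem_subgroupOf.1 (d.T_sq_mem (t := ⟨t, ht.1⟩) hT),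
    fun h1 => mem_subgroupOf.1 (d.invol_mem ⟨t, ht.1⟩ hT (Subtype.ext h1))⟩

theorem w_mem_kerK (e : NormalGame S A N n) {w : G} (hw : Bad N w) : w ∈ kerK A N w :=
  ⟨mem_cent.2 rfl, mem_centralizer_iff.2 fun _ hl => mem_cent.1 ((e.lineGrp_props hw).2.1 hl)⟩

theorem exists_off (e : NormalGame S A N n) {w : G} (hw : Bad N w) :
    ∃ P : G ⧸ N, P ∉ fixPts N w := by
  obtain ⟨g, hg⟩ := e.setup.exists_conj_notMem (w := w) (fun h1 => by simpa [h1] using hw.two)
  refine ⟨((g⁻¹ : G) : G ⧸ N), fun h => hg ?_⟩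
  simpa using mem_fixPts.1 h

/-- `K` embeds in `T`. -/
theorem kerK_embed (e : NormalGame S A N n) {w : G} (hw : Bad N w) :
    ∃ θ : kerK A N w →* lineGrp A N w, Function.Injective θ ∧
      ∀ k, (θ k : G) ∈ tGrp A N w := by
  classical
  haveI : Fact (Nat.Prime 2) := ⟨Nat.prime_two⟩
  obtain ⟨hAL, hLw, -, -, ⟨T, h, d⟩, -, -⟩ := e.lineGrp_props hw
  obtain ⟨hreg, -⟩ := e.regular_and_card hw
  obtain ⟨P, hP⟩ := e.exists_off hw
  have hmem : ∀ k : kerK A N w, (k : G) • P ∉ fixPts N w := by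
    intro k hk
    have := smul_fix_of_comm (x := (k : G)⁻¹) (mem_cent.1 (inv_mem k.2.1)) hk
    rw [inv_smul_smul] at this
    exact hP this
  choose ρ hρ hu using fun k : kerK A N w => hreg P hP _ (hmem k)
  have hρmul : ∀ k k' : kerK A N w, ρ (k * k') = ρ k' * ρ k := by
    intro k k'
    refine (hu (k * k') _ ⟨mul_mem (hρ k').1 (hρ k).1, ?_⟩).symm
    have hc : (k : G) * ρ k' = ρ k' * k := (mem_centralizer_iff.1 k.2.2 _ (hρ k').1).symm
    rw [mul_smul, (hρ k).2, ← mul_smul, ← hc, mul_smul, (hρ k').2, ← mul_smul]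
    rfl
  let θ : kerK A N w →* lineGrp A N w :=
    MonoidHom.mk' (fun k => (⟨ρ k, (hρ k).1⟩ : lineGrp A N w)⁻¹) fun k k' => by
      rw [← mul_inv_rev]
      exact congrArg Inv.inv (Subtype.ext (hρmul k k'))
  have hθ : Function.Injective θ := by
    rw [← MonoidHom.ker_eq_bot_iff, eq_bot_iff]
    intro k hk
    rw [Subgroup.mem_bot]
    have hρ1 : ρ k = 1 := congrArg Subtype.val (inv_eq_one.1 hk)
    have hkP : (k : G) • P = P := by rw [← (hρ k).2, hρ1, one_smul]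
    have hall : ∀ Q : G ⧸ N, (k : G) • Q = Q := by
      intro Q
      by_cases hQ : Q ∈ fixPts N w
      · exact e.kerK_fix hw k.2 hQ
      · obtain ⟨l, ⟨hl, rfl⟩, -⟩ := hreg P hP Q hQ
        rw [← mul_smul, ← mem_centralizer_iff.1 k.2.2 l hl, mul_smul, hkP]
    by_contra hne
    obtain ⟨g, hg⟩ := e.setup.exists_conj_notMem (w := (k : G)) fun h1 => hne (Subtype.ext h1)
    refine hg ?_
    have h1 : ∀ x : G, x⁻¹ * (k : G) * x ∈ N := fun x => mem_fixPts.1 (hall x)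
    simpa using h1 g⁻¹
  -- the image centralizes an involution
  set kw : kerK A N w := ⟨w, e.w_mem_kerK hw⟩
  set z := θ kw with hz
  have hz1 : z ≠ 1 := fun h1 => by
    have := hθ (h1.trans (map_one θ).symm)
    have h2 := hw.two
    rw [show w = 1 from congrArg Subtype.val this, orderOf_one] at h2
    omega
  have hz2 : z * z = 1 := by
    rw [hz, ← map_mul, show kw * kw = 1 from Subtype.ext (e.bad_axial hw).sq, map_one]
  have hcz : ∀ k, θ k * z = z * θ k := by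
    intro k
    rw [hz, ← map_mul, ← map_mul, show k * kw = kw * k from Subtype.ext (mem_cent.1 k.2.1)]
  obtain ⟨R, hR⟩ := (IsPGroup.of_card (n := 1) (by
    rw [Nat.card_zpowers, orderOf_eq_prime (by rw [pow_two, hz2]) hz1, pow_one]) :
      IsPGroup 2 (zpowers z)).exists_le_sylow
  obtain ⟨g, hg⟩ := MulAction.exists_smul_eq (lineGrp A N w) R T
  have hzT : g * z * g⁻¹ ∈ (T : Subgroup (lineGrp A N w)) := by
    rw [← hg]
    exact Subgroup.smul_mem_pointwise_smul _ (MulAut.conj g) _ (hR (mem_zpowers z))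
  have hzZ : g * z * g⁻¹ ∈ A.subgroupOf (lineGrp A N w) := d.invol_mem _ hzT (by
    rw [show g * z * g⁻¹ * (g * z * g⁻¹) = g * (z * z) * g⁻¹ by group, hz2, mul_one,
      mul_inv_cancel])
  have hzne : g * z * g⁻¹ ≠ 1 := fun h1 => hz1 (by
    have := congrArg (fun t => g⁻¹ * t * g) h1
    simpa [mul_assoc] using this)
  refine ⟨(MulAut.conj g).toMonoidHom.comp θ, (MulEquiv.injective (MulAut.conj g)).comp hθ, fun k => ?_⟩
  have hT : g * θ k * g⁻¹ ∈ (T : Subgroup (lineGrp A N w)) := by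
    refine (d.cent _ hzZ hzne).le (mem_centralizer_singleton_iff.2 ?_)
    calc g * θ k * g⁻¹ * (g * z * g⁻¹) = g * (θ k * z) * g⁻¹ := by group
      _ = g * (z * θ k) * g⁻¹ := by rw [hcz]
      _ = _ := by group
  exact ⟨SetLike.coe_mem _, (e.mem_tGrp_iff d hAL _).1 hT⟩

theorem tGrp_invol_central (e : NormalGame S A N n) {w a t : G} (ht : t ∈ tGrp A N w)
    (ha : a ∈ A) : a * t = t * a :=
  mem_centralizer_iff.1 ht.2 a ha

theorem kerK_invol_central (e : NormalGame S A N n) {w k x : G} (hw : Bad N w)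
    (hk : k ∈ kerK A N w) (hk2 : k * k = 1) (hx : x ∈ kerK A N w) : k * x = x * k := by
  obtain ⟨θ, hθ, hmem⟩ := e.kerK_embed hw
  have hA : (θ ⟨k, hk⟩ : G) ∈ A := (e.tGrp_sq hw (hmem _)).2 (by
    rw [← Subgroup.coe_mul, ← map_mul, show (⟨k, hk⟩ * ⟨k, hk⟩ : kerK A N w) = 1 from
      Subtype.ext hk2, map_one, Subgroup.coe_one])
  have h1 : θ (⟨k, hk⟩ * ⟨x, hx⟩) = θ (⟨x, hx⟩ * ⟨k, hk⟩) := by
    rw [map_mul, map_mul]
    exact Subtype.ext (e.tGrp_invol_central (hmem _) hA)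
  exact congrArg Subtype.val (hθ h1)

theorem mem_kInv_iff (e : NormalGame S A N n) {w k : G} (hw : Bad N w) :
    k ∈ kInv A N w ↔ k ∈ kerK A N w ∧ k * k = 1 := by
  refine ⟨fun hk => ?_, fun hk => Subgroup.subset_closure hk⟩
  induction hk using Subgroup.closure_induction with
  | mem x hx => exact hx
  | one => exact ⟨one_mem _, one_mul 1⟩
  | mul x y _ _ hx hy =>
    refine ⟨mul_mem hx.1 hy.1, ?_⟩
    calc x * y * (x * y) = x * (y * x) * y := by group
      _ = x * (x * y) * y := by rw [e.kerK_invol_central hw hy.1 hy.2 hx.1]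
      _ = (x * x) * (y * y) := by group
      _ = 1 := by rw [hx.2, hy.2, one_mul]
  | inv x _ hx => exact ⟨inv_mem hx.1, by rw [← mul_inv_rev, hx.2, inv_one]⟩

theorem kerK_two (e : NormalGame S A N n) {w : G} (hw : Bad N w) :
    IsPGroup 2 (kerK A N w) ∧ Nat.card (kerK A N w) ≤ (2 ^ n) ^ 2 ∧
      Nat.card (kInv A N w) ≤ 2 ^ n := by
  haveI : Fact (Nat.Prime 2) := ⟨Nat.prime_two⟩
  obtain ⟨θ, hθ, hmem⟩ := e.kerK_embed hw
  let f : kerK A N w →* tGrp A N w := ((lineGrp A N w).subtype.comp θ).codRestrict _ hmem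
  have hf : Function.Injective f := fun a b hab => hθ (Subtype.ext (congrArg Subtype.val hab :))
  refine ⟨?_, ?_, ?_⟩
  · have hT2 : IsPGroup 2 (tGrp A N w) :=
      IsPGroup.of_card (n := 2 * n) (by rw [e.card_tGrp hw, ← pow_mul, mul_comm])
    exact hT2.of_injective f hf
  · exact (Nat.card_le_card_of_injective f hf).trans (e.card_tGrp hw).le
  · have hmemA : ∀ k : kInv A N w,
        (θ ⟨k, ((e.mem_kInv_iff hw).1 k.2).1⟩ : G) ∈ A := fun k =>
      (e.tGrp_sq hw (hmem _)).2 (by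
        rw [← Subgroup.coe_mul, ← map_mul]
        rw [show (⟨k, ((e.mem_kInv_iff hw).1 k.2).1⟩ * ⟨k, ((e.mem_kInv_iff hw).1 k.2).1⟩ :
          kerK A N w) = 1 from Subtype.ext ((e.mem_kInv_iff hw).1 k.2).2, map_one, Subgroup.coe_one])
    rw [← e.base.card_A]
    refine Nat.card_le_card_of_injective (fun k : kInv A N w => (⟨_, hmemA k⟩ : A)) fun a b hab => ?_
    have := hθ (Subtype.ext (congrArg Subtype.val hab :))
    exact Subtype.ext (congrArg Subtype.val this :)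

theorem kerK_invol_bad (e : NormalGame S A N n) {w k : G} (hw : Bad N w)
    (hk : k ∈ kerK A N w) (hk2 : k * k = 1) (hk1 : k ≠ 1) :
    Bad N k ∧ fixPts N k = fixPts N w := by
  have hkN := e.mem_N_of_cent_A (e.kerK_le_jGrp hw hk).1
  have hsub : fixPts N w ⊆ fixPts N k := fun _ hP => e.kerK_fix hw hk hP
  obtain ⟨P, Q, hne, hP, hQ⟩ := (e.bad_axial hw).pts
  have hb : Bad N k := e.axial_bad ⟨orderOf_eq_prime (hp := ⟨Nat.prime_two⟩)
    (by rw [pow_two, hk2]) hk1, P, Q, hne, hsub hP, hsub hQ⟩ hkN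
  exact ⟨hb, (Set.eq_of_subset_of_ncard_le hsub
    (by rw [e.base.ncard_fix k hb, e.base.ncard_fix w hw]) (Set.toFinite _)).symm⟩

theorem jGrp_card_two (e : NormalGame S A N n) {w : G} (hw : Bad N w) :
    IsPGroup 2 (jGrp A w) ∧
      Nat.card (jGrp A w) = (2 ^ n) ^ 2 * Nat.card (kerK A N w) := by
  haveI : Fact (Nat.Prime 2) := ⟨Nat.prime_two⟩
  let f : tGrp A N w × kerK A N w → jGrp A w := fun p =>
    ⟨(p.1 : G) * p.2, mul_mem (e.tGrp_le_jGrp hw p.1.2) (e.kerK_le_jGrp hw p.2.2)⟩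
  have hf : Function.Bijective f := by
    refine ⟨?_, fun x => ?_⟩
    · rintro ⟨t, k⟩ ⟨t', k'⟩ hab
      have h1 : (t : G) * k = t' * k' := congrArg Subtype.val hab
      have h2 : (t' : G)⁻¹ * t = 1 := e.inf_eq_one hw (mul_mem (inv_mem t'.2.1) t.2.1) (by
        rw [show (t' : G)⁻¹ * t = k' * (k : G)⁻¹ by
          rw [eq_mul_inv_iff_mul_eq, mul_assoc, h1, inv_mul_cancel_left]]
        exact mul_mem k'.2 (inv_mem k.2))
      have h3 : (t : G) = t' := (inv_mul_eq_one.1 h2).symm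
      rw [h3] at h1
      exact Prod.ext (Subtype.ext h3) (Subtype.ext (mul_left_cancel h1))
    · obtain ⟨t, ht, k, hk, hxe⟩ := e.jGrp_decomp hw x.2
      exact ⟨(⟨t, ht⟩, ⟨k, hk⟩), Subtype.ext hxe.symm⟩
  have hcard : Nat.card (jGrp A w) = (2 ^ n) ^ 2 * Nat.card (kerK A N w) := by
    rw [← Nat.card_eq_of_bijective f hf, Nat.card_prod, e.card_tGrp hw]
  obtain ⟨j, hj⟩ := IsPGroup.iff_card.1 (e.kerK_two hw).1
  exact ⟨IsPGroup.of_card (n := 2 * n + j) (by rw [hcard, hj, pow_add, mul_comm 2 n, pow_mul]),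
    hcard⟩

theorem A_le_jGrp (e : NormalGame S A N n) {w : G} (hw : Bad N w) : A ≤ jGrp A w := fun _ ha =>
  ⟨mem_centralizer_iff.2 fun _ hb => e.setup.comm hb ha, e.bad_centralizes hw ha⟩

theorem eGrp_decomp (e : NormalGame S A N n) {w x : G} (hw : Bad N w) (hx : x ∈ eGrp A N w) :
    ∃ a ∈ A, ∃ k ∈ kInv A N w, x = a * k := by
  refine CfsgLib.Coprime.exists_mul_of_mem_sup (fun a ha => ?_) hx
  exact centralizer_le_normalizer _ (mem_centralizer_iff.2 fun k hk =>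
    (mem_centralizer_iff.1 (e.kerK_le_jGrp hw ((e.mem_kInv_iff hw).1 hk).1).1 a ha).symm)

theorem eGrp_central (e : NormalGame S A N n) {w x j : G} (hw : Bad N w) (hx : x ∈ eGrp A N w)
    (hj : j ∈ jGrp A w) : x * j = j * x := by
  obtain ⟨a, ha, k, hk, rfl⟩ := e.eGrp_decomp hw hx
  obtain ⟨t, ht, k', hk', rfl⟩ := e.jGrp_decomp hw hj
  obtain ⟨hk, hk2⟩ := (e.mem_kInv_iff hw).1 hk
  have h1 : a * (t * k') = t * k' * a := mem_centralizer_iff.1 hj.1 a ha
  have h2 : k * (t * k') = t * k' * k := by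
    rw [← mul_assoc, tGrp_commute_kerK ht hk, mul_assoc, e.kerK_invol_central hw hk hk2 hk',
      mul_assoc]
  rw [mul_assoc, h2, ← mul_assoc, h1, mul_assoc]

theorem mem_eGrp_iff (e : NormalGame S A N n) {w x : G} (hw : Bad N w) :
    x ∈ eGrp A N w ↔ x ∈ jGrp A w ∧ x * x = 1 := by
  constructor
  · intro hx
    obtain ⟨a, ha, k, hk, rfl⟩ := e.eGrp_decomp hw hx
    obtain ⟨hk, hk2⟩ := (e.mem_kInv_iff hw).1 hk
    have hc : a * k = k * a := mem_centralizer_iff.1 (e.kerK_le_jGrp hw hk).1 a ha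
    refine ⟨mul_mem (e.A_le_jGrp hw ha) (e.kerK_le_jGrp hw hk), ?_⟩
    calc a * k * (a * k) = a * (k * a) * k := by group
      _ = a * (a * k) * k := by rw [hc]
      _ = (a * a) * (k * k) := by group
      _ = 1 := by rw [e.setup.mul_self_eq_one ha, hk2, one_mul]
  · rintro ⟨hx, hx2⟩
    obtain ⟨t, ht, k, hk, rfl⟩ := e.jGrp_decomp hw hx
    have hc := tGrp_commute_kerK ht hk
    have h1 : t * t * (k * k) = 1 := by
      calc t * t * (k * k) = t * (t * k) * k := by group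
        _ = t * (k * t) * k := by rw [hc]
        _ = t * k * (t * k) := by group
        _ = 1 := hx2
    have ht2 : t * t = 1 := e.inf_eq_one hw (mul_mem ht.1 ht.1) (by
      rw [eq_inv_of_mul_eq_one_left h1]
      exact inv_mem (mul_mem hk hk))
    rw [ht2, one_mul] at h1
    exact mul_mem (mem_sup_left ((e.tGrp_sq hw ht).2 ht2))
      (mem_sup_right ((e.mem_kInv_iff hw).2 ⟨hk, h1⟩))

theorem eGrp_card (e : NormalGame S A N n) {w : G} (hw : Bad N w) :
    Nat.card (eGrp A N w) = 2 ^ n * Nat.card (kInv A N w) := by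
  let f : A × kInv A N w → eGrp A N w := fun p =>
    ⟨(p.1 : G) * p.2, mul_mem (mem_sup_left p.1.2) (mem_sup_right p.2.2)⟩
  have hf : Function.Bijective f := by
    refine ⟨?_, fun x => ?_⟩
    · rintro ⟨a, k⟩ ⟨a', k'⟩ hab
      have h1 : (a : G) * k = a' * k' := congrArg Subtype.val hab
      have hk := ((e.mem_kInv_iff hw).1 k.2).1
      have hk' := ((e.mem_kInv_iff hw).1 k'.2).1
      have hAL := (e.lineGrp_props hw).1
      have h2 : (a' : G)⁻¹ * a = 1 :=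
        e.inf_eq_one hw (mul_mem (inv_mem (hAL a'.2)) (hAL a.2)) (by
          rw [show (a' : G)⁻¹ * a = k' * (k : G)⁻¹ by
            rw [eq_mul_inv_iff_mul_eq, mul_assoc, h1, inv_mul_cancel_left]]
          exact mul_mem hk' (inv_mem hk))
      have h3 : (a : G) = a' := (inv_mul_eq_one.1 h2).symm
      rw [h3] at h1
      exact Prod.ext (Subtype.ext h3) (Subtype.ext (mul_left_cancel h1))
    · obtain ⟨a, ha, k, hk, hxe⟩ := e.eGrp_decomp hw x.2
      exact ⟨(⟨a, ha⟩, ⟨k, hk⟩), Subtype.ext hxe.symm⟩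
  rw [← Nat.card_eq_of_bijective f hf, Nat.card_prod, e.base.card_A]

theorem eGrp_bad (e : NormalGame S A N n) {w x : G} (hw : Bad N w) (hx : x ∈ eGrp A N w)
    (hxA : x ∉ A) : Bad N x := by
  obtain ⟨a, ha, k, hk, rfl⟩ := e.eGrp_decomp hw hx
  obtain ⟨hk, hk2⟩ := (e.mem_kInv_iff hw).1 hk
  have hk1 : k ≠ 1 := fun h => hxA (by rw [h, mul_one]; exact ha)
  have hb := (e.kerK_invol_bad hw hk hk2 hk1).1
  rw [mem_centralizer_iff.1 (e.kerK_le_jGrp hw hk).1 a ha]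
  exact e.base.star k hb (e.bad_centralizes hb) a ha

/-! ### Labels -/

theorem lbl_exists (e : NormalGame S A N n) {w v : G} (hw : Bad N w) (hv : Bad N v)
    (hvw : v * w = w * v) : ∃ y ∈ A, fixPts N v = fixPts N (w * y) := by
  by_cases heq : fixPts N v = fixPts N w
  · exact ⟨1, one_mem _, by rw [mul_one]; exact heq⟩
  obtain ⟨P, hPv, hPw⟩ : ∃ P ∈ fixPts N v, P ∉ fixPts N w := by
    by_contra hcon
    push Not at hcon
    exact heq (Set.eq_of_subset_of_ncard_le hcon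
      (by rw [e.base.ncard_fix v hv, e.base.ncard_fix w hw]) (Set.toFinite _))
  obtain ⟨R, hR, y, hy, -, hPy⟩ := e.through hw hPw
  have hwa := e.bad_axial hw
  have hva := e.bad_axial hv
  have hcy : y * w = w * y := mem_cent.1 (e.centralizes_at hwa hR hy)
  have hne : P ≠ w • P := fun h => hPw h.symm
  have heq' : fixPts N v = fixPts N (w * y) :=
    e.axial_lines hva (e.axial_star hwa hR hy) hne hPv (smul_fix_of_comm hvw.symm hPv) hPy
      (smul_fix_of_comm (by rw [mul_assoc w y w, hcy]) hPy)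
  have hRv : R ∈ fixPts N v := heq' ▸ fix_mul hR (e.ptA_fix hy)
  have hR1 : R = ((1 : G) : G ⧸ N) := by
    by_contra hne'
    exact heq (e.lines hv hw hne' hRv hR)
  rw [hR1, e.ptA_base] at hy
  exact ⟨y, hy, heq'⟩

theorem lbl_inj (e : NormalGame S A N n) {w y y' : G} (hw : Bad N w) (hy : y ∈ A) (hy' : y' ∈ A)
    (h : fixPts N (w * y) = fixPts N (w * y')) : y = y' := by
  have hc := e.bad_centralizes hw
  have hb := e.base.star w hw hc y hy
  obtain ⟨-, -, g, hg, hgy⟩ := e.setup.bad_iff.1 hb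
  have hR : (g : G ⧸ N) ∈ fixPts N (w * y) := mem_fixPts.2 hgy
  have h1 : (g : G ⧸ N) ∈ fixPts N (w * y * (w * y')) := fix_mul hR (h ▸ hR)
  rw [← mul_assoc, mul_assoc w y w, mem_cent.1 (hc hy), ← mul_assoc, (e.bad_axial hw).sq,
    one_mul] at h1
  by_contra hne
  have hyy : y * y' ≠ 1 := fun h2 => hne
    ((eq_inv_of_mul_eq_one_left h2).trans (inv_eq_of_mul_eq_one_right (e.setup.mul_self_eq_one hy')))
  exact hg (coe_eq_base.1 (e.eq_of_ptA_fix (by rw [e.ptA_base]; exact mul_mem hy hy') hyy h1))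

theorem lbl_linear (e : NormalGame S A N n) {w h : G} (hw : Bad N w) (hhL : h ∈ lineGrp A N w)
    (hhN : h ∈ N)
    (htr : ∀ a ∈ A, a ≠ 1 → ∀ b ∈ A, b ≠ 1 → ∃ k : ℕ, h ^ k * a * (h ^ k)⁻¹ = b)
    {k : G} (hk : k ∈ kInv A N w) (hk1 : k ≠ 1) :
    ∃ m : ℕ, ∀ a ∈ A, fixPts N (k * a) = fixPts N (w * (h ^ m * a * (h ^ m)⁻¹)) := by
  obtain ⟨hkK, hk2⟩ := (e.mem_kInv_iff hw).1 hk
  obtain ⟨hkb, hkfix⟩ := e.kerK_invol_bad hw hkK hk2 hk1
  have hwc := e.bad_centralizes hw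
  have hkc := e.bad_centralizes hkb
  have hcomm : ∀ a ∈ A, k * a * w = w * (k * a) := by
    intro a ha
    rw [mul_assoc, mem_cent.1 (hwc ha), ← mul_assoc, mem_cent.1 hkK.1, mul_assoc]
  choose f hfA hf using fun a : A =>
    e.lbl_exists hw (e.base.star k hkb hkc a a.2) (hcomm a a.2)
  have hhw : h * w = w * h := mem_cent.1 ((e.lineGrp_props hw).2.1 hhL)
  have hhk : h * k = k * h := mem_centralizer_iff.1 hkK.2 h hhL
  have hequiv : ∀ (j : ℕ) (a : A), f ⟨h ^ j * a * (h ^ j)⁻¹, e.conj_mem_A (pow_mem hhN j) a.2⟩ =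
      h ^ j * f a * (h ^ j)⁻¹ := by
    intro j a
    refine e.lbl_inj hw (hfA _) (e.conj_mem_A (pow_mem hhN j) (hfA a)) ((hf _).symm.trans ?_)
    have hj1 : h ^ j * k = k * h ^ j := (show Commute h k from hhk).pow_left j
    have hj2 : h ^ j * w = w * h ^ j := (show Commute h w from hhw).pow_left j
    show fixPts N (k * (h ^ j * a * (h ^ j)⁻¹)) = fixPts N (w * (h ^ j * f a * (h ^ j)⁻¹))
    rw [show k * (h ^ j * a * (h ^ j)⁻¹) = k * h ^ j * a * (h ^ j)⁻¹ by group, ← hj1,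
      show h ^ j * k * a * (h ^ j)⁻¹ = h ^ j * (k * a) * (h ^ j)⁻¹ by group,
      show w * (h ^ j * f a * (h ^ j)⁻¹) = w * h ^ j * f a * (h ^ j)⁻¹ by group, ← hj2,
      show h ^ j * w * f a * (h ^ j)⁻¹ = h ^ j * (w * f a) * (h ^ j)⁻¹ by group,
      fixPts_conj, fixPts_conj (h ^ j) (w * f a), hf a]
  obtain ⟨a₁, ha₁, ha₁1⟩ := e.exists_ne_one ((1 : G) : G ⧸ N)
  rw [e.ptA_base] at ha₁
  have hfne : f ⟨a₁, ha₁⟩ ≠ 1 := by
    intro h1
    have h2 := hf ⟨a₁, ha₁⟩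
    rw [h1, mul_one, ← hkfix] at h2
    obtain ⟨-, -, g, hg, hgk⟩ := e.setup.bad_iff.1 hkb
    have hR : (g : G ⧸ N) ∈ fixPts N k := mem_fixPts.2 hgk
    have h3 : (g : G ⧸ N) ∈ fixPts N (k * (k * a₁)) := fix_mul hR (h2.symm ▸ hR)
    rw [← mul_assoc, hk2, one_mul] at h3
    exact hg (coe_eq_base.1 (e.eq_of_ptA_fix (by rw [e.ptA_base]; exact ha₁) ha₁1 h3))
  obtain ⟨m, hm⟩ := htr a₁ ha₁ ha₁1 _ (hfA ⟨a₁, ha₁⟩) hfne
  refine ⟨m, fun a ha => ?_⟩
  rcases eq_or_ne a 1 with rfl | ha1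
  · rw [mul_one, mul_one, mul_inv_cancel, mul_one]
    exact hkfix
  obtain ⟨j, hj⟩ := htr a₁ ha₁ ha₁1 a ha ha1
  refine (hf ⟨a, ha⟩).trans (congrArg (fun t => fixPts N (w * t)) ?_)
  have h1 := hequiv j ⟨a₁, ha₁⟩
  simp only [hj] at h1
  rw [h1, ← hm, ← hj]
  group

theorem affine (e : NormalGame S A N n) {w h : G} (hw : Bad N w) (hhL : h ∈ lineGrp A N w)
    (hhN : h ∈ N)
    (htr : ∀ a ∈ A, a ≠ 1 → ∀ b ∈ A, b ≠ 1 → ∃ k : ℕ, h ^ k * a * (h ^ k)⁻¹ = b)
    {g : G} (hg : g ∈ N) (hgw : g * w * g⁻¹ ∈ eGrp A N w) :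
    ∃ c ∈ A, ∃ m : ℕ, ∀ y ∈ A, fixPts N (g * (w * y) * g⁻¹) =
      fixPts N (w * (h ^ m * (c * (g * y * g⁻¹)) * (h ^ m)⁻¹)) := by
  obtain ⟨c, hc, k, hk, hck⟩ := e.eGrp_decomp hw hgw
  have hk1 : k ≠ 1 := by
    rintro rfl
    rw [mul_one] at hck
    exact e.setup.not_bad_of_mem_A hc (hck ▸ hw.conj hg)
  obtain ⟨m, hm⟩ := e.lbl_linear hw hhL hhN htr hk hk1
  refine ⟨c, hc, m, fun y hy => ?_⟩
  rw [← hm _ (mul_mem hc (e.conj_mem_A hg hy))]
  congr 1
  rw [show g * (w * y) * g⁻¹ = g * w * g⁻¹ * (g * y * g⁻¹) by group, hck, ← mul_assoc,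
    mem_centralizer_iff.1 (e.kerK_le_jGrp hw ((e.mem_kInv_iff hw).1 hk).1).1 c hc]
  group

/-- The data of the line of a bad involution. -/
theorem exists_lineData (e : NormalGame S A N n) {w : G} (hw : Bad N w) :
    ∃ h, LineData A N n w h := by
  obtain ⟨hAL, hLw, hnorm, hcen, ⟨T, h₀, d⟩, hgen, horb⟩ := e.lineGrp_props hw
  have hhN : (h₀ : G) ∈ N := by
    refine e.eq_norm.ge (mem_normalizer_fintype fun a ha => ?_)
    have := (mem_normalizer_iff.1 (d.norm_Z.symm ▸ d.h_mem) ⟨a, hAL ha⟩).1 (mem_subgroupOf.2 ha)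
    exact mem_subgroupOf.1 this
  have htr : ∀ a ∈ A, a ≠ 1 → ∀ b ∈ A, b ≠ 1 →
      ∃ k : ℕ, (h₀ : G) ^ k * a * ((h₀ : G) ^ k)⁻¹ = b := by
    intro a ha ha1 b hb hb1
    obtain ⟨k, hk⟩ := d.trans ⟨a, hAL ha⟩ (mem_subgroupOf.2 ha) ⟨b, hAL hb⟩ (mem_subgroupOf.2 hb)
      (fun h => ha1 (congrArg Subtype.val h)) (fun h => hb1 (congrArg Subtype.val h))
    exact ⟨k, by simpa using congrArg Subtype.val hk⟩
  obtain ⟨hreg, hn0⟩ := e.regular_and_card hw
  obtain ⟨hK2, hKcard, hK1card⟩ := e.kerK_two hw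
  obtain ⟨hJ2, hJcard⟩ := e.jGrp_card_two hw
  refine ⟨h₀,
    { bad := hw
      A_le := hAL
      le_cent := hLw
      cent_le_normalizer := hnorm
      sz := ⟨T, h₀, d⟩
      center_eq := hcen
      gen := fun l hl hlN => hgen l (hLw hl) hlN
      orbit := horb
      invariant := fun x hx P hP => smul_fix_of_comm (mem_cent.1 hx) hP
      regular := hreg
      card_points := hn0
      through := fun P hP => e.through hw hP
      through_unique := fun P hP R hR R' hR' y hy y' hy' h1 h2 =>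
        e.through_unique hw hP hR hR' hy hy' h1 h2
      h_mem := h₀.2
      h_mem_N := hhN
      h_order := by rw [Subgroup.orderOf_coe]; exact d.h_order
      h_fpf := fun k hk a ha hc => by
        have := d.h_fpf k (fun h1 => hk (by simpa using congrArg Subtype.val h1)) ⟨a, hAL ha⟩
          (d.Z_le (mem_subgroupOf.2 ha)) (Subtype.ext (by simpa using hc))
        exact congrArg Subtype.val this
      h_trans := htr
      T_two := IsPGroup.of_card (n := 2 * n) (by rw [e.card_tGrp hw, ← pow_mul, mul_comm])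
      T_card := e.card_tGrp hw
      T_invol := fun t ht => (e.tGrp_sq hw ht).2
      T_sq := fun t ht => (e.tGrp_sq hw ht).1
      T_le_J := e.tGrp_le_jGrp hw
      T_conj_h := ?_
      K_two := hK2
      K_card_le := hKcard
      K_le_J := e.kerK_le_jGrp hw
      w_mem_K := e.w_mem_kerK hw
      K_fix := fun k hk P hP => e.kerK_fix hw hk hP
      K_comm_L := fun k hk l hl => (mem_centralizer_iff.1 hk.2 l hl).symm
      K_invol_central := fun k hk hk2 x hx => e.kerK_invol_central hw hk hk2 hx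
      mem_kInv := fun k => e.mem_kInv_iff hw
      kInv_card_le := hK1card
      K_invol := fun k hk hk2 hk1 => e.kerK_invol_bad hw hk hk2 hk1
      J_two := hJ2
      J_decomp := fun x hx => e.jGrp_decomp hw hx
      J_card := hJcard
      mem_E := fun x => e.mem_eGrp_iff hw
      E_decomp := fun x hx => e.eGrp_decomp hw hx
      E_card := e.eGrp_card hw
      E_central := fun x hx j hj => e.eGrp_central hw hx hj
      E_bad := fun x hx hxA => e.eGrp_bad hw hx hxA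
      lbl_exists := fun v hv hvw => e.lbl_exists hw hv hvw
      lbl_inj := fun y hy y' hy' h1 => e.lbl_inj hw hy hy' h1
      lbl_linear := fun k hk hk1 => e.lbl_linear hw h₀.2 hhN htr hk hk1
      affine := fun g hg hgw => e.affine hw h₀.2 hhN htr hg hgw }⟩
  refine mem_normalizer_fintype ?_
  rintro t ⟨htL, htA⟩
  refine ⟨(lineGrp A N w).mul_mem ((lineGrp A N w).mul_mem h₀.2 htL)
    ((lineGrp A N w).inv_mem h₀.2), mem_centralizer_iff.2 fun a ha => ?_⟩
  have ha' : (h₀ : G)⁻¹ * a * h₀ ∈ A := by simpa using e.conj_mem_A (inv_mem hhN) ha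
  have hc := mem_centralizer_iff.1 htA _ ha'
  calc a * (h₀ * t * (h₀ : G)⁻¹) = h₀ * ((h₀ : G)⁻¹ * a * h₀ * t) * (h₀ : G)⁻¹ := by group
    _ = h₀ * (t * ((h₀ : G)⁻¹ * a * h₀)) * (h₀ : G)⁻¹ := by rw [hc]
    _ = _ := by group

end NormalGame

end CfsgLib.ThreeFree
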