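import Cfsg.Agent.Lib.ThreeFree.LineKer
import Cfsg.Agent.Lib.OddOrder.PuigSeries

/-!
2-subgroups of `N` fixing a second point; the bound on 2-subgroups of `N`; a maximal line and the two
shapes of a Sylow 2-subgroup of `C(A)`.
-/

set_option autoImplicit false
set_option linter.style.haveILetI false
set_option linter.unusedSectionVars false

namespace CfsgLib.ThreeFree

open Subgroup

universe u

variable {G : Type u} [Group G] [Finite G] {S : Sylow 2 G} {A N : Subgroup G} {n : ℕ}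

namespace NormalGame

/-- A 2-element of `N ∩ C(w)` fixing a second point of the line of `w` lies in the kernel. -/
theorem mem_kerK_of_fix (e : NormalGame S A N n) {w x : G} {R : G ⧸ N} (hw : Bad N w)
    (hxN : x ∈ N) (hxw : x ∈ cent w) (hx2 : ∃ j : ℕ, x ^ 2 ^ j = 1)
    (hR : R ∈ fixPts N w) (hR1 : R ≠ ((1 : G) : G ⧸ N)) (hxR : x • R = R) :
    x ∈ kerK A N w := by
  classical
  haveI : Fact (Nat.Prime 2) := ⟨Nat.prime_two⟩
  obtain ⟨hAL, hLw, hn, hcen, ⟨T, h, d⟩, -, horb⟩ := e.lineGrp_props hw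
  obtain ⟨l, hl, rfl⟩ := horb R hR
  have hlN : l ∉ N := fun h1 => hR1 (coe_eq_base.2 h1)
  have hxn := hn hxw
  let α : MulAut (lineGrp A N w) :=
    { toFun := fun y => ⟨x * y * x⁻¹, (mem_normalizer_iff.1 hxn _).1 y.2⟩
      invFun := fun y => ⟨x⁻¹ * y * x, by
        have := (mem_normalizer_iff.1 (inv_mem hxn) _).1 y.2
        rwa [inv_inv] at this⟩
      left_inv := fun y => Subtype.ext (by simp [mul_assoc])
      right_inv := fun y => Subtype.ext (by simp [mul_assoc])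
      map_mul' := fun a b => Subtype.ext (by simp [mul_assoc]) }
  obtain ⟨j, hj⟩ := hx2
  have hpow : ∀ (m : ℕ) (y : lineGrp A N w), ((α ^ m) y : G) = x ^ m * y * (x ^ m)⁻¹ := by
    intro m
    induction m with
    | zero => intro y; simp
    | succ m ih =>
      intro y
      rw [pow_succ, MulAut.mul_apply, ih]
      show x ^ m * (x * y * x⁻¹) * (x ^ m)⁻¹ = _
      rw [pow_succ]
      group
  obtain ⟨q₀, hq₀⟩ := d.aut_two α ⟨j, MulEquiv.ext fun y => Subtype.ext (by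
    rw [hpow, hj]
    simp)⟩
  have happ : ∀ y : lineGrp A N w, x * y * x⁻¹ = q₀ * y * (q₀ : G)⁻¹ := fun y =>
    congrArg Subtype.val (DFunLike.congr_fun hq₀ y)
  have hq2 : q₀ ^ 2 ^ j = 1 := by
    have h1 : α ^ 2 ^ j = MulAut.conj (q₀ ^ 2 ^ j) := by rw [map_pow, hq₀]
    have h2 : ((q₀ ^ 2 ^ j : lineGrp A N w) : G) ∈
        lineGrp A N w ⊓ centralizer (lineGrp A N w : Set G) := by
      refine Subgroup.mem_inf.2 ⟨SetLike.coe_mem _, mem_centralizer_iff.2 fun y hy => ?_⟩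
      have h3 := congrArg Subtype.val (DFunLike.congr_fun h1 ⟨y, hy⟩)
      rw [hpow, hj, inv_one, mul_one, one_mul] at h3
      have h4 : y = ((q₀ ^ 2 ^ j : lineGrp A N w) : G) * y *
          ((q₀ ^ 2 ^ j : lineGrp A N w) : G)⁻¹ := h3
      exact (mul_inv_eq_iff_eq_mul.1 h4.symm).symm
    rw [hcen, Subgroup.mem_bot] at h2
    exact Subtype.ext h2
  -- `q₀` normalizes the two copies of `A`
  have hqN : q₀ ∈ normalizer ((T : Subgroup (lineGrp A N w)) : Set (lineGrp A N w)) := by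
    rw [← d.norm_Z]
    refine mem_normalizer_fintype fun a ha => ?_
    refine mem_subgroupOf.2 ?_
    show (q₀ : G) * a * (q₀ : G)⁻¹ ∈ A
    rw [← happ]
    exact e.conj_mem_A hxN (mem_subgroupOf.1 ha)
  have hxl : l⁻¹ * x * l ∈ N := mem_fixPts.1 (show (l : G ⧸ N) ∈ fixPts N x from hxR)
  set l' : lineGrp A N w := ⟨l, hl⟩ with hl'
  have hqN' : l'⁻¹ * q₀ * l' ∈ normalizer ((T : Subgroup (lineGrp A N w)) : Set (lineGrp A N w)) := by
    rw [← d.norm_Z]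
    refine mem_normalizer_fintype fun a ha => ?_
    refine mem_subgroupOf.2 ?_
    show l⁻¹ * q₀ * l * (a : G) * (l⁻¹ * q₀ * l)⁻¹ ∈ A
    have h2 : (q₀ : G) * (l * a * l⁻¹) * (q₀ : G)⁻¹ = x * (l * a * l⁻¹) * x⁻¹ :=
      (happ (l' * a * l'⁻¹)).symm
    rw [show l⁻¹ * (q₀ : G) * l * (a : G) * (l⁻¹ * q₀ * l)⁻¹ =
      l⁻¹ * ((q₀ : G) * (l * a * l⁻¹) * (q₀ : G)⁻¹) * l by group, h2,
      show l⁻¹ * (x * (l * a * l⁻¹) * x⁻¹) * l = l⁻¹ * x * l * a * (l⁻¹ * x * l)⁻¹ by group]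
    exact e.conj_mem_A hxl (mem_subgroupOf.1 ha)
  have hinT : ∀ q : lineGrp A N w,
      q ∈ normalizer ((T : Subgroup (lineGrp A N w)) : Set (lineGrp A N w)) → q ^ 2 ^ j = 1 →
      q ∈ (T : Subgroup (lineGrp A N w)) := by
    intro q hq hqj
    obtain ⟨i, -, hi⟩ := (Nat.dvd_prime_pow Nat.prime_two).1 (orderOf_dvd_of_pow_eq_one hqj)
    have h2 : IsPGroup 2 (zpowers q) := IsPGroup.of_card (n := i) (by rw [Nat.card_zpowers, hi])
    have h3 := IsPGroup.to_sup_of_normal_right' h2 T.2 (zpowers_le.2 hq)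
    exact (T.is_maximal' h3 le_sup_right) ▸ mem_sup_left (mem_zpowers q)
  have hlT : l' ∉ normalizer ((T : Subgroup (lineGrp A N w)) : Set (lineGrp A N w)) := by
    intro h1
    refine hlN (e.eq_norm.ge (mem_normalizer_fintype fun a ha => ?_))
    rw [← d.norm_Z] at h1
    exact mem_subgroupOf.1
      ((mem_normalizer_iff.1 h1 ⟨a, hAL ha⟩).1 (mem_subgroupOf.2 ha))
  have hq1 : q₀ = 1 := d.ti l' hlT q₀ (hinT q₀ hqN hq2) (hinT _ hqN' (by
    rw [show l'⁻¹ * q₀ * l' = l'⁻¹ * q₀ * l'⁻¹⁻¹ by rw [inv_inv], conj_pow, hq2]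
    group))
  refine Subgroup.mem_inf.2 ⟨hxw, mem_centralizer_iff.2 fun y hy => ?_⟩
  have h1 := happ ⟨y, hy⟩
  rw [hq1, Subgroup.coe_one, one_mul, inv_one, mul_one] at h1
  exact (mul_inv_eq_iff_eq_mul.1 h1).symm

/-- A 2-subgroup of `N` fixing a second point acts trivially on a line through `N`. -/
theorem two_group_fix (e : NormalGame S A N n) {Q : Subgroup G} {R : G ⧸ N}
    (hQ : IsPGroup 2 Q) (hQ1 : Q ≠ ⊥) (hQN : Q ≤ N) (hR : R ≠ ((1 : G) : G ⧸ N))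
    (hfix : ∀ x ∈ Q, x • R = R) :
    ∃ v, Bad N v ∧ R ∈ fixPts N v ∧ Q ≤ kerK A N v := by
  haveI : Fact (Nat.Prime 2) := ⟨Nat.prime_two⟩
  haveI : Nontrivial Q := (Subgroup.nontrivial_iff_ne_bot _).2 hQ1
  haveI := hQ.center_nontrivial
  obtain ⟨j, hj, hcard⟩ := (hQ.to_subgroup (center Q)).nontrivial_iff_card.1 inferInstance
  obtain ⟨c, hc⟩ := exists_prime_orderOf_dvd_card' 2 (hcard ▸ dvd_pow_self 2 hj.ne')
  set v : G := ((c : Q) : G) with hv
  have hv2 : orderOf v = 2 := by rw [hv, Subgroup.orderOf_coe, Subgroup.orderOf_coe, hc]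
  have hRv : R ∈ fixPts N v := hfix v (c : Q).2
  have hb : Bad N v := e.axial_bad
    ⟨hv2, R, _, hR, hRv, base_mem_fixPts.2 (hQN (c : Q).2)⟩ (hQN (c : Q).2)
  refine ⟨v, hb, hRv, fun x hx => e.mem_kerK_of_fix hb (hQN hx) ?_ ?_ hRv hR (hfix x hx)⟩
  · exact mem_cent.2 (congrArg Subtype.val (mem_center_iff.1 c.2 ⟨x, hx⟩))
  · obtain ⟨i, hi⟩ := hQ ⟨x, hx⟩
    exact ⟨i, congrArg Subtype.val hi⟩

/-- The bound on 2-subgroups of `N`. -/
theorem two_group_bound (e : NormalGame S A N n) {Q : Subgroup G} (hQ : IsPGroup 2 Q)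
    (hQN : Q ≤ N) {w : G} (hw : Bad N w)
    (hmax : ∀ v, Bad N v → Nat.card (kerK A N v) ≤ Nat.card (kerK A N w)) :
    Nat.card Q ≤ (2 ^ n) ^ 3 * Nat.card (kerK A N w) := by
  classical
  haveI : Fact (Nat.Prime 2) := ⟨Nat.prime_two⟩
  obtain ⟨-, hn0⟩ := e.regular_and_card hw
  have hfix : ∀ x : Q, x • ((1 : G) : G ⧸ N) = ((1 : G) : G ⧸ N) := fun x =>
    (smul_base (x : G)).trans (coe_eq_base.2 (hQN x.2))
  let Ω := {P : G ⧸ N // P ≠ ((1 : G) : G ⧸ N)}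
  letI : MulAction Q Ω :=
    { smul := fun x P => ⟨(x : G) • P.1, fun h1 =>
        P.2 (MulAction.injective (x : G) (h1.trans (hfix x).symm))⟩
      one_smul := fun P => Subtype.ext (one_smul G P.1)
      mul_smul := fun x y P => Subtype.ext (mul_smul (x : G) (y : G) P.1) }
  have hΩ : Nat.card Ω + 1 = Nat.card (G ⧸ N) := by
    haveI : Fintype (G ⧸ N) := Fintype.ofFinite _
    rw [Nat.card_eq_fintype_card, Nat.card_eq_fintype_card, Fintype.card_subtype_compl,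
      Fintype.card_subtype_eq]
    have : 0 < Fintype.card (G ⧸ N) := Fintype.card_pos
    omega
  -- an orbit whose size divides `q ^ 3`
  obtain ⟨P, hP⟩ : ∃ P : Ω, Nat.card (MulAction.orbit Q P) ∣ (2 ^ n) ^ 3 := by
    by_contra hcon
    push Not at hcon
    have hdiv : ∀ P : Ω, 2 ^ (3 * n + 1) ∣ Nat.card (MulAction.orbit Q P) := by
      intro P
      obtain ⟨k, hk⟩ := hQ.card_orbit P
      rw [hk]
      refine Nat.pow_dvd_pow 2 ?_
      by_contra hle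
      exact hcon P (by rw [hk, ← pow_mul]; exact Nat.pow_dvd_pow 2 (by rw [mul_comm n 3]; omega))
    haveI : Fintype Ω := Fintype.ofFinite _
    have hsum : 2 ^ (3 * n + 1) ∣ Nat.card Ω := by
      rw [Nat.card_congr (MulAction.selfEquivSigmaOrbits Q Ω), Nat.card_sigma]
      refine Finset.dvd_sum fun ω _ => ?_
      exact hdiv _
    obtain ⟨c, hc⟩ := hsum
    obtain ⟨m, hm⟩ : ∃ m, n = m + 1 := ⟨n - 1, by have := e.base.three_le; omega⟩
    have hq : 2 ^ (3 * n + 1) = (2 ^ n) ^ 3 * 2 := by rw [pow_succ, ← pow_mul, mul_comm 3 n]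
    have h1 : (2 ^ n) ^ 3 * (2 * c) + (2 ^ n) ^ 4 = (2 ^ n) ^ 5 + (2 ^ n) ^ 3 := by
      rw [← mul_assoc, ← hq]
      omega
    have h2 : 2 * c + 2 ^ n = (2 ^ n) ^ 2 + 1 := by
      refine Nat.eq_of_mul_eq_mul_left (show 0 < (2 ^ n) ^ 3 by positivity) ?_
      calc (2 ^ n) ^ 3 * (2 * c + 2 ^ n) = (2 ^ n) ^ 3 * (2 * c) + (2 ^ n) ^ 4 := by ring
        _ = (2 ^ n) ^ 5 + (2 ^ n) ^ 3 := h1
        _ = _ := by ring
    rw [hm, pow_succ 2 m] at h2
    have h3 : (2 ^ m * 2) ^ 2 = 2 * (2 * (2 ^ m) ^ 2) := by ring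
    rw [h3] at h2
    omega
  -- its stabilizer
  have hstab : Nat.card (MulAction.stabilizer Q P) ≤ Nat.card (kerK A N w) := by
    set R := (MulAction.stabilizer Q P).map Q.subtype with hR
    have hcard : Nat.card R = Nat.card (MulAction.stabilizer Q P) :=
      Subgroup.card_map_of_injective Q.subtype_injective
    rw [← hcard]
    rcases eq_or_ne R ⊥ with h1 | h1
    · rw [h1, Subgroup.card_bot]
      exact Nat.card_pos
    · obtain ⟨v, hv, -, hle⟩ := e.two_group_fix ((hQ.to_subgroup _).map Q.subtype) h1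
        ((map_subtype_le _).trans hQN) P.2 (by
          rintro _ ⟨x, hx, rfl⟩
          exact congrArg Subtype.val hx)
      exact (Subgroup.card_le_of_le hle).trans (hmax v hv)
  rw [← Subgroup.card_mul_index (MulAction.stabilizer Q P),
    MulAction.index_stabilizer, mul_comm]
  refine Nat.mul_le_mul ?_ hstab
  rw [← Nat.card_coe_set_eq]
  exact Nat.le_of_dvd (by positivity) hP

theorem mem_t1Grp_iff (e : NormalGame S A N n) {w : G} (hw : Bad N w) {x : G} :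
    x ∈ t1Grp A w ↔ x ∈ centralizer (A : Set G) ∧ w⁻¹ * (x * w * x⁻¹) ∈ A := by
  have hwA : w ∈ centralizer (A : Set G) :=
    mem_centralizer_iff.2 fun a ha => mem_cent.1 (e.bad_centralizes hw ha)
  have hM : ∀ z, z ∈ A ⊔ zpowers w ↔ ∃ a ∈ A, z = a ∨ z = w * a := by
    intro z
    constructor
    · intro hz
      have hn : A ≤ normalizer ((zpowers w : Subgroup G) : Set G) := fun a ha =>
        centralizer_le_normalizer _ (mem_centralizer_iff.2 fun c hc => by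
          obtain ⟨i, rfl⟩ := mem_zpowers_iff.1 hc
          exact ((show Commute a w from mem_centralizer_iff.1 hwA a ha).zpow_right i).eq.symm)
      obtain ⟨a, ha, c, hc, rfl⟩ := CfsgLib.Coprime.exists_mul_of_mem_sup hn hz
      obtain ⟨i, rfl⟩ := mem_zpowers_iff.1 hc
      refine ⟨a, ha, ?_⟩
      rcases Int.even_or_odd i with ⟨k, rfl⟩ | ⟨k, rfl⟩
      · left
        rw [← two_mul, zpow_mul, zpow_two, (e.bad_axial hw).sq, one_zpow, mul_one]
      · right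
        rw [zpow_add_one, zpow_mul, zpow_two, (e.bad_axial hw).sq, one_zpow, one_mul]
        exact mem_centralizer_iff.1 hwA a ha
    · rintro ⟨a, ha, rfl | rfl⟩
      · exact mem_sup_left ha
      · exact mul_mem (mem_sup_right (mem_zpowers w)) (mem_sup_left ha)
  constructor
  · rintro ⟨hxA, hxn⟩
    refine ⟨hxA, ?_⟩
    obtain ⟨a, ha, he | he⟩ := (hM _).1
      ((mem_normalizer_iff.1 hxn w).1 (mem_sup_right (mem_zpowers w)))
    · exfalso
      refine e.setup.not_bad_of_mem_A ha ?_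
      have hca : a * x = x * a := mem_centralizer_iff.1 hxA a ha
      have : w = a := by
        calc w = x⁻¹ * (x * w * x⁻¹) * x := by group
          _ = x⁻¹ * (a * x) := by rw [he]; group
          _ = a := by rw [hca]; group
      exact this ▸ hw
    · rw [he, inv_mul_cancel_left]
      exact ha
  · rintro ⟨hxA, ha⟩
    refine ⟨hxA, mem_normalizer_fintype fun z hz => ?_⟩
    obtain ⟨b, hb, rfl | rfl⟩ := (hM z).1 hz
    · rw [← mem_centralizer_iff.1 hxA z hb, mul_inv_cancel_right]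
      exact mem_sup_left hb
    · refine (hM _).2 ⟨w⁻¹ * (x * w * x⁻¹) * b, mul_mem ha hb, Or.inr ?_⟩
      calc x * (w * b) * x⁻¹ = x * w * x⁻¹ * (x * b) * x⁻¹ := by group
        _ = x * w * x⁻¹ * (b * x) * x⁻¹ := by rw [mem_centralizer_iff.1 hxA b hb]
        _ = _ := by group

/-- The second shape of a Sylow 2-subgroup of `C(A)`. -/
theorem t1_shape (e : NormalGame S A N n) {v : G} (hv : Bad N v)
    (hmax : ∀ u, Bad N u → Nat.card (kerK A N u) ≤ Nat.card (kerK A N v))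
    {x₀ : G} (hx₀ : x₀ ∈ t1Grp A v) (hx₀J : x₀ ∉ jGrp A v) :
    IsPGroup 2 (t1Grp A v) ∧
      Nat.card (t1Grp A v) = 2 ^ n * Nat.card (jGrp A v) ∧
      (∀ a ∈ A, ∃ x ∈ t1Grp A v, x * v * x⁻¹ = v * a) ∧
      ∀ Q : Subgroup G, IsPGroup 2 Q → Q ≤ centralizer (A : Set G) → t1Grp A v ≤ Q →
        Q = t1Grp A v := by
  classical
  haveI : Fact (Nat.Prime 2) := ⟨Nat.prime_two⟩
  obtain ⟨h, ld⟩ := e.exists_lineData hv
  have hmem := fun x => e.mem_t1Grp_iff hv (x := x)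
  let φ : t1Grp A v →* A :=
    MonoidHom.mk' (fun x => ⟨v⁻¹ * ((x : G) * v * (x : G)⁻¹), ((hmem _).1 x.2).2⟩) fun x y => by
      refine Subtype.ext ?_
      show v⁻¹ * ((x : G) * y * v * ((x : G) * y)⁻¹) =
        v⁻¹ * ((x : G) * v * (x : G)⁻¹) * (v⁻¹ * ((y : G) * v * (y : G)⁻¹))
      have hc : (v⁻¹ * ((y : G) * v * (y : G)⁻¹)) * x = x * (v⁻¹ * ((y : G) * v * (y : G)⁻¹)) :=
        mem_centralizer_iff.1 ((hmem _).1 x.2).1 _ ((hmem _).1 y.2).2
      calc v⁻¹ * ((x : G) * y * v * ((x : G) * y)⁻¹)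
          = v⁻¹ * ((x : G) * v * ((v⁻¹ * ((y : G) * v * (y : G)⁻¹)) * (x : G)⁻¹)) := by group
        _ = v⁻¹ * ((x : G) * v * ((x : G)⁻¹ * (v⁻¹ * ((y : G) * v * (y : G)⁻¹)))) := by
            rw [(show Commute (v⁻¹ * ((y : G) * v * (y : G)⁻¹)) (x : G) from hc).inv_right.eq]
        _ = _ := by group
  have hker : φ.ker.map (t1Grp A v).subtype = jGrp A v := by
    ext x
    constructor
    · rintro ⟨x, hx, rfl⟩
      refine ⟨((hmem _).1 x.2).1, mem_cent.2 ?_⟩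
      have h1 : v⁻¹ * ((x : G) * v * (x : G)⁻¹) = 1 := congrArg Subtype.val hx
      exact mul_inv_eq_iff_eq_mul.1 (inv_mul_eq_one.1 h1).symm
    · rintro ⟨hxA, hxv⟩
      have h1 : v⁻¹ * (x * v * x⁻¹) = 1 := by
        rw [mem_cent.1 hxv, mul_inv_cancel_right, inv_mul_cancel]
      exact ⟨⟨x, (hmem x).2 ⟨hxA, h1 ▸ one_mem _⟩⟩, Subtype.ext h1, rfl⟩
  have hx₀φ : φ ⟨x₀, hx₀⟩ ≠ 1 := fun h1 => hx₀J (hker.le ⟨_, h1, rfl⟩)
  have hsurj : Function.Surjective φ := by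
    intro b
    rcases eq_or_ne b 1 with rfl | hb1
    · exact ⟨1, map_one φ⟩
    obtain ⟨k, hk⟩ := ld.h_trans _ (φ ⟨x₀, hx₀⟩).2 (fun h1 => hx₀φ (Subtype.ext h1)) b b.2
      (fun h1 => hb1 (Subtype.ext h1))
    set g := h ^ k with hg
    have hgv : g * v = v * g :=
      (show Commute h v from mem_cent.1 (ld.le_cent ld.h_mem)).pow_left k
    have hgN : g ∈ N := pow_mem ld.h_mem_N k
    have hval : v⁻¹ * (g * x₀ * g⁻¹ * v * (g * x₀ * g⁻¹)⁻¹) = b := by
      rw [← hk]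
      show _ = g * (v⁻¹ * (x₀ * v * x₀⁻¹)) * g⁻¹
      have h2 : g⁻¹ * v = v * g⁻¹ := (show Commute g v from hgv).inv_left
      have h3 : g * v⁻¹ = v⁻¹ * g := (show Commute g v from hgv).inv_right
      calc v⁻¹ * (g * x₀ * g⁻¹ * v * (g * x₀ * g⁻¹)⁻¹)
          = v⁻¹ * g * x₀ * (g⁻¹ * v) * g * x₀⁻¹ * g⁻¹ := by group
        _ = g * (v⁻¹ * (x₀ * v * x₀⁻¹)) * g⁻¹ := by rw [h2, ← h3]; group
    have hgx : g * x₀ * g⁻¹ ∈ t1Grp A v := by
      refine (hmem _).2 ⟨mem_centralizer_iff.2 fun a ha => ?_, hval ▸ b.2⟩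
      have ha' : g⁻¹ * a * g ∈ A := by simpa using e.conj_mem_A (inv_mem hgN) ha
      have hc := mem_centralizer_iff.1 ((hmem _).1 hx₀).1 _ ha'
      calc a * (g * x₀ * g⁻¹) = g * (g⁻¹ * a * g * x₀) * g⁻¹ := by group
        _ = g * (x₀ * (g⁻¹ * a * g)) * g⁻¹ := by rw [hc]
        _ = _ := by group
    exact ⟨⟨_, hgx⟩, Subtype.ext hval⟩
  have hcard : Nat.card (t1Grp A v) = 2 ^ n * Nat.card (jGrp A v) := by
    rw [← Subgroup.card_mul_index φ.ker, Subgroup.index_ker,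
      MonoidHom.range_eq_top.2 hsurj, Nat.card_congr Subgroup.topEquiv.toEquiv, e.base.card_A,
      ← hker, Subgroup.card_map_of_injective (Subgroup.subtype_injective _), mul_comm]
  have h2grp : IsPGroup 2 (t1Grp A v) := by
    obtain ⟨i, hi⟩ := IsPGroup.iff_card.1 ld.J_two
    exact IsPGroup.of_card (n := n + i) (by rw [hcard, hi, pow_add])
  refine ⟨h2grp, hcard, fun a ha => ?_, fun Q hQ hQA hle => ?_⟩
  · obtain ⟨x, hx⟩ := hsurj ⟨a, ha⟩
    refine ⟨x, x.2, ?_⟩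
    have h1 : v⁻¹ * ((x : G) * v * (x : G)⁻¹) = a := congrArg Subtype.val hx
    rw [← h1, mul_inv_cancel_left]
  · refine (Subgroup.eq_of_le_of_card_ge hle ?_).symm
    refine (e.two_group_bound hQ (fun x hx => e.mem_N_of_cent_A (hQA hx)) hv hmax).trans (le_of_eq ?_)
    rw [hcard, ld.J_card, pow_succ (2 ^ n) 2]
    ring

/-- A maximal line with the shapes of the Sylow 2-subgroup of `C(A)`. -/
theorem exists_maxLine (e : NormalGame S A N n) : ∃ w h, MaxLine A N n w h := by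
  classical
  haveI : Fintype G := Fintype.ofFinite G
  haveI : Fact (Nat.Prime 2) := ⟨Nat.prime_two⟩
  obtain ⟨w₀, hw₀⟩ := e.base.exists_bad
  obtain ⟨w, hwb, hmax⟩ := Finset.exists_max_image (Finset.univ.filter fun v => Bad N v)
    (fun v => Nat.card (kerK A N v)) ⟨w₀, Finset.mem_filter.2 ⟨Finset.mem_univ _, hw₀⟩⟩
  have hw : Bad N w := (Finset.mem_filter.1 hwb).2
  have hmax' : ∀ v, Bad N v → Nat.card (kerK A N v) ≤ Nat.card (kerK A N w) := fun v hv =>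
    hmax v (Finset.mem_filter.2 ⟨Finset.mem_univ _, hv⟩)
  obtain ⟨h, ld⟩ := e.exists_lineData hw
  by_cases hJ : ∀ Q : Subgroup G, IsPGroup 2 Q → Q ≤ centralizer (A : Set G) → jGrp A w ≤ Q →
      Q = jGrp A w
  · exact ⟨w, h, ld, hmax', Or.inl hJ⟩
  push Not at hJ
  obtain ⟨Q, hQ, hQA, hJQ, hne⟩ := hJ
  haveI := hQ.isNilpotent
  set J := jGrp A w with hJdef
  set J' := J.subgroupOf Q with hJ'
  have hJ'ne : J' ≠ ⊤ := fun h1 => hne (le_antisymm (subgroupOf_eq_top.1 h1) hJQ)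
  set R := (normalizer (J' : Set Q)).map Q.subtype with hR
  have hRQ : R ≤ Q := map_subtype_le _
  obtain ⟨x₀, hx₀R, hx₀J⟩ : ∃ x₀ ∈ R, x₀ ∉ J := by
    obtain ⟨y, hy, hyJ⟩ := SetLike.exists_of_lt
      (Group.normalizerCondition_of_isNilpotent J' (lt_top_iff_ne_top.2 hJ'ne))
    exact ⟨y, ⟨y, hy, rfl⟩, fun h1 => hyJ (mem_subgroupOf.2 h1)⟩
  have hJR : J ≤ R := fun x hx => ⟨⟨x, hJQ hx⟩, le_normalizer (mem_subgroupOf.2 hx), rfl⟩
  have hRJ : ∀ x ∈ R, ∀ y ∈ J, x * y * x⁻¹ ∈ J := by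
    rintro _ ⟨x, hx, rfl⟩ y hy
    exact mem_subgroupOf.1 ((mem_normalizer_iff.1 hx ⟨y, hJQ hy⟩).1 (mem_subgroupOf.2 hy))
  have hAJ : A ≤ J := e.A_le_jGrp hw
  set E := eGrp A N w with hE
  have hEJ : E ≤ J := fun x hx => ((ld.mem_E x).1 hx).1
  have hRE : ∀ x ∈ R, ∀ y ∈ E, x * y * x⁻¹ ∈ E := fun x hx y hy => (ld.mem_E _).2
    ⟨hRJ x hx y (hEJ hy), by
      rw [show x * y * x⁻¹ * (x * y * x⁻¹) = x * (y * y) * x⁻¹ by group,
        ((ld.mem_E y).1 hy).2, mul_one, mul_inv_cancel]⟩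
  -- a fixed coset of `A` in `E`
  haveI hAn : (A.subgroupOf R).Normal := ⟨fun a ha x => by
    rw [mem_subgroupOf] at ha ⊢
    show (x : G) * a * (x : G)⁻¹ ∈ A
    rw [← mem_centralizer_iff.1 (hQA (hRQ x.2)) a ha, mul_inv_cancel_right]
    exact ha⟩
  haveI : (E.subgroupOf R).Normal := ⟨fun y hy x => hRE x x.2 y hy⟩
  set π := QuotientGroup.mk' (A.subgroupOf R) with hπ
  haveI hEn : ((E.subgroupOf R).map π).Normal :=
    Subgroup.Normal.map inferInstance π (QuotientGroup.mk'_surjective _)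
  have hwE : w ∈ E := mem_sup_right ((ld.mem_kInv w).2 ⟨ld.w_mem_K, (e.bad_axial hw).sq⟩)
  have hEne : (E.subgroupOf R).map π ≠ ⊥ := by
    intro h1
    have hmem : π ⟨w, hJR (hEJ hwE)⟩ ∈ (E.subgroupOf R).map π :=
      mem_map_of_mem π (mem_subgroupOf.2 hwE)
    rw [h1, Subgroup.mem_bot] at hmem
    exact e.setup.not_bad_of_mem_A (mem_subgroupOf.1 ((QuotientGroup.eq_one_iff _).1 hmem)) hw
  haveI : Group.IsNilpotent (R ⧸ A.subgroupOf R) :=
    ((hQ.to_le hRQ).to_quotient _).isNilpotent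
  obtain ⟨z, hz, hz1⟩ := (Subgroup.bot_or_exists_ne_one _).resolve_left
    (CfsgLib.OddOrder.PuigSeries.inf_center_ne_bot ((E.subgroupOf R).map π) hEne)
  obtain ⟨hvc, ⟨v, hv, rfl⟩⟩ := Subgroup.mem_inf.1 hz
  have hvA : (v : G) ∉ A := fun h1 => hz1 ((QuotientGroup.eq_one_iff _).2 (mem_subgroupOf.2 h1))
  have hvb : Bad N (v : G) := e.eGrp_bad hw (mem_subgroupOf.1 hv) hvA
  have hJv : J = jGrp A (v : G) := by
    refine Subgroup.eq_of_le_of_card_ge (fun j hj => ⟨hj.1, mem_cent.2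
      (ld.E_central _ (mem_subgroupOf.1 hv) j hj).symm⟩) ?_
    rw [(e.jGrp_card_two hvb).2, hJdef, ld.J_card]
    exact Nat.mul_le_mul_left _ (hmax' _ hvb)
  have hKv : Nat.card (kerK A N (v : G)) = Nat.card (kerK A N w) := by
    have h1 := (e.jGrp_card_two hvb).2
    rw [← hJv, hJdef, ld.J_card] at h1
    exact (Nat.eq_of_mul_eq_mul_left (by positivity) h1).symm
  have hx₀T : x₀ ∈ t1Grp A (v : G) := by
    refine (e.mem_t1Grp_iff hvb).2 ⟨hQA (hRQ hx₀R), ?_⟩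
    have h1 : π ⟨x₀, hx₀R⟩ * π v = π v * π ⟨x₀, hx₀R⟩ := mem_center_iff.1 hvc _
    have h2 : π (v⁻¹ * (⟨x₀, hx₀R⟩ * v * ⟨x₀, hx₀R⟩⁻¹)) = 1 := by
      rw [map_mul, map_inv, map_mul, map_mul, map_inv, h1]
      group
    exact mem_subgroupOf.1 ((QuotientGroup.eq_one_iff _).1 h2)
  obtain ⟨h', ld'⟩ := e.exists_lineData hvb
  refine ⟨v, h', ld', fun u hu => (hmax' u hu).trans hKv.ge, Or.inr (e.t1_shape hvb
    (fun u hu => (hmax' u hu).trans hKv.ge) hx₀T (hJv ▸ hx₀J))⟩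

end NormalGame

end CfsgLib.ThreeFree
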