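import Cfsg.Agent.Lib.ThreeFree.LineData

/-!
Points, the conjugates of `A` attached to them, and involutions fixing two points.
-/

set_option autoImplicit false
set_option linter.style.haveILetI false
set_option linter.unusedSectionVars false

namespace CfsgLib.ThreeFree

open Subgroup

universe u

variable {G : Type u} [Group G]

section General

variable {N : Subgroup G}

theorem smul_base (g : G) : g • ((1 : G) : G ⧸ N) = (g : G ⧸ N) := by
  rw [MulAction.Quotient.smul_coe, smul_eq_mul, mul_one]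

theorem coe_eq_base {g : G} : (g : G ⧸ N) = ((1 : G) : G ⧸ N) ↔ g ∈ N := by
  rw [QuotientGroup.eq, mul_one]
  exact ⟨fun h => by simpa using inv_mem h, fun h => inv_mem h⟩

theorem base_mem_fixPts {v : G} : ((1 : G) : G ⧸ N) ∈ fixPts N v ↔ v ∈ N := by
  rw [mem_fixPts, inv_one, one_mul, mul_one]

theorem fixPts_conj (g v : G) : fixPts N (g * v * g⁻¹) = (g • ·) '' fixPts N v := by
  ext P
  constructor
  · intro hP
    refine ⟨g⁻¹ • P, ?_, smul_inv_smul g P⟩
    have h := smul_mem_fixPts (x := g⁻¹) hP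
    rwa [show g⁻¹ * (g * v * g⁻¹) * g⁻¹⁻¹ = v by group] at h
  · rintro ⟨R, hR, rfl⟩
    exact smul_mem_fixPts hR

theorem smul_fix_of_comm {v x : G} (hc : x * v = v * x) {P : G ⧸ N} (hP : P ∈ fixPts N v) :
    x • P ∈ fixPts N v := by
  have h := smul_mem_fixPts (x := x) hP
  rwa [hc, mul_inv_cancel_right] at h

theorem fix_mul {v v' : G} {P : G ⧸ N} (hP : P ∈ fixPts N v) (hP' : P ∈ fixPts N v') :
    P ∈ fixPts N (v * v') := by
  show (v * v') • P = P
  rw [mul_smul, show v' • P = P from hP', show v • P = P from hP]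

end General

/-- An involution fixing two points. -/
structure Axial (N : Subgroup G) (v : G) : Prop where
  two : orderOf v = 2
  pts : ∃ P Q, P ≠ Q ∧ P ∈ fixPts N v ∧ Q ∈ fixPts N v

theorem Axial.conj {N : Subgroup G} {v : G} (h : Axial N v) (g : G) :
    Axial N (g * v * g⁻¹) := by
  obtain ⟨P, Q, hne, hP, hQ⟩ := h.pts
  exact ⟨(CfsgLib.Involutions.orderOf_conj_eq g v).trans h.two, g • P, g • Q,
    fun e => hne (MulAction.injective g e), smul_mem_fixPts hP, smul_mem_fixPts hQ⟩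

theorem Axial.sq {N : Subgroup G} {v : G} (h : Axial N v) : v * v = 1 := by
  rw [← pow_two, ← h.two, pow_orderOf_eq_one]

namespace NormalGame

variable [Finite G] {S : Sylow 2 G} {A N : Subgroup G} {n : ℕ}

theorem setup (e : NormalGame S A N n) : Setup G S A N := e.base.setup

theorem one_lt (e : NormalGame S A N n) : 8 ≤ 2 ^ n :=
  le_trans (by norm_num) (Nat.pow_le_pow_right (by norm_num) e.base.three_le)

theorem conj_mem_A (e : NormalGame S A N n) {x a : G} (hx : x ∈ N) (ha : a ∈ A) :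
    x * a * x⁻¹ ∈ A := by
  rw [e.eq_norm] at hx
  exact (mem_normalizer_iff.1 hx a).1 ha

theorem cj_eq_of_mem (e : NormalGame S A N n) {x : G} (hx : x ∈ N) : cj x A = A :=
  Subgroup.eq_of_le_of_card_ge (cj_le_of_forall fun _ ha => e.conj_mem_A hx ha) (card_cj x A).ge

theorem ptA_mk (e : NormalGame S A N n) (g : G) : ptA A (g : G ⧸ N) = cj g A := by
  obtain ⟨x, hx⟩ := QuotientGroup.mk_out_eq_mul N g
  rw [ptA, hx, ← cj_mul, e.cj_eq_of_mem x.2]

theorem ptA_base (e : NormalGame S A N n) : ptA A ((1 : G) : G ⧸ N) = A := by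
  rw [e.ptA_mk, cj_one]

theorem ptA_smul (e : NormalGame S A N n) (g : G) (P : G ⧸ N) :
    ptA A (g • P) = cj g (ptA A P) := by
  obtain ⟨x, rfl⟩ := QuotientGroup.mk_surjective P
  rw [MulAction.Quotient.smul_coe, smul_eq_mul, e.ptA_mk, e.ptA_mk, cj_mul]

theorem card_ptA (e : NormalGame S A N n) (P : G ⧸ N) : Nat.card (ptA A P) = 2 ^ n := by
  rw [ptA, card_cj, e.base.card_A]

theorem exists_ne_one (e : NormalGame S A N n) (P : G ⧸ N) : ∃ a ∈ ptA A P, a ≠ 1 := by
  refine (Subgroup.bot_or_exists_ne_one _).resolve_left fun h => ?_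
  have := e.card_ptA P
  rw [h, Subgroup.card_bot] at this
  have := e.one_lt
  omega

theorem ptA_sq (_e : NormalGame S A N n) {P : G ⧸ N} {a : G} (ha : a ∈ ptA A P) : a * a = 1 := by
  obtain ⟨b, hb, rfl⟩ := ha
  rw [← map_mul, _e.setup.mul_self_eq_one hb, map_one]

theorem ptA_inv (e : NormalGame S A N n) {P : G ⧸ N} {a : G} (ha : a ∈ ptA A P) : a⁻¹ = a :=
  inv_eq_of_mul_eq_one_right (e.ptA_sq ha)

theorem ptA_comm (e : NormalGame S A N n) {P : G ⧸ N} {a b : G} (ha : a ∈ ptA A P)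
    (hb : b ∈ ptA A P) : a * b = b * a := by
  obtain ⟨a, ha, rfl⟩ := ha
  obtain ⟨b, hb, rfl⟩ := hb
  rw [← map_mul, ← map_mul, e.setup.comm ha hb]

theorem ptA_fix (e : NormalGame S A N n) {P : G ⧸ N} {a : G} (ha : a ∈ ptA A P) :
    P ∈ fixPts N a := by
  obtain ⟨g, rfl⟩ := QuotientGroup.mk_surjective P
  rw [e.ptA_mk, mem_cj] at ha
  exact mem_fixPts.2 (e.setup.A_le ha)

theorem eq_of_ptA_fix (e : NormalGame S A N n) {P Q : G ⧸ N} {a : G} (ha : a ∈ ptA A P)
    (h1 : a ≠ 1) (hQ : Q ∈ fixPts N a) : Q = P := by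
  obtain ⟨g, rfl⟩ := QuotientGroup.mk_surjective P
  obtain ⟨x, rfl⟩ := QuotientGroup.mk_surjective Q
  rw [e.ptA_mk, mem_cj] at ha
  have h2 : g⁻¹ * a * g ≠ 1 := fun h => h1 (by
    have := congrArg (fun t => g * t * g⁻¹) h
    simpa [mul_assoc] using this)
  have hmem : x⁻¹ * g * (g⁻¹ * a * g) * (x⁻¹ * g)⁻¹ ∈ N := by
    rw [show x⁻¹ * g * (g⁻¹ * a * g) * (x⁻¹ * g)⁻¹ = x⁻¹ * a * x by group]
    exact mem_fixPts.1 hQ
  exact QuotientGroup.eq.2 (e.setup.mem_of_conj_mem ha h2 hmem)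

theorem bad_axial (e : NormalGame S A N n) {w : G} (hw : Bad N w) : Axial N w := by
  obtain ⟨-, h2, g, hg, hgw⟩ := e.setup.bad_iff.1 hw
  exact ⟨h2, ((1 : G) : G ⧸ N), (g : G ⧸ N), fun h => hg (coe_eq_base.1 h.symm),
    base_mem_fixPts.2 hw.mem, mem_fixPts.2 hgw⟩

theorem axial_bad (e : NormalGame S A N n) {v : G} (hv : Axial N v) (hN : v ∈ N) : Bad N v := by
  obtain ⟨P, Q, hne, hP, hQ⟩ := hv.pts
  obtain ⟨R, hR, hR1⟩ : ∃ R ∈ fixPts N v, R ≠ ((1 : G) : G ⧸ N) := by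
    by_cases hP1 : P = ((1 : G) : G ⧸ N)
    · exact ⟨Q, hQ, fun h => hne (hP1.trans h.symm)⟩
    · exact ⟨P, hP, hP1⟩
  obtain ⟨g, rfl⟩ := QuotientGroup.mk_surjective R
  exact e.setup.bad_iff.2 ⟨hN, hv.two, g, fun h => hR1 (coe_eq_base.2 h), mem_fixPts.1 hR⟩

theorem axial_bad_at (e : NormalGame S A N n) {v g : G} (hv : Axial N v)
    (hg : (g : G ⧸ N) ∈ fixPts N v) : Bad N (g⁻¹ * v * g) := by
  have h := hv.conj g⁻¹
  rw [inv_inv] at h
  exact e.axial_bad h (mem_fixPts.1 hg)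

theorem bad_centralizes (e : NormalGame S A N n) {w : G} (hw : Bad N w) : A ≤ cent w :=
  e.base.centralizes w hw (e.eq_norm ▸ hw.mem)

theorem centralizes_at (e : NormalGame S A N n) {v : G} (hv : Axial N v) {P : G ⧸ N}
    (hP : P ∈ fixPts N v) : ptA A P ≤ cent v := by
  obtain ⟨g, rfl⟩ := QuotientGroup.mk_surjective P
  intro a ha
  rw [e.ptA_mk, mem_cj] at ha
  have h := mem_cent.1 (e.bad_centralizes (e.axial_bad_at hv hP) ha)
  refine mem_cent.2 ?_
  have := congrArg (fun t => g * t * g⁻¹) h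
  simpa [mul_assoc] using this

theorem axial_star (e : NormalGame S A N n) {v : G} (hv : Axial N v) {P : G ⧸ N}
    (hP : P ∈ fixPts N v) {y : G} (hy : y ∈ ptA A P) : Axial N (v * y) := by
  obtain ⟨g, rfl⟩ := QuotientGroup.mk_surjective P
  rw [e.ptA_mk, mem_cj] at hy
  have hb := e.axial_bad_at hv hP
  have h := (e.bad_axial (e.base.star _ hb (e.bad_centralizes hb) _ hy)).conj g
  rwa [show g * (g⁻¹ * v * g * (g⁻¹ * y * g)) * g⁻¹ = v * y by group] at h

theorem axial_ncard (e : NormalGame S A N n) {v : G} (hv : Axial N v) :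
    (fixPts N v).ncard = (2 ^ n) ^ 2 + 1 := by
  obtain ⟨P, -, -, hP, -⟩ := hv.pts
  obtain ⟨g, rfl⟩ := QuotientGroup.mk_surjective P
  rw [show v = g * (g⁻¹ * v * g) * g⁻¹ by group, fixPts_conj,
    Set.ncard_image_of_injective _ (MulAction.injective g)]
  exact e.base.ncard_fix _ (e.axial_bad_at hv hP)

end NormalGame

end CfsgLib.ThreeFree
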