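import Cfsg.Agent.Lib.ThreeFree.LineComp

/-!
The centralizer of `A` in the centralizer of a bad involution; the line group is regular on the
points off the line and the number of points.
-/

set_option autoImplicit false
set_option linter.style.haveILetI false
set_option linter.unusedSectionVars false

namespace CfsgLib.ThreeFree

open Subgroup

universe u

variable {G : Type u} [Group G] [Finite G] {S : Sylow 2 G} {A N : Subgroup G} {n : ℕ}

/-- A fixed point free involution on a finite set: the set has even cardinality. -/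
theorem exists_fixed_of_odd {α : Type*} (s : Set α) [Finite α] (f : α → α) (hodd : Odd s.ncard)
    (hmem : ∀ x ∈ s, f x ∈ s) (hinv : ∀ x ∈ s, f (f x) = x) : ∃ x ∈ s, f x = x := by
  classical
  haveI : Fintype α := Fintype.ofFinite α
  by_contra hcon
  push Not at hcon
  have h0 : ∑ _x ∈ s.toFinset, (1 : ZMod 2) = 0 :=
    Finset.sum_involution (fun x _ => f x) (fun _ _ => by decide)
      (fun x hx _ => hcon x (Set.mem_toFinset.1 hx))
      (fun x hx => Set.mem_toFinset.2 (hmem x (Set.mem_toFinset.1 hx)))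
      (fun x hx => hinv x (Set.mem_toFinset.1 hx))
  rw [Finset.sum_const, nsmul_one, ← Set.ncard_eq_toFinset_card',
    ZMod.natCast_eq_zero_iff_even] at h0
  exact (Nat.not_even_iff_odd.2 hodd) h0

namespace NormalGame

/-- The elements of `L ∩ C(A)` are those of the Sylow subgroup `T`. -/
theorem mem_tGrp_iff {w : G} {T : Sylow 2 (lineGrp A N w)} {h : lineGrp A N w}
    (e : NormalGame S A N n)
    (d : SzData (lineGrp A N w) n T (A.subgroupOf (lineGrp A N w)) h)
    (hAL : A ≤ lineGrp A N w) (l : lineGrp A N w) :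
    l ∈ (T : Subgroup (lineGrp A N w)) ↔ (l : G) ∈ centralizer (A : Set G) := by
  rw [mem_centralizer_iff]
  constructor
  · intro hl a ha
    exact congrArg Subtype.val (d.Z_comm ⟨a, hAL ha⟩ (mem_subgroupOf.2 ha) l hl)
  · intro hl
    obtain ⟨a, ha, ha1⟩ := e.exists_ne_one ((1 : G) : G ⧸ N)
    rw [e.ptA_base] at ha
    rw [← d.cent ⟨a, hAL ha⟩ (mem_subgroupOf.2 ha) (fun h' => ha1 (congrArg Subtype.val h')),
      mem_centralizer_singleton_iff]
    exact Subtype.ext (hl a ha).symm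

/-- An element of `C(A) ∩ C(w)` is a product of elements of `T` and `K`. -/
theorem jGrp_decomp (e : NormalGame S A N n) {w : G} (hw : Bad N w) {x : G}
    (hx : x ∈ jGrp A w) : ∃ t ∈ tGrp A N w, ∃ k ∈ kerK A N w, x = t * k := by
  obtain ⟨hAL, hLw, hn, hc, ⟨T, h, d⟩, -, -⟩ := e.lineGrp_props hw
  set L := lineGrp A N w
  obtain ⟨hxA, hxw⟩ := hx
  have hxn := hn hxw
  let α : MulAut L :=
    { toFun := fun l => ⟨x * l * x⁻¹, (mem_normalizer_iff.1 hxn _).1 l.2⟩
      invFun := fun l => ⟨x⁻¹ * l * x, by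
        have := (mem_normalizer_iff.1 (inv_mem hxn) _).1 l.2
        rwa [inv_inv] at this⟩
      left_inv := fun l => Subtype.ext (by simp [mul_assoc])
      right_inv := fun l => Subtype.ext (by simp [mul_assoc])
      map_mul' := fun a b => Subtype.ext (by simp [mul_assoc]) }
  obtain ⟨t, ht, hα⟩ := d.aut_fixZ α fun z hz => by
    refine Subtype.ext ?_
    show x * (z : G) * x⁻¹ = z
    rw [← mem_centralizer_iff.1 hxA _ (mem_subgroupOf.1 hz), mul_inv_cancel_right]
  refine ⟨t, ⟨t.2, (e.mem_tGrp_iff d hAL t).1 ht⟩, (t : G)⁻¹ * x, ?_, (mul_inv_cancel_left _ _).symm⟩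
  refine Subgroup.mem_inf.2 ⟨mul_mem (inv_mem (hLw t.2)) hxw, mem_centralizer_iff.2 fun l hl => ?_⟩
  have h1 : x * l * x⁻¹ = t * l * (t : G)⁻¹ :=
    congrArg Subtype.val (DFunLike.congr_fun hα ⟨l, hl⟩)
  calc l * ((t : G)⁻¹ * x) = (t : G)⁻¹ * ((t : G) * l * (t : G)⁻¹) * x := by group
    _ = (t : G)⁻¹ * (x * l * x⁻¹) * x := by rw [h1]
    _ = (t : G)⁻¹ * x * l := by group

theorem kerK_fix (e : NormalGame S A N n) {w : G} (hw : Bad N w) {k : G}
    (hk : k ∈ kerK A N w) {P : G ⧸ N} (hP : P ∈ fixPts N w) : k • P = P := by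
  obtain ⟨hAL, -, -, -, -, -, horb⟩ := e.lineGrp_props hw
  obtain ⟨l, hl, rfl⟩ := horb P hP
  have hkN : k ∈ N := by
    rw [e.eq_norm]
    exact centralizer_le_normalizer _ (centralizer_le (SetLike.coe_subset_coe.2 hAL) hk.2)
  rw [← smul_base l, ← mul_smul, ← mem_centralizer_iff.1 hk.2 l hl, mul_smul, smul_base k,
    coe_eq_base.2 hkN]

/-- The line of an involution commuting with `w`, through a point off the line of `w`. -/
theorem through (e : NormalGame S A N n) {w : G} (hw : Bad N w) {P : G ⧸ N}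
    (hP : P ∉ fixPts N w) :
    ∃ R ∈ fixPts N w, ∃ y ∈ ptA A R, y ≠ 1 ∧ P ∈ fixPts N (w * y) := by
  classical
  have hwa := e.bad_axial hw
  have hne : w • P ≠ P := hP
  obtain ⟨a, ha, ha1⟩ := e.exists_ne_one P
  have ha2 : orderOf a = 2 :=
    orderOf_eq_prime (hp := ⟨Nat.prime_two⟩) (by rw [pow_two, e.ptA_sq ha]) ha1
  have hnc : ¬ IsConj w a := by
    intro hc
    obtain ⟨g, rfl⟩ := isConj_iff.1 hc
    obtain ⟨X, Y, hXY, hX, hY⟩ := (hwa.conj g).pts
    exact hXY ((e.eq_of_ptA_fix ha ha1 hX).trans (e.eq_of_ptA_fix ha ha1 hY).symm)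
  obtain ⟨i, hi2, hiw, hia⟩ := CfsgLib.Involutions.exists_common_involution hw.two ha2 hnc
  have hiP : P ∈ fixPts N i :=
    e.eq_of_ptA_fix ha ha1 (smul_fix_of_comm hia.eq (e.ptA_fix ha))
  have hiP' : w • P ∈ fixPts N i := smul_fix_of_comm hiw.eq.symm hiP
  have hiax : Axial N i := ⟨hi2, P, w • P, hne.symm, hiP, hiP'⟩
  obtain ⟨R, hR, hwR⟩ := exists_fixed_of_odd (fixPts N i) (w • ·)
    (by
      rw [e.axial_ncard hiax]
      exact ((Nat.even_pow.2 ⟨Nat.even_pow.2 ⟨even_two, by have := e.base.three_le; omega⟩,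
        two_ne_zero⟩).add_one))
    (fun X hX => smul_fix_of_comm hiw.eq.symm hX)
    (fun X _ => by rw [← mul_smul, hwa.sq, one_smul])
  have hRw : R ∈ fixPts N w := hwR
  obtain ⟨g, rfl⟩ := QuotientGroup.mk_surjective R
  set i' := g⁻¹ * i * g with hi'
  set w' := g⁻¹ * w * g with hw'
  have hbi : Bad N i' := e.axial_bad_at hiax hR
  have hbw : Bad N w' := e.axial_bad_at hwa hRw
  have hwJ : w' ∈ jGrp A i' := by
    refine Subgroup.mem_inf.2 ⟨?_, mem_cent.2 ?_⟩
    · exact mem_centralizer_iff.2 fun b hb => mem_cent.1 (e.bad_centralizes hbw hb)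
    · rw [hi', hw']
      calc g⁻¹ * w * g * (g⁻¹ * i * g) = g⁻¹ * (w * i) * g := by group
        _ = g⁻¹ * (i * w) * g := by rw [hiw.eq]
        _ = _ := by group
  obtain ⟨t, ht, k, hk, htk⟩ := e.jGrp_decomp hbi hwJ
  obtain ⟨hAL, -, -, hcen, ⟨T, h, d⟩, -, -⟩ := e.lineGrp_props hbi
  set Li := lineGrp A N i'
  have hcomm : k * t = t * k := (mem_centralizer_iff.1 hk.2 t ht.1).symm
  have hw'2 : w' * w' = 1 := (e.bad_axial hbw).sq
  have htA : t ∈ A := by
    have h1 : t * t = (k * k)⁻¹ := by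
      refine eq_inv_of_mul_eq_one_left ?_
      calc t * t * (k * k) = t * (t * k) * k := by group
        _ = t * (k * t) * k := by rw [hcomm]
        _ = t * k * (t * k) := by group
        _ = 1 := by rw [← htk, hw'2]
    have h2 : t * t = 1 := by
      rw [← Subgroup.mem_bot, ← hcen]
      exact Subgroup.mem_inf.2 ⟨mul_mem ht.1 ht.1, h1 ▸ inv_mem (mul_mem hk.2 hk.2)⟩
    exact mem_subgroupOf.1 (d.invol_mem ⟨t, ht.1⟩ ((e.mem_tGrp_iff d hAL ⟨t, ht.1⟩).2 ht.2)
      (Subtype.ext h2))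
  have hkt : w' * t = k := by
    rw [htk, mul_assoc, hcomm, ← mul_assoc, e.setup.mul_self_eq_one htA, one_mul]
  have hy : g * t * g⁻¹ ∈ ptA A (g : G ⧸ N) := by
    rw [e.ptA_mk]
    exact cj_mem.2 htA
  have hfix : fixPts N i ⊆ fixPts N (w * (g * t * g⁻¹)) := by
    intro X hX
    have hX' : g⁻¹ • X ∈ fixPts N i' := by
      have := smul_mem_fixPts (x := g⁻¹) hX
      rwa [inv_inv] at this
    have h1 : g⁻¹ • X ∈ fixPts N (w' * t) := by
      rw [hkt]
      exact e.kerK_fix hbi hk hX'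
    have := smul_mem_fixPts (x := g) h1
    rwa [smul_inv_smul, show g * (w' * t) * g⁻¹ = w * (g * t * g⁻¹) by rw [hw']; group] at this
  refine ⟨_, hRw, _, hy, fun h1 => hP ?_, hfix hiP⟩
  have := hfix hiP
  rwa [h1, mul_one] at this

theorem through_unique (e : NormalGame S A N n) {w : G} (hw : Bad N w) {P R R' : G ⧸ N}
    (hP : P ∉ fixPts N w) (hR : R ∈ fixPts N w) (hR' : R' ∈ fixPts N w) {y y' : G}
    (hy : y ∈ ptA A R) (hy' : y' ∈ ptA A R') (hPy : P ∈ fixPts N (w * y))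
    (hPy' : P ∈ fixPts N (w * y')) : R = R' ∧ y = y' := by
  have hwa := e.bad_axial hw
  have hv := e.axial_star hwa hR hy
  have hv' := e.axial_star hwa hR' hy'
  have hcy : y * w = w * y := mem_cent.1 (e.centralizes_at hwa hR hy)
  have hcy' : y' * w = w * y' := mem_cent.1 (e.centralizes_at hwa hR' hy')
  have hcomm : ∀ {z : G}, z * w = w * z → w * (w * z) = w * z * w := fun {z} hz => by
    rw [mul_assoc w z w, hz]
  have heq : fixPts N (w * y) = fixPts N (w * y') :=
    e.axial_lines hv hv' (P := P) (Q := w • P) (fun h => hP h.symm) hPy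
      (smul_fix_of_comm (hcomm hcy) hPy) hPy' (smul_fix_of_comm (hcomm hcy') hPy')
  have hmem : R ∈ fixPts N (w * y) := fix_mul hR (e.ptA_fix hy)
  have hmem' : R' ∈ fixPts N (w * y') := fix_mul hR' (e.ptA_fix hy')
  have hRR : R = R' := by
    by_contra hne
    have := e.axial_lines hwa hv hne hR hR' hmem (heq ▸ hmem')
    exact hP (this ▸ hPy)
  subst hRR
  refine ⟨rfl, ?_⟩
  by_contra hne
  have h1 : P ∈ fixPts N (w * y * (w * y')) := fix_mul hPy hPy'
  have e1 : w * y * (w * y') = y * y' := by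
    rw [← mul_assoc, mul_assoc w y w, hcy, ← mul_assoc, hwa.sq, one_mul]
  rw [e1] at h1
  have hyy : y * y' ≠ 1 := fun h => hne ((eq_inv_of_mul_eq_one_left h).trans (e.ptA_inv hy'))
  exact hP (e.eq_of_ptA_fix (mul_mem hy hy') hyy h1 ▸ hR)

/-- The line group fixes no point off the line. -/
theorem semiregular (e : NormalGame S A N n) {w : G} (hw : Bad N w) {l : G}
    (hl : l ∈ lineGrp A N w) {P : G ⧸ N} (hP : P ∉ fixPts N w) (hlP : l • P = P) : l = 1 := by
  obtain ⟨hAL, hLw, hn, hcen, ⟨T, h, d⟩, -, horb⟩ := e.lineGrp_props hw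
  have hcl : l * w = w * l := mem_cent.1 (hLw hl)
  obtain ⟨R, hR, y, hy, hy1, hPy⟩ := e.through hw hP
  have hlR : l • R ∈ fixPts N w := smul_fix_of_comm hcl hR
  have hly : l * y * l⁻¹ ∈ ptA A (l • R) := by
    rw [e.ptA_smul]
    exact cj_mem.2 hy
  have hPy' : P ∈ fixPts N (w * (l * y * l⁻¹)) := by
    have h1 := smul_mem_fixPts (x := l) hPy
    rwa [hlP, show l * (w * y) * l⁻¹ = (l * w) * y * l⁻¹ by group, hcl,
      show w * l * y * l⁻¹ = w * (l * y * l⁻¹) by group] at h1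
  obtain ⟨-, hyeq⟩ := e.through_unique hw hP hR hlR hy hly hPy hPy'
  obtain ⟨g, hg, rfl⟩ := horb R hR
  have hga : g⁻¹ * y * g ∈ A := by
    rw [e.ptA_mk] at hy
    exact mem_cj.1 hy
  set a := g⁻¹ * y * g with ha
  have ha1 : a ≠ 1 := fun h => hy1 (by
    rw [show y = g * a * g⁻¹ by rw [ha]; group, h, mul_one, mul_inv_cancel])
  set l' : lineGrp A N w := ⟨g⁻¹ * l * g, mul_mem (mul_mem (inv_mem hg) hl) hg⟩ with hl'
  have hT : l' ∈ (T : Subgroup (lineGrp A N w)) := by
    refine (d.cent ⟨a, hAL hga⟩ (mem_subgroupOf.2 hga)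
      (fun h' => ha1 (congrArg Subtype.val h'))).le (mem_centralizer_singleton_iff.2 ?_)
    refine Subtype.ext ?_
    show g⁻¹ * l * g * a = a * (g⁻¹ * l * g)
    have h2 : l * y = y * l := by
      calc l * y = l * y * l⁻¹ * l := by group
        _ = y * l := by rw [← hyeq]
    calc g⁻¹ * l * g * a = g⁻¹ * (l * y) * g := by rw [ha]; group
      _ = g⁻¹ * (y * l) * g := by rw [h2]
      _ = _ := by rw [ha]; group
  have hfix : g⁻¹ • P ∈ fixPts N (g⁻¹ * l * g) := by
    have h1 := smul_mem_fixPts (x := g⁻¹) (show P ∈ fixPts N l from hlP)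
    rwa [inv_inv] at h1
  have hA1 : ∀ x ∈ A, g⁻¹ • P ∈ fixPts N x → x = 1 := by
    intro x hx hfx
    by_contra hx1
    have h1 : g⁻¹ • P = ((1 : G) : G ⧸ N) :=
      e.eq_of_ptA_fix (by rw [e.ptA_base]; exact hx) hx1 hfx
    rw [inv_smul_eq_iff, smul_base] at h1
    exact hP (h1 ▸ hR)
  have h2 : (g⁻¹ * l * g) * (g⁻¹ * l * g) = 1 :=
    hA1 _ (mem_subgroupOf.1 (d.T_sq_mem (t := l') hT)) (fix_mul hfix hfix)
  have h3 : g⁻¹ * l * g = 1 :=
    hA1 _ (mem_subgroupOf.1 (d.invol_mem l' hT (Subtype.ext h2))) hfix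
  have := congrArg (fun t => g * t * g⁻¹) h3
  simpa [mul_assoc] using this

theorem regular_and_card (e : NormalGame S A N n) {w : G} (hw : Bad N w) :
    (∀ P, P ∉ fixPts N w → ∀ Q, Q ∉ fixPts N w →
      ∃! l : G, l ∈ lineGrp A N w ∧ l • P = Q) ∧
    Nat.card (G ⧸ N) + (2 ^ n) ^ 4 = (2 ^ n) ^ 5 + (2 ^ n) ^ 3 + 1 := by
  classical
  haveI : Fintype (G ⧸ N) := Fintype.ofFinite _
  haveI : Fintype G := Fintype.ofFinite _
  obtain ⟨hAL, hLw, -, -, ⟨T, h, d⟩, -, -⟩ := e.lineGrp_props hw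
  have hwa := e.bad_axial hw
  have hcardL : Nat.card (lineGrp A N w) = (2 ^ n) ^ 2 * ((2 ^ n) ^ 2 + 1) * (2 ^ n - 1) := d.card
  set F := fixPts N w
  have hF : F.ncard = (2 ^ n) ^ 2 + 1 := e.base.ncard_fix w hw
  -- upper bound
  let piece : G ⧸ N → G → Finset (G ⧸ N) := fun R y => ((fixPts N (w * y)).toFinset).erase R
  let block : G ⧸ N → Finset (G ⧸ N) := fun R =>
    ((ptA A R : Set G).toFinset.erase 1).biUnion (piece R)
  have hcover : Finset.univ.filter (fun P => P ∉ F) ⊆ F.toFinset.biUnion block := by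
    intro P hP
    obtain ⟨R, hR, y, hy, hy1, hPy⟩ := e.through hw (Finset.mem_filter.1 hP).2
    refine Finset.mem_biUnion.2 ⟨R, Set.mem_toFinset.2 hR, Finset.mem_biUnion.2
      ⟨y, Finset.mem_erase.2 ⟨hy1, Set.mem_toFinset.2 hy⟩, Finset.mem_erase.2
        ⟨fun hPR => (Finset.mem_filter.1 hP).2 (hPR ▸ hR), Set.mem_toFinset.2 hPy⟩⟩⟩
  have hblock : ∀ R ∈ F.toFinset, (block R).card ≤ (2 ^ n - 1) * (2 ^ n) ^ 2 := by
    intro R hR
    refine le_trans (Finset.card_biUnion_le_card_mul _ _ ((2 ^ n) ^ 2) fun y hy => ?_) ?_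
    · obtain ⟨-, hy⟩ := Finset.mem_erase.1 hy
      have hmem : R ∈ fixPts N (w * y) :=
        fix_mul (Set.mem_toFinset.1 hR) (e.ptA_fix (Set.mem_toFinset.1 hy))
      rw [Finset.card_erase_of_mem (Set.mem_toFinset.2 hmem), ← Set.ncard_eq_toFinset_card',
        e.axial_ncard (e.axial_star hwa (Set.mem_toFinset.1 hR) (Set.mem_toFinset.1 hy))]
      omega
    · refine le_of_eq ?_
      congr 1
      rw [Finset.card_erase_of_mem (Set.mem_toFinset.2 (one_mem _)),
        ← Set.ncard_eq_toFinset_card', ← Nat.card_coe_set_eq]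
      show Nat.card (ptA A R) - 1 = _
      rw [e.card_ptA]
  have hupper : (Finset.univ.filter (fun P => P ∉ F)).card ≤ Nat.card (lineGrp A N w) := by
    refine (Finset.card_le_card hcover).trans
      ((Finset.card_biUnion_le_card_mul _ _ _ hblock).trans (le_of_eq ?_))
    rw [← Set.ncard_eq_toFinset_card', hF, hcardL]
    ring
  -- the orbit map
  have hmem : ∀ P, P ∉ F → ∀ l : lineGrp A N w, (l : G) • P ∉ F := by
    intro P hP l hlP
    have := smul_fix_of_comm (x := (l : G)⁻¹) (mem_cent.1 (inv_mem (hLw l.2))) hlP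
    rw [inv_smul_smul] at this
    exact hP this
  let orb : ∀ P, P ∉ F → lineGrp A N w → {Q : G ⧸ N // Q ∉ F} := fun P hP l =>
    ⟨(l : G) • P, hmem P hP l⟩
  have hinj : ∀ P hP, Function.Injective (orb P hP) := by
    intro P hP l l' hll
    have h1 : (l : G) • P = (l' : G) • P := congrArg Subtype.val hll
    refine Subtype.ext (inv_mul_eq_one.1 (e.semiregular hw (mul_mem (inv_mem l'.2) l.2) hP ?_)).symm
    rw [mul_smul, h1, inv_smul_smul]
  have hsub : Nat.card {Q : G ⧸ N // Q ∉ F} = (Finset.univ.filter (fun P => P ∉ F)).card := by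
    rw [Nat.card_eq_fintype_card, Fintype.card_subtype]
  refine ⟨fun P hP Q hQ => ?_, ?_⟩
  · obtain ⟨l, hl⟩ := ((hinj P hP).bijective_of_nat_card_le (hsub ▸ hupper)).2 ⟨Q, hQ⟩
    refine ⟨l, ⟨l.2, congrArg Subtype.val hl⟩, ?_⟩
    rintro l' ⟨hl', hl'P⟩
    exact congrArg Subtype.val (hinj P hP (a₁ := ⟨l', hl'⟩) (a₂ := l)
      (Subtype.ext (hl'P.trans (congrArg Subtype.val hl).symm)))
  · have hsplit : F.toFinset.card + (Finset.univ.filter (fun P => P ∉ F)).card =
        Nat.card (G ⧸ N) := by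
      rw [Nat.card_eq_fintype_card,
        show F.toFinset = Finset.univ.filter (fun P => P ∈ F) by ext; simp,
        Finset.card_filter_add_card_filter_not (s := Finset.univ) (fun P => P ∈ F),
        Finset.card_univ]
    rw [← Set.ncard_eq_toFinset_card', hF] at hsplit
    have hlow : Nat.card (lineGrp A N w) ≤ (Finset.univ.filter (fun P => P ∉ F)).card := by
      by_cases hex : ∃ P, P ∉ F
      · obtain ⟨P, hP⟩ := hex
        rw [← hsub]
        exact Nat.card_le_card_of_injective _ (hinj P hP)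
      · exfalso
        push Not at hex
        -- all points would lie on the line
        obtain ⟨a, ha, ha1⟩ := e.exists_ne_one ((1 : G) : G ⧸ N)
        rw [e.ptA_base] at ha
        obtain ⟨g, hg⟩ := e.setup.exists_conj_notMem (w := w) (fun h1 => by simpa [h1] using hw.two)
        refine hg ?_
        have hall : ∀ x : G, x⁻¹ * w * x ∈ N := fun x => mem_fixPts.1 (hex _)
        simpa using hall g⁻¹
    rw [← hsplit, le_antisymm hupper hlow, hcardL]
    obtain ⟨m, hm⟩ : ∃ m, 2 ^ n = m + 1 := ⟨2 ^ n - 1, by have := e.one_lt; omega⟩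
    rw [hm, Nat.add_sub_cancel]
    ring

end NormalGame

end CfsgLib.ThreeFree
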