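import Cfsg.Agent.Lib.ThreeFree.Algebra

/-!
A lower bound for a 2-group `P` on which a group `Q` of odd order acts nontrivially modulo a
subgroup `A`, when an element `h` normalises everything and has small powers fixed-point-free on `Q`.
-/

set_option autoImplicit false
set_option linter.style.haveILetI false

namespace CfsgLib.ThreeFree.UStr

open Subgroup

universe u

/-- If `Q` has odd order and moves `P / A` (elementary abelian, `A` central in `P`), and the powers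
`h ^ i`, `0 < i < m`, are fixed-point-free on `Q`, then `2 ^ m * |A| ≤ |P|`. -/
theorem two_pow_mul_card_le {G : Type u} [Group G] [Finite G] {A P Q : Subgroup G} {h : G} {m : ℕ}
    (hAP : A ≤ P) (hAc : ∀ a ∈ A, ∀ x ∈ P, x * a = a * x)
    (hQA : ∀ q ∈ Q, ∀ a ∈ A, q * a * q⁻¹ = a) (hQP : ∀ q ∈ Q, ∀ x ∈ P, q * x * q⁻¹ ∈ P)
    (hhA : ∀ a ∈ A, h * a * h⁻¹ ∈ A) (hhP : ∀ x ∈ P, h * x * h⁻¹ ∈ P)
    (hhQ : ∀ q ∈ Q, h * q * h⁻¹ ∈ Q) (hsq : ∀ x ∈ P, x * x ∈ A) (hodd : Odd (Nat.card Q))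
    (hfpf : ∀ i, 0 < i → i < m → ∀ q ∈ Q, h ^ i * q * (h ^ i)⁻¹ = q → q = 1)
    (hmoved : ∃ q ∈ Q, ∃ x ∈ P, x⁻¹ * (q * x * q⁻¹) ∉ A) :
    2 ^ m * Nat.card A ≤ Nat.card P := by
  classical
  set M₀ : Subgroup G := normalizer (P : Set G) ⊓ normalizer (A : Set G) with hM₀
  have hPM : P ≤ M₀ := fun x hx => Subgroup.mem_inf.2
    ⟨mem_normalizer_fintype fun y hy => mul_mem (mul_mem hx hy) (inv_mem hx),
      mem_normalizer_fintype fun a ha => by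
        have e : x * a * x⁻¹ = a := mul_inv_eq_iff_eq_mul.2 (hAc a ha x hx)
        show x * a * x⁻¹ ∈ A
        rw [e]; exact ha⟩
  have hAM : A ≤ M₀ := hAP.trans hPM
  have hQM : Q ≤ M₀ := fun q hq => Subgroup.mem_inf.2
    ⟨mem_normalizer_fintype fun y hy => hQP q hq y hy, mem_normalizer_fintype fun a ha => by
      show q * a * q⁻¹ ∈ A
      rw [hQA q hq a ha]; exact ha⟩
  have hhM : h ∈ M₀ := Subgroup.mem_inf.2
    ⟨mem_normalizer_fintype fun y hy => hhP y hy, mem_normalizer_fintype fun a ha => hhA a ha⟩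
  set A' : Subgroup M₀ := A.subgroupOf M₀ with hA'
  haveI hA'n : A'.Normal := ⟨fun a ha g => mem_subgroupOf.2
    ((mem_normalizer_iff.1 (Subgroup.mem_inf.1 g.2).2 (a : G)).1 (mem_subgroupOf.1 ha))⟩
  set f : M₀ →* M₀ ⧸ A' := QuotientGroup.mk' A' with hf
  have hf1 : ∀ x : M₀, f x = 1 ↔ (x : G) ∈ A := fun x => by
    rw [hf, QuotientGroup.mk'_apply, QuotientGroup.eq_one_iff, hA', mem_subgroupOf]
  set V₀ := (P.subgroupOf M₀).map f with hV₀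
  set Qb := (Q.subgroupOf M₀).map f with hQb
  have hV2 : ∀ a ∈ V₀, a * a = 1 := by
    rintro _ ⟨x, hx, rfl⟩
    rw [← map_mul, hf1, Subgroup.coe_mul]
    exact hsq _ (mem_subgroupOf.1 hx)
  have hQV : ∀ q ∈ Qb, ∀ a ∈ V₀, q * a * q⁻¹ ∈ V₀ := by
    rintro _ ⟨q, hq, rfl⟩ _ ⟨x, hx, rfl⟩
    exact ⟨q * x * q⁻¹, mem_subgroupOf.2 (hQP _ (mem_subgroupOf.1 hq) _ (mem_subgroupOf.1 hx)),
      by simp⟩
  set hb := f ⟨h, hhM⟩ with hhb
  have hhV : ∀ a ∈ V₀, hb * a * hb⁻¹ ∈ V₀ := by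
    rintro _ ⟨x, hx, rfl⟩
    exact ⟨⟨h, hhM⟩ * x * ⟨h, hhM⟩⁻¹, mem_subgroupOf.2 (hhP _ (mem_subgroupOf.1 hx)), by simp [hhb]⟩
  have hhQb : ∀ a ∈ Qb, hb * a * hb⁻¹ ∈ Qb := by
    rintro _ ⟨x, hx, rfl⟩
    exact ⟨⟨h, hhM⟩ * x * ⟨h, hhM⟩⁻¹, mem_subgroupOf.2 (hhQ _ (mem_subgroupOf.1 hx)), by simp [hhb]⟩
  have hQodd : Odd (Nat.card Qb) := by
    refine hodd.of_dvd_nat ?_
    rw [← Nat.card_congr (Subgroup.subgroupOfEquivOfLe hQM).toEquiv]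
    exact Subgroup.card_map_dvd (Q.subgroupOf M₀) f
  letI : CommGroup V₀ :=
    { (inferInstance : Group V₀) with
      mul_comm := fun x y => by
        have hi : ∀ z : V₀, z⁻¹ = z := fun z =>
          inv_eq_of_mul_eq_one_right (Subtype.ext (hV2 _ z.2))
        rw [← hi (x * y), mul_inv_rev, hi, hi] }
  haveI : Fintype Qb := Fintype.ofFinite Qb
  let c : Qb → (V₀ →* V₀) := fun q =>
    { toFun := fun x => ⟨(q : M₀ ⧸ A') * x * (q : M₀ ⧸ A')⁻¹, hQV _ q.2 _ x.2⟩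
      map_one' := Subtype.ext (by simp)
      map_mul' := fun x y => Subtype.ext (by simp [mul_assoc]) }
  let T : V₀ →* V₀ := ∏ q : Qb, c q
  have hT : ∀ x, T x = ∏ q : Qb, c q x := fun x => MonoidHom.finsetProd_apply _ _ _
  have hTc : ∀ (q : Qb) (x : V₀), T (c q x) = T x := by
    intro q x
    rw [hT, hT]
    refine Fintype.prod_equiv (Equiv.mulRight q) _ _ fun p => Subtype.ext ?_
    show (p : M₀ ⧸ A') * ((q : M₀ ⧸ A') * x * (q : M₀ ⧸ A')⁻¹) * (p : M₀ ⧸ A')⁻¹ =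
      ((p * q : Qb) : M₀ ⧸ A') * x * ((p * q : Qb) : M₀ ⧸ A')⁻¹
    simp [mul_assoc]
  let V := T.ker.map V₀.subtype
  have hmemV : ∀ a, a ∈ V ↔ ∃ ha : a ∈ V₀, T ⟨a, ha⟩ = 1 := fun a =>
    ⟨fun ⟨x, hx, hxa⟩ => hxa ▸ ⟨x.2, hx⟩, fun ⟨ha, hx⟩ => ⟨⟨a, ha⟩, hx, rfl⟩⟩
  have hV : V ≠ ⊥ := by
    obtain ⟨q, hq, x, hx, hne⟩ := hmoved
    intro hbot
    apply hne
    set x' : V₀ := ⟨f ⟨x, hPM hx⟩, ⟨_, mem_subgroupOf.2 hx, rfl⟩⟩
    set q' : Qb := ⟨f ⟨q, hQM hq⟩, ⟨_, mem_subgroupOf.2 hq, rfl⟩⟩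
    have hmem : ((x'⁻¹ * c q' x' : V₀) : M₀ ⧸ A') ∈ V := (hmemV _).2
      ⟨(x'⁻¹ * c q' x').2, by rw [Subtype.coe_eta, map_mul, map_inv, hTc, inv_mul_cancel]⟩
    rw [hbot, Subgroup.mem_bot] at hmem
    have e : f (⟨x, hPM hx⟩⁻¹ * (⟨q, hQM hq⟩ * ⟨x, hPM hx⟩ * ⟨q, hQM hq⟩⁻¹)) = 1 := by
      rw [map_mul, map_mul, map_mul, map_inv, map_inv]
      exact hmem
    exact (hf1 _).1 e
  have hVQ : ∀ q ∈ Qb, ∀ a ∈ V, q * a * q⁻¹ ∈ V := by
    intro q hq a ha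
    obtain ⟨ha0, hTa⟩ := (hmemV a).1 ha
    exact (hmemV _).2 ⟨hQV q hq a ha0, (hTc ⟨q, hq⟩ ⟨a, ha0⟩).trans hTa⟩
  have hfix : ∀ a ∈ V, (∀ x ∈ Qb, x * a * x⁻¹ = a) → a = 1 := by
    intro a ha hx
    obtain ⟨ha0, hTa⟩ := (hmemV a).1 ha
    rw [hT, Finset.prod_congr rfl fun (q : Qb) _ =>
      (Subtype.ext (hx _ q.2) : c q ⟨a, ha0⟩ = ⟨a, ha0⟩), Finset.prod_const, Finset.card_univ,
      ← Nat.card_eq_fintype_card] at hTa
    obtain ⟨j, hj⟩ := hQodd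
    rw [hj, pow_succ, pow_mul, pow_two,
      show (⟨a, ha0⟩ * ⟨a, ha0⟩ : V₀) = 1 from Subtype.ext (hV2 a ha0), one_pow, one_mul] at hTa
    exact congrArg Subtype.val hTa
  have hVh : ∀ a ∈ V, hb * a * hb⁻¹ ∈ V := by
    intro a ha
    obtain ⟨ha0, hTa⟩ := (hmemV a).1 ha
    let ch : V₀ →* V₀ :=
      { toFun := fun x => ⟨hb * x * hb⁻¹, hhV _ x.2⟩
        map_one' := Subtype.ext (by simp)
        map_mul' := fun x y => Subtype.ext (by simp [mul_assoc]) }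
    let σ : Qb → Qb := fun q => ⟨hb * q * hb⁻¹, hhQb _ q.2⟩
    have hσ : Function.Bijective σ := Finite.injective_iff_bijective.1 fun q r e =>
      Subtype.ext (conj_injective (x := hb) (congrArg Subtype.val e))
    have hcomm : T (ch ⟨a, ha0⟩) = ch (T ⟨a, ha0⟩) := by
      rw [hT, hT, map_prod]
      refine (hσ.prod_comp fun q => c q (ch ⟨a, ha0⟩)).symm.trans
        (Finset.prod_congr rfl fun q _ => Subtype.ext ?_)
      show (hb * q * hb⁻¹) * (hb * a * hb⁻¹) * (hb * q * hb⁻¹)⁻¹ =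
        hb * ((q : M₀ ⧸ A') * a * (q : M₀ ⧸ A')⁻¹) * hb⁻¹
      group
    exact (hmemV _).2 ⟨hhV a ha0, hcomm.trans (by rw [hTa, map_one])⟩
  have hfpf' : ∀ i, 0 < i → i < m → ∀ y ∈ Qb, hb ^ i * y * (hb ^ i)⁻¹ = y → y = 1 := by
    rintro i hi him _ ⟨q, hq, rfl⟩ he
    have hq' : (q : G) ∈ Q := mem_subgroupOf.1 hq
    have hi_mem : ∀ r ∈ Q, h ^ i * r * (h ^ i)⁻¹ ∈ Q := fun r hr => (mem_normalizer_iff.1
      (pow_mem (mem_normalizer_fintype fun y hy => hhQ y hy) i) r).1 hr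
    have hiA : ∀ r ∈ A, h ^ i * r * (h ^ i)⁻¹ ∈ A := fun r hr => (mem_normalizer_iff.1
      (pow_mem (mem_normalizer_fintype fun y hy => hhA y hy) i) r).1 hr
    have hmemA : (q : G)⁻¹ * (h ^ i * q * (h ^ i)⁻¹) ∈ A := by
      have e : f (q⁻¹ * (⟨h, hhM⟩ ^ i * q * (⟨h, hhM⟩ ^ i)⁻¹)) = 1 := by
        rw [map_mul, map_inv, map_mul, map_mul, map_inv, map_pow, he, inv_mul_cancel]
      simpa using (hf1 _).1 e
    -- `r ↦ r⁻¹ (h^i r h^-i)` is injective on `Q`, hence bijective on `Q ⊓ A`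
    have hinj : ∀ r ∈ Q, ∀ s ∈ Q,
        r⁻¹ * (h ^ i * r * (h ^ i)⁻¹) = s⁻¹ * (h ^ i * s * (h ^ i)⁻¹) → r = s := by
      intro r hr s hs e
      refine (mul_inv_eq_one.1 (hfpf i hi him (s * r⁻¹) (mul_mem hs (inv_mem hr)) ?_)).symm
      calc h ^ i * (s * r⁻¹) * (h ^ i)⁻¹
          = s * (s⁻¹ * (h ^ i * s * (h ^ i)⁻¹)) * (r * (r⁻¹ * (h ^ i * r * (h ^ i)⁻¹)))⁻¹ := by
            group
        _ = s * r⁻¹ := by rw [← e]; group
    let D := Q ⊓ A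
    let τ : D → D := fun r => ⟨(r : G)⁻¹ * (h ^ i * r * (h ^ i)⁻¹), mul_mem (inv_mem r.2)
      (Subgroup.mem_inf.2 ⟨hi_mem _ r.2.1, hiA _ r.2.2⟩)⟩
    have hτ : Function.Surjective τ := (Finite.injective_iff_surjective).1 fun r s e =>
      Subtype.ext (hinj _ r.2.1 _ s.2.1 (congrArg Subtype.val e))
    obtain ⟨r, hr⟩ := hτ ⟨_, Subgroup.mem_inf.2
      ⟨mul_mem (inv_mem hq') (hi_mem _ hq'), hmemA⟩⟩
    rw [hf1, show (q : G) = r from hinj _ (mem_subgroupOf.1 hq) _ r.2.1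
      (congrArg Subtype.val hr).symm]
    exact r.2.2
  have hmain : 2 ^ m ≤ Nat.card V :=
    two_pow_le_card (M := Qb) hV (fun a ha => hV2 a ((hmemV a).1 ha).1)
      (fun a ha b hb' => by
        obtain ⟨ha0, -⟩ := (hmemV a).1 ha
        obtain ⟨hb0, -⟩ := (hmemV b).1 hb'
        exact congrArg Subtype.val (mul_comm (⟨a, ha0⟩ : V₀) ⟨b, hb0⟩))
      hVQ hQodd hfix hVh hhQb hfpf'
  have hVle : Nat.card V ≤ Nat.card V₀ :=
    Subgroup.card_le_of_le fun a ha => ((hmemV a).1 ha).1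
  have hcard : Nat.card V₀ * Nat.card A = Nat.card P := by
    let g : P →* M₀ ⧸ A' := f.comp (Subgroup.inclusion hPM)
    have hr : g.range = V₀ := by
      ext y
      constructor
      · rintro ⟨x, rfl⟩
        exact ⟨_, mem_subgroupOf.2 x.2, rfl⟩
      · rintro ⟨x, hx, rfl⟩
        exact ⟨⟨x, mem_subgroupOf.1 hx⟩, rfl⟩
    have hk : g.ker = A.subgroupOf P := by
      ext x
      rw [MonoidHom.mem_ker, MonoidHom.comp_apply, hf1, mem_subgroupOf]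
      rfl
    rw [← hr, ← Nat.card_congr (Subgroup.subgroupOfEquivOfLe hAP).toEquiv, ← hk,
      ← Subgroup.index_ker, Subgroup.index_mul_card]
  calc 2 ^ m * Nat.card A ≤ Nat.card V₀ * Nat.card A :=
      Nat.mul_le_mul_right _ (hmain.trans hVle)
    _ = Nat.card P := hcard

end CfsgLib.ThreeFree.UStr
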