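import Cfsg.Agent.Lib.ThreeFree.UStructShift
import Cfsg.Agent.Lib.ThreeFree.UStructQuot

/-!
A group of odd order acting semiregularly on the classes modulo `A` of the bad involutions of `P`
and normalised by a cyclic group of order `2 ^ n - 1` with fixed-point-free powers is trivial.
-/

set_option autoImplicit false
set_option linter.style.haveILetI false
set_option linter.unusedSectionVars false

namespace CfsgLib.ThreeFree.UStr

open Subgroup

universe u

variable {G : Type u} [Group G] [Finite G]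

/-- An element of order dividing the prime `p` normalising `H` fixes, modulo `p`, as many elements
of `H` as there are. -/
theorem card_modEq_fix {p : ℕ} [Fact p.Prime] {H : Subgroup G} {g : G} (hg : g ^ p = 1)
    (hH : ∀ x ∈ H, g * x * g⁻¹ ∈ H) :
    Nat.card H ≡ Nat.card {x : H // g * x = x * g} [MOD p] := by
  have hn : zpowers g ≤ normalizer (H : Set G) :=
    zpowers_le.2 (mem_normalizer_fintype fun x hx => hH x hx)
  letI : MulAction (zpowers g) H :=
    { smul := fun z x => ⟨(z : G) * x * (z : G)⁻¹, (mem_normalizer_iff.1 (hn z.2) _).1 x.2⟩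
      one_smul := fun x => Subtype.ext (show (1 : G) * x * (1 : G)⁻¹ = x by simp)
      mul_smul := fun z z' x => Subtype.ext (show ((z : G) * z') * x * ((z : G) * z')⁻¹ =
        (z : G) * ((z' : G) * x * (z' : G)⁻¹) * (z : G)⁻¹ by group) }
  have hP : IsPGroup p (zpowers g) := fun z => ⟨1, Subtype.ext (by
    obtain ⟨i, hi⟩ := mem_zpowers_iff.1 z.2
    rw [pow_one, Subgroup.coe_pow, ← hi, ← zpow_natCast, ← zpow_mul, mul_comm i, zpow_mul,
      zpow_natCast, hg, one_zpow, Subgroup.coe_one])⟩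
  refine (hP.card_modEq_card_fixedPoints H).trans (congrArg (· % p) ?_)
  refine Nat.card_congr (Equiv.subtypeEquivRight fun x => ?_)
  rw [MulAction.mem_fixedPoints]
  refine ⟨fun hx => mul_inv_eq_iff_eq_mul.1
    (congrArg Subtype.val (hx ⟨g, mem_zpowers g⟩)), fun hx z => Subtype.ext ?_⟩
  obtain ⟨i, hi⟩ := mem_zpowers_iff.1 z.2
  show (z : G) * x * (z : G)⁻¹ = x
  rw [← hi, ((show Commute g x from hx).zpow_left i).eq, mul_inv_cancel_right]

variable {S : Sylow 2 G} {A N : Subgroup G} {n : ℕ} {w h : G} {P : Subgroup G}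

private theorem small_n {n : ℕ} (h4 : 4 ≤ n) : 3 * n + 2 ≤ 2 ^ n := by
  induction n, h4 using Nat.le_induction with
  | base => norm_num
  | succ m hm ih => rw [pow_succ]; omega

theorem Trans.semireg_trivial (e : NormalGame S A N n) (t : Trans A N n w h P)
    (hsq : ∀ x ∈ P, x * x ∈ A) {Q : Subgroup G} {r : G}
    (hQA : Q ≤ centralizer (A : Set G)) (hQP : ∀ q ∈ Q, ∀ x ∈ P, q * x * q⁻¹ ∈ P)
    (hodd : Odd (Nat.card Q)) (h3 : ¬ 3 ∣ Nat.card Q)
    (hsemi : ∀ q ∈ Q, ∀ v, Bad N v → v ∈ P → v⁻¹ * (q * v * q⁻¹) ∈ A → q = 1)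
    (hrA : ∀ a ∈ A, r * a * r⁻¹ ∈ A) (hrP : ∀ x ∈ P, r * x * r⁻¹ ∈ P)
    (hrQ : ∀ q ∈ Q, r * q * r⁻¹ ∈ Q) (hr1 : r ^ (2 ^ n - 1) = 1)
    (hfpf : ∀ i, 0 < i → i < 2 ^ n - 1 → ∀ q ∈ Q, r ^ i * q * (r ^ i)⁻¹ = q → q = 1) :
    Q = ⊥ := by
  classical
  by_contra hQ
  obtain ⟨q₀, hq₀, hq₀1⟩ := (Subgroup.bot_or_exists_ne_one _).resolve_left hQ
  have s := t.syl
  have d := s.base.line
  have hw := d.bad
  have hwP : w ∈ P := s.J_le (mem_jGrp_self e hw)
  have hAJ : A ≤ jGrp A w := A_le_jGrp' e hw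
  -- the orders
  have hKle : Nat.card (kerK A N w) ≤ 2 ^ n := le_trans
    (Subgroup.card_le_of_le fun c hc => t.mem_kInv e hc) d.kInv_card_le
  have hcardP : Nat.card P = 2 ^ n * ((2 ^ n) ^ 2 * Nat.card (kerK A N w)) := by
    rw [t.card_P e, d.J_card]
  have hPle : Nat.card P ≤ 2 ^ (4 * n) := by
    rw [hcardP]
    calc 2 ^ n * ((2 ^ n) ^ 2 * Nat.card (kerK A N w)) ≤ 2 ^ n * ((2 ^ n) ^ 2 * 2 ^ n) :=
        Nat.mul_le_mul_left _ (Nat.mul_le_mul_left _ hKle)
      _ = 2 ^ (4 * n) := by ring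
  have hm := two_pow_mul_card_le (Q := Q) (h := r) (m := 2 ^ n - 1)
    (hAJ.trans s.J_le) (fun a ha x hx => A_central ha (s.P_le hx))
    (fun q hq a ha => conj_A ha (hQA hq)) hQP hrA hrP hrQ hsq hodd hfpf
    ⟨q₀, hq₀, w, hwP, fun h0 => hq₀1 (hsemi q₀ hq₀ w hw hwP h0)⟩
  have hn : n = 3 := by
    have h1 : 2 ^ (2 ^ n - 1 + n) ≤ 2 ^ (4 * n) := by
      rw [pow_add, ← e.base.card_A]
      exact le_trans (le_of_eq (by rw [e.base.card_A])) (hm.trans hPle)
    have h2 := (Nat.pow_le_pow_iff_right (by norm_num)).1 h1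
    have h3 := e.base.three_le
    by_contra hne
    have := small_n (n := n) (by omega)
    omega
  have h7 : 2 ^ n - 1 = 7 := by rw [hn]; norm_num
  -- `|Q| ≡ 1 (mod 7)`
  have hQ7 : Nat.card Q % 7 = 1 := by
    haveI : Fact (Nat.Prime 7) := ⟨by norm_num⟩
    have h1 := card_modEq_fix (p := 7) (g := r) (by rw [← h7]; exact hr1) hrQ
    have h2 : Nat.card {x : Q // r * x = x * r} = 1 := by
      haveI : Subsingleton {x : Q // r * x = x * r} := ⟨fun x y => by
        have hx : ∀ z : {x : Q // r * x = x * r}, ((z : Q) : G) = 1 := fun z =>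
          hfpf 1 one_pos (by rw [h7]; norm_num) _ z.1.2
            (by rw [pow_one, z.2, mul_inv_cancel_right])
        exact Subtype.ext (Subtype.ext ((hx x).trans (hx y).symm))⟩
      haveI : Nonempty {x : Q // r * x = x * r} := ⟨⟨1, by simp⟩⟩
      exact Nat.card_unique
    rw [h2] at h1
    exact h1
  -- at most `72` classes of bad involutions
  have hQN : Q ≤ N := hQA.trans (cent_le_N e)
  set E := eGrp A N w with hE
  have hEP : E ≤ P := fun x hx => s.J_le ((d.mem_E x).1 hx).1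
  have hcl : ∀ q ∈ Q, ∀ q' ∈ Q, (q * w * q⁻¹)⁻¹ * (q' * w * q'⁻¹) ∈ A → q = q' := by
    intro q hq q' hq' h0
    have hv : Bad N (q * w * q⁻¹) := hw.conj (hQN hq)
    have h1 := hsemi (q' * q⁻¹) (mul_mem hq' (inv_mem hq)) _ hv (hQP q hq w hwP)
      (by rwa [show q' * q⁻¹ * (q * w * q⁻¹) * (q' * q⁻¹)⁻¹ = q' * w * q'⁻¹ by group])
    exact (mul_inv_eq_one.1 h1).symm
  have hbound : Nat.card Q ≤ 72 := by
    have hker : ∀ q : Q, q * w * (q : G)⁻¹ ∈ jGrp A w →
        ∃ a ∈ A, ∃ k ∈ kInv A N w, (q : G) * w * (q : G)⁻¹ = a * k := fun q hq =>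
      d.E_decomp _ ((d.mem_E _).2 ⟨hq, bad_sq (hw.conj (hQN q.2))⟩)
    choose a ha k hk hak using hker
    let Φ : Q → (P ⧸ E.subgroupOf P) ⊕ kInv A N w := fun q =>
      if hq : (q : G) * w * (q : G)⁻¹ ∈ jGrp A w then Sum.inr ⟨k q hq, hk q hq⟩
      else Sum.inl ((⟨_, hQP q q.2 w hwP⟩ : P) : P ⧸ E.subgroupOf P)
    have hΦ : Function.Injective Φ := by
      intro q q' hqq
      simp only [Φ] at hqq
      refine Subtype.ext (hcl q q.2 q' q'.2 ?_)
      by_cases hq : (q : G) * w * (q : G)⁻¹ ∈ jGrp A w <;>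
        by_cases hq' : (q' : G) * w * (q' : G)⁻¹ ∈ jGrp A w <;>
        simp only [hq, hq', dite_true, dite_false, Sum.inr.injEq, Sum.inl.injEq, reduceCtorEq,
          Subtype.mk.injEq] at hqq
      · rw [hak q hq, hak q' hq', hqq, show (a q hq * k q' hq')⁻¹ * (a q' hq' * k q' hq') =
          (k q' hq')⁻¹ * ((a q hq)⁻¹ * a q' hq') * k q' hq' by group]
        have h1 : (a q hq)⁻¹ * a q' hq' ∈ A := mul_mem (inv_mem (ha q hq)) (ha q' hq')
        have h2 := conj_A h1 (inv_mem (d.K_le_J ((d.mem_kInv _).1 (hk q' hq')).1).1)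
        rw [inv_inv] at h2
        rw [h2]
        exact h1
      · set v := (q : G) * w * (q : G)⁻¹ with hv
        set v' := (q' : G) * w * (q' : G)⁻¹ with hv'
        have h1 : v⁻¹ * v' ∈ E := mem_subgroupOf.1 (QuotientGroup.eq.1 hqq)
        obtain ⟨a₀, ha₀, c, hc, hc0⟩ := d.E_decomp _ h1
        obtain ⟨hcK, hc2⟩ := (d.mem_kInv c).1 hc
        have hvP : v ∈ P := hQP q q.2 w hwP
        have hv2 : v * v = 1 := bad_sq (hw.conj (hQN q.2))
        have hv2' : v' * v' = 1 := bad_sq (hw.conj (hQN q'.2))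
        obtain ⟨b, hb, hvb⟩ := s.label hvP
        have hb1 : b ≠ 1 := fun h0 => hq (s.mem_J e hvP (by rw [hvb, h0, mul_one]))
        by_cases hc1 : c = 1
        · rw [hc0, hc1, mul_one]; exact ha₀
        refine absurd ?_ (t.tau_ne_one e hb hvb hb1 hcK hc1)
        have h4 : v' = v * a₀ * c := by rw [mul_assoc, ← hc0, mul_inv_cancel_left]
        have h5 : v * c * (v * c) = 1 := by
          calc v * c * (v * c) = v * c * (v * c) * (a₀ * a₀) := by rw [A_sq e ha₀, mul_one]
            _ = v * (c * (v * c * a₀)) * a₀ := by group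
            _ = v * (c * (v * (a₀ * c))) * a₀ := by
                rw [mul_assoc v c a₀, A_central ha₀ (d.K_le_J hcK).1]
            _ = v * ((c * v * a₀) * (c * a₀)) := by group
            _ = v * ((a₀ * (c * v)) * (a₀ * c)) := by
                rw [A_central ha₀ (mul_mem (d.K_le_J hcK).1 (s.P_le hvP)),
                  A_central ha₀ (d.K_le_J hcK).1]
            _ = v * a₀ * c * (v * a₀ * c) := by group
            _ = 1 := by rw [← h4, hv2']
        calc c⁻¹ * (v * c * v⁻¹) = c * (v * c * v) := by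
              rw [inv_eq_of_mul_eq_one_right hv2, inv_eq_of_mul_eq_one_right hc2]
          _ = (v * v) * (c * (v * c * v)) * (v * v)⁻¹ := by rw [hv2]; simp
          _ = v * (v * c * (v * c)) * v⁻¹ := by group
          _ = 1 := by rw [h5]; simp
    have hle := Nat.card_le_card_of_injective Φ hΦ
    rw [Nat.card_sum] at hle
    have hidx : Nat.card (P ⧸ E.subgroupOf P) * Nat.card E = Nat.card P := by
      rw [← Nat.card_congr (Subgroup.subgroupOfEquivOfLe hEP).toEquiv]
      exact Subgroup.index_mul_card _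
    have hKeq : Nat.card (kInv A N w) = Nat.card (kerK A N w) := by
      congr 1
      rw [show kInv A N w = kerK A N w from le_antisymm (fun c hc => ((d.mem_kInv c).1 hc).1)
        fun c hc => t.mem_kInv e hc]
    rw [hE, d.E_card, hKeq, hcardP, hn] at hidx
    rw [hKeq] at hle
    rw [hn] at hKle
    have hk0 : 0 < Nat.card (kerK A N w) := Nat.card_pos
    have : Nat.card (P ⧸ E.subgroupOf P) = 64 := by
      refine Nat.eq_of_mul_eq_mul_right (Nat.mul_pos (show 0 < 2 ^ 3 by norm_num) hk0) ?_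
      rw [hidx]; ring
    norm_num at hKle
    omega
  -- an element of prime order fixing `w`
  have hcases : Nat.card Q = 1 ∨ Nat.card Q = 29 ∨ Nat.card Q = 43 ∨ Nat.card Q = 71 := by
    obtain ⟨j, hj⟩ := hodd
    omega
  haveI : Nontrivial Q := (Subgroup.nontrivial_iff_ne_bot _).2 hQ
  have hne1 : Nat.card Q ≠ 1 := (Finite.one_lt_card).ne'
  have hp : (Nat.card Q).Prime := by
    rcases hcases with h0 | h0 | h0 | h0
    · exact absurd h0 hne1
    all_goals rw [h0]; norm_num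
  haveI := Fact.mk hp
  have hg : q₀ ^ Nat.card Q = 1 :=
    congrArg Subtype.val (pow_card_eq_one' (x := (⟨q₀, hq₀⟩ : Q)))
  have hmod := card_modEq_fix (p := Nat.card Q) (g := q₀) hg (hQP q₀ hq₀)
  let C : Subgroup G := P ⊓ centralizer ({q₀} : Set G)
  have hC : Nat.card {x : P // q₀ * x = x * q₀} = Nat.card C := by
    refine Nat.card_congr ⟨fun x => ⟨x.1, x.1.2, mem_centralizer_singleton_iff.2 x.2.symm⟩,
      fun x => ⟨⟨x, x.2.1⟩, (mem_centralizer_singleton_iff.1 x.2.2).symm⟩, fun _ => rfl,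
      fun _ => rfl⟩
  haveI : Fact (Nat.Prime 2) := ⟨Nat.prime_two⟩
  obtain ⟨i, hi⟩ := IsPGroup.iff_card.1 s.P_two
  obtain ⟨j, hj⟩ := IsPGroup.iff_card.1 (s.P_two.to_le (inf_le_left : C ≤ P))
  have hi12 : i ≤ 12 := by
    rw [hi, hn] at hPle
    exact (Nat.pow_le_pow_iff_right (by norm_num)).1 hPle
  have hji : j ≤ i := by
    have := Subgroup.card_le_of_le (inf_le_left : C ≤ P)
    rw [hi, hj] at this
    exact (Nat.pow_le_pow_iff_right (by norm_num)).1 this
  have hij : j = i := by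
    have key : ∀ p ∈ [29, 43, 71], ∀ a < 13, ∀ b < 13, 2 ^ a % p = 2 ^ b % p → b = a := by
      decide +kernel
    rw [hC, hi, hj] at hmod
    refine key _ ?_ i (by omega) j (by omega) hmod
    rcases hcases with h0 | h0 | h0 | h0
    · exact absurd h0 hne1
    all_goals simp [h0]
  have hCP : C = P := Subgroup.eq_of_le_of_card_ge inf_le_left (by rw [hi, hj, hij])
  have hwC : w * q₀ = q₀ * w := mem_centralizer_singleton_iff.1 (hCP.ge hwP).2
  refine hq₀1 (hsemi q₀ hq₀ w hw hwP ?_)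
  rw [← hwC, mul_inv_cancel_right, inv_mul_cancel]
  exact one_mem A

end CfsgLib.ThreeFree.UStr
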