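import Cfsg.Agent.Lib.ThreeFree.Algebra

/-!
A map commuting with a large power of a torus on `A` and fixing a nontrivial element fixes `A`.
-/

set_option autoImplicit false
set_option linter.style.haveILetI false

namespace CfsgLib.ThreeFree.UStr

open Subgroup

universe u

/-- `n * (2 ^ g - 1) < 2 ^ n - 1` for a proper divisor `g` of the odd number `n ≥ 3`. -/
theorem mul_two_pow_sub_one_lt {g n : ℕ} (hn : Odd n) (hg : g ∣ n) (hne : g ≠ n) :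
    n * (2 ^ g - 1) < 2 ^ n - 1 := by
  obtain ⟨c, rfl⟩ := hg
  have hco : Odd c := (Nat.odd_mul.1 hn).2
  have hgo : Odd g := (Nat.odd_mul.1 hn).1
  have hgpos : 0 < g := hgo.pos
  have hc : 3 ≤ c := by
    obtain ⟨j, rfl⟩ := hco
    rcases Nat.eq_zero_or_pos j with rfl | hj
    · simp at hne
    · omega
  obtain ⟨d, rfl⟩ : ∃ d, c = d + 1 := ⟨c - 1, by omega⟩
  have h2 : 2 ≤ d := by omega
  have h3 : g * (d + 1) < 2 ^ (g * d) := by
    have key : ∀ m, 2 * m ≤ 2 ^ m := by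
      intro m
      induction m with
      | zero => simp
      | succ m ih =>
        rw [pow_succ]
        have : 0 < 2 ^ m := Nat.two_pow_pos m
        omega
    calc g * (d + 1) < g * (2 * d) := Nat.mul_lt_mul_of_pos_left (by omega) hgpos
      _ = 2 * (g * d) := by ring
      _ ≤ _ := key _
  have h5 : 2 ^ (g * (d + 1)) = 2 ^ (g * d) * 2 ^ g := by rw [← pow_add]; ring_nf
  have h1 : 1 ≤ 2 ^ g := Nat.one_le_two_pow
  have h4 : (g * (d + 1) + 1) * (2 ^ g - 1) ≤ 2 ^ (g * d) * (2 ^ g - 1) :=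
    Nat.mul_le_mul_right _ h3
  have h6 : 2 ^ (g * d) * (2 ^ g - 1) + 2 ^ (g * d) = 2 ^ (g * d) * 2 ^ g := by
    rw [← Nat.mul_succ, Nat.succ_eq_add_one, Nat.sub_add_cancel h1]
  have h7 : 2 ≤ 2 ^ (g * d) :=
    le_self_pow₀ (by norm_num) (by positivity)
  rw [h5]
  rw [add_mul, one_mul] at h4
  omega

/-- A map commuting on `A` with a power `h ^ e`, `e ≤ n`, of a torus and fixing a nontrivial element
fixes all of `A`. -/
theorem fix_all_of_commute {G : Type u} [Group G] [Finite G] {A : Subgroup G} {h g : G} {n e : ℕ}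
    (hn : Odd n) (_h3 : 3 ≤ n) (hcard : Nat.card A = 2 ^ n) (he0 : 0 < e) (he : e ≤ n)
    (hhA : ∀ a ∈ A, h * a * h⁻¹ ∈ A) (_hgA : ∀ a ∈ A, g * a * g⁻¹ ∈ A)
    (hfpf : ∀ k : ℕ, ∀ a ∈ A, a ≠ 1 → h ^ k * a * (h ^ k)⁻¹ = a → (2 ^ n - 1) ∣ k)
    (hord : ∀ a ∈ A, h ^ (2 ^ n - 1) * a * (h ^ (2 ^ n - 1))⁻¹ = a)
    (hc : ∀ a ∈ A, g * (h ^ e * a * (h ^ e)⁻¹) * g⁻¹ = h ^ e * (g * a * g⁻¹) * (h ^ e)⁻¹)
    {a0 : G} (ha0 : a0 ∈ A) (ha1 : a0 ≠ 1) (hg0 : g * a0 * g⁻¹ = a0) :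
    ∀ a ∈ A, g * a * g⁻¹ = a := by
  classical
  haveI : Fact (Nat.Prime 2) := ⟨Nat.prime_two⟩
  have hpow : ∀ k : ℕ, ∀ a ∈ A, h ^ k * a * (h ^ k)⁻¹ ∈ A := by
    intro k
    induction k with
    | zero => intro a ha; simpa using ha
    | succ k ih =>
      intro a ha
      have := hhA _ (ih a ha)
      rwa [show h * (h ^ k * a * (h ^ k)⁻¹) * h⁻¹ = h ^ (k + 1) * a * (h ^ (k + 1))⁻¹ by
        rw [pow_succ']; group] at this
  have hordj : ∀ j : ℕ, ∀ a ∈ A, h ^ ((2 ^ n - 1) * j) * a * (h ^ ((2 ^ n - 1) * j))⁻¹ = a := by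
    intro j
    induction j with
    | zero => intro a _; simp
    | succ j ih =>
      intro a ha
      rw [show (2 ^ n - 1) * (j + 1) = (2 ^ n - 1) * j + (2 ^ n - 1) by ring, pow_add]
      rw [show h ^ ((2 ^ n - 1) * j) * h ^ (2 ^ n - 1) * a * (h ^ ((2 ^ n - 1) * j) * h ^ (2 ^ n - 1))⁻¹ =
        h ^ ((2 ^ n - 1) * j) * (h ^ (2 ^ n - 1) * a * (h ^ (2 ^ n - 1))⁻¹) *
          (h ^ ((2 ^ n - 1) * j))⁻¹ by group, hord a ha, ih a ha]
  -- the fixed points of `g`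
  set F := A ⊓ centralizer ({g} : Set G) with hF
  have hmemF : ∀ a, a ∈ F ↔ a ∈ A ∧ g * a * g⁻¹ = a := fun a => by
    rw [hF, Subgroup.mem_inf, mem_centralizer_singleton_iff, mul_inv_eq_iff_eq_mul]
    exact and_congr_right fun _ => eq_comm
  obtain ⟨f, hfn, hf⟩ := (Nat.dvd_prime_pow Nat.prime_two).1
    (hcard ▸ Subgroup.card_dvd_of_le (inf_le_left : F ≤ A))
  suffices hfeq : f = n by
    intro a ha
    have hFA : F = A := Subgroup.eq_of_le_of_card_ge inf_le_left (by rw [hf, hfeq, hcard])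
    exact ((hmemF a).1 (hFA.symm ▸ ha)).2
  set p := 2 ^ n - 1 with hp
  set g₀ := Nat.gcd p e with hg₀
  set d := p / g₀ with hd
  have hg₀pos : 0 < g₀ := Nat.gcd_pos_of_pos_right _ he0
  have hdg : d * g₀ = p := Nat.div_mul_cancel (Nat.gcd_dvd_left _ _)
  obtain ⟨e₁, he₁⟩ : g₀ ∣ e := Nat.gcd_dvd_right _ _
  have hd1 : ∀ k a, a ∈ A → a ≠ 1 → (h ^ e) ^ k * a * ((h ^ e) ^ k)⁻¹ = a → d ∣ k := by
    intro k a ha ha' hk
    rw [← pow_mul] at hk
    have h1 : d * g₀ ∣ e₁ * k * g₀ := by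
      rw [hdg, show e₁ * k * g₀ = g₀ * e₁ * k by ring, ← he₁]
      exact hfpf _ a ha ha' hk
    have hcop : Nat.Coprime d e₁ := by
      have := Nat.coprime_div_gcd_div_gcd (m := p) (n := e) hg₀pos
      rwa [← hg₀, ← hd, he₁, Nat.mul_div_cancel_left _ hg₀pos] at this
    exact hcop.dvd_of_dvd_mul_left (Nat.dvd_of_mul_dvd_mul_right hg₀pos h1)
  have hd2 : ∀ k a, a ∈ A → d ∣ k → (h ^ e) ^ k * a * ((h ^ e) ^ k)⁻¹ = a := by
    rintro k a ha ⟨c, rfl⟩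
    rw [← pow_mul, show e * (d * c) = p * (e₁ * c) by rw [← hdg, he₁]; ring]
    exact hordj _ a ha
  -- the action of `h ^ e` on the nontrivial fixed points
  have hmaps : ∀ a : {a : G // a ∈ F ∧ a ≠ 1},
      h ^ e * a * (h ^ e)⁻¹ ∈ F ∧ h ^ e * a * (h ^ e)⁻¹ ≠ 1 := by
    rintro ⟨a, ha, ha'⟩
    obtain ⟨haA, hag⟩ := (hmemF a).1 ha
    refine ⟨(hmemF _).2 ⟨hpow e a haA, by rw [hc a haA, hag]⟩, fun h1 => ha' ?_⟩
    rwa [conj_eq_one_iff] at h1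
  let σ : Equiv.Perm {a : G // a ∈ F ∧ a ≠ 1} :=
    Equiv.ofBijective (fun a => ⟨_, hmaps a⟩) (Finite.injective_iff_bijective.1 fun a b hab =>
      Subtype.ext (mul_left_cancel
        (mul_right_cancel (congrArg Subtype.val hab) : h ^ e * (a : G) = h ^ e * (b : G))))
  have hσ : ∀ k a, (((σ ^ k) a : {a : G // a ∈ F ∧ a ≠ 1}) : G) = (h ^ e) ^ k * a * ((h ^ e) ^ k)⁻¹ := by
    intro k
    induction k with
    | zero => intro a; simp
    | succ k ih =>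
      intro a
      rw [pow_succ', Equiv.Perm.mul_apply]
      show h ^ e * (((σ ^ k) a : {a : G // a ∈ F ∧ a ≠ 1}) : G) * (h ^ e)⁻¹ = _
      rw [ih, pow_succ' (h ^ e)]
      group
  let x₀ : {a : G // a ∈ F ∧ a ≠ 1} := ⟨a0, (hmemF a0).2 ⟨ha0, hg0⟩, ha1⟩
  have hord' : orderOf σ = d := by
    refine Nat.dvd_antisymm (orderOf_dvd_of_pow_eq_one (Equiv.ext fun a => Subtype.ext ?_)) ?_
    · rw [hσ, Equiv.Perm.one_apply]
      exact hd2 d a ((hmemF _).1 a.2.1).1 dvd_rfl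
    · refine hd1 _ a0 ha0 ha1 ?_
      rw [← hσ _ x₀, pow_orderOf_eq_one]
      rfl
  have hfree : ∀ a : {a : G // a ∈ F ∧ a ≠ 1},
      MulAction.stabilizer (zpowers σ) a = ⊥ := by
    intro a
    rw [eq_bot_iff]
    rintro ⟨τ, hτ⟩ hτa
    obtain ⟨k, rfl⟩ := (isOfFinOrder_of_finite σ).mem_powers_iff_mem_zpowers.2 hτ
    have h1 := congrArg Subtype.val (MulAction.mem_stabilizer_iff.1 hτa)
    change (((σ ^ k) a : {a : G // a ∈ F ∧ a ≠ 1}) : G) = a at h1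
    rw [hσ] at h1
    rw [Subgroup.mem_bot]
    refine Subtype.ext ?_
    show σ ^ k = 1
    refine orderOf_dvd_iff_pow_eq_one.1 ?_
    rw [hord']
    exact hd1 k a ((hmemF _).1 a.2.1).1 a.2.2 h1
  have hdvd : d ∣ 2 ^ f - 1 := by
    have hX : Nat.card {a : G // a ∈ F ∧ a ≠ 1} = 2 ^ f - 1 := by
      rw [Nat.subtype_card (((F : Set G).toFinite.toFinset).erase 1) (fun a => by simp [and_comm]),
        Finset.card_erase_of_mem (by simp), ← Set.ncard_eq_toFinset_card, ← hf,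
        ← Nat.card_coe_set_eq]
      rfl
    rw [← hX, Nat.card_congr (MulAction.selfEquivSigmaOrbitsQuotientStabilizer (zpowers σ)
      {a : G // a ∈ F ∧ a ≠ 1})]
    haveI : Fintype (MulAction.orbitRel.Quotient (zpowers σ) {a : G // a ∈ F ∧ a ≠ 1}) :=
      Fintype.ofFinite _
    rw [Nat.card_sigma]
    refine Finset.dvd_sum fun ω _ => ?_
    rw [← Subgroup.index_eq_card, hfree, Subgroup.index_bot, Nat.card_zpowers, hord']
  by_contra hne
  have hf1 : 0 < f := by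
    rcases Nat.eq_zero_or_pos f with rfl | h0
    · rw [pow_zero] at hf
      exact absurd (Subgroup.eq_bot_of_card_eq F hf) fun hb =>
        ha1 (Subgroup.mem_bot.1 (hb ▸ x₀.2.1))
    · exact h0
  have hdd : d ∣ 2 ^ Nat.gcd f n - 1 := by
    rw [← Nat.pow_sub_one_gcd_pow_sub_one]
    exact Nat.dvd_gcd hdvd ⟨g₀, hdg.symm⟩
  have hgn : Nat.gcd f n ≠ n := fun h1 => hne (le_antisymm hfn (Nat.le_of_dvd hf1 (h1 ▸ Nat.gcd_dvd_left f n)))
  have hlt := mul_two_pow_sub_one_lt hn (Nat.gcd_dvd_right f n) hgn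
  have hpos : 0 < 2 ^ Nat.gcd f n - 1 :=
    Nat.sub_pos_of_lt (Nat.one_lt_two_pow (Nat.gcd_pos_of_pos_left _ hf1).ne')
  have h8 : d * g₀ ≤ (2 ^ Nat.gcd f n - 1) * n :=
    Nat.mul_le_mul (Nat.le_of_dvd hpos hdd) ((Nat.le_of_dvd he0 ⟨e₁, he₁⟩).trans he)
  rw [hdg, mul_comm] at h8
  omega

end CfsgLib.ThreeFree.UStr
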