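import Cfsg.Agent.Lib.ThreeFree.UStructSwap
import Cfsg.Agent.Lib.ThreeFree.UStructTorus
import Cfsg.Agent.Lib.ThreeFree.UStructCount
import Cfsg.Agent.Lib.PF.OddOrder

/-!
`P` has no involution outside `E`: otherwise `N = C(A) R` with `R` of odd order normalising `P`,
`R` meets `C(A)` trivially, and a normal subgroup of prime order of `R` lies in the tori of all the
bad involutions of `P`, hence fixes their classes modulo `A`.
-/

set_option autoImplicit false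
set_option linter.style.haveILetI false
set_option linter.unusedSectionVars false

namespace CfsgLib.ThreeFree.UStr

open Subgroup

universe u

variable {G : Type u} [Group G] [Finite G] {S : Sylow 2 G} {A N : Subgroup G} {n : ℕ}
  {w h : G} {P : Subgroup G}

/-- Powers of a product with a normalised factor. -/
theorem mul_pow_mem_mul {x r : G} (hx : x ∈ P) (hr : ∀ y ∈ P, r * y * r⁻¹ ∈ P) (i : ℕ) :
    ∃ y ∈ P, (x * r) ^ i = y * r ^ i := by
  have hri : r ∈ normalizer (P : Set G) := mem_normalizer_fintype hr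
  induction i with
  | zero => exact ⟨1, one_mem P, by simp⟩
  | succ i ih =>
    obtain ⟨y, hy, he⟩ := ih
    refine ⟨y * (r ^ i * x * (r ^ i)⁻¹),
      mul_mem hy ((mem_normalizer_iff.1 (pow_mem hri i) x).1 hx), ?_⟩
    rw [pow_succ, he, pow_succ]
    group

/-- The torus normalizes `P`. -/
theorem Trans.h_normP (e : NormalGame S A N n) (t : Trans A N n w h P) {x : G} (hx : x ∈ P) :
    h * x * h⁻¹ ∈ P := by
  obtain ⟨a, ha, hxa⟩ := t.syl.label hx
  simpa using (t.syl.h_conj e hx ha hxa 1).1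

/-- No involution of `P` lies outside `E`. -/
theorem Trans.invol_mem_E (e : NormalGame S A N n) (t : Trans A N n w h P) {p : G}
    (hp : p ∈ P) (hp2 : p * p = 1) : p ∈ eGrp A N w := by
  classical
  haveI : Fact (Nat.Prime 2) := ⟨Nat.prime_two⟩
  by_contra hpE
  have s := t.syl
  have d := s.base.line
  have hw := d.bad
  have hsq : ∀ x ∈ P, x * x ∈ A := fun x hx => t.sq_mem_A e hp hp2 hpE hx
  have hcomm : ∀ x ∈ P, ∀ y ∈ P, y⁻¹ * (x * y * x⁻¹) ∈ A := fun x hx y hy => by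
    have h1 := comm_mem_of_sq (H := P) (fun a ha z hz => A_central ha (s.P_le hz)) hsq
      (inv_mem hy) hx
    simpa [mul_assoc] using h1
  set M := normalizer (P : Set G) ⊓ N with hM
  have hPM : P ≤ M := fun x hx => ⟨le_normalizer hx, s.P_le_N e hx⟩
  have hMP : ∀ g ∈ M, ∀ x ∈ P, g * x * g⁻¹ ∈ P := fun g hg x hx =>
    (mem_normalizer_iff.1 hg.1 x).1 hx
  -- a complement of `P` in `M`
  set P' := P.subgroupOf M with hP'
  haveI hP'n : P'.Normal := ⟨fun x hx g => mem_subgroupOf.2 (hMP g g.2 _ (mem_subgroupOf.1 hx))⟩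
  have hkmax : ∀ v, Bad N v → Nat.card (kerK A N v) ≤ Nat.card (kerK A N w) := fun v hv => by
    have h1 := s.base.jmax v hv
    rw [(e.jGrp_card_two hv).2, (e.jGrp_card_two hw).2] at h1
    exact Nat.le_of_mul_le_mul_left h1 (by positivity)
  let PS : Sylow 2 M :=
    { toSubgroup := P'
      isPGroup' := IsPGroup.comap_subtype s.P_two
      is_maximal' := fun {Q} hQ hle => by
        refine (Subgroup.eq_of_le_of_card_ge hle ?_).symm
        have h1 := e.two_group_bound (hQ.map M.subtype) ((map_subtype_le _).trans inf_le_right)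
          hw hkmax
        rw [Subgroup.card_map_of_injective M.subtype_injective] at h1
        rw [hP', Nat.card_congr (subgroupOfEquivOfLe hPM).toEquiv, t.card_P e,
          (e.jGrp_card_two hw).2]
        refine h1.trans (le_of_eq ?_)
        ring }
  have hP'odd : Odd P'.index := by
    rw [Nat.odd_iff]
    haveI : (PS : Subgroup M).Normal := hP'n
    have : ¬ 2 ∣ P'.index := PS.not_dvd_index
    omega
  obtain ⟨C, hC⟩ := exists_right_complement'_of_coprime (N := P') (by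
    obtain ⟨i, hi⟩ := IsPGroup.iff_card.1 (IsPGroup.comap_subtype (K := M) s.P_two)
    rw [show Nat.card P' = 2 ^ i from hi]
    exact (Nat.coprime_two_left.2 hP'odd).pow_left i)
  set R := C.map M.subtype with hR
  have hRM : R ≤ M := map_subtype_le _
  have hRodd : Odd (Nat.card R) := by
    rw [hR, Subgroup.card_map_of_injective M.subtype_injective, ← hC.symm.index_eq_card]
    exact hP'odd
  have hPR : ∀ x ∈ P, x ∈ R → x = 1 := fun x hx hxR => eq_one_of_mem_two s.P_two hx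
    (hRodd.of_dvd_nat ((Subgroup.orderOf_mk x hxR) ▸ orderOf_dvd_natCard (⟨x, hxR⟩ : R)))
  have hRo : ∀ x ∈ R, Odd (orderOf x) := fun x hxR =>
    hRodd.of_dvd_nat ((Subgroup.orderOf_mk x hxR) ▸ orderOf_dvd_natCard (⟨x, hxR⟩ : R))
  have hdec : ∀ g ∈ M, ∃ x ∈ P, ∃ r ∈ R, g = x * r := by
    intro g hg
    obtain ⟨⟨x, c⟩, hxc⟩ := (hC.existsUnique ⟨g, hg⟩).exists
    exact ⟨((x : M) : G), mem_subgroupOf.1 x.2, ((c : M) : G), mem_map_of_mem _ c.2,
      (congrArg Subtype.val hxc).symm⟩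
  have hRA : ∀ r ∈ R, ∀ a ∈ A, r * a * r⁻¹ ∈ A := fun r hr a ha => e.conj_mem_A (hRM hr).2 ha
  -- the representative in `R` of a torus
  have hrep : ∀ {w' h' : G}, Trans A N n w' h' P → ∃ x ∈ P, ∃ r ∈ R, h' = x * r ∧
      (∀ i : ℕ, ∀ a ∈ A, r ^ i * a * (r ^ i)⁻¹ = h' ^ i * a * (h' ^ i)⁻¹) ∧
      r ^ (2 ^ n - 1) = 1 := by
    intro w' h' t'
    have hhM : h' ∈ M := ⟨mem_normalizer_fintype fun x hx => t'.h_normP e hx,
      t'.syl.base.line.h_mem_N⟩
    obtain ⟨x, hx, r, hr, hxr⟩ := hdec h' hhM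
    refine ⟨x, hx, r, hr, hxr, fun i a ha => ?_, ?_⟩
    · obtain ⟨y, hy, hye⟩ := mul_pow_mem_mul hx (hMP r (hRM hr)) i
      rw [hxr, hye, show y * r ^ i * a * (y * r ^ i)⁻¹ = y * (r ^ i * a * (r ^ i)⁻¹) * y⁻¹ by group,
        conj_A (e.conj_mem_A (pow_mem (hRM hr).2 i) ha) (s.P_le hy)]
    · obtain ⟨y, hy, hye⟩ := mul_pow_mem_mul hx (hMP r (hRM hr)) (2 ^ n - 1)
      refine hPR _ ?_ (pow_mem hr _)
      rw [← hxr, ← t'.syl.base.line.h_order, pow_orderOf_eq_one] at hye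
      rw [← t'.syl.base.line.h_order, eq_inv_of_mul_eq_one_right hye.symm]
      exact inv_mem hy
  obtain ⟨x₀, hx₀, r, hr, hxr, hract, hr1⟩ := hrep t
  -- the label of `p`
  obtain ⟨b₀, hb₀, hpb₀⟩ := s.label hp
  have hb₀1 : b₀ ≠ 1 := fun h0 => hpE ((e.mem_eGrp_iff hw).2
    ⟨s.mem_J e hp (by rw [hpb₀, h0, mul_one]), hp2⟩)
  -- fixed classes
  have hfixlab : ∀ {i : ℕ}, h ^ i ≠ 1 → ∀ {y : G}, y ∈ P →
      y⁻¹ * (h ^ i * y * (h ^ i)⁻¹) ∈ A → y ∈ jGrp A w := by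
    intro i hi y hy hfix
    obtain ⟨b, hb, hyb⟩ := s.label hy
    obtain ⟨-, hy'⟩ := s.h_conj e hy hb hyb i
    set z := y⁻¹ * (h ^ i * y * (h ^ i)⁻¹)
    have h1 : h ^ i * y * (h ^ i)⁻¹ = y * z := by simp only [z, mul_inv_cancel_left]
    rw [h1, s.label_mul (b := 1) hy hyb (one_mem A) (y := z)
      (by rw [← A_central hfix (bad_mem e hw), mul_inv_cancel_right, mul_one]), mul_one] at hy'
    have hb1 : b = 1 := d.h_fpf i hi b hb (mul_inv_eq_iff_eq_mul.1 (mul_left_cancel hy').symm)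
    exact s.mem_J e hy (by rw [hyb, hb1, mul_one])
  -- no odd element of `C(A)` normalizes `P`
  set Q := R ⊓ centralizer (A : Set G) with hQ
  have hQbot : Q = ⊥ := by
    refine t.semireg_trivial e hsq (r := r) inf_le_right (fun q hq => hMP q (hRM hq.1))
      (hRodd.of_dvd_nat (card_dvd_of_le inf_le_left))
      (fun h3 => e.setup.three (h3.trans (Subgroup.card_subgroup_dvd_card Q))) ?_
      (hRA r hr) (hMP r (hRM hr))
      (fun q hq => Subgroup.mem_inf.2 ⟨R.mul_mem (R.mul_mem hr hq.1) (R.inv_mem hr),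
        conj_mem_cent e (hRM hr).2 hq.2⟩)
      hr1 ?_
    · intro q hq v hv _ hqv
      have hqA := hq.2
      have hpowv : ∀ i : ℕ, q ^ i * v * (q ^ i)⁻¹ = v * (v⁻¹ * (q * v * q⁻¹)) ^ i := by
        intro i
        induction i with
        | zero => simp
        | succ i ih =>
          calc q ^ (i + 1) * v * (q ^ (i + 1))⁻¹ = q * (q ^ i * v * (q ^ i)⁻¹) * q⁻¹ := by
                rw [pow_succ']; group
            _ = q * v * q⁻¹ * (q * (v⁻¹ * (q * v * q⁻¹)) ^ i * q⁻¹) := by rw [ih]; group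
            _ = v * (v⁻¹ * (q * v * q⁻¹)) * (v⁻¹ * (q * v * q⁻¹)) ^ i := by
                rw [conj_A (pow_mem hqv i) hqA, mul_inv_cancel_left]
            _ = _ := by rw [mul_assoc, ← pow_succ']
      set a := v⁻¹ * (q * v * q⁻¹) with ha
      have h1 := hpowv (orderOf q)
      rw [pow_orderOf_eq_one, one_mul, inv_one, mul_one, left_eq_mul] at h1
      obtain ⟨l, hl⟩ := hRo q hq.1
      rw [hl, pow_succ, pow_mul, pow_two, A_sq e hqv, one_pow, one_mul] at h1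
      rw [ha, inv_mul_eq_one] at h1
      exact odd_cent_eq_one e hv hqA (hRo q hq.1) (mul_inv_eq_iff_eq_mul.1 h1.symm)
    · intro i hi0 hi q hq hfix
      obtain ⟨y, hy, hye⟩ := mul_pow_mem_mul hx₀ (hMP r (hRM hr)) i
      rw [← hxr] at hye
      have hqN : q ∈ N := (hRM hq.1).2
      set z := q * w * q⁻¹ with hz
      have hzP : z ∈ P := hMP q (hRM hq.1) w (s.J_le (mem_jGrp_self e hw))
      have hcy := hcomm y⁻¹ (inv_mem hy) w (s.J_le (mem_jGrp_self e hw))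
      have hrw : r ^ i * w * (r ^ i)⁻¹ = w * (w⁻¹ * (y⁻¹ * w * y⁻¹⁻¹)) := by
        have h1 : r ^ i = y⁻¹ * h ^ i := by rw [hye, inv_mul_cancel_left]
        rw [mul_inv_cancel_left, h1, show y⁻¹ * h ^ i * w * (y⁻¹ * h ^ i)⁻¹ =
          y⁻¹ * (h ^ i * w * (h ^ i)⁻¹) * y⁻¹⁻¹ by group, h_comm_w d i, mul_inv_cancel_right]
      have hrz : r ^ i * z * (r ^ i)⁻¹ = z * (w⁻¹ * (y⁻¹ * w * y⁻¹⁻¹)) := by
        calc r ^ i * z * (r ^ i)⁻¹
            = (r ^ i * q * (r ^ i)⁻¹) * (r ^ i * w * (r ^ i)⁻¹) * (r ^ i * q * (r ^ i)⁻¹)⁻¹ := by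
              rw [hz]; group
          _ = q * w * q⁻¹ * (q * (w⁻¹ * (y⁻¹ * w * y⁻¹⁻¹)) * q⁻¹) := by rw [hfix, hrw]; group
          _ = _ := by rw [conj_A hcy hq.2]
      have hzA : z⁻¹ * (h ^ i * z * (h ^ i)⁻¹) ∈ A := by
        rw [hye, show y * r ^ i * z * (y * r ^ i)⁻¹ = y * (r ^ i * z * (r ^ i)⁻¹) * y⁻¹ by group,
          hrz, show z⁻¹ * (y * (z * (w⁻¹ * (y⁻¹ * w * y⁻¹⁻¹))) * y⁻¹) =
            z⁻¹ * (y * z * y⁻¹) * (y * (w⁻¹ * (y⁻¹ * w * y⁻¹⁻¹)) * y⁻¹) by group,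
          conj_A hcy (s.P_le hy)]
        exact mul_mem (hcomm y hy z hzP) hcy
      have hzJ := hfixlab (h_pow_ne_one d hi0 hi) hzP hzA
      have hqJ := normJ e s.base hqN hzJ
      refine t.no_odd_norm_J e hq.2 (hRo q hq.1) fun x hx => ?_
      have := cj_mem (m := q).2 hx
      rwa [hqJ] at this
  have hfaith : ∀ g ∈ R, (∀ a ∈ A, g * a * g⁻¹ = a) → g = 1 := fun g hg hfix => by
    have : g ∈ Q := ⟨hg, mem_centralizer_iff.2 fun a ha =>
      (mul_inv_eq_iff_eq_mul.1 (hfix a ha)).symm⟩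
    rwa [hQbot, Subgroup.mem_bot] at this
  obtain ⟨a₁, ha₁, ha₁1⟩ := e.exists_ne_one ((1 : G) : G ⧸ N)
  rw [e.ptA_base] at ha₁
  have hA : A ≠ ⊥ := fun h0 => ha₁1 (by simpa [h0] using ha₁)
  -- an abelian normal subgroup of `R`
  haveI hsolv : Group.IsSolvable R := CfsgLib.PF.oddSolvable R hRodd
  haveI hRnt : Nontrivial R := by
    refine ⟨⟨r, hr⟩, 1, fun h0 => ?_⟩
    have hr0 : r = 1 := congrArg Subtype.val h0
    have h1 := hract 1 a₁ ha₁
    rw [hr0, pow_one, pow_one, one_mul, inv_one, mul_one] at h1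
    exact ha₁1 (d.h_fpf 1 (h_pow_ne_one d one_pos (by have := e.one_lt; omega)) a₁ ha₁
      (by rw [pow_one]; exact mul_inv_eq_iff_eq_mul.1 h1.symm))
  have hex : ∃ k, derivedSeries R k = ⊥ := (Group.isSolvable_def R).1 hsolv
  obtain ⟨k, hk⟩ : ∃ k, Nat.find hex = k + 1 := by
    refine ⟨Nat.find hex - 1, ?_⟩
    have h0 : Nat.find hex ≠ 0 := fun h0 => by
      have h1 := Nat.find_spec hex
      rw [h0, derivedSeries_zero] at h1
      exact top_ne_bot h1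
    omega
  set D := derivedSeries R k with hD
  have hD1 : D ≠ ⊥ := Nat.find_min hex (by omega)
  have hDc : ∀ a ∈ D, ∀ b ∈ D, a * b = b * a := by
    have h1 : ⁅D, D⁆ = ⊥ := by
      rw [hD, ← derivedSeries_succ, ← hk]; exact Nat.find_spec hex
    intro a ha b hb
    exact ((mem_centralizer_iff.1 (Subgroup.commutator_eq_bot_iff_le_centralizer.1 h1 ha)) b hb).symm
  haveI : D.Normal := derivedSeries_normal R k
  set M₀ := D.map R.subtype with hM₀
  have hM₀R : M₀ ≤ R := map_subtype_le _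
  have hM₀c : ∀ a ∈ M₀, ∀ b ∈ M₀, a * b = b * a := by
    rintro _ ⟨a, ha, rfl⟩ _ ⟨b, hb, rfl⟩
    exact congrArg Subtype.val (hDc a ha b hb)
  have hM₀n : ∀ g ∈ R, ∀ x ∈ M₀, g * x * g⁻¹ ∈ M₀ := by
    rintro g hg _ ⟨x, hx, rfl⟩
    exact ⟨_, ‹D.Normal›.conj_mem x hx ⟨g, hg⟩, rfl⟩
  obtain ⟨hfpf, hcyc⟩ := fpf_of_trans (A := A) (M := M₀) hA (fun a ha => A_sq e ha)
    (fun a ha b hb => e.setup.comm ha hb) (fun m hm a ha => hRA m (hM₀R hm) a ha) hM₀c
    (hRodd.of_dvd_nat (card_dvd_of_le hM₀R)) (fun m hm hf => hfaith m (hM₀R hm) hf)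
    (fun a ha b hb ha1 hb1 => by
      obtain ⟨i, hi⟩ := d.h_trans a ha ha1 b hb hb1
      exact ⟨r ^ i, fun m hm => hM₀n _ (pow_mem hr i) m hm, by rw [hract i a ha, hi]⟩)
  -- a normal subgroup of prime order
  obtain ⟨⟨m₀, hm₀⟩, q, hq, hm₀q⟩ : ∃ m : M₀, ∃ q : ℕ, q.Prime ∧ orderOf m = q := by
    haveI : Nontrivial M₀ := (Subgroup.nontrivial_iff_ne_bot _).2 fun h0 =>
      hD1 ((Subgroup.map_eq_bot_iff_of_injective _ R.subtype_injective).1 h0)
    obtain ⟨q, hq, hdvd⟩ := Nat.exists_prime_and_dvd (Finite.one_lt_card (α := M₀)).ne'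
    haveI := Fact.mk hq
    obtain ⟨m, hm⟩ := exists_prime_orderOf_dvd_card' q hdvd
    exact ⟨m, q, hq, hm⟩
  haveI := Fact.mk hq
  rw [Subgroup.orderOf_mk] at hm₀q
  have hm₀R : m₀ ∈ R := hM₀R hm₀
  have hm₀1 : m₀ ≠ 1 := fun h0 => by
    rw [h0, orderOf_one] at hm₀q
    exact hq.ne_one hm₀q.symm
  have hcyc' : ∀ y ∈ M₀, y ^ q = 1 → y ∈ zpowers m₀ := by
    intro y hy hyq
    haveI := hcyc
    letI : Fintype M₀ := Fintype.ofFinite M₀
    have h1 : (Finset.univ.filter fun z : M₀ => z ^ q = 1).card ≤ q :=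
      IsCyclic.card_pow_eq_one_le hq.pos
    set Z := zpowers (⟨m₀, hm₀⟩ : M₀)
    have hZ : (Z : Set M₀).ncard = q := by
      rw [← Nat.card_coe_set_eq]
      exact (Nat.card_zpowers _).trans (by rw [Subgroup.orderOf_mk, hm₀q])
    have hsub : (Z : Set M₀) ⊆ {z : M₀ | z ^ q = 1} := by
      intro z hz
      obtain ⟨i, rfl⟩ := mem_zpowers_iff.1 hz
      show ((⟨m₀, hm₀⟩ : M₀) ^ i) ^ q = 1
      have h2 : (⟨m₀, hm₀⟩ : M₀) ^ q = 1 := Subtype.ext (by
        simp only [Subgroup.coe_pow, Subgroup.coe_one]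
        rw [← hm₀q, pow_orderOf_eq_one])
      rw [← zpow_natCast, ← zpow_mul, mul_comm, zpow_mul, zpow_natCast, h2, one_zpow]
    have h3 : {z : M₀ | z ^ q = 1}.ncard ≤ q := by
      rw [Set.ncard_eq_toFinset_card', Set.toFinset_ofPred]
      exact h1
    have h4 : (⟨y, hy⟩ : M₀) ∈ (Z : Set M₀) := by
      rw [Set.eq_of_subset_of_ncard_le hsub (hZ.symm ▸ h3) (Set.toFinite _)]
      exact Subtype.ext (by simpa using hyq)
    obtain ⟨i, hi⟩ := mem_zpowers_iff.1 h4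
    exact mem_zpowers_iff.2 ⟨i, by simpa using congrArg Subtype.val hi⟩
  have hm₀q' : m₀ ^ q = 1 := by rw [← hm₀q, pow_orderOf_eq_one]
  have hZnorm : ∀ g ∈ R, ∀ x ∈ zpowers m₀, g * x * g⁻¹ ∈ zpowers m₀ := by
    intro g hg x hx
    have hxM : x ∈ M₀ := zpowers_le.2 hm₀ hx
    refine hcyc' _ (hM₀n g hg x hxM) ?_
    obtain ⟨i, rfl⟩ := mem_zpowers_iff.1 hx
    rw [conj_pow, ← zpow_natCast, ← zpow_mul, mul_comm, zpow_mul, zpow_natCast, hm₀q', one_zpow,
      mul_one, mul_inv_cancel]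
  -- it lies in every torus
  have key : ∀ {w' h' : G}, Trans A N n w' h' P →
      ∃ i : ℕ, ∃ y ∈ P, h' ^ i = y * m₀ := by
    intro w' h' t'
    have d' := t'.syl.base.line
    obtain ⟨x, hx, r', hr', hxr', hact, hr'1⟩ := hrep t'
    have hex' : ∃ i, 0 < i ∧ r' ^ i * m₀ * (r' ^ i)⁻¹ = m₀ :=
      ⟨2 ^ n - 1, by have := e.one_lt; omega, by rw [hr'1]; group⟩
    obtain ⟨he0, he⟩ := Nat.find_spec hex'
    set e₀ := Nat.find hex' with he₀
    have h2e : 2 ^ e₀ ≤ Nat.card A := by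
      refine two_pow_le_card (V := A) (M := zpowers m₀) (h := r') hA (fun a ha => A_sq e ha)
        (fun a ha b hb => e.setup.comm ha hb)
        (fun m hm a ha => hRA m (zpowers_le.2 hm₀R hm) a ha)
        (by rw [Nat.card_zpowers]; exact hRo m₀ hm₀R)
        (fun a ha hall => hfpf m₀ hm₀ hm₀1 a ha (hall m₀ (mem_zpowers _)))
        (hRA r' hr') (fun m hm => hZnorm r' hr' m hm) fun i hi0 hie m hm hfix => ?_
      by_contra hm1
      have hgen : m₀ ∈ zpowers m := by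
        have hle : zpowers m ≤ zpowers m₀ := zpowers_le.2 hm
        have h5 := Subgroup.card_dvd_of_le hle
        rw [Nat.card_zpowers, Nat.card_zpowers, hm₀q] at h5
        have h6 : orderOf m = q := (hq.eq_one_or_self_of_dvd _ h5).resolve_left
          fun h0 => hm1 (orderOf_eq_one_iff.1 h0)
        rw [Subgroup.eq_of_le_of_card_ge hle (by rw [Nat.card_zpowers, Nat.card_zpowers, hm₀q, h6])]
        exact mem_zpowers _
      obtain ⟨j, hj⟩ := mem_zpowers_iff.1 hgen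
      refine Nat.find_min hex' hie ⟨hi0, ?_⟩
      rw [← hj]
      calc r' ^ i * m ^ j * (r' ^ i)⁻¹ = (r' ^ i * m * (r' ^ i)⁻¹) ^ j := (conj_zpow).symm
        _ = m ^ j := by rw [hfix]
    have hen : e₀ ≤ n := by
      rw [e.base.card_A] at h2e
      exact (Nat.pow_le_pow_iff_right (by norm_num)).1 h2e
    obtain ⟨a₀, ha₀, ha₀1⟩ : ∃ a ∈ A, a ≠ 1 := ⟨a₁, ha₁, ha₁1⟩
    obtain ⟨i, hi⟩ := d'.h_trans a₀ ha₀ ha₀1 (m₀ * a₀ * m₀⁻¹) (hRA m₀ hm₀R a₀ ha₀) fun h0 =>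
      ha₀1 (conj_eq_one_iff.1 h0)
    set g := (r' ^ i)⁻¹ * m₀ with hg
    have hgR : g ∈ R := mul_mem (inv_mem (pow_mem hr' i)) hm₀R
    have hg1 : g = 1 := by
      refine hfaith g hgR (fix_all_of_commute (h := r') (e := e₀) e.base.odd_n e.base.three_le
        e.base.card_A he0 hen (hRA r' hr') (hRA g hgR) ?_ ?_ ?_ ha₀ ha₀1 ?_)
      · intro k a ha ha1 hka
        rw [← d'.h_order]
        refine orderOf_dvd_of_pow_eq_one ?_
        by_contra hk1
        rw [hact k a ha] at hka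
        exact ha1 (d'.h_fpf k hk1 a ha (mul_inv_eq_iff_eq_mul.1 hka))
      · intro a _
        rw [hr'1]; group
      · intro a _
        have hm : Commute (r' ^ e₀) m₀ := mul_inv_eq_iff_eq_mul.1 he
        have hge : Commute (r' ^ e₀) g := ((Commute.pow_pow_self r' e₀ i).inv_right).mul_right hm
        calc g * (r' ^ e₀ * a * (r' ^ e₀)⁻¹) * g⁻¹ = (g * r' ^ e₀) * a * (g * r' ^ e₀)⁻¹ := by group
          _ = (r' ^ e₀ * g) * a * (r' ^ e₀ * g)⁻¹ := by rw [hge.eq]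
          _ = _ := by group
      · rw [hg]
        calc (r' ^ i)⁻¹ * m₀ * a₀ * ((r' ^ i)⁻¹ * m₀)⁻¹
            = (r' ^ i)⁻¹ * (m₀ * a₀ * m₀⁻¹) * r' ^ i := by group
          _ = (r' ^ i)⁻¹ * (r' ^ i * a₀ * (r' ^ i)⁻¹) * r' ^ i := by rw [hact i a₀ ha₀, hi]
          _ = a₀ := by group
    obtain ⟨y, hy, hye⟩ := mul_pow_mem_mul hx (hMP r' (hRM hr')) i
    rw [← hxr'] at hye
    have hgm : r' ^ i = m₀ := inv_mul_eq_one.1 hg1
    exact ⟨i, y, hy, by rw [hye, hgm]⟩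
  -- the classes of `w` and `p`
  obtain ⟨i, y, hy, hiy⟩ := key t
  have hpb : Bad N p := bad_of_sq e (s.P_le_N e hp) hp2 fun hA' => by
    rw [← A_central hA' (bad_mem e hw), mul_inv_cancel_right] at hpb₀
    exact hb₀1 (mul_eq_left.1 hpb₀.symm)
  obtain ⟨h', tp, -⟩ := t.rebase_zero e hsq hpb hp
  obtain ⟨j, y', hy', hjy⟩ := key tp
  have hm₀p : p⁻¹ * (m₀ * p * m₀⁻¹) ∈ A := by
    have h1 : m₀ = y'⁻¹ * h' ^ j := by rw [hjy, inv_mul_cancel_left]
    rw [h1, show y'⁻¹ * h' ^ j * p * (y'⁻¹ * h' ^ j)⁻¹ =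
      y'⁻¹ * (h' ^ j * p * (h' ^ j)⁻¹) * y'⁻¹⁻¹ by group, h_comm_w tp.syl.base.line j,
      mul_inv_cancel_right]
    exact hcomm _ (inv_mem hy') p hp
  have hpA : p⁻¹ * (h ^ i * p * (h ^ i)⁻¹) ∈ A := by
    set a := p⁻¹ * (m₀ * p * m₀⁻¹) with ha
    have h1 : m₀ * p * m₀⁻¹ = p * a := by rw [ha, mul_inv_cancel_left]
    rw [hiy, show y * m₀ * p * (y * m₀)⁻¹ = y * (m₀ * p * m₀⁻¹) * y⁻¹ by group, h1,
      show p⁻¹ * (y * (p * a) * y⁻¹) = p⁻¹ * (y * p * y⁻¹) * (y * a * y⁻¹) by group,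
      conj_A hm₀p (s.P_le hy)]
    exact mul_mem (hcomm y hy p hp) hm₀p
  have hi1 : h ^ i ≠ 1 := fun h0 => hm₀1 (hfaith m₀ hm₀R fun a ha => by
    have h1 : m₀ = y⁻¹ := eq_inv_of_mul_eq_one_right (hiy.symm.trans h0)
    rw [h1]
    exact conj_A ha (inv_mem (s.P_le hy)))
  exact hpE ((e.mem_eGrp_iff hw).2 ⟨hfixlab hi1 hp hpA, hp2⟩)

end CfsgLib.ThreeFree.UStr
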