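import Cfsg.Agent.Lib.ThreeFree.UStructAssemble
import Cfsg.Agent.Lib.ThreeFree.UStructCaseII

/-!
The shape of `C(A)` and of `N` in the normal case.
-/

set_option autoImplicit false

namespace CfsgLib.ThreeFree

open Subgroup

universe u

variable {G : Type u} [Group G] [Finite G] {S : Sylow 2 G} {A N : Subgroup G} {n : ℕ}

/-- In the normal case `C(A) = O(N) P`, the involutions of `P` lie in `E`, and `E` is normal in `N`
modulo `O(N)`. -/
theorem NormalGame.exists_uShape (e : NormalGame S A N n) :
    ∃ w h P, UShape A N n w h P :=
  UStr.exists_uShape_of e fun t _ hx hx2 => t.invol_mem_E e hx hx2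

end CfsgLib.ThreeFree
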