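import Cfsg.Agent.Lib.ThreeFree.FinalOfShape
import Cfsg.Agent.Lib.ThreeFree.UStructMain

/-!
Simple groups of order prime to three are Suzuki groups.
-/

set_option autoImplicit false

namespace CfsgLib.ThreeFree

universe u

/-- The endgame is impossible. -/
theorem noEndgame : NoEndgame.{u} :=
  noEndgame_of_shape fun e => e.exists_uShape

/-- A non-abelian simple group of order prime to three is a Suzuki group. -/
theorem threeFreeSimple : CfsgLib.PiHomog86.ThreeFreeSimple.{u} :=
  threeFree_of_noEndgame noEndgame

end CfsgLib.ThreeFree
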