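import Cfsg.Agent.Lib.ThreeFree.Endgame
import Cfsg.Agent.Lib.ThreeFree.Balance

/-!
`N` modulo its odd core, with the image of `A`.
-/

set_option autoImplicit false
set_option linter.style.haveILetI false

namespace CfsgLib.ThreeFree

open Subgroup CfsgLib.Components

universe u

variable {G : Type u} [Group G]

theorem mem_coreN {N : Subgroup G} {x : G} (hx : x ∈ N) :
    x ∈ coreN N ↔ qmap N ⟨x, hx⟩ = 1 := by
  rw [show qmap N ⟨x, hx⟩ = ((⟨x, hx⟩ : N) : N ⧸ Cfsg.pPrimeCore 2 N) from rfl,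
    QuotientGroup.eq_one_iff]
  constructor
  · rintro ⟨y, hy, rfl⟩
    exact hy
  · exact fun h => ⟨⟨x, hx⟩, h, rfl⟩

namespace Setup

variable [Finite G] {S : Sylow 2 G} {A N : Subgroup G}

theorem N_setting (s : Setup G S A N) : ∃ P, ClosedSetting (barB N A) P := by
  obtain ⟨P, hP⟩ := s.exists_sylow_closed s.A_le
  refine ⟨_, closedSetting_quotient (s.proper N s.N_ne_top) P ⟨?_, ?_⟩ hP⟩
  · exact ⟨⟨fun a b => Subtype.ext (Subtype.ext (s.comm a.2 b.2))⟩⟩
  · exact fun a ha => Subtype.ext (by simpa using s.elem.2 _ ha)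

theorem mk_mem_barB (s : Setup G S A N) {a : G} (ha : a ∈ A) :
    qmap N ⟨a, s.A_le ha⟩ ∈ barB N A :=
  mem_map_of_mem _ (mem_subgroupOf.2 ha)

theorem eq_of_mk_eq (s : Setup G S A N) {a b : N} (ha : (a : G) ∈ A) (hb : (b : G) ∈ A)
    (h : qmap N a = qmap N b) : (a : G) = b :=
  congrArg Subtype.val (mk_injOn (IsPGroup.comap_subtype (s.isPGroup_of_le le_rfl))
    (mem_subgroupOf.2 ha) (mem_subgroupOf.2 hb) h)

theorem exists_of_mem_barB (_s : Setup G S A N) {B : Subgroup G} {y : N ⧸ Cfsg.pPrimeCore 2 N}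
    (hy : y ∈ barB N B) : ∃ a : N, (a : G) ∈ B ∧ qmap N a = y := by
  obtain ⟨a, ha, e⟩ := hy
  exact ⟨a, mem_subgroupOf.1 ha, e⟩

/-- An element of `N` normalizing `A` whose image commutes with that of `a` commutes with `a`. -/
theorem mem_cent_of_mk_comm (s : Setup G S A N) {a w : G} (ha : a ∈ A) (hw : w ∈ N)
    (hwA : w ∈ normalizer (A : Set G))
    (h : qmap N ⟨w, hw⟩ * qmap N ⟨a, s.A_le ha⟩ = qmap N ⟨a, s.A_le ha⟩ * qmap N ⟨w, hw⟩) :
    a ∈ cent w := by
  have h1 : w * a * w⁻¹ = a := by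
    refine s.eq_of_mk_eq (a := ⟨w, hw⟩ * ⟨a, s.A_le ha⟩ * ⟨w, hw⟩⁻¹) (b := ⟨a, s.A_le ha⟩)
      ((mem_normalizer_iff.1 hwA a).1 ha) ha ?_
    rw [map_mul, map_mul, map_inv, h, mul_inv_cancel_right]
  rw [mem_cent]
  calc a * w = w * a * w⁻¹ * w := by rw [h1]
    _ = w * a := by group

/-- The core of the centralizer of an involution of `N` is in the core of `N`, once it is in `N`. -/
theorem cent_core_le_coreN (s : Setup G S A N) (hF : SzFactsHold.{u}) {w : G} (hw : w ∈ N)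
    (h2 : orderOf w = 2) (hle : Cfsg.centralizerPPrimeCore 2 w ≤ N) :
    Cfsg.centralizerPPrimeCore 2 w ≤ coreN N := by
  intro x hx
  have hxN := hle hx
  have hxc : (⟨x, hxN⟩ : N) ∈ Cfsg.centralizerPPrimeCore 2 (⟨w, hw⟩ : N) := by
    let C := centralizer ({(⟨w, hw⟩ : N)} : Set N)
    let f : C →* cent w := (N.subtype.comp C.subtype).codRestrict _ fun c =>
      mem_cent.2 (congrArg Subtype.val (mem_centralizer_singleton_iff.1 c.2))
    have hf : Function.Injective f := fun a b e =>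
      Subtype.ext (Subtype.ext (congrArg (fun t : cent w => (t : G)) e))
    set O := (Cfsg.pPrimeCore 2 (cent w)).comap f
    have hO : O ≤ Cfsg.pPrimeCore 2 C := by
      refine CfsgLib.PCore.le_pPrimeCore inferInstance ?_
      refine Nat.Coprime.coprime_dvd_left ?_
        (CfsgLib.PCore.pPrimeCore_coprime (p := 2) (G := cent w))
      rw [Nat.card_congr (Subgroup.equivMapOfInjective O f hf).toEquiv]
      exact card_dvd_of_le (map_comap_le _ _)
    obtain ⟨⟨x', hx'⟩, hmem, e⟩ := hx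
    refine ⟨⟨⟨x, hxN⟩, mem_centralizer_singleton_iff.2 (Subtype.ext (mem_cent.1 (e ▸ hx')))⟩,
      hO ?_, rfl⟩
    have hf' : f ⟨⟨x, hxN⟩, mem_centralizer_singleton_iff.2 (Subtype.ext (mem_cent.1 (e ▸ hx')))⟩ =
        ⟨x', hx'⟩ := Subtype.ext (show x = x' from e.symm)
    rw [mem_comap, hf']
    exact hmem
  exact ⟨⟨x, hxN⟩, centralizerPPrimeCore_le hF (s.proper N s.N_ne_top)
    (by rw [Subgroup.orderOf_mk, h2]) hxc, rfl⟩

/-- `A` acts faithfully on the moved components. -/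
theorem barB_inf_centralizer (s : Setup G S A N) (hF : SzFactsHold.{u})
    (hm : (movedComponents (barB N A)).Nonempty) {y : N ⧸ Cfsg.pPrimeCore 2 N} (hy : y ∈ barB N A)
    (h : ∀ K ∈ movedComponents (barB N A), y ∈ centralizer (K : Set (N ⧸ Cfsg.pPrimeCore 2 N))) :
    y = 1 := by
  obtain ⟨a, ha, rfl⟩ := s.exists_of_mem_barB hy
  let V : Subgroup G :=
    { carrier := {x | x ∈ A ∧ ∀ hx : x ∈ N, ∀ K ∈ movedComponents (barB N A),
        qmap N ⟨x, hx⟩ ∈ centralizer (K : Set (N ⧸ Cfsg.pPrimeCore 2 N))}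
      mul_mem' := fun {x y} hx hy => ⟨mul_mem hx.1 hy.1, fun h K hK => by
        rw [show (⟨x * y, h⟩ : N) = ⟨x, s.A_le hx.1⟩ * ⟨y, s.A_le hy.1⟩ from rfl, map_mul]
        exact mul_mem (hx.2 _ K hK) (hy.2 _ K hK)⟩
      one_mem' := ⟨A.one_mem, fun h K _ => by
        rw [show (⟨1, h⟩ : N) = 1 from rfl, map_one]; exact Subgroup.one_mem _⟩
      inv_mem' := fun {x} hx => ⟨inv_mem hx.1, fun h K hK => by
        rw [show (⟨x⁻¹, h⟩ : N) = ⟨x, s.A_le hx.1⟩⁻¹ from rfl, map_inv]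
        exact inv_mem (hx.2 _ K hK)⟩ }
  have hinv : normalizer (A : Set G) ≤ normalizer (V : Set G) := by
    intro m hm
    refine mem_normalizer_fintype fun x hx => ?_
    refine ⟨(mem_normalizer_iff.1 hm x).1 hx.1, fun h K hK => ?_⟩
    set p := qmap N ⟨m, s.norm_le hm⟩ with hp
    have hpB : p ∈ normalizer (barB N A : Set (N ⧸ Cfsg.pPrimeCore 2 N)) := by
      refine mem_normalizer_fintype fun z hz => ?_
      obtain ⟨b, hb, rfl⟩ := s.exists_of_mem_barB hz
      rw [hp, ← map_inv, ← map_mul, ← map_mul]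
      exact mem_map_of_mem _ (mem_subgroupOf.2 ((mem_normalizer_iff.1 hm b).1 hb))
    set K' := K.map (MulAut.conj p⁻¹).toMonoidHom with hK'
    have hK'm : K' ∈ movedComponents (barB N A) := by
      refine ⟨isComponent_conj _ hK.1, fun hc => hK.2 fun z hz => ?_⟩
      rw [mem_centralizer_iff]
      intro k hk
      have h1 := mem_centralizer_iff.1
        (hc ((mem_normalizer_iff.1 (inv_mem hpB) z).1 hz)) _ ⟨k, hk, rfl⟩
      have h2 := congrArg (fun t => p * t * p⁻¹) h1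
      simpa [mul_assoc] using h2
    have h3 := hx.2 (s.A_le hx.1) K' hK'm
    rw [mem_centralizer_iff] at h3 ⊢
    intro k hk
    rw [show (⟨m * x * m⁻¹, h⟩ : N) = ⟨m, s.norm_le hm⟩ * ⟨x, s.A_le hx.1⟩ * ⟨m, s.norm_le hm⟩⁻¹
      from rfl, map_mul, map_mul, map_inv, ← hp]
    have h4 := congrArg (fun t => p * t * p⁻¹) (h3 _ ⟨k, hk, rfl⟩)
    simpa [mul_assoc] using h4
  rcases s.irr V (fun x hx => hx.1) hinv with e | e
  · have : (a : G) ∈ V := ⟨ha, fun _ K hK => h K hK⟩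
    rw [e, mem_bot] at this
    rw [show a = 1 from Subtype.ext this, map_one]
  · obtain ⟨K, hK⟩ := hm
    refine absurd (fun z hz => ?_) hK.2
    obtain ⟨b, hb, rfl⟩ := s.exists_of_mem_barB hz
    have : (b : G) ∈ V := e.symm ▸ hb
    exact this.2 b.2 K hK

/-- Without moved components `N` is the product of its core and the normalizer of `A`. -/
theorem factor_of_no_moved (s : Setup G S A N) (hF : SzFactsHold.{u})
    (hm : movedComponents (barB N A) = ∅) {x : G} (hx : x ∈ N) :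
    ∃ v ∈ coreN N, ∃ m ∈ normalizer (A : Set G), x = v * m := by
  haveI : Fact (Nat.Prime 2) := ⟨Nat.prime_two⟩
  obtain ⟨P, c⟩ := s.N_setting
  obtain ⟨e, he, y, hy, hxy⟩ := c.exists_decomp hF (qmap N ⟨x, hx⟩)
  rw [hm, sSup_empty, mem_bot] at he
  rw [he, one_mul] at hxy
  rw [← hxy] at hy
  change qmap N ⟨x, hx⟩ ∈ normalizer (((A.subgroupOf N).map
    (QuotientGroup.mk' (Cfsg.pPrimeCore 2 N))) : Set (N ⧸ Cfsg.pPrimeCore 2 N)) at hy
  have hP : IsPGroup 2 (A.subgroupOf N) := IsPGroup.comap_subtype (s.isPGroup_of_le le_rfl)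
  rw [← map_normalizer_quotient CfsgLib.PCore.pPrimeCore_coprime hP] at hy
  obtain ⟨m, hmA, hmx⟩ := hy
  refine ⟨x * (m : G)⁻¹, ?_, m, ?_, by group⟩
  · rw [mem_coreN (mul_mem hx (inv_mem m.2)),
      show (⟨x * (m : G)⁻¹, _⟩ : N) = ⟨x, hx⟩ * m⁻¹ from rfl, map_mul, map_inv]
    change qmap N ⟨x, hx⟩ * (qmap N m)⁻¹ = 1
    rw [show qmap N m = qmap N ⟨x, hx⟩ from hmx, mul_inv_cancel]
  · exact mem_normalizer_fintype fun a ha =>
      (mem_normalizer_iff.1 hmA ⟨a, s.A_le ha⟩).1 ha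

end Setup

end CfsgLib.ThreeFree
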