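import Cfsg.Agent.Lib.ThreeFree.Star
import Cfsg.Agent.Lib.ThreeFree.SzFacts
import Cfsg.Agent.Lib.ThreeFree.Exclude
import Cfsg.Agent.Lib.BenderQ.Bender
import Cfsg.Agent.Lib.BenderQ.RankOne
import Cfsg.Agent.Lib.PiHomog86.Suzuki

/-!
The induction: simple groups of order prime to three are Suzuki groups, given the setting and the
endgame.
-/

set_option autoImplicit false
set_option linter.style.haveILetI false

namespace CfsgLib.ThreeFree

open Subgroup

universe u

/-- The setting exists. -/
def SetupExists : Prop :=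
  ∀ (G : Type u) [Group G] [Finite G], IsSimpleGroup G → ¬ IsMulCommutative G → ¬ 3 ∣ Nat.card G →
    (∀ X : Subgroup G, X ≠ ⊤ → SzGood X) → ∃ (S : Sylow 2 G) (A N : Subgroup G), Setup G S A N

/-- The endgame is impossible. -/
def NoEndgame : Prop :=
  ∀ (G : Type u) [Group G] [Finite G] (S : Sylow 2 G) (A N : Subgroup G) (n : ℕ),
    Endgame S A N n → False

theorem threeFree_of (hE : SetupExists.{u}) (hN : NoEndgame.{u}) :
    CfsgLib.PiHomog86.ThreeFreeSimple.{u} := by
  suffices ∀ (k : ℕ) (L : Type u) [Group L] [Finite L], Nat.card L ≤ k → IsSimpleGroup L →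
      ¬ IsMulCommutative L → ¬ 3 ∣ Nat.card L → Cfsg.Lie.IsoSuzuki L from
    fun L _ _ hs hnc h3 => this _ L le_rfl hs hnc h3
  intro k
  induction k with
  | zero =>
    intro L _ _ hk
    exact absurd hk (Nat.card_pos (α := L)).not_ge
  | succ k IH =>
    intro L _ _ hk hs hnc h3
    have proper : ∀ X : Subgroup L, X ≠ ⊤ → SzGood X := fun X hX => by
      refine ⟨fun h => h3 (h.trans (card_subgroup_dvd_card X)), fun H N _ hs' hnc' => ?_⟩
      have hlt : Nat.card X < Nat.card L := by
        refine lt_of_le_of_ne (Nat.le_of_dvd Nat.card_pos (card_subgroup_dvd_card X)) fun e => hX ?_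
        exact Subgroup.eq_top_of_card_eq X e
      have hle : Nat.card (H ⧸ N) ≤ Nat.card X :=
        (Nat.le_of_dvd Nat.card_pos (card_quotient_dvd_card N)).trans
          (Nat.le_of_dvd Nat.card_pos (card_subgroup_dvd_card H))
      exact IH (H ⧸ N) (by omega) hs' hnc' fun h => h3 (h.trans ((card_quotient_dvd_card N).trans
        ((card_subgroup_dvd_card H).trans (card_subgroup_dvd_card X))))
    obtain ⟨S, A, N, s⟩ := hE L hs hnc h3 proper
    by_cases hb : ∃ w, Bad N w
    · obtain ⟨w, hw⟩ := hb
      obtain ⟨n, e⟩ := s.endgame szFactsHold hw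
      exact (hN L S A N n e).elim
    · have hse := s.stronglyEmbedded_of_centralizers fun t ht ht2 => by
        by_contra hout
        exact hb ⟨t, ⟨ht, ht2, hout⟩⟩
      haveI := hs
      have hna : ∃ a b : L, a * b ≠ b * a := by
        by_contra h
        push Not at h
        exact hnc ⟨⟨h⟩⟩
      exact isoSuzuki_of_benderType (CfsgLib.BenderQ.simple_isBenderType
        CfsgLib.BenderQ.benderKernel CfsgLib.BenderQ.rankOneClass hna hse) h3

end CfsgLib.ThreeFree
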