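import Cfsg.Agent.Lib.ThreeFree.Reduce
import Cfsg.Agent.Lib.ThreeFree.Exists

/-!
Simple groups of order prime to three, given that the endgame is impossible.
-/

set_option autoImplicit false

namespace CfsgLib.ThreeFree

universe u

theorem setupExists : SetupExists.{u} := by
  intro G _ _ hs hnc h3 proper
  haveI := hs
  have hna : ∃ a b : G, a * b ≠ b * a := by
    by_contra h
    push Not at h
    exact hnc ⟨⟨h⟩⟩
  obtain ⟨S⟩ := (inferInstance : Nonempty (Sylow 2 G))
  obtain ⟨A, N, s⟩ := exists_setup hna h3 proper S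
  exact ⟨S, A, N, s⟩

theorem threeFree_of_noEndgame (hN : NoEndgame.{u}) : CfsgLib.PiHomog86.ThreeFreeSimple.{u} :=
  threeFree_of setupExists hN

end CfsgLib.ThreeFree
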