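import Cfsg.Agent.Lib.ThreeFree.SzGood
import Cfsg.Agent.Lib.Involutions.StronglyEmbedded
import Cfsg.Agent.Lib.Involutions.Basic
import Cfsg.Agent.Lib.OddOrder.PuigSeries
import Cfsg.Prelude.Def_TwoFusion

/-!
The setting of the endgame: a maximal subgroup `N` containing the normalizer of the strongly closed
elementary abelian 2-subgroup `A` and the centralizers of its involutions.  If it contains the
centralizers of all its involutions it is strongly embedded.
-/

set_option autoImplicit false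
set_option linter.style.haveILetI false

namespace CfsgLib.ThreeFree

open Subgroup

universe u

/-- The setting. -/
structure Setup (G : Type u) [Group G] (S : Sylow 2 G) (A N : Subgroup G) : Prop where
  simple : IsSimpleGroup G
  three : ¬ 3 ∣ Nat.card G
  proper : ∀ X : Subgroup G, X ≠ ⊤ → SzGood X
  elem : Cfsg.IsElementaryAbelian 2 A
  closed : Cfsg.IsStronglyClosed A (S : Subgroup G)
  rank : 8 ≤ Nat.card A
  irr : ∀ V : Subgroup G, V ≤ A → normalizer (A : Set G) ≤ normalizer (V : Set G) → V = ⊥ ∨ V = A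
  fus : ∀ a ∈ A, ∀ g : G, g * a * g⁻¹ ∈ A →
    ∃ m ∈ normalizer (A : Set G), m * a * m⁻¹ = g * a * g⁻¹
  coatom : IsCoatom N
  norm_le : normalizer (A : Set G) ≤ N
  cent_le : ∀ a ∈ A, a ≠ 1 → centralizer ({a} : Set G) ≤ N

namespace Setup

variable {G : Type u} [Group G] [Finite G] {S : Sylow 2 G} {A N : Subgroup G}

theorem le_S (s : Setup G S A N) : A ≤ (S : Subgroup G) := s.closed.1

theorem S_le_normalizer (s : Setup G S A N) : (S : Subgroup G) ≤ normalizer (A : Set G) := by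
  rw [le_normalizer_iff]
  exact fun x hx a ha =>
    s.closed.2 a ha x (mul_mem (mul_mem hx (s.le_S ha)) ((S : Subgroup G).inv_mem hx))

theorem S_le (s : Setup G S A N) : (S : Subgroup G) ≤ N := s.S_le_normalizer.trans s.norm_le

theorem A_le (s : Setup G S A N) : A ≤ N := s.le_S.trans s.S_le

theorem N_ne_top (s : Setup G S A N) : N ≠ ⊤ := s.coatom.1

theorem orderOf_eq_two (s : Setup G S A N) {a : G} (ha : a ∈ A) (h1 : a ≠ 1) : orderOf a = 2 :=
  orderOf_eq_prime (hp := ⟨Nat.prime_two⟩) (s.elem.2 a ha) h1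

/-- A 2-subgroup of `N` is conjugate in `N` into `S`. -/
theorem exists_conj_into_S (s : Setup G S A N) {Q : Subgroup G} (hQ : IsPGroup 2 Q) (hQN : Q ≤ N) :
    ∃ n ∈ N, ∀ y ∈ Q, n * y * n⁻¹ ∈ (S : Subgroup G) := by
  haveI : Fact (Nat.Prime 2) := ⟨Nat.prime_two⟩
  obtain ⟨R, hR⟩ := (hQ.comap_of_injective N.subtype N.subtype_injective).exists_le_sylow
  obtain ⟨m, hm⟩ := MulAction.exists_smul_eq N R (S.subtype s.S_le)
  refine ⟨m, m.2, fun y hy => ?_⟩
  have h1 : m * ⟨y, hQN hy⟩ * m⁻¹ ∈ ((S.subtype s.S_le : Sylow 2 N) : Subgroup N) := by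
    rw [← SetLike.mem_coe, ← hm]
    exact ⟨⟨y, hQN hy⟩, hR (show (⟨y, hQN hy⟩ : N) ∈ Q.comap N.subtype from hy), rfl⟩
  exact h1

theorem exists_elt_conj_into_S (s : Setup G S A N) {z : G} (hz : z ∈ N)
    (h2 : IsPGroup 2 (zpowers z)) : ∃ n ∈ N, n * z * n⁻¹ ∈ (S : Subgroup G) := by
  obtain ⟨n, hn, h⟩ := s.exists_conj_into_S h2 (zpowers_le.2 hz)
  exact ⟨n, hn, h z (mem_zpowers z)⟩

theorem isPGroup_zpowers_of_orderOf {z : G} (hz : orderOf z = 2) : IsPGroup 2 (zpowers z) :=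
  IsPGroup.of_card (n := 1) (by rw [Nat.card_zpowers, hz, pow_one])

/-- An element of `A` fixes one point of `G ⧸ N` only. -/
theorem mem_of_conj_mem (s : Setup G S A N) {a : G} (ha : a ∈ A) (h1 : a ≠ 1) {g : G}
    (hg : g * a * g⁻¹ ∈ N) : g ∈ N := by
  obtain ⟨n, hn, hnS⟩ := s.exists_elt_conj_into_S hg
    (isPGroup_zpowers_of_orderOf ((CfsgLib.Involutions.orderOf_conj_eq g a).trans (s.orderOf_eq_two ha h1)))
  have e : n * (g * a * g⁻¹) * n⁻¹ = n * g * a * (n * g)⁻¹ := by group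
  rw [e] at hnS
  obtain ⟨k, hk, hka⟩ := s.fus a ha (n * g) (s.closed.2 a ha _ hnS)
  have hc : k⁻¹ * (n * g) ∈ centralizer ({a} : Set G) := by
    rw [mem_centralizer_singleton_iff]
    calc k⁻¹ * (n * g) * a = k⁻¹ * (n * g * a * (n * g)⁻¹) * (n * g) := by group
      _ = a * (k⁻¹ * (n * g)) := by rw [← hka]; group
  have h2 := s.cent_le a ha h1 hc
  have : g = n⁻¹ * (k * (k⁻¹ * (n * g))) := by group
  rw [this]
  exact mul_mem (inv_mem hn) (mul_mem (s.norm_le hk) h2)

/-- An element of `A` central in `S`. -/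
theorem exists_central (s : Setup G S A N) :
    ∃ a ∈ A, a ≠ 1 ∧ ∀ x ∈ (S : Subgroup G), x * a = a * x := by
  haveI : Fact (Nat.Prime 2) := ⟨Nat.prime_two⟩
  have hn : (A.subgroupOf (S : Subgroup G)).Normal :=
    (normal_subgroupOf_iff_le_normalizer s.le_S).2 s.S_le_normalizer
  have hne : A.subgroupOf (S : Subgroup G) ≠ ⊥ := by
    intro e
    have := Nat.card_congr (subgroupOfEquivOfLe s.le_S).toEquiv
    rw [e, Subgroup.card_bot] at this
    have := s.rank
    omega
  haveI := hn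
  haveI : Nontrivial (A.subgroupOf (S : Subgroup G)) := (Subgroup.nontrivial_iff_ne_bot _).2 hne
  haveI := S.2.isNilpotent
  obtain ⟨x, hx, hx1⟩ : ∃ x ∈ A.subgroupOf (S : Subgroup G) ⊓ center (S : Subgroup G), x ≠ 1 := by
    refine (Subgroup.bot_or_exists_ne_one _).resolve_left ?_
    rw [inf_comm]
    exact CfsgLib.OddOrder.PuigSeries.inf_center_ne_bot _ hne
  refine ⟨(x : G), hx.1, fun e => hx1 (Subtype.ext e), fun y hy => ?_⟩
  exact congrArg Subtype.val (mem_center_iff.1 hx.2 ⟨y, hy⟩)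

/-- If `N` contains the centralizers of its involutions it is strongly embedded. -/
theorem stronglyEmbedded_of_centralizers (s : Setup G S A N)
    (h : ∀ t ∈ N, orderOf t = 2 → centralizer ({t} : Set G) ≤ N) :
    Cfsg.IsStronglyEmbedded N := by
  obtain ⟨a, ha, ha1, hcen⟩ := s.exists_central
  rw [CfsgLib.Involutions.isStronglyEmbedded_iff]
  refine ⟨s.N_ne_top, CfsgLib.Involutions.even_card_of_involution_mem (s.A_le ha)
    (s.orderOf_eq_two ha ha1), fun g hg t ht ht2 hgt => hg ?_⟩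
  obtain ⟨n, hn, hnS⟩ := s.exists_elt_conj_into_S ht (isPGroup_zpowers_of_orderOf ht2)
  set g' := n * g
  have hz : g'⁻¹ * (n * t * n⁻¹) * g' = g⁻¹ * t * g := by simp only [g']; group
  have ho : orderOf (g⁻¹ * t * g) = 2 := by
    rw [show g⁻¹ * t * g = g⁻¹ * t * g⁻¹⁻¹ by group, CfsgLib.Involutions.orderOf_conj_eq, ht2]
  have hmem : g'⁻¹ * a * g'⁻¹⁻¹ ∈ N := by
    refine h _ hgt ho (mem_centralizer_singleton_iff.2 ?_)
    rw [← hz, inv_inv]
    calc g'⁻¹ * a * g' * (g'⁻¹ * (n * t * n⁻¹) * g') = g'⁻¹ * (a * (n * t * n⁻¹)) * g' := by group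
      _ = g'⁻¹ * ((n * t * n⁻¹) * a) * g' := by rw [hcen _ hnS]
      _ = _ := by group
  have hg' := s.mem_of_conj_mem ha ha1 hmem
  have : g = n⁻¹ * g' := by simp only [g']; group
  rw [this]
  exact mul_mem (inv_mem hn) (by simpa using inv_mem hg')

end Setup

end CfsgLib.ThreeFree
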