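import Cfsg.Agent.Lib.ThreeFree.C1

/-!
Every element of `w A` is bad for a bad `w`; the facts the endgame starts from.
-/

set_option autoImplicit false
set_option linter.style.haveILetI false

namespace CfsgLib.ThreeFree

open Subgroup CfsgLib.Components

universe u

/-- An involution normalizing a moved component and `B` acts on it as an element of `B`. -/
theorem CompData.acts_as {Y : Type u} [Group Y] [Finite Y] {B L : Subgroup Y} {S : Sylow 2 Y}
    {n : ℕ} {T : Sylow 2 (L ⧸ center L)} {Z : Subgroup (L ⧸ center L)} {h : L ⧸ center L}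
    (c : ClosedSetting B S) (hF : SzFactsHold.{u}) (hL : Cfsg.IsComponent L)
    (cd : CompData B L S n T Z h) {p : Y} (hpL : p ∈ normalizer (L : Set Y))
    (hpB : p ∈ normalizer (B : Set Y)) (hp : p * p = 1) :
    ∃ b ∈ B, p * b ∈ centralizer (L : Set Y) := by
  haveI : Fact (Nat.Prime 2) := ⟨Nat.prime_two⟩
  set ρ := QuotientGroup.mk' (center L)
  set α := automizerHom L ⟨p, hpL⟩ with hα
  have hp' : (⟨p, hpL⟩ : normalizer (L : Set Y)) * ⟨p, hpL⟩ = 1 := Subtype.ext hp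
  obtain ⟨x, hx⟩ := cd.sz.aut_two α ⟨1, by
    rw [pow_one, pow_two, hα, ← map_mul, hp', map_one]⟩
  have hαl : ∀ l : L, α (ρ l) = ρ ⟨p * l * p⁻¹, (mem_normalizer_iff.1 hpL _).1 l.2⟩ := fun l => rfl
  have hxR : x ∈ normalizer ((T : Subgroup (L ⧸ center L)) : Set (L ⧸ center L)) := by
    rw [← cd.sz.norm_Z]
    refine mem_normalizer_fintype fun z hz => ?_
    obtain ⟨b, hb, l, hbl, rfl⟩ := cd.image_surj z hz
    have e : MulAut.conj x (ρ l) = α (ρ l) := by rw [hx]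
    rw [MulAut.conj_apply] at e
    rw [e, hαl]
    refine cd.image_mem (p * b * p⁻¹) ((mem_normalizer_iff.1 hpB b).1 hb) _ ?_
    have := (mem_normalizer_iff.1 (normalizer_le_normalizer_centralizer L hpL) _).1 hbl
    simpa [mul_assoc] using this
  have hxx : x * x = 1 := by
    have h4 : MulAut.conj (x * x) = 1 := by rw [map_mul, ← hx, hα, ← map_mul, hp', map_one]
    have hc : x * x ∈ center (L ⧸ center L) := by
      rw [mem_center_iff]
      intro g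
      have h5 : x * x * g * (x * x)⁻¹ = g := DFunLike.congr_fun h4 g
      calc g * (x * x) = x * x * g * (x * x)⁻¹ * (x * x) := by rw [h5]
        _ = x * x * g := by group
    haveI := hL.2.2
    haveI := hL.2.1
    rcases (inferInstance : (center (L ⧸ center L)).Normal).eq_bot_or_eq_top with e | e
    · rwa [e, mem_bot] at hc
    · exfalso
      haveI : Group.IsPerfect (L ⧸ center L) :=
        Group.IsPerfect.ofSurjective (QuotientGroup.mk'_surjective (center L))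
      exact Group.IsPerfect.not_isMulCommutative (L ⧸ center L)
        ⟨⟨fun a b => mem_center_iff.1 (e ▸ mem_top b) a⟩⟩
  have hxT : x ∈ (T : Subgroup (L ⧸ center L)) := by
    have h2' : IsPGroup 2 (zpowers x) := fun y => ⟨1, by
      obtain ⟨k, hk⟩ := mem_zpowers_iff.1 y.2
      refine Subtype.ext ?_
      show (y : L ⧸ center L) ^ (2 ^ 1) = 1
      rw [← hk, pow_one, ← zpow_natCast, ← zpow_mul, mul_comm, zpow_mul, zpow_natCast, pow_two,
        hxx, one_zpow]⟩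
    have := IsPGroup.to_sup_of_normal_right' h2' T.2 (zpowers_le.2 hxR)
    exact (T.is_maximal' this le_sup_right) ▸ mem_sup_left (mem_zpowers x)
  obtain ⟨b, hb, l, hbl, hlx⟩ := cd.image_surj x (cd.sz.invol_mem x hxT hxx)
  have hbN := c.le_normalizer_component hF hL hb
  refine ⟨b, hb, ?_⟩
  have hmem : (⟨p, hpL⟩ * ⟨b, hbN⟩ : normalizer (L : Set Y)) ∈ (automizerHom L).ker := by
    have h1 : automizerHom L ⟨b, hbN⟩ = MulAut.conj x := by
      refine MulEquiv.ext fun z => ?_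
      obtain ⟨m, rfl⟩ := QuotientGroup.mk'_surjective (center L) z
      rw [← hlx, MulAut.conj_apply, ← map_inv, ← map_mul, ← map_mul]
      show ρ ⟨b * m * b⁻¹, _⟩ = ρ (l * m * l⁻¹)
      congr 1
      refine Subtype.ext ?_
      show b * m * b⁻¹ = (l : Y) * m * (l : Y)⁻¹
      have h2 : (l * m * l⁻¹ : L).1 * (b * (l : Y)⁻¹) = b * (l : Y)⁻¹ * (l * m * l⁻¹ : L).1 :=
        mem_centralizer_iff.1 hbl _ (l * m * l⁻¹).2
      simp only [Subgroup.coe_mul, Subgroup.coe_inv] at h2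
      calc b * m * b⁻¹ = (b * (l : Y)⁻¹ * ((l : Y) * m * (l : Y)⁻¹)) * (b * (l : Y)⁻¹)⁻¹ := by group
        _ = _ := by rw [← h2, mul_inv_cancel_right]
    rw [MonoidHom.mem_ker, map_mul, h1, ← hα, hx, ← map_mul, hxx, map_one]
  rw [automizerHom_ker hL] at hmem
  exact hmem

namespace Setup

variable {G : Type u} [Group G] [Finite G] {S : Sylow 2 G} {A N : Subgroup G}

/-- An involution normalizing `A` in the centralizer of a bad `v` in `C(A)` centralizes `A`, and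
shifted by an element of `A` fixes all fixed points of `v`. -/
theorem invol_in_cent (s : Setup G S A N) (hF : SzFactsHold.{u}) {v i : G} (hb : Bad N v)
    (hAv : A ≤ cent v) (hiv : i ∈ cent v) (hiN : i ∈ N) (hiA : i ∈ normalizer (A : Set G))
    (hi : i * i = 1) :
    A ≤ cent i ∧ ∃ y ∈ A, i * y * (i * y) = 1 ∧ fixPts N v ⊆ fixPts N (i * y) := by
  have hs := s.subSetting_of_le hAv (s.cent_ne_top hb.two) hb.out
  obtain ⟨n, d⟩ := s.sub_data hF hs
  obtain ⟨P, T, Z, h, c, cd⟩ := d.data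
  set π := qmap (cent v) with hπ
  set p := π ⟨i, hiv⟩ with hp
  have hp2 : p * p = 1 := by
    rw [hp, ← map_mul, show (⟨i, hiv⟩ : cent v) * ⟨i, hiv⟩ = 1 from Subtype.ext hi, map_one]
  have hpB : p ∈ normalizer (barB (cent v) A : Set (cent v ⧸ Cfsg.pPrimeCore 2 (cent v))) :=
    (d.mem_iff ⟨i, hiv⟩).1 hiN
  obtain ⟨b, hb', hpb⟩ := cd.acts_as c hF d.component
    (le_normalizer_of_normal (mem_top p) : p ∈ normalizer
      (compL (cent v) A : Set (cent v ⧸ Cfsg.pPrimeCore 2 (cent v)))) hpB hp2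
  obtain ⟨⟨y, hyv⟩, hy, rfl⟩ := hb'
  replace hy : y ∈ A := hy
  have hAi : A ≤ cent i := by
    intro a ha
    have haB : π ⟨a, hAv ha⟩ ∈ barB (cent v) A := mem_map_of_mem _ (mem_subgroupOf.2 ha)
    have hcom := mem_centralizer_iff.1 hpb _ (d.le_comp haB)
    have hyc : π ⟨y, hyv⟩ * π ⟨a, hAv ha⟩ = π ⟨a, hAv ha⟩ * π ⟨y, hyv⟩ := by
      rw [← map_mul, ← map_mul]
      exact congrArg π (Subtype.ext (s.comm hy ha))
    have e : π (⟨i, hiv⟩ * ⟨a, hAv ha⟩ * ⟨i, hiv⟩⁻¹) = π ⟨a, hAv ha⟩ := by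
      rw [map_mul, map_mul, map_inv, ← hp]
      calc p * π ⟨a, hAv ha⟩ * p⁻¹
          = p * (π ⟨a, hAv ha⟩ * π ⟨y, hyv⟩) * (π ⟨y, hyv⟩)⁻¹ * p⁻¹ := by group
        _ = (p * π ⟨y, hyv⟩) * π ⟨a, hAv ha⟩ * (p * π ⟨y, hyv⟩)⁻¹ := by rw [← hyc]; group
        _ = _ := by rw [← hcom, mul_inv_cancel_right]
    have h1 : i * a * i⁻¹ = a := congrArg Subtype.val (mk_injOn
      (IsPGroup.comap_subtype (s.isPGroup_of_le le_rfl))
      (a := (⟨i, hiv⟩ * ⟨a, hAv ha⟩ * ⟨i, hiv⟩⁻¹ : cent v)) (b := ⟨a, hAv ha⟩)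
      (mem_subgroupOf.2 ((mem_normalizer_iff.1 hiA a).1 ha)) (mem_subgroupOf.2 ha) e)
    rw [mem_cent]
    calc a * i = i * a * i⁻¹ * i := by rw [h1]
      _ = i * a := by group
  refine ⟨hAi, y, hy, ?_, ?_⟩
  · calc i * y * (i * y) = i * (y * i) * y := by group
      _ = i * (i * y) * y := by rw [mem_cent.1 (hAi hy)]
      _ = i * i * (y * y) := by group
      _ = 1 := by rw [hi, s.mul_self_eq_one hy, one_mul]
  intro P' hP
  obtain ⟨x, hx, rfl⟩ := s.fix_orbit hb (s.mem_normalizer_of_centralizes hAv)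
    (s.full_of_centralizes hAv) hP
  obtain ⟨l, hl, m, hm, hlm⟩ := d.decomp (π ⟨x, hx⟩)
  obtain ⟨x', rfl⟩ := QuotientGroup.mk'_surjective _ l
  have hxx' : (x' : G ⧸ N) = (x : G ⧸ N) := by
    rw [QuotientGroup.eq]
    refine (d.mem_iff (x'⁻¹ * ⟨x, hx⟩)).2 ?_
    rw [map_mul, map_inv, ← hπ, hlm]
    change (π x')⁻¹ * (π x' * m) ∈ _
    rwa [inv_mul_cancel_left]
  rw [← hxx', mem_fixPts]
  have hiyv : i * y ∈ cent v := mul_mem hiv hyv
  have e2 : π (x'⁻¹ * ⟨i * y, hiyv⟩ * x') = π ⟨i * y, hiyv⟩ := by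
    have h1 := mem_centralizer_iff.1 hpb (π x') hl
    rw [show (⟨i * y, hiyv⟩ : cent v) = ⟨i, hiv⟩ * ⟨y, hyv⟩ from rfl, map_mul, map_mul, map_inv,
      map_mul, ← hp, mul_assoc, ← h1, inv_mul_cancel_left]
  have ho : (((⟨i * y, hiyv⟩ : cent v)⁻¹ * (x'⁻¹ * ⟨i * y, hiyv⟩ * x') : cent v) : G) ∈ N :=
    d.core_le _ (QuotientGroup.eq.1 e2.symm)
  have := mul_mem (mul_mem hiN (s.A_le hy)) ho
  simp only [Subgroup.coe_mul, Subgroup.coe_inv] at this
  rwa [mul_inv_cancel_left] at this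

/-- A commuting bad involution with other fixed points. -/
theorem exists_tangent (s : Setup G S A N) (hF : SzFactsHold.{u}) {n : ℕ} (hn : Nat.card A = 2 ^ n)
    {w : G} (hb : Bad N w) (hAw : A ≤ cent w) :
    ∃ i, Bad N i ∧ A ≤ cent i ∧ i ∈ cent w ∧ fixPts N i ≠ fixPts N w := by
  classical
  haveI : Fact (Nat.Prime 2) := ⟨Nat.prime_two⟩
  have hn1 : 1 ≤ n := by
    have := s.rank
    rw [hn] at this
    by_contra h
    rw [show n = 0 by omega] at this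
    omega
  obtain ⟨g, hg⟩ := s.exists_conj_notMem (CfsgLib.Involutions.ne_one_of_involution hb.two)
  obtain ⟨a, ha, ha1, -⟩ := s.exists_central
  have hw' : orderOf (g * w * g⁻¹) = 2 := (CfsgLib.Involutions.orderOf_conj_eq g w).trans hb.two
  obtain ⟨z, hz2, hza, hzw⟩ := CfsgLib.Involutions.exists_common_involution
    (s.orderOf_eq_two ha ha1) hw' fun hc => by
    obtain ⟨k, hk⟩ := isConj_iff.1 hc
    have e : g⁻¹ * k * a * (g⁻¹ * k)⁻¹ = w := by
      calc g⁻¹ * k * a * (g⁻¹ * k)⁻¹ = g⁻¹ * (k * a * k⁻¹) * g := by group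
        _ = w := by rw [hk]; group
    have hk' := s.mem_of_conj_mem ha ha1 (g := g⁻¹ * k) (e ▸ hb.mem)
    have := hb.conj (inv_mem hk')
    rw [← e] at this
    exact s.not_bad_of_mem_A ha (by simpa [mul_assoc] using this)
  have hzN : z ∈ N := s.cent_le a ha ha1 (mem_cent.2 hza.eq)
  set i₁ := g⁻¹ * z * g with hi₁
  have hi₁w : i₁ ∈ cent w := mem_cent.2 (by
    calc i₁ * w = g⁻¹ * (z * (g * w * g⁻¹)) * g := by rw [hi₁]; group
      _ = g⁻¹ * (g * w * g⁻¹ * z) * g := by rw [hzw.eq]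
      _ = _ := by rw [hi₁]; group)
  have hi₁2 : orderOf i₁ = 2 := by
    rw [hi₁, show g⁻¹ * z * g = g⁻¹ * z * g⁻¹⁻¹ by group, CfsgLib.Involutions.orderOf_conj_eq, hz2]
  have hoff : (g⁻¹ : G) ∈ {x : G | (x : G ⧸ N) ∈ fixPts N i₁ ∧ (x : G ⧸ N) ∉ fixPts N w} := by
    refine ⟨mem_fixPts.2 ?_, fun h => hg ?_⟩
    · rw [hi₁, inv_inv, show g * (g⁻¹ * z * g) * g⁻¹ = z by group]
      exact hzN
    · have := mem_fixPts.1 h
      rwa [inv_inv] at this
  -- a fixed point of `i₁` on `fixPts N w`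
  obtain ⟨⟨P, hP⟩, hfixP⟩ : ∃ P : fixPts N w, i₁ • (P : G ⧸ N) = P := by
    have hmaps : ∀ P ∈ fixPts N w, i₁ • P ∈ fixPts N w := fun P hP => by
      have := smul_mem_fixPts (x := i₁) hP
      rwa [show i₁ * w * i₁⁻¹ = w by rw [mem_cent.1 hi₁w, mul_inv_cancel_right]] at this
    have hinv : ∀ P : G ⧸ N, i₁ • i₁ • P = P := fun P => by
      rw [← mul_smul, CfsgLib.Involutions.mul_self_eq_one hi₁2, one_smul]
    haveI : Fintype (fixPts N w) := Fintype.ofFinite _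
    let σ : Equiv.Perm (fixPts N w) :=
      { toFun := fun P => ⟨i₁ • (P : G ⧸ N), hmaps P P.2⟩
        invFun := fun P => ⟨i₁ • (P : G ⧸ N), hmaps P P.2⟩
        left_inv := fun P => Subtype.ext (hinv P)
        right_inv := fun P => Subtype.ext (hinv P) }
    have hodd : ¬ 2 ∣ Fintype.card (fixPts N w) := by
      rw [← Nat.card_eq_fintype_card, Nat.card_coe_set_eq, s.ncard_fix hF hn hb]
      intro h
      have h2 : 2 ∣ (2 ^ n) ^ 2 := (dvd_pow_self 2 (by omega)).trans (dvd_pow_self _ two_ne_zero)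
      rw [Nat.dvd_add_right h2] at h
      norm_num at h
    obtain ⟨P, hP⟩ := Equiv.Perm.exists_fixed_point_of_prime (p := 2) (n := 1) hodd
      (σ := σ) (Equiv.ext fun P => Subtype.ext (by rw [pow_one, pow_two]; exact hinv P))
    exact ⟨P, congrArg Subtype.val hP⟩
  obtain ⟨x, hx, rfl⟩ := s.fix_orbit hb (s.mem_normalizer_of_centralizes hAw)
    (s.full_of_centralizes hAw) hP
  set i₂ := x⁻¹ * i₁ * x with hi₂
  have hi₂N : i₂ ∈ N := mem_fixPts.1 hfixP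
  have hi₂w : i₂ ∈ cent w := mul_mem (mul_mem (inv_mem hx) hi₁w) hx
  have hi₂2 : orderOf i₂ = 2 := by
    rw [hi₂, show x⁻¹ * i₁ * x = x⁻¹ * i₁ * x⁻¹⁻¹ by group, CfsgLib.Involutions.orderOf_conj_eq,
      hi₁2]
  set H := cent w ⊓ N
  have hAH : A ≤ H := le_inf hAw s.A_le
  obtain ⟨R, hR⟩ := (IsPGroup.comap_subtype (H := A) (K := H) (s.isPGroup_of_le le_rfl)).exists_le_sylow
  obtain ⟨R', hR'⟩ := (isPGroup_zpowers_of_orderOf (z := (⟨i₂, hi₂w, hi₂N⟩ : H))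
    (by rw [← Subgroup.orderOf_coe]; exact hi₂2)).exists_le_sylow
  obtain ⟨y, hy⟩ := MulAction.exists_smul_eq H R' R
  have hyR : y * ⟨i₂, hi₂w, hi₂N⟩ * y⁻¹ ∈ (R : Subgroup H) := by
    rw [← hy]
    exact Subgroup.smul_mem_pointwise_smul _ (MulAut.conj y) _ (hR' (mem_zpowers _))
  set i₃ := (y : G) * i₂ * (y : G)⁻¹ with hi₃
  have hi₃A : i₃ ∈ normalizer (A : Set G) :=
    s.two_group_le_normalizer (R.2.map H.subtype)
      (fun b hb' => ⟨⟨b, hAH hb'⟩, hR (x := ⟨b, hAH hb'⟩) hb', rfl⟩) ⟨_, hyR, rfl⟩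
  have hi₃w : i₃ ∈ cent w := mul_mem (mul_mem y.2.1 hi₂w) (inv_mem y.2.1)
  set P₀ : G ⧸ N := QuotientGroup.mk ((y : G) * x⁻¹ * g⁻¹) with hP₀
  have hP₀i : P₀ ∈ fixPts N i₃ := by
    rw [hP₀, mem_fixPts]
    have h1 := mem_fixPts.1 hoff.1
    have e : ((y : G) * x⁻¹ * g⁻¹)⁻¹ * i₃ * ((y : G) * x⁻¹ * g⁻¹) = g⁻¹⁻¹ * i₁ * g⁻¹ := by
      rw [hi₃, hi₂]; group
    rw [e]; exact h1
  have hyx : (y : G) * x⁻¹ ∈ cent w := mul_mem y.2.1 (inv_mem hx)
  have hP₀w : P₀ ∉ fixPts N w := by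
    rw [hP₀, mem_fixPts]
    intro h
    refine hoff.2 (mem_fixPts.2 ?_)
    have h2 := mem_cent.1 hyx
    have e : ((y : G) * x⁻¹ * g⁻¹)⁻¹ * w * ((y : G) * x⁻¹ * g⁻¹) = g⁻¹⁻¹ * w * g⁻¹ := by
      calc ((y : G) * x⁻¹ * g⁻¹)⁻¹ * w * ((y : G) * x⁻¹ * g⁻¹)
          = g * ((y : G) * x⁻¹)⁻¹ * (w * ((y : G) * x⁻¹)) * g⁻¹ := by group
        _ = g * ((y : G) * x⁻¹)⁻¹ * ((y : G) * x⁻¹ * w) * g⁻¹ := by rw [h2]
        _ = _ := by group
    rwa [e] at h
  have hi₃N : i₃ ∈ N := mul_mem (mul_mem y.2.2 hi₂N) (inv_mem y.2.2)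
  have hi₃b : Bad N i₃ := s.bad_iff.2 ⟨hi₃N,
    (CfsgLib.Involutions.orderOf_conj_eq _ _).trans hi₂2, (y : G) * x⁻¹ * g⁻¹, fun h => hP₀w ?_,
    mem_fixPts.1 hP₀i⟩
  · exact ⟨i₃, hi₃b, s.centralizes hF hi₃b hi₃A, hi₃w, fun e => hP₀w (e ▸ hP₀i)⟩
  · rw [hP₀, mem_fixPts]
    exact mul_mem (mul_mem (inv_mem h) hb.mem) h

/-- C2: all of `w A` is bad. -/
theorem star (s : Setup G S A N) (hF : SzFactsHold.{u}) {w : G} (hb : Bad N w) (hAw : A ≤ cent w)
    {y : G} (hy : y ∈ A) : Bad N (w * y) := by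
  rcases eq_or_ne y 1 with rfl | hy1
  · rwa [mul_one]
  obtain ⟨n, -, -, hn⟩ := s.exists_card_A hF hb
  obtain ⟨i, hi, hAi, hiw, hne⟩ := s.exists_tangent hF hn hb hAw
  obtain ⟨-, y₀, hy₀, hsq, hsub⟩ := s.invol_in_cent hF hi hAi (mem_cent.2 (mem_cent.1 hiw).symm)
    hb.mem (s.mem_normalizer_of_centralizes hAw) (CfsgLib.Involutions.mul_self_eq_one hb.two)
  have hy₀1 : y₀ ≠ 1 := by
    rintro rfl
    rw [mul_one] at hsub
    exact hne (Set.eq_of_subset_of_ncard_le hsub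
      (by rw [s.ncard_fix hF hn hb, s.ncard_fix hF hn hi]) (Set.toFinite _))
  have hbad₀ : Bad N (w * y₀) := by
    obtain ⟨-, -, g, hgN, hg⟩ := s.bad_iff.1 hi
    refine s.bad_iff.2 ⟨mul_mem hb.mem (s.A_le hy₀), ?_, g, hgN,
      mem_fixPts.1 (hsub (mem_fixPts.2 hg))⟩
    refine CfsgLib.Involutions.orderOf_eq_two_iff_mul.2 ⟨fun e => ?_, hsq⟩
    have : w = y₀⁻¹ := eq_inv_of_mul_eq_one_left e
    exact s.not_bad_of_mem_A (inv_mem hy₀) (this ▸ hb)
  have hs := s.subSetting_of_le hAw (s.cent_ne_top hb.two) hb.out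
  obtain ⟨n', d⟩ := s.sub_data hF hs
  obtain ⟨h, -, hh, -, htr⟩ := d.torus
  obtain ⟨k, hk⟩ := htr y₀ hy₀ hy₀1 y hy hy1
  have := hbad₀.conj (pow_mem (s.norm_le hh) k)
  have e : (h : G) ^ k * (w * y₀) * ((h : G) ^ k)⁻¹ = w * y := by
    calc (h : G) ^ k * (w * y₀) * ((h : G) ^ k)⁻¹
        = ((h : G) ^ k * w) * y₀ * ((h : G) ^ k)⁻¹ := by group
      _ = (w * (h : G) ^ k) * y₀ * ((h : G) ^ k)⁻¹ := by rw [mem_cent.1 (pow_mem h.2 k)]
      _ = w * ((h : G) ^ k * y₀ * ((h : G) ^ k)⁻¹) := by group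
      _ = _ := by rw [hk]
  rwa [e] at this

/-- `N` has no component moved by `A`, once it has a bad involution. -/
theorem no_moved (s : Setup G S A N) (hF : SzFactsHold.{u}) {w₀ : G} (hb₀ : Bad N w₀) :
    movedComponents (barB N A) = ∅ := by
  obtain ⟨m, hm, hmA⟩ := s.exists_conj_normalizes hb₀.mem hb₀.two
  have hb := hb₀.conj hm
  set w := m * w₀ * m⁻¹
  have hAw := s.centralizes hF hb hmA
  refine Set.eq_empty_iff_forall_notMem.2 fun K hK => ?_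
  obtain ⟨P, c⟩ := s.N_setting
  obtain ⟨n, T, Z, h, cd⟩ := c.comp_data hF hK.1 hK.2
  have hwK := s.moved_fixed hF hb hmA (s.full_of_centralizes hAw) hK
  obtain ⟨b, hbB, hwb⟩ := cd.acts_as c hF hK.1 hwK (s.mk_mem_normalizer_barB hb.mem hmA) (by
    rw [← map_mul, show (⟨w, hb.mem⟩ : N) * ⟨w, hb.mem⟩ = 1 from
      Subtype.ext (CfsgLib.Involutions.mul_self_eq_one hb.two), map_one])
  obtain ⟨y, hy, rfl⟩ := s.exists_of_mem_barB hbB
  have hAwy : A ≤ cent (w * y) := fun a ha => mem_cent.2 (by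
    calc a * (w * (y : G)) = a * w * y := (mul_assoc _ _ _).symm
      _ = w * a * y := by rw [mem_cent.1 (hAw ha)]
      _ = w * (y : G) * a := by rw [mul_assoc, s.comm ha hy, ← mul_assoc])
  refine s.not_centralizes_comp hF (s.star hF hb hAw hy) hAwy hK ?_
  rw [show (⟨w * y, (s.star hF hb hAw hy).mem⟩ : N) = ⟨w, hb.mem⟩ * y from rfl, map_mul]
  exact hwb

/-- Every involution of `N` is bad or conjugate in `N` into `A`. -/
theorem dichotomy (s : Setup G S A N) (hF : SzFactsHold.{u}) {i : G} (hi : i ∈ N)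
    (hi2 : orderOf i = 2) : Bad N i ∨ ∃ g ∈ N, g * i * g⁻¹ ∈ A := by
  classical
  haveI : Fact (Nat.Prime 2) := ⟨Nat.prime_two⟩
  refine or_iff_not_imp_left.2 fun hnb => ?_
  obtain ⟨a, ha, ha1, -⟩ := s.exists_central
  obtain ⟨g, hg⟩ : ∃ g : G, g ∉ N := by
    by_contra hcon
    push_neg at hcon
    exact s.N_ne_top (eq_top_iff.2 fun g _ => hcon g)
  by_cases hc : IsConj a i
  · obtain ⟨k, hk⟩ := isConj_iff.1 hc
    have hk' := s.mem_of_conj_mem ha ha1 (hk ▸ hi)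
    exact ⟨k⁻¹, inv_mem hk', by rw [← hk]; simpa [mul_assoc] using ha⟩
  obtain ⟨z, hz2, hzi, hza⟩ := CfsgLib.Involutions.exists_common_involution hi2
    (show orderOf (g * a * g⁻¹) = 2 from
      (CfsgLib.Involutions.orderOf_conj_eq g a).trans (s.orderOf_eq_two ha ha1))
    fun h => hc ((isConj_iff.2 ⟨g, rfl⟩ : IsConj a (g * a * g⁻¹)).trans h.symm)
  have hle : cent i ≤ N := by
    by_contra h
    exact hnb ⟨hi, hi2, h⟩
  have hzN : z ∈ N := hle (mem_cent.2 hzi.eq)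
  have hzg : g⁻¹ * z * g ∈ N := s.cent_le a ha ha1 (mem_cent.2 (by
    calc g⁻¹ * z * g * a = g⁻¹ * (z * (g * a * g⁻¹)) * g := by group
      _ = g⁻¹ * (g * a * g⁻¹ * z) * g := by rw [hza.eq]
      _ = _ := by group))
  have hzb : Bad N z := s.bad_iff.2 ⟨hzN, hz2, g, hg, hzg⟩
  obtain ⟨m, hm, hmA⟩ := s.exists_conj_normalizes hzN hz2
  have hz' := hzb.conj hm
  have hAz := s.centralizes hF hz' hmA
  set z' := m * z * m⁻¹
  set H := cent z' ⊓ N
  have hi' : m * i * m⁻¹ ∈ H := Subgroup.mem_inf.2 ⟨mem_cent.2 (by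
    calc m * i * m⁻¹ * (m * z * m⁻¹) = m * (i * z) * m⁻¹ := by group
      _ = m * (z * i) * m⁻¹ := by rw [hzi.eq]
      _ = m * z * m⁻¹ * (m * i * m⁻¹) := by group), mul_mem (mul_mem hm hi) (inv_mem hm)⟩
  have hAH : A ≤ H := le_inf hAz s.A_le
  obtain ⟨R, hR⟩ := (IsPGroup.comap_subtype (H := A) (K := H) (s.isPGroup_of_le le_rfl)).exists_le_sylow
  obtain ⟨R', hR'⟩ := (isPGroup_zpowers_of_orderOf (z := (⟨_, hi'⟩ : H))
    (by rw [← Subgroup.orderOf_coe]; exact (CfsgLib.Involutions.orderOf_conj_eq m i).trans hi2)).exists_le_sylow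
  obtain ⟨y, hy⟩ := MulAction.exists_smul_eq H R' R
  have hyR : y * ⟨_, hi'⟩ * y⁻¹ ∈ (R : Subgroup H) := by
    rw [← hy]
    exact Subgroup.smul_mem_pointwise_smul _ (MulAut.conj y) _ (hR' (mem_zpowers _))
  set j := (y : G) * (m * i * m⁻¹) * (y : G)⁻¹ with hj
  have hjA : j ∈ normalizer (A : Set G) :=
    s.two_group_le_normalizer (R.2.map H.subtype)
      (fun b hb' => ⟨⟨b, hAH hb'⟩, hR (x := ⟨b, hAH hb'⟩) hb', rfl⟩) ⟨_, hyR, rfl⟩
  have hjN : j ∈ N := mul_mem (mul_mem y.2.2 hi'.2) (inv_mem y.2.2)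
  have hjz : j ∈ cent z' := mul_mem (mul_mem y.2.1 hi'.1) (inv_mem y.2.1)
  have hj2 : orderOf j = 2 := by
    rw [hj, CfsgLib.Involutions.orderOf_conj_eq, CfsgLib.Involutions.orderOf_conj_eq, hi2]
  obtain ⟨hAj, b, hbA, hsq, hsub⟩ := s.invol_in_cent hF hz' hAz hjz hjN hjA
    (CfsgLib.Involutions.mul_self_eq_one hj2)
  refine ⟨(y : G) * m, mul_mem y.2.2 hm, ?_⟩
  rw [show (y : G) * m * i * ((y : G) * m)⁻¹ = j by rw [hj]; group]
  by_contra hjnA
  refine hnb ?_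
  have hAjb : A ≤ cent (j * b) := fun x hx => mem_cent.2 (by
    calc x * (j * b) = x * j * b := (mul_assoc _ _ _).symm
      _ = j * x * b := by rw [mem_cent.1 (hAj hx)]
      _ = j * b * x := by rw [mul_assoc, s.comm hx hbA, ← mul_assoc])
  have hjb : Bad N (j * b) := by
    obtain ⟨-, -, k, hkN, hk⟩ := s.bad_iff.1 hz'
    refine s.bad_iff.2 ⟨mul_mem hjN (s.A_le hbA), ?_, k, hkN,
      mem_fixPts.1 (hsub (mem_fixPts.2 hk))⟩
    refine CfsgLib.Involutions.orderOf_eq_two_iff_mul.2 ⟨fun e => hjnA ?_, hsq⟩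
    rw [eq_inv_of_mul_eq_one_left e]
    exact inv_mem hbA
  have := (s.star hF hjb hAjb hbA).conj (inv_mem (mul_mem y.2.2 hm))
  rw [mul_assoc j, s.mul_self_eq_one hbA, mul_one, hj] at this
  simpa [mul_assoc] using this

/-- The endgame starts. -/
theorem endgame (s : Setup G S A N) (hF : SzFactsHold.{u}) {w : G} (hb : Bad N w) :
    ∃ n, Endgame S A N n := by
  obtain ⟨n, ho, h3, hn⟩ := s.exists_card_A hF hb
  refine ⟨n, s, hF, ⟨w, hb⟩, ho, h3, hn, fun w hb hwA => s.centralizes hF hb hwA,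
    fun w hb hAw y hy => s.star hF hb hAw hy,
    fun x hx => s.factor_of_no_moved hF (s.no_moved hF hb) hx,
    fun i hi hi2 => s.dichotomy hF hi hi2, fun w hb => s.ncard_fix hF hn hb, fun H hA hp ho' => ?_⟩
  obtain ⟨n', d⟩ := s.sub_data hF (s.subSetting_of_le hA hp ho')
  have : n' = n := by
    refine Nat.pow_right_injective (le_refl 2) ?_
    show 2 ^ n' = 2 ^ n
    rw [← d.card_B, hn]
  exact this ▸ d

end Setup

end CfsgLib.ThreeFree
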