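import Cfsg.Agent.Lib.ThreeFree.CompData
import Cfsg.Agent.Lib.Components.FStar
import Cfsg.Agent.Lib.Components.FStarSubnormal

/-!
With trivial odd core, a group with good sections is the product of the components moved by `B` and
the normalizer of the strongly closed elementary abelian 2-subgroup `B`.
-/

set_option autoImplicit false
set_option linter.style.haveILetI false

namespace CfsgLib.ThreeFree

open Subgroup CfsgLib.Components

universe u

variable {Y : Type u} [Group Y] [Finite Y]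

/-- The components that `B` does not centralize. -/
def movedComponents (B : Subgroup Y) : Set (Subgroup Y) :=
  {L | Cfsg.IsComponent L ∧ ¬ B ≤ centralizer (L : Set Y)}

namespace ClosedSetting

variable {B : Subgroup Y} {S : Sylow 2 Y}

theorem comm (c : ClosedSetting B S) {a b : Y} (ha : a ∈ B) (hb : b ∈ B) : a * b = b * a :=
  congrArg Subtype.val (c.elem.1.is_comm.comm (⟨a, ha⟩ : B) ⟨b, hb⟩)

theorem exists_layer_shift (c : ClosedSetting B S) (hF : SzFactsHold.{u}) {b : Y} (hb : b ∈ B) :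
    ∃ e ∈ Cfsg.layer Y, ∀ L : Subgroup Y, Cfsg.IsComponent L →
      b * e⁻¹ ∈ centralizer (L : Set Y) := by
  classical
  suffices key : ∀ s : Finset (Subgroup Y), (∀ L ∈ s, Cfsg.IsComponent L) →
      ∃ e ∈ s.sup id, ∀ L ∈ s, b * e⁻¹ ∈ centralizer (L : Set Y) by
    haveI : Fintype (Subgroup Y) := Fintype.ofFinite _
    obtain ⟨e, he, h⟩ := key (Finset.univ.filter fun L => Cfsg.IsComponent L)
      fun L hL => (Finset.mem_filter.1 hL).2
    refine ⟨e, ?_, fun L hL => h L (Finset.mem_filter.2 ⟨Finset.mem_univ _, hL⟩)⟩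
    exact (Finset.sup_le fun L hL => component_le_layer (Finset.mem_filter.1 hL).2 :
      (Finset.univ.filter fun L => Cfsg.IsComponent L).sup id ≤ Cfsg.layer Y) he
  intro s
  induction s using Finset.induction_on with
  | empty => exact fun _ => ⟨1, Subgroup.one_mem _, fun L hL => absurd hL (Finset.notMem_empty L)⟩
  | insert L s hLs ih =>
    intro hs
    obtain ⟨e, he, hes⟩ := ih fun M hM => hs M (Finset.mem_insert_of_mem hM)
    have hL := hs L (Finset.mem_insert_self L s)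
    obtain ⟨l, hl, hbl⟩ := c.exists_inner hF hL hb
    have hcom : ∀ M ∈ s, ⁅M, L⁆ = ⊥ := fun M hM => commutator_components_eq_bot
      (hs M (Finset.mem_insert_of_mem hM)) hL fun e => hLs (e ▸ hM)
    have hLc : s.sup id ≤ centralizer (L : Set Y) :=
      Finset.sup_le fun M hM => le_centralizer_of_commutator_eq_bot (hcom M hM)
    rw [Finset.sup_insert, id_eq]
    refine ⟨e * l, mul_mem (mem_sup_right he) (mem_sup_left hl), fun M hM => ?_⟩
    rcases Finset.mem_insert.1 hM with rfl | hM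
    · rw [mul_inv_rev, ← mul_assoc]
      exact mul_mem hbl (inv_mem (hLc he))
    · have hlM : l ∈ centralizer (M : Set Y) :=
        le_centralizer_of_commutator_eq_bot (by rw [commutator_comm]; exact hcom M hM) hl
      have hel : l * e = e * l := mem_centralizer_iff.1 (hLc he) l hl
      rw [← hel, mul_inv_rev, ← mul_assoc]
      exact mul_mem (hes M hM) (inv_mem hlM)

/-- `B` lies in `E(Y) O₂(Y)`. -/
theorem le_layer_sup_pCore (c : ClosedSetting B S) (hF : SzFactsHold.{u}) :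
    B ≤ Cfsg.layer Y ⊔ Cfsg.pCore 2 Y := by
  haveI : Fact (Nat.Prime 2) := ⟨Nat.prime_two⟩
  set Q := Cfsg.pCore 2 Y with hQ
  haveI : Q.Normal := Cfsg.pCore_normal 2 Y
  have hQS : Q ≤ (S : Subgroup Y) := CfsgLib.PCore.pCore_le_sylow S
  have hFit : Cfsg.fittingSubgroup Y = Q := fitting_eq_pCore_of_pPrimeCore_eq_bot c.core
  have hEQ : Cfsg.layer Y ≤ centralizer (Q : Set Y) := hFit ▸ layer_le_centralizer_fitting
  have hBQ : ∀ y : Y, ∀ x ∈ B ⊓ Q, y * x * y⁻¹ ∈ B ⊓ Q := fun y x hx => by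
    have := (inferInstance : Q.Normal).conj_mem x hx.2 y
    exact Subgroup.mem_inf.2 ⟨c.conj_mem hx.1 (hQS this), this⟩
  let S₁ : Subgroup Y :=
    { carrier := {y | (∀ x ∈ Cfsg.layer Y, x * y = y * x) ∧ (∀ x ∈ B ⊓ Q, y * x = x * y) ∧
        ∀ q ∈ Q, y * q * y⁻¹ * q⁻¹ ∈ B ⊓ Q}
      mul_mem' := by
        rintro y₁ y₂ ⟨h1, h2, h3⟩ ⟨k1, k2, k3⟩
        refine ⟨fun x hx => ?_, fun x hx => ?_, fun q hq => ?_⟩
        · rw [← mul_assoc, h1 x hx, mul_assoc, k1 x hx, mul_assoc]
        · rw [mul_assoc, k2 x hx, ← mul_assoc, h2 x hx, mul_assoc]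
        · have e : y₁ * y₂ * q * (y₁ * y₂)⁻¹ * q⁻¹ =
              y₁ * (y₂ * q * y₂⁻¹ * q⁻¹) * y₁⁻¹ * (y₁ * q * y₁⁻¹ * q⁻¹) := by group
          rw [e]
          exact mul_mem (hBQ _ _ (k3 q hq)) (h3 q hq)
      one_mem' := ⟨by simp, by simp, fun q _ => by simpa using (B ⊓ Q).one_mem⟩
      inv_mem' := by
        rintro y ⟨h1, h2, h3⟩
        refine ⟨fun x hx => ?_, fun x hx => ?_, fun q hq => ?_⟩
        · rw [eq_inv_mul_iff_mul_eq, ← mul_assoc, ← h1 x hx, mul_inv_cancel_right]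
        · rw [inv_mul_eq_iff_eq_mul, ← mul_assoc, h2 x hx, mul_inv_cancel_right]
        · have e : y⁻¹ * q * y⁻¹⁻¹ * q⁻¹ = y⁻¹ * (y * q * y⁻¹ * q⁻¹)⁻¹ * y⁻¹⁻¹ := by group
          rw [e]
          exact hBQ _ _ (inv_mem (h3 q hq)) }
  haveI hS₁ : S₁.Normal := by
    refine ⟨fun y hy g => ⟨fun x hx => ?_, fun x hx => ?_, fun q hq => ?_⟩⟩
    · have hx' : g⁻¹ * x * g ∈ Cfsg.layer Y := by
        simpa using (inferInstance : (Cfsg.layer Y).Normal).conj_mem x hx g⁻¹
      calc x * (g * y * g⁻¹) = g * ((g⁻¹ * x * g) * y) * g⁻¹ := by group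
        _ = g * (y * (g⁻¹ * x * g)) * g⁻¹ := by rw [hy.1 _ hx']
        _ = _ := by group
    · have hx' : g⁻¹ * x * g ∈ B ⊓ Q := by simpa using hBQ g⁻¹ x hx
      calc g * y * g⁻¹ * x = g * (y * (g⁻¹ * x * g)) * g⁻¹ := by group
        _ = g * ((g⁻¹ * x * g) * y) * g⁻¹ := by rw [hy.2.1 _ hx']
        _ = _ := by group
    · have hq' : g⁻¹ * q * g ∈ Q := by
        simpa using (inferInstance : Q.Normal).conj_mem q hq g⁻¹
      have e : g * y * g⁻¹ * q * (g * y * g⁻¹)⁻¹ * q⁻¹ =
          g * (y * (g⁻¹ * q * g) * y⁻¹ * (g⁻¹ * q * g)⁻¹) * g⁻¹ := by group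
      rw [e]
      exact hBQ g _ (hy.2.2 _ hq')
  have hS₁Q : S₁ ≤ Q := by
    have h2 : IsPGroup 2 S₁ := by
      rintro ⟨y, hy⟩
      have hyQ : y * y ∈ Q := by
        set N := Cfsg.generalizedFittingSubgroup Y
        have hc : y * y ∈ centralizer (N : Set Y) := by
          have hq : ∀ q ∈ Q, (y * y) * q = q * (y * y) := by
            intro q hq
            have h1 := hy.2.1 _ (hy.2.2 q hq)
            have h2 : (y * q * y⁻¹ * q⁻¹) * (y * q * y⁻¹ * q⁻¹) = 1 := c.sq (hy.2.2 q hq).1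
            calc y * y * q = y * ((y * q * y⁻¹ * q⁻¹) * q) * y := by group
              _ = ((y * q * y⁻¹ * q⁻¹) * y) * q * y := by rw [← mul_assoc, h1]
              _ = (y * q * y⁻¹ * q⁻¹) * (y * q * y⁻¹ * q⁻¹) * q * (y * y) := by group
              _ = q * (y * y) := by rw [h2, one_mul]
          show y * y ∈ centralizer ((Cfsg.layer Y ⊔ Cfsg.fittingSubgroup Y : Subgroup Y) : Set Y)
          rw [sup_eq_closure, centralizer_closure, mem_centralizer_iff]
          rintro x (hx | hx)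
          · rw [← mul_assoc, hy.1 x hx, mul_assoc, hy.1 x hx, mul_assoc]
          · exact (hq x (hFit ▸ hx)).symm
        have hn : (N ⊓ centralizer (N : Set Y)).Normal :=
          haveI := generalizedFitting_normal (G := Y)
          inferInstance
        exact hFit ▸ CfsgLib.Components39.abelian_normal_le_fitting hn
          (inf_le_right.trans (centralizer_le (SetLike.coe_subset_coe.2 inf_le_left)))
          (Subgroup.mem_inf.2 ⟨centralizer_generalizedFitting_le hc, hc⟩)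
      obtain ⟨k, hk⟩ := CfsgLib.PCore.pCore_isPGroup (p := 2) (G := Y) ⟨_, hyQ⟩
      refine ⟨k + 1, Subtype.ext ?_⟩
      have hk' := congrArg Subtype.val hk
      simp only [SubmonoidClass.coe_pow, OneMemClass.coe_one] at hk' ⊢
      rw [pow_succ, mul_comm, pow_mul, pow_two, hk']
    exact CfsgLib.PCore.le_pCore hS₁ h2
  intro b hb
  obtain ⟨e, he, hbe⟩ := c.exists_layer_shift hF hb
  have hb' : b * e⁻¹ ∈ S₁ := by
    have heQ : ∀ q ∈ Q, q * e⁻¹ = e⁻¹ * q := fun q hq =>
      mem_centralizer_iff.1 (inv_mem (hEQ he)) q hq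
    refine ⟨fun x hx => ?_, fun x hx => ?_, fun q hq => ?_⟩
    · have h' : b * e⁻¹ ∈ centralizer (Cfsg.layer Y : Set Y) := by
        have := le_centralizer_iff.1 (sSup_le fun L hL => le_centralizer_iff.1
          (zpowers_le.2 (hbe L hL)) : Cfsg.layer Y ≤ centralizer (zpowers (b * e⁻¹) : Set Y))
        exact this (mem_zpowers _)
      exact mem_centralizer_iff.1 h' x hx
    · rw [mul_assoc, ← heQ x hx.2, ← mul_assoc, c.comm hb hx.1, mul_assoc]
    · have hbb : b⁻¹ = b := inv_eq_of_mul_eq_one_right (c.sq hb)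
      have e1 : b * e⁻¹ * q * (b * e⁻¹)⁻¹ * q⁻¹ = b * q * b⁻¹ * q⁻¹ := by
        calc b * e⁻¹ * q * (b * e⁻¹)⁻¹ * q⁻¹ = b * (e⁻¹ * q) * e * b⁻¹ * q⁻¹ := by group
          _ = b * (q * e⁻¹) * e * b⁻¹ * q⁻¹ := by rw [heQ q hq]
          _ = _ := by group
      rw [e1]
      have h1 : q * b * q⁻¹ ∈ B :=
        c.conj_mem hb (mul_mem (mul_mem (hQS hq) (c.le hb)) ((S : Subgroup Y).inv_mem (hQS hq)))
      refine Subgroup.mem_inf.2 ⟨?_, ?_⟩
      · have := mul_mem hb h1
        rwa [show b * q * b⁻¹ * q⁻¹ = b * (q * b * q⁻¹) by rw [hbb]; group]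
      · exact mul_mem ((inferInstance : Q.Normal).conj_mem q hq b) (inv_mem hq)
  have : b = (b * e⁻¹) * e := by group
  rw [this]
  exact mul_mem (mem_sup_right (hS₁Q hb')) (mem_sup_left he)

/-- Frattini argument for `B`. -/
theorem frattini (c : ClosedSetting B S) (y : Y) :
    ∃ k ∈ normalClosure (B : Set Y), ∃ m ∈ normalizer (B : Set Y), y = k * m := by
  haveI : Fact (Nat.Prime 2) := ⟨Nat.prime_two⟩
  set K := normalClosure (B : Set Y)
  have hBK : B ≤ K := subset_normalClosure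
  obtain ⟨P, hP⟩ := CfsgLib.SubJoin.exists_sylow_subnormal S
    (inferInstance : K.Normal).isSubnormal
  have hle : B.map (MulAut.conj y).toMonoidHom ≤ K := by
    rintro _ ⟨x, hx, rfl⟩
    exact (inferInstance : K.Normal).conj_mem x (hBK hx) y
  have h2 : IsPGroup 2 ((B.map (MulAut.conj y).toMonoidHom).subgroupOf K) :=
    IsPGroup.comap_subtype ((IsPGroup.to_le S.2 c.le).map _)
  obtain ⟨R, hR⟩ := h2.exists_le_sylow
  obtain ⟨k, hk⟩ := MulAction.exists_smul_eq K R P
  have hky : ∀ x ∈ B, ((k : Y) * y) * x * ((k : Y) * y)⁻¹ ∈ B := by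
    intro x hx
    refine c.conj_mem hx ?_
    have hmem : (⟨y * x * y⁻¹, hle (mem_map_of_mem _ hx)⟩ : K) ∈ (R : Subgroup K) :=
      hR (mem_map_of_mem _ hx)
    have := Subgroup.smul_mem_pointwise_smul _ (MulAut.conj k) _ hmem
    change MulAut.conj k _ ∈ ((k • R : Sylow 2 K) : Subgroup K) at this
    rw [hk, hP] at this
    simpa [mul_assoc, mem_subgroupOf] using this
  refine ⟨(k : Y)⁻¹, K.inv_mem k.2, (k : Y) * y, ?_, by group⟩
  exact mem_normalizer_fintype hky

/-- The structure theorem. -/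
theorem exists_decomp (c : ClosedSetting B S) (hF : SzFactsHold.{u}) (y : Y) :
    ∃ e ∈ sSup (movedComponents B), ∃ m ∈ normalizer (B : Set Y), y = e * m := by
  haveI : Fact (Nat.Prime 2) := ⟨Nat.prime_two⟩
  set Eb := sSup (movedComponents B)
  set R := sSup {L : Subgroup Y | Cfsg.IsComponent L ∧ B ≤ centralizer (L : Set Y)} ⊔
    Cfsg.pCore 2 Y
  have hRN : R ≤ normalizer (B : Set Y) := by
    refine sup_le (sSup_le fun L hL => ?_)
      ((CfsgLib.PCore.pCore_le_sylow S).trans c.sylow_le_normalizer)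
    exact (le_centralizer_iff.1 hL.2).trans (centralizer_le_normalizer _)
  have hnorm : Eb ≤ normalizer (R : Set Y) := by
    refine sSup_le fun L hL => ?_
    refine le_trans (le_inf ?_ ?_) (normalizer_inf_normalizer_le_normalizer_sup _ _)
    · exact CfsgLib.Structure.le_normalizer_sSup fun g hg K hK => by
        have e : Subgroup.map (MulAut.conj g).toMonoidHom K = K :=
          mem_normalizer_iff_map_conj_eq.1 (component_le_normalizer hL.1 hK.1 hg)
        rw [e]
        exact hK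
    · haveI : (Cfsg.pCore 2 Y).Normal := Cfsg.pCore_normal 2 Y
      exact le_normalizer_of_normal
  have hEK : Cfsg.layer Y ⊔ Cfsg.pCore 2 Y ≤ Eb ⊔ R := by
    refine sup_le (sSup_le fun L hL => ?_) (le_sup_right.trans le_sup_right)
    by_cases hc : B ≤ centralizer (L : Set Y)
    · exact (le_sSup (show L ∈ {L : Subgroup Y | Cfsg.IsComponent L ∧ B ≤ centralizer (L : Set Y)}
        from ⟨hL, hc⟩)).trans (le_sup_left.trans le_sup_right)
    · exact (le_sSup (show L ∈ movedComponents B from ⟨hL, hc⟩)).trans le_sup_left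
  haveI : (Cfsg.pCore 2 Y).Normal := Cfsg.pCore_normal 2 Y
  have hK : normalClosure (B : Set Y) ≤ Cfsg.layer Y ⊔ Cfsg.pCore 2 Y :=
    normalClosure_le_normal (c.le_layer_sup_pCore hF)
  obtain ⟨k, hk, m, hm, rfl⟩ := c.frattini y
  obtain ⟨e, he, r, hr, rfl⟩ := CfsgLib.Coprime.exists_mul_of_mem_sup hnorm (hEK (hK hk))
  exact ⟨e, he, r * m, mul_mem (hRN hr) hm, mul_assoc _ _ _⟩

end ClosedSetting

end CfsgLib.ThreeFree
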