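import Cfsg.Agent.Lib.ThreeFree.Local

/-!
A proper subgroup outside `N` with a strongly closed piece `B` of `A`: it has one moved component
`L` modulo its odd core, which contains the image of `B`, and its intersection with `N` is the
preimage of the normalizer of that image.
-/

set_option autoImplicit false
set_option linter.style.haveILetI false

namespace CfsgLib.ThreeFree

open Subgroup CfsgLib.Components
open scoped commutatorElement

universe u

variable {G : Type u} [Group G]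

/-- The image of `B` in `H / O(H)`. -/
abbrev barB (H B : Subgroup G) : Subgroup (H ⧸ Cfsg.pPrimeCore 2 H) :=
  (B.subgroupOf H).map (qmap H)

/-- The moved component: the normal closure of the image of `B`. -/
abbrev compL (H B : Subgroup G) : Subgroup (H ⧸ Cfsg.pPrimeCore 2 H) :=
  normalClosure (barB H B : Set (H ⧸ Cfsg.pPrimeCore 2 H))

/-- The hypotheses on a subgroup `H` outside `N`. -/
structure SubSetting (A N H B : Subgroup G) : Prop where
  le_A : B ≤ A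
  le : B ≤ H
  large : 4 ≤ Nat.card B
  proper : H ≠ ⊤
  out : ¬ H ≤ N
  closed : ∃ P : Sylow 2 H, Cfsg.IsStronglyClosed (B.subgroupOf H) (P : Subgroup H)

/-- The conclusions. -/
structure SubData (N H B : Subgroup G) (n : ℕ) : Prop where
  odd_n : Odd n
  three_le : 3 ≤ n
  card_B : Nat.card B = 2 ^ n
  core_le : ∀ x : H, x ∈ Cfsg.pPrimeCore 2 H → (x : G) ∈ N
  mem_iff : ∀ x : H, (x : G) ∈ N ↔
    qmap H x ∈ normalizer (barB H B : Set (H ⧸ Cfsg.pPrimeCore 2 H))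
  index : (N.subgroupOf H).index = (2 ^ n) ^ 2 + 1
  component : Cfsg.IsComponent (compL H B)
  le_comp : barB H B ≤ compL H B
  disj : barB H B ⊓ centralizer (compL H B : Set (H ⧸ Cfsg.pPrimeCore 2 H)) = ⊥
  decomp : ∀ y, ∃ l ∈ compL H B, ∃ m ∈ normalizer (barB H B : Set (H ⧸ Cfsg.pPrimeCore 2 H)),
    y = l * m
  gen : ∀ y, y ∉ normalizer (barB H B : Set (H ⧸ Cfsg.pPrimeCore 2 H)) →
    barB H B ⊔ cj y (barB H B) = compL H B
  data : ∃ (S : Sylow 2 (H ⧸ Cfsg.pPrimeCore 2 H)) (T : Sylow 2 (compL H B ⧸ center (compL H B)))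
    (Z : Subgroup (compL H B ⧸ center (compL H B))) (h : compL H B ⧸ center (compL H B)),
    ClosedSetting (barB H B) S ∧ CompData (barB H B) (compL H B) S n T Z h
  torus : ∃ h : H, Odd (orderOf h) ∧ (h : G) ∈ normalizer (B : Set G) ∧ qmap H h ∈ compL H B ∧
    ∀ a ∈ B, a ≠ 1 → ∀ b ∈ B, b ≠ 1 →
      ∃ k : ℕ, ((h : G)) ^ k * a * (((h : G)) ^ k)⁻¹ = b

namespace Setup

variable [Finite G] {S : Sylow 2 G} {A N : Subgroup G} {H B : Subgroup G}

theorem sub_isPGroup (s : Setup G S A N) (hs : SubSetting A N H B) :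
    IsPGroup 2 (B.subgroupOf H) :=
  IsPGroup.comap_subtype (s.isPGroup_of_le hs.le_A)

theorem sub_not_isCyclic (s : Setup G S A N) (hs : SubSetting A N H B) : ¬ IsCyclic B := by
  intro hc
  obtain ⟨g, hg⟩ := IsCyclic.exists_generator (α := B)
  have h1 : Nat.card B ≤ 2 := by
    rw [← orderOf_eq_card_of_forall_mem_zpowers hg]
    exact Nat.le_of_dvd two_pos (orderOf_dvd_of_pow_eq_one
      (Subtype.ext (by simpa using s.elem.2 _ (hs.le_A g.2))))
  have := hs.large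
  omega

theorem sub_ne_bot (_s : Setup G S A N) (hs : SubSetting A N H B) : B ≠ ⊥ := fun e => by
  have := hs.large
  rw [e, Subgroup.card_bot] at this
  omega

/-- The odd core of `H` lies in `N`. -/
theorem sub_core_le (s : Setup G S A N) (hs : SubSetting A N H B) :
    (Cfsg.pPrimeCore 2 H).map H.subtype ≤ N := by
  haveI : Fact (Nat.Prime 2) := ⟨Nat.prime_two⟩
  haveI : IsMulCommutative B :=
    ⟨⟨fun a b => Subtype.ext (s.comm (hs.le_A a.2) (hs.le_A b.2))⟩⟩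
  set K := (Cfsg.pPrimeCore 2 H).map H.subtype
  have hn : B ≤ normalizer (K : Set G) := by
    rw [le_normalizer_iff]
    rintro a ha _ ⟨y, hy, rfl⟩
    exact ⟨⟨a, hs.le ha⟩ * y * ⟨a, hs.le ha⟩⁻¹,
      (inferInstance : (Cfsg.pPrimeCore 2 H).Normal).conj_mem y hy _, rfl⟩
  obtain ⟨k, hk⟩ := IsPGroup.iff_card.mp (s.isPGroup_of_le hs.le_A)
  have hcop : (Nat.card B).Coprime (Nat.card K) := by
    rw [hk, Subgroup.card_map_of_injective H.subtype_injective]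
    exact Nat.Coprime.pow_left k
      (CfsgLib.PCore.pPrimeCore_coprime (p := 2) (G := H)).symm
  rw [← CfsgLib.CoprimeGeneration.iSup_centralizer_eq B K (s.sub_not_isCyclic hs) hn hcop]
  exact iSup₂_le fun a ha => inf_le_right.trans (s.cent_le a (hs.le_A ha.1) ha.2)

/-- The normalizer of the image of a nontrivial subgroup of `B` comes from `N`. -/
theorem sub_normalizer_le (s : Setup G S A N) (hs : SubSetting A N H B) {C : Subgroup G}
    (hC : C ≤ B) (hne : C ≠ ⊥) {x : H}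
    (hx : qmap H x ∈ normalizer (barB H C : Set (H ⧸ Cfsg.pPrimeCore 2 H))) : (x : G) ∈ N := by
  haveI : Fact (Nat.Prime 2) := ⟨Nat.prime_two⟩
  have hP : IsPGroup 2 (C.subgroupOf H) :=
    IsPGroup.comap_subtype (s.isPGroup_of_le (hC.trans hs.le_A))
  rw [← map_normalizer_quotient CfsgLib.PCore.pPrimeCore_coprime hP] at hx
  obtain ⟨y, hy, hyx⟩ := hx
  have hyN : (y : G) ∈ N := by
    obtain ⟨a, ha, ha1⟩ := (Subgroup.bot_or_exists_ne_one C).resolve_left hne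
    refine s.mem_of_conj_mem (hs.le_A (hC ha)) ha1 (g := (y : G)) ?_
    exact s.A_le (hs.le_A (hC ((mem_normalizer_iff.1 hy ⟨a, hs.le (hC ha)⟩).1 ha)))
  have hc : ((y⁻¹ * x : H) : G) ∈ N := s.sub_core_le hs ⟨_, QuotientGroup.eq.1 hyx, rfl⟩
  simpa using N.mul_mem hyN hc

theorem sub_data (s : Setup G S A N) (hF : SzFactsHold.{u}) (hs : SubSetting A N H B) :
    ∃ n : ℕ, SubData N H B n := by
  classical
  haveI : Fact (Nat.Prime 2) := ⟨Nat.prime_two⟩
  set O := Cfsg.pPrimeCore 2 H with hO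
  set π := qmap H with hπ
  set Bb := barB H B with hBb
  have hBelem : Cfsg.IsElementaryAbelian 2 (B.subgroupOf H) :=
    ⟨⟨⟨fun a b => Subtype.ext (Subtype.ext (s.comm (hs.le_A a.2) (hs.le_A b.2)))⟩⟩,
      fun a ha => Subtype.ext (by simpa using s.elem.2 _ (hs.le_A ha))⟩
  obtain ⟨P, hP⟩ := hs.closed
  have c : ClosedSetting Bb _ := closedSetting_quotient (s.proper H hs.proper) P hBelem hP
  have hB2 := s.sub_isPGroup hs
  have hinj : ∀ a b : H, (a : G) ∈ B → (b : G) ∈ B → π a = π b → a = b :=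
    fun a b ha hb h => mk_injOn hB2 (mem_subgroupOf.2 ha) (mem_subgroupOf.2 hb) h
  have hcore : ∀ x : H, x ∈ O → (x : G) ∈ N := fun x hx => s.sub_core_le hs ⟨x, hx, rfl⟩
  set Nπ := (N.subgroupOf H).map π with hNπ
  have hmemN : ∀ x : H, π x ∈ Nπ ↔ (x : G) ∈ N := by
    refine fun x => ⟨?_, fun hx => mem_map_of_mem π (mem_subgroupOf.2 hx)⟩
    rintro ⟨y, hy, hyx⟩
    simpa using N.mul_mem (mem_subgroupOf.1 hy) (hcore _ (QuotientGroup.eq.1 hyx))
  have hnorm_le : normalizer (Bb : Set (H ⧸ O)) ≤ Nπ := by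
    intro y hy
    obtain ⟨x, rfl⟩ := QuotientGroup.mk'_surjective O y
    exact (hmemN x).2 (s.sub_normalizer_le hs le_rfl (s.sub_ne_bot hs) hy)
  -- a moved component outside `N`
  obtain ⟨L, hLm, hLN⟩ : ∃ L ∈ movedComponents Bb, ¬ L ≤ Nπ := by
    by_contra hcon
    push_neg at hcon
    refine hs.out fun g hg => (hmemN ⟨g, hg⟩).1 ?_
    obtain ⟨e, he, m, hm, hem⟩ := c.exists_decomp hF (π ⟨g, hg⟩)
    rw [hem]
    exact mul_mem ((sSup_le hcon) he) (hnorm_le hm)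
  obtain ⟨hL, hnc⟩ := hLm
  obtain ⟨n, T, Z, h, cd⟩ := c.comp_data hF hL hnc
  set ρ := QuotientGroup.mk' (center L) with hρ
  -- `L` meets `N` in the preimage of the Borel subgroup
  have hborel : ∀ l : L, (l : H ⧸ O) ∈ Nπ → (l : H ⧸ O) ∈ normalizer (Bb : Set (H ⧸ O)) := by
    intro l hl
    rw [cd.normalizes]
    have hle : normalizer ((T : Subgroup (L ⧸ center L)) : Set (L ⧸ center L)) ≤
        (Nπ.subgroupOf L).map ρ := by
      intro z hz
      obtain ⟨x, rfl⟩ := QuotientGroup.mk'_surjective (center L) z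
      exact mem_map_of_mem ρ (mem_subgroupOf.2 (hnorm_le ((cd.normalizes x).2 hz)))
    rcases cd.sz.maximal _ hle with e | e
    · rw [← e]; exact mem_map_of_mem ρ (mem_subgroupOf.2 hl)
    · exfalso
      refine hLN fun y hy => ?_
      obtain ⟨x, hx, hxy⟩ : ρ ⟨y, hy⟩ ∈ (Nπ.subgroupOf L).map ρ := e ▸ mem_top _
      have hz : x⁻¹ * ⟨y, hy⟩ ∈ center L := QuotientGroup.eq.1 hxy
      have hzN : ((x⁻¹ * ⟨y, hy⟩ : L) : H ⧸ O) ∈ Nπ :=
        hnorm_le ((cd.normalizes _).2 (by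
          rw [show QuotientGroup.mk' (center L) (x⁻¹ * ⟨y, hy⟩) = 1 from
            (QuotientGroup.eq_one_iff _).2 hz]
          exact one_mem _))
      simpa using mul_mem (mem_subgroupOf.1 hx) hzN
  -- no element of `B` centralizes `L`
  have hdisj : Bb ⊓ centralizer (L : Set (H ⧸ O)) = ⊥ := by
    rw [eq_bot_iff]
    rintro _ ⟨⟨a, ha, rfl⟩, hac⟩
    rw [mem_bot]
    by_contra hne
    have ha1 : (a : G) ≠ 1 := fun e => hne (by
      rw [show a = 1 from Subtype.ext e, map_one])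
    refine hLN fun y hy => ?_
    obtain ⟨x, rfl⟩ := QuotientGroup.mk'_surjective O y
    refine (hmemN x).2 (s.sub_normalizer_le hs (C := zpowers (a : G)) (zpowers_le.2 ha)
      (fun e => ha1 (zpowers_eq_bot.1 e)) (centralizer_le_normalizer _ ?_))
    rw [mem_centralizer_iff]
    rintro _ ⟨z, hz, rfl⟩
    obtain ⟨k, hk⟩ := mem_zpowers_iff.1 (mem_subgroupOf.1 hz)
    rw [show z = a ^ k from Subtype.ext (by simpa using hk.symm), map_zpow]
    exact (Commute.zpow_right (mem_centralizer_iff.1 hac _ hy) k).symm.eq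
  set C := centralizer (L : Set (H ⧸ O)) with hC
  have hLC : ∀ l : L, (l : H ⧸ O) ∈ C ↔ l ∈ center L := by
    intro l
    rw [mem_center_iff]
    exact ⟨fun h' g => Subtype.ext (mem_centralizer_iff.1 h' g g.2),
      fun h' => mem_centralizer_iff.2 fun g hg => congrArg Subtype.val (h' ⟨g, hg⟩)⟩
  have hBN := c.le_normalizer_component hF hL
  have hCn : ∀ {u v : H ⧸ O}, u ∈ normalizer (L : Set (H ⧸ O)) → v ∈ C → u * v * u⁻¹ ∈ C :=
    fun hu hv => (mem_normalizer_iff.1 (normalizer_le_normalizer_centralizer L hu) _).1 hv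
  have huniq : ∀ b ∈ Bb, ∀ b' ∈ Bb, ∀ l l' : L, b * (l : H ⧸ O)⁻¹ ∈ C → b' * (l' : H ⧸ O)⁻¹ ∈ C →
      ρ l = ρ l' → b = b' := by
    intro b hb b' hb' l l' hbl hbl' he
    have hz : (l' : H ⧸ O)⁻¹ * l ∈ C := by
      have := (hLC (l'⁻¹ * l)).2 (QuotientGroup.eq.1 he.symm)
      simpa using this
    have hmem : b'⁻¹ * b ∈ Bb ⊓ C := by
      refine Subgroup.mem_inf.2 ⟨mul_mem (inv_mem hb') hb, ?_⟩
      have e : b'⁻¹ * b = (l' : H ⧸ O)⁻¹ * ((b' * (l' : H ⧸ O)⁻¹)⁻¹ * (b * (l : H ⧸ O)⁻¹)) * l' *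
          ((l' : H ⧸ O)⁻¹ * l) := by group
      rw [e]
      refine mul_mem ?_ hz
      have := hCn (inv_mem (le_normalizer (l'.2 : (l' : H ⧸ O) ∈ L))) (mul_mem (inv_mem hbl') hbl)
      rwa [inv_inv] at this
    rw [hdisj, mem_bot, inv_mul_eq_one] at hmem
    exact hmem.symm
  have hlift : ∀ b ∈ Bb, ∃ l : L, b * (l : H ⧸ O)⁻¹ ∈ C := fun b hb => by
    obtain ⟨l, hl, hbl⟩ := c.exists_inner hF hL hb
    exact ⟨⟨l, hl⟩, hbl⟩
  have hcardZ : Nat.card Bb = Nat.card Z := by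
    choose f hf using hlift
    refine Nat.card_eq_of_bijective (fun b : Bb =>
      (⟨ρ (f b b.2), cd.image_mem b b.2 _ (hf b b.2)⟩ : Z)) ⟨fun b b' e => ?_, fun z => ?_⟩
    · exact Subtype.ext (huniq b b.2 b' b'.2 _ _ (hf b b.2) (hf b' b'.2) (congrArg Subtype.val e))
    · obtain ⟨b, hb, l, hbl, hl⟩ := cd.image_surj z z.2
      refine ⟨⟨b, hb⟩, Subtype.ext ?_⟩
      rw [← hl]
      refine QuotientGroup.eq.2 ((hLC _).1 ?_)
      have := hCn (inv_mem (le_normalizer ((f b hb).2 : ((f b hb) : H ⧸ O) ∈ L)))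
        (mul_mem (inv_mem (hf b hb)) hbl)
      have e2 : ((f b hb : L) : H ⧸ O)⁻¹ * ((b * ((f b hb : L) : H ⧸ O)⁻¹)⁻¹ * (b * (l : H ⧸ O)⁻¹)) *
          ((f b hb : L) : H ⧸ O)⁻¹⁻¹ = (l : H ⧸ O)⁻¹ * (f b hb : L) := by group
      rw [e2] at this
      have := inv_mem this
      rw [mul_inv_rev, inv_inv] at this
      simpa using this
  have hq8 : 8 ≤ 2 ^ n := by
    calc 8 = 2 ^ 3 := rfl
      _ ≤ 2 ^ n := Nat.pow_le_pow_right (by norm_num) cd.sz.three_le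
  have hcardB : Nat.card B = 2 ^ n := by
    rw [← cd.sz.card_Z, ← hcardZ, ← Nat.card_congr (subgroupOfEquivOfLe hs.le).toEquiv]
    exact Nat.card_eq_of_bijective (fun a : B.subgroupOf H => (⟨π a, mem_map_of_mem π a.2⟩ : Bb))
      ⟨fun a b e => Subtype.ext (hinj _ _ (mem_subgroupOf.1 a.2) (mem_subgroupOf.1 b.2)
        (congrArg Subtype.val e)), by
        rintro ⟨_, a, ha, rfl⟩
        exact ⟨⟨a, ha⟩, rfl⟩⟩
  -- a lift of the torus
  obtain ⟨x, hx, hxodd⟩ := exists_odd_lift (center L) h (by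
    rw [cd.sz.h_order]
    exact Nat.Even.sub_odd (by omega) ((Nat.even_pow.2 ⟨even_two, by have := cd.sz.three_le; omega⟩))
      odd_one)
  have hxN : (x : H ⧸ O) ∈ normalizer (Bb : Set (H ⧸ O)) := by
    rw [cd.normalizes, hx]
    exact cd.sz.h_mem
  -- `B` lies in `L`
  have hBL : Bb ≤ L := by
    intro b hb
    obtain ⟨l, hbl⟩ := hlift b hb
    let g : Z → Z := fun z => ⟨h * z * h⁻¹ * (z : L ⧸ center L)⁻¹, mul_mem (by
      have := (mem_normalizer_iff.1 (cd.sz.norm_Z.symm ▸ cd.sz.h_mem) _).1 z.2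
      exact this) (inv_mem z.2)⟩
    have hginj : Function.Injective g := by
      intro z z' e
      have e' : h * z * h⁻¹ * (z : L ⧸ center L)⁻¹ = h * z' * h⁻¹ * (z' : L ⧸ center L)⁻¹ :=
        congrArg Subtype.val e
      have hh : h ^ 1 ≠ 1 := fun e1 => by
        have h2 := cd.sz.h_order
        rw [pow_one] at e1
        rw [e1, orderOf_one] at h2
        omega
      have hc := cd.sz.h_fpf 1 hh ((z' : L ⧸ center L)⁻¹ * z)
        (mul_mem (inv_mem (cd.sz.Z_le z'.2)) (cd.sz.Z_le z.2)) (by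
          have hcm : (z : L ⧸ center L)⁻¹ * z' = z' * (z : L ⧸ center L)⁻¹ :=
            (cd.sz.Z_comm _ z'.2 _ (inv_mem (cd.sz.Z_le z.2))).symm
          rw [pow_one]
          calc h * ((z' : L ⧸ center L)⁻¹ * z)
              = (h * z' * h⁻¹ * (z' : L ⧸ center L)⁻¹ * z')⁻¹ *
                (h * z * h⁻¹ * (z : L ⧸ center L)⁻¹ * z) * h := by group
            _ = (h * z' * h⁻¹ * (z' : L ⧸ center L)⁻¹ * z')⁻¹ *
                (h * z' * h⁻¹ * (z' : L ⧸ center L)⁻¹ * z) * h := by rw [e']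
            _ = _ := by group)
      exact Subtype.ext (inv_mul_eq_one.1 hc).symm
    obtain ⟨⟨z, hz⟩, hgz⟩ := (Finite.injective_iff_surjective.1 hginj)
      ⟨ρ l, cd.image_mem b hb l hbl⟩
    obtain ⟨b', hb', l', hbl', rfl⟩ := cd.image_surj z hz
    have he : (x : H ⧸ O) * b' * (x : H ⧸ O)⁻¹ * b'⁻¹ ∈ Bb :=
      mul_mem ((mem_normalizer_iff.1 hxN _).1 hb') (inv_mem hb')
    have heL : (x : H ⧸ O) * b' * (x : H ⧸ O)⁻¹ * b'⁻¹ ∈ L := by
      have : (x : H ⧸ O) * b' * (x : H ⧸ O)⁻¹ * b'⁻¹ =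
          (x : H ⧸ O) * (b' * (x : H ⧸ O)⁻¹ * b'⁻¹) := by group
      rw [this]
      exact mul_mem x.2 ((mem_normalizer_iff.1 (hBN hb') _).1 (inv_mem x.2))
    have hec : (x : H ⧸ O) * b' * (x : H ⧸ O)⁻¹ * b'⁻¹ *
        ((x * l' * x⁻¹ * l'⁻¹ : L) : H ⧸ O)⁻¹ ∈ C := by
      have h1 : (x : H ⧸ O) * (b' * (l' : H ⧸ O)⁻¹) = b' * (l' : H ⧸ O)⁻¹ * x :=
        mem_centralizer_iff.1 hbl' x x.2
      have h2 : (l' : H ⧸ O) * (b' * (l' : H ⧸ O)⁻¹) = b' * (l' : H ⧸ O)⁻¹ * l' :=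
        mem_centralizer_iff.1 hbl' l' l'.2
      have e : (x : H ⧸ O) * b' * (x : H ⧸ O)⁻¹ * b'⁻¹ *
          ((x * l' * x⁻¹ * l'⁻¹ : L) : H ⧸ O)⁻¹ = 1 := by
        simp only [Subgroup.coe_mul, Subgroup.coe_inv]
        set cc := b' * (l' : H ⧸ O)⁻¹
        have eb : b' = cc * l' := by simp [cc]
        rw [eb]
        calc (x : H ⧸ O) * (cc * l') * (x : H ⧸ O)⁻¹ * (cc * l')⁻¹ *
            ((x : H ⧸ O) * l' * (x : H ⧸ O)⁻¹ * (l' : H ⧸ O)⁻¹)⁻¹
            = ((x : H ⧸ O) * cc) * l' * (x : H ⧸ O)⁻¹ * (l' : H ⧸ O)⁻¹ * cc⁻¹ *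
              ((x : H ⧸ O) * l' * (x : H ⧸ O)⁻¹ * (l' : H ⧸ O)⁻¹)⁻¹ := by group
          _ = (cc * (x : H ⧸ O)) * l' * (x : H ⧸ O)⁻¹ * (l' : H ⧸ O)⁻¹ * cc⁻¹ *
              ((x : H ⧸ O) * l' * (x : H ⧸ O)⁻¹ * (l' : H ⧸ O)⁻¹)⁻¹ := by rw [h1]
          _ = cc * (((x * l' * x⁻¹ * l'⁻¹ : L) : H ⧸ O) * cc⁻¹ *
              ((x * l' * x⁻¹ * l'⁻¹ : L) : H ⧸ O)⁻¹) := by
            simp only [Subgroup.coe_mul, Subgroup.coe_inv]; group
          _ = 1 := by
            have h3 := mem_centralizer_iff.1 (C.inv_mem hbl') _ (x * l' * x⁻¹ * l'⁻¹ : L).2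
            rw [h3]; group
      rw [e]
      exact C.one_mem
    have : b = (x : H ⧸ O) * b' * (x : H ⧸ O)⁻¹ * b'⁻¹ := by
      refine huniq b hb _ he l (x * l' * x⁻¹ * l'⁻¹) hbl hec ?_
      rw [map_mul, map_mul, map_mul, map_inv, map_inv, hx]
      exact (congrArg Subtype.val hgz).symm
    rw [this]
    exact heL
  -- uniqueness and normality
  have honly : ∀ M ∈ movedComponents Bb, M = L := by
    intro M hM
    by_contra hne
    exact hM.2 (hBL.trans (le_centralizer_of_commutator_eq_bot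
      (commutator_components_eq_bot hL hM.1 (Ne.symm hne))))
  have hdec : ∀ y, ∃ l ∈ L, ∃ m ∈ normalizer (Bb : Set (H ⧸ O)), y = l * m := by
    intro y
    obtain ⟨e, he, m, hm, rfl⟩ := c.exists_decomp hF y
    exact ⟨e, (sSup_le fun M hM => (honly M hM).le) he, m, hm, rfl⟩
  have hLn : L.Normal := by
    refine ⟨fun v hv y => ?_⟩
    obtain ⟨l, hl, m, hm, rfl⟩ := hdec y
    have hm' : L.map (MulAut.conj m).toMonoidHom = L := by
      refine honly _ ⟨isComponent_conj m hL, fun hc => hnc ?_⟩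
      intro b hb
      rw [mem_centralizer_iff]
      intro l0 hl0
      have h1 := mem_centralizer_iff.1 (hc ((mem_normalizer_iff.1 hm b).1 hb))
        (m * l0 * m⁻¹) ⟨l0, hl0, rfl⟩
      calc l0 * b = m⁻¹ * (m * l0 * m⁻¹ * (m * b * m⁻¹)) * m := by group
        _ = m⁻¹ * (m * b * m⁻¹ * (m * l0 * m⁻¹)) * m := by rw [h1]
        _ = b * l0 := by group
    have h2 : m * v * m⁻¹ ∈ L := hm'.le ⟨v, hv, rfl⟩
    have h3 : l * m * v * (l * m)⁻¹ = l * (m * v * m⁻¹) * l⁻¹ := by group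
    rw [h3]
    exact mul_mem (mul_mem hl h2) (inv_mem hl)
  have hgen : ∀ y, y ∉ normalizer (Bb : Set (H ⧸ O)) → Bb ⊔ cj y Bb = L := by
    intro y hy
    have hle : Bb ⊔ cj y Bb ≤ L :=
      sup_le hBL (cj_le_of_forall fun b hb => hLn.conj_mem b (hBL hb) y)
    obtain ⟨l, hl, m, hm, rfl⟩ := hdec y
    have hlB : cj l Bb ≤ Bb ⊔ cj (l * m) Bb := by
      refine le_trans (le_of_eq ?_) le_sup_right
      rw [← cj_mul]
      congr 1
      ext v
      rw [mem_cj]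
      exact ((mem_normalizer_iff''.1 hm) v)
    set D := (Bb ⊔ cj (l * m) Bb).subgroupOf L with hD
    have hlT : ρ ⟨l, hl⟩ ∉ normalizer ((T : Subgroup (L ⧸ center L)) : Set (L ⧸ center L)) := by
      rw [← cd.normalizes]
      exact fun h' => hy (mul_mem h' hm)
    have hZD : ∀ z ∈ Z, z ∈ D.map ρ ∧ ρ ⟨l, hl⟩ * z * (ρ ⟨l, hl⟩)⁻¹ ∈ D.map ρ := by
      intro z hz
      obtain ⟨b, hb, l₀, hbl₀, rfl⟩ := cd.image_surj z hz
      have hbz : ρ l₀ = ρ ⟨b, hBL hb⟩ := by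
        refine QuotientGroup.eq.2 ((hLC _).1 ?_)
        show (l₀ : H ⧸ O)⁻¹ * b ∈ C
        have h1 : (l₀ : H ⧸ O) * (b * (l₀ : H ⧸ O)⁻¹) = b * (l₀ : H ⧸ O)⁻¹ * l₀ :=
          mem_centralizer_iff.1 hbl₀ l₀ l₀.2
        rw [show (l₀ : H ⧸ O)⁻¹ * b = b * (l₀ : H ⧸ O)⁻¹ by
          calc (l₀ : H ⧸ O)⁻¹ * b = (l₀ : H ⧸ O)⁻¹ * (b * (l₀ : H ⧸ O)⁻¹ * l₀) := by group
            _ = (l₀ : H ⧸ O)⁻¹ * ((l₀ : H ⧸ O) * (b * (l₀ : H ⧸ O)⁻¹)) := by rw [h1]
            _ = _ := by group]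
        exact hbl₀
      rw [hbz]
      refine ⟨mem_map_of_mem ρ (mem_subgroupOf.2 (mem_sup_left hb)), ?_⟩
      rw [← map_inv, ← map_mul, ← map_mul]
      exact mem_map_of_mem ρ (mem_subgroupOf.2 (hlB (cj_mem.2 hb)))
    have htop : D.map ρ = ⊤ := eq_top_iff.2 <| (cd.sz.gen _ hlT).ge.trans <|
      sup_le (fun z hz => (hZD z hz).1) (by rintro _ ⟨z, hz, rfl⟩; exact (hZD z hz).2)
    refine le_antisymm hle ?_
    haveI := hL.2.1
    have hcom : commutator L ≤ D := by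
      rw [_root_.commutator_def, commutator_le]
      intro a _ b _
      obtain ⟨a', ha', e1⟩ : ρ a ∈ D.map ρ := htop ▸ mem_top _
      obtain ⟨b', hb', e2⟩ : ρ b ∈ D.map ρ := htop ▸ mem_top _
      have ca : a'⁻¹ * a ∈ center L := QuotientGroup.eq.1 e1
      have cb : b'⁻¹ * b ∈ center L := QuotientGroup.eq.1 e2
      have hab : ⁅a, b⁆ = ⁅a', b'⁆ := by
        have k1 := fun g : L => mem_center_iff.1 ca g
        have k2 := fun g : L => mem_center_iff.1 cb g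
        have ea : a = a' * (a'⁻¹ * a) := by group
        have eb : b = b' * (b'⁻¹ * b) := by group
        calc ⁅a, b⁆ = ⁅a' * (a'⁻¹ * a), b' * (b'⁻¹ * b)⁆ := by rw [← ea, ← eb]
          _ = a' * ((a'⁻¹ * a) * b') * (b'⁻¹ * b) * (a'⁻¹ * a)⁻¹ * a'⁻¹ * (b'⁻¹ * b)⁻¹ * b'⁻¹ := by
            rw [commutatorElement_def]; group
          _ = a' * (b' * (a'⁻¹ * a)) * (b'⁻¹ * b) * (a'⁻¹ * a)⁻¹ * a'⁻¹ * (b'⁻¹ * b)⁻¹ * b'⁻¹ := by
            rw [k1 b']
          _ = a' * b' * ((a'⁻¹ * a) * (b'⁻¹ * b)) * (a'⁻¹ * a)⁻¹ * a'⁻¹ * (b'⁻¹ * b)⁻¹ * b'⁻¹ := by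
            group
          _ = a' * b' * ((b'⁻¹ * b) * (a'⁻¹ * a)) * (a'⁻¹ * a)⁻¹ * a'⁻¹ * (b'⁻¹ * b)⁻¹ * b'⁻¹ := by
            rw [k2 (a'⁻¹ * a)]
          _ = a' * b' * ((b'⁻¹ * b) * a'⁻¹) * (b'⁻¹ * b)⁻¹ * b'⁻¹ := by group
          _ = a' * b' * (a'⁻¹ * (b'⁻¹ * b)) * (b'⁻¹ * b)⁻¹ * b'⁻¹ := by rw [← k2 a'⁻¹]
          _ = ⁅a', b'⁆ := by rw [commutatorElement_def]; group
      rw [hab, commutatorElement_def]
      exact mul_mem (mul_mem (mul_mem ha' hb') (inv_mem ha')) (inv_mem hb')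
    intro v hv
    exact mem_subgroupOf.1 (hcom (show (⟨v, hv⟩ : L) ∈ commutator L from Group.IsPerfect.mem_commutator))
  obtain ⟨y0, hy0⟩ : ∃ y, y ∉ normalizer (Bb : Set (H ⧸ O)) := by
    by_contra hcon
    push_neg at hcon
    exact hs.out fun g hg => s.sub_normalizer_le hs le_rfl (s.sub_ne_bot hs) (hcon (π ⟨g, hg⟩))
  have hcompL : compL H B = L := by
    refine le_antisymm (normalClosure_le_normal hBL) ?_
    rw [← hgen y0 hy0]
    exact sup_le subset_normalClosure (cj_le_of_forall fun b hb =>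
      normalClosure_normal.conj_mem b (subset_normalClosure hb) y0)
  have hmem : ∀ v : H, (v : G) ∈ N ↔ π v ∈ normalizer (Bb : Set (H ⧸ O)) := by
    refine fun v => ⟨fun hv => ?_, s.sub_normalizer_le hs le_rfl (s.sub_ne_bot hs)⟩
    obtain ⟨l, hl, m, hm, e⟩ := hdec (π v)
    rw [e]
    refine mul_mem (hborel ⟨l, hl⟩ ?_) hm
    have : l = π v * m⁻¹ := by rw [e]; group
    show l ∈ Nπ
    rw [this]
    exact mul_mem ((hmemN v).2 hv) (inv_mem (hnorm_le hm))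
  have hidx : (N.subgroupOf H).index = (2 ^ n) ^ 2 + 1 := by
    have h1 : N.subgroupOf H = (normalizer (Bb : Set (H ⧸ O))).comap π := by
      ext v
      rw [mem_subgroupOf, mem_comap, hmem v]
    rw [h1, index_comap_of_surjective _ (QuotientGroup.mk'_surjective O), ← cd.sz.index_R,
      ← index_comap_of_surjective _ (QuotientGroup.mk'_surjective (center L))]
    set K := normalizer (Bb : Set (H ⧸ O))
    have h2 : (normalizer ((T : Subgroup (L ⧸ center L)) : Set (L ⧸ center L))).comap ρ =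
        K.subgroupOf L := by
      ext l
      rw [mem_comap, mem_subgroupOf, cd.normalizes l]
    rw [h2, index_eq_card, index_eq_card]
    refine (Nat.card_eq_of_bijective (Quotient.map' (fun l : L => (l : H ⧸ O)) fun a b hab => ?_)
      ⟨?_, ?_⟩).symm
    · rw [QuotientGroup.leftRel_apply] at hab ⊢
      simpa [mem_subgroupOf] using hab
    · rintro ⟨a⟩ ⟨b⟩ e
      refine Quotient.sound' ?_
      have e' := Quotient.exact' e
      rw [QuotientGroup.leftRel_apply] at e' ⊢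
      simpa [mem_subgroupOf] using e'
    · rintro ⟨y⟩
      obtain ⟨l, hl, m, hm, rfl⟩ := hdec y
      refine ⟨Quotient.mk'' ⟨l, hl⟩, Quotient.sound' ?_⟩
      rw [QuotientGroup.leftRel_apply]
      show l⁻¹ * (l * m) ∈ K
      rw [inv_mul_cancel_left]
      exact hm
  have htorus : ∃ y : H, Odd (orderOf y) ∧ (y : G) ∈ normalizer (B : Set G) ∧ π y ∈ L ∧
      ∀ a ∈ B, a ≠ 1 → ∀ b ∈ B, b ≠ 1 → ∃ k : ℕ, (y : G) ^ k * a * ((y : G) ^ k)⁻¹ = b := by
    have hxN' := hxN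
    rw [← map_normalizer_quotient CfsgLib.PCore.pPrimeCore_coprime hB2] at hxN'
    obtain ⟨y₀, hy₀, hy₀x⟩ := hxN'
    obtain ⟨i, m, hm2, he⟩ :=
      Nat.exists_eq_two_pow_mul_odd (n := orderOf y₀) (orderOf_pos y₀).ne'
    obtain ⟨j, hj⟩ := exists_pow_eq_self_of_coprime (x := π y₀) (n := 2 ^ i) (by
      rw [show π y₀ = (x : H ⧸ O) from hy₀x, Subgroup.orderOf_coe]
      exact Nat.Coprime.pow_left i (Nat.coprime_two_left.2 hxodd))
    set y := (y₀ ^ 2 ^ i) ^ j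
    have hyx : π y = (x : H ⧸ O) := by
      rw [map_pow, map_pow, hj]
      exact hy₀x
    have hyn : y ∈ normalizer ((B.subgroupOf H : Subgroup H) : Set H) :=
      pow_mem (pow_mem hy₀ _) _
    refine ⟨y, ?_, ?_, by rw [hyx]; exact x.2, fun a ha ha1 b hb hb1 => ?_⟩
    · refine Odd.of_dvd_nat (show Odd (orderOf (y₀ ^ 2 ^ i)) from ?_) (orderOf_pow_dvd _)
      rw [orderOf_pow, he, Nat.gcd_mul_right_left, Nat.mul_div_cancel_left _ (by positivity)]
      exact hm2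
    · exact mem_normalizer_fintype fun a ha =>
        ((mem_normalizer_iff.1 hyn ⟨a, hs.le ha⟩).1 ha)
    · have hπne : ∀ c : G, ∀ hc : c ∈ B, c ≠ 1 → ∀ l : L,
          π ⟨c, hs.le hc⟩ * (l : H ⧸ O)⁻¹ ∈ C → ρ l ≠ 1 := by
        intro c hc hc1 l hcl e
        refine hc1 ?_
        have := huniq _ (mem_map_of_mem π (mem_subgroupOf.2 hc)) 1 Bb.one_mem l 1 hcl (by simp)
          (by rw [e, map_one])
        rw [← map_one π] at this
        exact congrArg Subtype.val (hinj _ 1 hc B.one_mem this)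
      obtain ⟨la, hla⟩ := hlift (π ⟨a, hs.le ha⟩) (mem_map_of_mem π (mem_subgroupOf.2 ha))
      obtain ⟨lb, hlb⟩ := hlift (π ⟨b, hs.le hb⟩) (mem_map_of_mem π (mem_subgroupOf.2 hb))
      obtain ⟨k, hk⟩ := cd.sz.trans _ (cd.image_mem _ (mem_map_of_mem π (mem_subgroupOf.2 ha)) _ hla)
        _ (cd.image_mem _ (mem_map_of_mem π (mem_subgroupOf.2 hb)) _ hlb)
        (hπne a ha ha1 la hla) (hπne b hb hb1 lb hlb)
      refine ⟨k, ?_⟩
      have hmemB : (y : G) ^ k * a * ((y : G) ^ k)⁻¹ ∈ B :=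
        (mem_normalizer_iff.1 (pow_mem hyn k) ⟨a, hs.le ha⟩).1 ha
      have hba : ((x ^ k : L) : H ⧸ O) * π ⟨a, hs.le ha⟩ * ((x ^ k : L) : H ⧸ O)⁻¹ =
          π ⟨b, hs.le hb⟩ := by
        refine huniq _ ((mem_normalizer_iff.1 (pow_mem hxN k) _).1
          (mem_map_of_mem π (mem_subgroupOf.2 ha))) _ (mem_map_of_mem π (mem_subgroupOf.2 hb))
          (x ^ k * la * (x ^ k)⁻¹) lb ?_ hlb (by rw [map_mul, map_mul, map_inv, map_pow, hx, hk])
        have h1 := hCn (le_normalizer (x ^ k : L).2) hla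
        simpa [mul_assoc] using h1
      have e : π (y ^ k * ⟨a, hs.le ha⟩ * (y ^ k)⁻¹) = π ⟨b, hs.le hb⟩ := by
        rw [map_mul, map_mul, map_inv, map_pow, hyx, ← SubmonoidClass.coe_pow]
        exact hba
      exact congrArg Subtype.val (hinj _ ⟨b, hs.le hb⟩ hmemB hb e)
  refine ⟨n, cd.sz.odd_n, cd.sz.three_le, hcardB, hcore, hmem, hidx, ?_, ?_, ?_, ?_, ?_, ?_, ?_⟩ <;>
    rw [hcompL]
  · exact hL
  · exact hBL
  · exact hdisj
  · exact hdec
  · exact hgen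
  · exact ⟨_, T, Z, h, c, cd⟩
  · exact htorus

end Setup

end CfsgLib.ThreeFree
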