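import Cfsg.Agent.Lib.ThreeFree.LineData

/-!
The shape of `C(A)` and of `N` in the normal case: statements.
-/

set_option autoImplicit false

namespace CfsgLib.ThreeFree

open Subgroup

universe u

variable {G : Type u} [Group G]

/-- The shape of `C(A) = O(N) P` for the maximal line of `w`: `P` is the Sylow 2-subgroup, its
involutions lie in `eGrp A N w`, which is normal in `N` modulo `O(N)`. -/
structure UShape (A N : Subgroup G) (n : ℕ) (w h : G) (P : Subgroup G) : Prop where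
  maxLine : MaxLine A N n w h
  core_le : coreN N ≤ centralizer (A : Set G)
  core_inv : ∀ v, Bad N v → ∀ x ∈ coreN N, v * x * v⁻¹ = x⁻¹
  core_comm : ∀ x ∈ coreN N, ∀ y ∈ coreN N, x * y = y * x
  core_or : coreN N = ⊥ ∨ ∀ v, Bad N v → Nat.card (kInv A N v) = 2
  P_two : IsPGroup 2 P
  P_le : P ≤ centralizer (A : Set G)
  J_le : jGrp A w ≤ P
  P_cases : P = jGrp A w ∨ P = t1Grp A w
  P_invol : ∀ x ∈ P, x * x = 1 → x ∈ eGrp A N w
  factor : ∀ x ∈ centralizer (A : Set G), ∃ v ∈ coreN N, ∃ p ∈ P, x = v * p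
  frattini : ∀ g ∈ N, ∃ v ∈ coreN N, ∃ m ∈ N, g = v * m ∧ (∀ x ∈ P, m * x * m⁻¹ ∈ P) ∧
    ∀ x ∈ eGrp A N w, m * x * m⁻¹ ∈ eGrp A N w
  bad_conj : ∀ v, Bad N v → ∃ x ∈ coreN N, x * v * x⁻¹ ∈ eGrp A N w

end CfsgLib.ThreeFree
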