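import Cfsg.Agent.Lib.ThreeFree.LineMax
import Cfsg.Agent.Lib.ThreeFree.UShape

/-!
The odd core `W` of `N` under the shape of `C(A)`: an element of `W ≠ 1` has its centralizer in `N`.
-/

set_option autoImplicit false
set_option linter.style.haveILetI false
set_option linter.unusedSectionVars false

namespace CfsgLib.ThreeFree

open Subgroup CfsgLib.Components

universe u

variable {G : Type u} [Group G] [Finite G] {S : Sylow 2 G} {A N : Subgroup G} {n : ℕ}

/-- `automizerHom` fixes the image of `B` only if it is trivial, on an element of odd order. -/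
theorem mem_centralizer_of_fix_image {Y : Type u} [Group Y] [Finite Y] {B L : Subgroup Y}
    {Sy : Sylow 2 Y} {m : ℕ} {T : Sylow 2 (L ⧸ center L)} {Z : Subgroup (L ⧸ center L)}
    {h : L ⧸ center L} (cd : CompData B L Sy m T Z h) (hL : Cfsg.IsComponent L) (hBL : B ≤ L)
    {y : Y} (hy : y ∈ normalizer (L : Set Y)) (hodd : Odd (orderOf y))
    (hfix : ∀ b ∈ B, y * b * y⁻¹ = b) : y ∈ centralizer (L : Set Y) := by
  set α := automizerHom L ⟨y, hy⟩ with hα
  have hαZ : ∀ z ∈ Z, α z = z := by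
    intro z hz
    obtain ⟨b, hb, l, hbl, rfl⟩ := cd.image_surj z hz
    have heq : QuotientGroup.mk' (center L) l = QuotientGroup.mk' (center L) ⟨b, hBL hb⟩ := by
      refine (QuotientGroup.eq.2 ?_)
      rw [mem_center_iff]
      intro g
      refine Subtype.ext ?_
      have hn := normalizer_le_normalizer_centralizer L
        (le_normalizer (L.inv_mem l.2) : (l : Y)⁻¹ ∈ normalizer (L : Set Y))
      have hcl : (l : Y)⁻¹ * b ∈ centralizer (L : Set Y) := by
        have h3 := (mem_normalizer_iff.1 hn _).1 hbl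
        simpa [mul_assoc] using h3
      exact mem_centralizer_iff.1 hcl g g.2
    rw [heq]
    show QuotientGroup.mk (⟨y * b * y⁻¹, _⟩ : L) = QuotientGroup.mk ⟨b, hBL hb⟩
    exact congrArg QuotientGroup.mk (Subtype.ext (hfix b hb))
  obtain ⟨t, ht, he⟩ := cd.sz.aut_fixZ α hαZ
  obtain ⟨j, hj⟩ := T.2 ⟨t, ht⟩
  have h1 : α ^ orderOf y = 1 := by
    rw [hα, ← map_pow, show (⟨y, hy⟩ : normalizer (L : Set Y)) ^ orderOf y = 1 from
      Subtype.ext (by simp [pow_orderOf_eq_one]), map_one]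
  have h2 : α ^ 2 ^ j = 1 := by
    rw [he, ← map_pow, show t ^ 2 ^ j = 1 from congrArg Subtype.val hj, map_one]
  have h3 : α = 1 := by
    have hd := Nat.dvd_gcd (orderOf_dvd_of_pow_eq_one h1) (orderOf_dvd_of_pow_eq_one h2)
    rw [(Nat.Coprime.pow_right j (Nat.coprime_two_right.2 hodd)).gcd_eq_one, Nat.dvd_one,
      orderOf_eq_one_iff] at hd
    exact hd
  have hker : (⟨y, hy⟩ : normalizer (L : Set Y)) ∈ (automizerHom L).ker := h3
  rw [automizerHom_ker hL] at hker
  exact hker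

namespace NormalGame

theorem coreN_le_N (_e : NormalGame S A N n) : coreN N ≤ N := map_subtype_le _

theorem coreN_conj (_e : NormalGame S A N n) {g x : G} (hg : g ∈ N) (hx : x ∈ coreN N) :
    g * x * g⁻¹ ∈ coreN N := by
  obtain ⟨y, hy, rfl⟩ := hx
  exact ⟨⟨g, hg⟩ * y * ⟨g, hg⟩⁻¹,
    (Cfsg.pPrimeCore_normal 2 N).conj_mem y hy _, rfl⟩

theorem coreN_odd (_e : NormalGame S A N n) : Odd (Nat.card (coreN N)) := by
  haveI : Fact (Nat.Prime 2) := ⟨Nat.prime_two⟩
  rw [Subgroup.card_map_of_injective N.subtype_injective]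
  exact Nat.coprime_two_right.1 CfsgLib.PCore.pPrimeCore_coprime

theorem coreN_orderOf_odd (e : NormalGame S A N n) {x : G} (hx : x ∈ coreN N) :
    Odd (orderOf x) :=
  e.coreN_odd.of_dvd_nat ((Subgroup.orderOf_mk x hx) ▸ orderOf_dvd_natCard (⟨x, hx⟩ : coreN N))

theorem eq_one_of_odd_two (_e : NormalGame S A N n) {x : G} (hodd : Odd (orderOf x)) {k : ℕ}
    (h : x ^ 2 ^ k = 1) : x = 1 := by
  rw [← orderOf_eq_one_iff, ← Nat.dvd_one,
    ← (Nat.Coprime.pow_right k (Nat.coprime_two_right.2 hodd)).gcd_eq_one]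
  exact Nat.dvd_gcd dvd_rfl (orderOf_dvd_of_pow_eq_one h)

variable {w h : G} {P : Subgroup G}

/-- An element of odd order of `C(A)` lies in `W`. -/
theorem odd_mem_core (e : NormalGame S A N n) (us : UShape A N n w h P) {x : G}
    (hx : x ∈ centralizer (A : Set G)) (hodd : Odd (orderOf x)) : x ∈ coreN N := by
  obtain ⟨v, hv, p, hp, rfl⟩ := us.factor x hx
  have hpN : p ∈ N := e.eq_norm.ge (centralizer_le_normalizer _ (us.P_le hp))
  have key : ∀ m : ℕ, ∃ v' ∈ coreN N, (v * p) ^ m = v' * p ^ m := by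
    intro m
    induction m with
    | zero => exact ⟨1, one_mem _, by simp⟩
    | succ m ih =>
      obtain ⟨v', hv', he⟩ := ih
      refine ⟨v' * (p ^ m * v * (p ^ m)⁻¹),
        mul_mem hv' (e.coreN_conj (pow_mem hpN m) hv), ?_⟩
      rw [pow_succ, he, pow_succ]
      group
  obtain ⟨v', hv', he⟩ := key (orderOf (v * p))
  rw [pow_orderOf_eq_one] at he
  obtain ⟨j, hj⟩ := us.P_two ⟨p, hp⟩
  have hj' : p ^ 2 ^ j = 1 := congrArg Subtype.val hj
  have hpm : p ^ orderOf (v * p) = 1 := by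
    have hmem : p ^ orderOf (v * p) ∈ coreN N := by
      rw [eq_inv_of_mul_eq_one_right he.symm]
      exact inv_mem hv'
    exact e.eq_one_of_odd_two (e.coreN_orderOf_odd hmem) (k := j)
      (by rw [← pow_mul, mul_comm, pow_mul, hj', one_pow])
  have hp1 : p = 1 := e.eq_one_of_odd_two (hodd.of_dvd_nat (orderOf_dvd_of_pow_eq_one hpm)) hj'
  rw [hp1, mul_one]
  exact hv

/-- An element of `W ≠ 1` is centralized by elements of `N` only. -/
theorem cent_le_of_core (e : NormalGame S A N n) (us : UShape A N n w h P) {x : G}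
    (hx : x ∈ coreN N) (hx1 : x ≠ 1) : cent x ≤ N := by
  classical
  haveI : Fact (Nat.Prime 2) := ⟨Nat.prime_two⟩
  by_contra hout
  set H := cent x with hH
  have hAH : A ≤ H := fun a ha =>
    mem_cent.2 (mem_centralizer_iff.1 (us.core_le hx) a ha)
  have hWH : coreN N ≤ H := fun y hy => mem_cent.2 (us.core_comm y hy x hx)
  have hHtop : H ≠ ⊤ := by
    intro htop
    obtain ⟨g, hg⟩ := e.setup.exists_conj_notMem hx1
    have hgx : g * x = x * g := mem_cent.1 (show g ∈ H from htop ▸ mem_top g)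
    rw [hgx, mul_inv_cancel_right] at hg
    exact hg (e.coreN_le_N hx)
  have d := e.base.sub H hAH hHtop hout
  obtain ⟨S', T, Z, h', c, cd⟩ := d.data
  set π := qmap H with hπ
  have hA2 : IsPGroup 2 (A.subgroupOf H) :=
    IsPGroup.comap_subtype (e.setup.isPGroup_of_le le_rfl)
  -- the core of `H` centralizes `A`
  have hOW : ∀ o : H, o ∈ Cfsg.pPrimeCore 2 H → (o : G) ∈ coreN N := by
    intro o ho
    refine e.odd_mem_core us (mem_centralizer_iff.2 fun a ha => ?_) ?_
    · have hmem : (⟨a, hAH ha⟩ : H) * o * ⟨a, hAH ha⟩⁻¹ * o⁻¹ ∈ Cfsg.pPrimeCore 2 H :=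
        mul_mem ((Cfsg.pPrimeCore_normal 2 H).conj_mem o ho _) (inv_mem ho)
      have hmemA : (⟨a, hAH ha⟩ : H) * o * ⟨a, hAH ha⟩⁻¹ * o⁻¹ ∈ A.subgroupOf H := by
        rw [mem_subgroupOf]
        show a * (o : G) * a⁻¹ * (o : G)⁻¹ ∈ A
        rw [show a * (o : G) * a⁻¹ * (o : G)⁻¹ = a * ((o : G) * a⁻¹ * (o : G)⁻¹) by group]
        exact mul_mem ha (e.conj_mem_A (d.core_le o ho) (inv_mem ha))
      have h1 : a * (o : G) * a⁻¹ * (o : G)⁻¹ = 1 :=
        congrArg Subtype.val (eq_one_of_mem_oddCore hA2 hmemA hmem)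
      exact mul_inv_eq_iff_eq_mul.1 (mul_inv_eq_one.1 h1)
    · have h2 : Odd (orderOf o) :=
        (Nat.coprime_two_right.1 CfsgLib.PCore.pPrimeCore_coprime).of_dvd_nat
          ((Subgroup.orderOf_mk o ho) ▸ orderOf_dvd_natCard (⟨o, ho⟩ : Cfsg.pPrimeCore 2 H))
      rwa [← Subgroup.orderOf_coe] at h2
  -- `W` centralizes the component
  have hWL : ∀ y : G, ∀ hy : y ∈ coreN N, π ⟨y, hWH hy⟩ ∈ centralizer (compL H A : Set _) := by
    intro y hy
    refine mem_centralizer_of_fix_image cd d.component d.le_comp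
      (by rw [normalizer_eq_top]; exact mem_top _) ?_ ?_
    · refine Odd.of_dvd_nat ?_ (orderOf_map_dvd π (⟨y, hWH hy⟩ : H))
      rw [Subgroup.orderOf_mk]
      exact e.coreN_orderOf_odd hy
    · rintro _ ⟨a, ha, rfl⟩
      rw [← map_inv, ← map_mul, ← map_mul]
      refine congrArg π (Subtype.ext ?_)
      show y * (a : G) * y⁻¹ = a
      rw [← mem_centralizer_iff.1 (us.core_le hy) a (mem_subgroupOf.1 ha), mul_inv_cancel_right]
  obtain ⟨g, hg, hgN⟩ := SetLike.not_le_iff_exists.1 hout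
  obtain ⟨a, ha, ha1⟩ := e.exists_ne_one ((1 : G) : G ⧸ N)
  rw [e.ptA_base] at ha
  set a' := g * a * g⁻¹ with ha'
  have ha'H : a' ∈ H := mul_mem (mul_mem hg (hAH ha)) (inv_mem hg)
  have ha'L : π ⟨a', ha'H⟩ ∈ compL H A := by
    have h1 : π ⟨a, hAH ha⟩ ∈ compL H A := d.le_comp (mem_map_of_mem π (mem_subgroupOf.2 ha))
    have h2 := (inferInstance : (compL H A).Normal).conj_mem _ h1 (π ⟨g, hg⟩)
    rwa [← map_inv, ← map_mul, ← map_mul] at h2
  have hnorm : a' ∈ normalizer (coreN N : Set G) := by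
    refine mem_normalizer_fintype fun y hy => ?_
    have hc : π ⟨a', ha'H⟩ * π ⟨y, hWH hy⟩ = π ⟨y, hWH hy⟩ * π ⟨a', ha'H⟩ :=
      mem_centralizer_iff.1 (hWL y hy) _ ha'L
    rw [← map_mul, ← map_mul] at hc
    have hmem := hOW _ (QuotientGroup.eq.1 hc)
    simp only [Subgroup.coe_mul, InvMemClass.coe_inv] at hmem
    have h3 := mul_mem hy hmem
    have hinv : a'⁻¹ = a' := inv_eq_of_mul_eq_one_right (by
      rw [ha', show g * a * g⁻¹ * (g * a * g⁻¹) = g * (a * a) * g⁻¹ by group,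
        e.setup.mul_self_eq_one ha, mul_one, mul_inv_cancel])
    rw [show y * ((a' * y)⁻¹ * (y * a')) = a'⁻¹ * y * a' by group, hinv] at h3
    show a' * y * a'⁻¹ ∈ coreN N
    rw [hinv]
    exact h3
  have hN : normalizer (coreN N : Set G) = N := by
    have hle : N ≤ normalizer (coreN N : Set G) := fun m hm =>
      mem_normalizer_fintype fun y hy => e.coreN_conj hm hy
    refine ((e.setup.coatom.le_iff.1 hle).resolve_left fun htop => ?_)
    haveI := e.setup.simple
    haveI : (coreN N).Normal := normalizer_eq_top_iff.1 htop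
    rcases (inferInstance : (coreN N).Normal).eq_bot_or_eq_top with h1 | h1
    · exact hx1 (by rwa [h1, Subgroup.mem_bot] at hx)
    · exact e.setup.N_ne_top (top_le_iff.1 (h1 ▸ e.coreN_le_N))
  exact hgN (e.setup.mem_of_conj_mem ha ha1 (hN ▸ hnorm))

end NormalGame

end CfsgLib.ThreeFree
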