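import Cfsg.Agent.Lib.ThreeFree.SwapLabel

/-!
The conjugates of elements of `A` outside `A` send `N` to the other points: some point not collinear
with `N` is the image under at least `q - 1` of them.
-/

set_option autoImplicit false
set_option linter.style.haveILetI false
set_option linter.unusedSectionVars false

namespace CfsgLib.ThreeFree

open Subgroup

universe u

variable {G : Type u} [Group G] [Finite G] {S : Sylow 2 G} {A N : Subgroup G} {n : ℕ}

/-- The conjugates of nontrivial elements of `A` at other points mapping `N` to `R`. -/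
def swappers (A N : Subgroup G) (R : G ⧸ N) : Set G :=
  {a | ∃ P : G ⧸ N, P ≠ ((1 : G) : G ⧸ N) ∧ a ∈ ptA A P ∧ a ≠ 1 ∧
    a • ((1 : G) : G ⧸ N) = R}

namespace NormalGame

theorem swapper_moves (e : NormalGame S A N n) {R : G ⧸ N} {a : G} (ha : a ∈ swappers A N R) :
    R ≠ ((1 : G) : G ⧸ N) ∧ a • R = ((1 : G) : G ⧸ N) ∧ a * a = 1 ∧ a ∉ N := by
  obtain ⟨P, hP, haP, ha1, haR⟩ := ha
  have hR : R ≠ ((1 : G) : G ⧸ N) := fun h1 =>
    hP (e.eq_of_ptA_fix haP ha1 (Q := ((1 : G) : G ⧸ N)) (haR.trans h1)).symm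
  refine ⟨hR, ?_, e.ptA_sq haP, fun haN => hR ?_⟩
  · rw [← haR, ← mul_smul, e.ptA_sq haP, one_smul]
  · rw [← haR, smul_base, coe_eq_base]
    exact haN

/-- Two swappers differ by an element of the stabilizer of both points. -/
theorem swapper_mul (e : NormalGame S A N n) {R : G ⧸ N} {a b : G} (ha : a ∈ swappers A N R)
    (hb : b ∈ swappers A N R) : a * b ∈ N ∧ (a * b) • R = R := by
  obtain ⟨-, haR, -, -⟩ := e.swapper_moves ha
  obtain ⟨-, hbR, -, -⟩ := e.swapper_moves hb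
  obtain ⟨-, -, -, -, ha'⟩ := ha
  obtain ⟨-, -, -, -, hb'⟩ := hb
  refine ⟨?_, by rw [mul_smul, hbR, ha']⟩
  rw [← coe_eq_base, ← smul_base, mul_smul, hb', haR]

/-- A swapper of a collinear pair lies in the line group. -/
theorem swapper_mem_lineGrp (e : NormalGame S A N n) {v : G} (hv : Bad N v) {R : G ⧸ N} {a : G}
    (hRv : R ∈ fixPts N v) (ha : a ∈ swappers A N R) : a ∈ lineGrp A N v := by
  obtain ⟨hR, haR, hasq, -⟩ := e.swapper_moves ha
  obtain ⟨P, hP, haP, ha1, haR'⟩ := ha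
  have hva := e.bad_axial hv
  have hbase : ((1 : G) : G ⧸ N) ∈ fixPts N v := base_mem_fixPts.2 hv.mem
  have heq : fixPts N (a * v * a⁻¹) = fixPts N v := by
    refine e.axial_lines (hva.conj a) hva hR ?_ ?_ hRv hbase
    · rw [← haR']; exact smul_mem_fixPts hbase
    · rw [← haR]; exact smul_mem_fixPts hRv
  obtain ⟨X, hX, hfix⟩ := exists_fixed_of_odd (fixPts N v) (a • ·)
    (by
      rw [e.base.ncard_fix v hv]
      exact ((Nat.even_pow.2 ⟨Nat.even_pow.2 ⟨even_two, by have := e.base.three_le; omega⟩,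
        two_ne_zero⟩).add_one))
    (fun X hX => heq ▸ smul_mem_fixPts hX)
    (fun X _ => by rw [← mul_smul, hasq, one_smul])
  rw [← e.eq_of_ptA_fix haP ha1 hfix] at haP
  exact le_iSup₂ (f := fun P (_ : P ∈ fixPts N v) => ptA A P) X hX haP

theorem swappers_collinear (e : NormalGame S A N n) {v : G} (hv : Bad N v) {R : G ⧸ N}
    (hR : R ≠ ((1 : G) : G ⧸ N)) (hRv : R ∈ fixPts N v) :
    (swappers A N R).ncard ≤ 2 ^ n - 1 := by
  classical
  haveI : Fact (Nat.Prime 2) := ⟨Nat.prime_two⟩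
  obtain ⟨hAL, hLv, -, -, ⟨T, h, d⟩, -, -⟩ := e.lineGrp_props hv
  let D₂ : Subgroup (lineGrp A N v) := (N ⊓ MulAction.stabilizer G R).subgroupOf (lineGrp A N v)
  set R₀ := normalizer ((T : Subgroup (lineGrp A N v)) : Set (lineGrp A N v)) with hR₀
  have hDR : D₂ ≤ R₀ := by
    intro l hl
    rw [hR₀, ← d.norm_Z]
    exact mem_normalizer_fintype fun a ha => mem_subgroupOf.2
      (e.conj_mem_A (mem_subgroupOf.1 hl).1 (mem_subgroupOf.1 ha))
  have hdisj : ∀ x : lineGrp A N v, x ∈ (T : Subgroup (lineGrp A N v)) → x ∈ D₂ → x = 1 := by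
    intro x hxT hxD
    obtain ⟨hxN, hxR⟩ := mem_subgroupOf.1 hxD
    obtain ⟨j, hj⟩ := T.2 ⟨x, hxT⟩
    have hxK : (x : G) ∈ kerK A N v := e.mem_kerK_of_fix hv hxN (hLv x.2)
      ⟨j, by simpa using congrArg (fun t => ((t : lineGrp A N v) : G)) (congrArg Subtype.val hj)⟩
      hRv hR hxR
    exact Subtype.ext (e.inf_eq_one hv x.2 hxK)
  have hcardD : Nat.card D₂ ≤ 2 ^ n - 1 := by
    let f : ↥(T : Subgroup (lineGrp A N v)) × ↥D₂ → R₀ := fun p =>
      ⟨(p.1 : lineGrp A N v) * p.2, mul_mem (le_normalizer p.1.2) (hDR p.2.2)⟩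
    have hf : Function.Injective f := by
      rintro ⟨x, y⟩ ⟨x', y'⟩ hxy
      have h1 : (x : lineGrp A N v) * y = x' * y' := congrArg Subtype.val hxy
      have h2 : (x' : lineGrp A N v)⁻¹ * x = 1 := hdisj _ (mul_mem (inv_mem x'.2) x.2) (by
        rw [show (x' : lineGrp A N v)⁻¹ * x = y' * (y : lineGrp A N v)⁻¹ by
          rw [eq_mul_inv_iff_mul_eq, mul_assoc, h1, inv_mul_cancel_left]]
        exact mul_mem y'.2 (inv_mem y.2))
      have h3 : (x : lineGrp A N v) = x' := (inv_mul_eq_one.1 h2).symm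
      rw [h3] at h1
      exact Prod.ext (Subtype.ext h3) (Subtype.ext (mul_left_cancel h1))
    have hle := Nat.card_le_card_of_injective f hf
    rw [Nat.card_prod] at hle
    have hR₀card : Nat.card R₀ * ((2 ^ n) ^ 2 + 1) =
        (2 ^ n) ^ 2 * (2 ^ n - 1) * ((2 ^ n) ^ 2 + 1) := by
      rw [← d.index_R, Subgroup.card_mul_index, d.card, d.index_R]
      ring
    rw [d.card_T, Nat.eq_of_mul_eq_mul_right (by positivity) hR₀card] at hle
    exact Nat.le_of_mul_le_mul_left hle (by positivity)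
  rcases (swappers A N R).eq_empty_or_nonempty with h0 | ⟨a₀, ha₀⟩
  · rw [h0, Set.ncard_empty]
    exact Nat.zero_le _
  refine le_trans ?_ hcardD
  rw [← Nat.card_coe_set_eq]
  refine Nat.card_le_card_of_injective (fun a : swappers A N R =>
    (⟨⟨(a : G) * a₀, mul_mem (e.swapper_mem_lineGrp hv hRv a.2)
      (e.swapper_mem_lineGrp hv hRv ha₀)⟩,
      mem_subgroupOf.2 ⟨(e.swapper_mul a.2 ha₀).1,
        MulAction.mem_stabilizer_iff.2 (e.swapper_mul a.2 ha₀).2⟩⟩ : D₂)) fun a b hab => ?_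
  exact Subtype.ext (mul_right_cancel (congrArg (fun t : D₂ => ((t : lineGrp A N v) : G)) hab :))

variable {w h : G} {P : Subgroup G}

/-- A point not collinear with `N` with at least `q - 1` swappers. -/
theorem exists_swap_point (e : NormalGame S A N n) (us : UShape A N n w h P) :
    ∃ R, R ≠ ((1 : G) : G ⧸ N) ∧ R ∉ collinear N ∧ 2 ^ n - 1 ≤ (swappers A N R).ncard := by
  classical
  haveI : Fintype G := Fintype.ofFinite G
  haveI : Fintype (G ⧸ N) := Fintype.ofFinite _
  set O : Finset (G ⧸ N) := Finset.univ.erase ((1 : G) : G ⧸ N) with hO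
  let blk : G ⧸ N → Finset G := fun P => ((ptA A P : Set G).toFinset).erase 1
  set Sw : Finset G := O.biUnion blk with hSw
  have hdisj : (O : Set (G ⧸ N)).PairwiseDisjoint blk := by
    intro P _ P' _ hne
    rw [Function.onFun, Finset.disjoint_left]
    intro a ha ha'
    obtain ⟨ha1, haP⟩ := Finset.mem_erase.1 ha
    exact hne (e.eq_of_ptA_fix (Set.mem_toFinset.1 (Finset.mem_erase.1 ha').2) ha1
      (e.ptA_fix (Set.mem_toFinset.1 haP)))
  have hblk : ∀ P ∈ O, (blk P).card = 2 ^ n - 1 := by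
    intro P _
    rw [Finset.card_erase_of_mem (Set.mem_toFinset.2 (one_mem _)), ← Set.ncard_eq_toFinset_card',
      ← Nat.card_coe_set_eq]
    exact congrArg (· - 1) (e.card_ptA P)
  have hSwcard : Sw.card = O.card * (2 ^ n - 1) := by
    rw [hSw, Finset.card_biUnion hdisj, Finset.sum_congr rfl hblk, Finset.sum_const, smul_eq_mul]
  have hmemSw : ∀ a R, a ∈ swappers A N R ↔ a ∈ Sw ∧ a • ((1 : G) : G ⧸ N) = R := by
    intro a R
    rw [hSw, Finset.mem_biUnion]
    constructor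
    · rintro ⟨P, hP, haP, ha1, haR⟩
      exact ⟨⟨P, Finset.mem_erase.2 ⟨hP, Finset.mem_univ _⟩,
        Finset.mem_erase.2 ⟨ha1, Set.mem_toFinset.2 haP⟩⟩, haR⟩
    · rintro ⟨⟨P, hP, hPa⟩, haR⟩
      exact ⟨P, (Finset.mem_erase.1 hP).1, Set.mem_toFinset.1 (Finset.mem_erase.1 hPa).2,
        (Finset.mem_erase.1 hPa).1, haR⟩
  have hfib : ∀ R, (swappers A N R).ncard =
      (Sw.filter fun a => a • ((1 : G) : G ⧸ N) = R).card := by
    intro R
    rw [← Set.ncard_coe_finset]
    congr 1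
    ext a
    rw [hmemSw, Finset.mem_coe, Finset.mem_filter]
  have hsum : Sw.card = ∑ R ∈ O, (Sw.filter fun a => a • ((1 : G) : G ⧸ N) = R).card := by
    refine Finset.card_eq_sum_card_fiberwise fun a ha => ?_
    exact Finset.mem_erase.2 ⟨(e.swapper_moves ((hmemSw a _).2 ⟨ha, rfl⟩)).1, Finset.mem_univ _⟩
  obtain ⟨R₁, hR₁, hR₁c⟩ : ∃ R ∈ O, R ∉ collinear N := by
    by_contra hcon
    push Not at hcon
    have h1 : O ⊆ (collinear N).toFinset := fun R hR => Set.mem_toFinset.2 (hcon R hR)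
    have h2 := Finset.card_le_card h1
    rw [← Set.ncard_eq_toFinset_card', Finset.card_erase_of_mem (Finset.mem_univ _),
      Finset.card_univ, ← Nat.card_eq_fintype_card] at h2
    have := e.collinear_lt us
    omega
  by_contra hcon
  push Not at hcon
  have hlt : ∑ R ∈ O, (Sw.filter fun a => a • ((1 : G) : G ⧸ N) = R).card <
      ∑ _R ∈ O, (2 ^ n - 1) := by
    refine Finset.sum_lt_sum (fun R hR => ?_) ⟨R₁, hR₁, ?_⟩
    · rw [← hfib]
      by_cases hc : R ∈ collinear N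
      · obtain ⟨hR0, v, hv, hRv⟩ := hc
        exact e.swappers_collinear hv hR0 hRv
      · exact (hcon R (Finset.mem_erase.1 hR).1 hc).le
    · rw [← hfib]
      exact hcon R₁ (Finset.mem_erase.1 hR₁).1 hR₁c
  rw [← hsum, Finset.sum_const, smul_eq_mul, hSwcard] at hlt
  exact lt_irrefl _ hlt

end NormalGame

end CfsgLib.ThreeFree
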