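import Cfsg.Agent.Lib.ThreeFree.SwapCount

/-!
The contradiction from the swappers: they give at least `q - 1` different automorphisms of `A` coming
from the stabilizer of a line, where at most `n` are possible.
-/

set_option autoImplicit false
set_option linter.style.haveILetI false
set_option linter.unusedSectionVars false

namespace CfsgLib.ThreeFree

open Subgroup

universe u

variable {G : Type u} [Group G] [Finite G] {S : Sylow 2 G} {A N : Subgroup G} {n : ℕ}

/-- The elements of `N` mapping the line of `v` to itself. -/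
def lineStab (N : Subgroup G) (v : G) : Subgroup G where
  carrier := {g | g ∈ N ∧ fixPts N (g * v * g⁻¹) = fixPts N v}
  one_mem' := ⟨one_mem _, by rw [one_mul, inv_one, mul_one]⟩
  mul_mem' := by
    rintro a b ⟨ha, ha'⟩ ⟨hb, hb'⟩
    refine ⟨mul_mem ha hb, ?_⟩
    rw [show a * b * v * (a * b)⁻¹ = a * (b * v * b⁻¹) * a⁻¹ by group, fixPts_conj, hb',
      ← fixPts_conj, ha']
  inv_mem' := by
    rintro a ⟨ha, ha'⟩
    refine ⟨inv_mem ha, ?_⟩
    have h1 := congrArg ((a⁻¹ • ·) '' ·) ha'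
    simp only [← fixPts_conj] at h1
    rw [show a⁻¹ * (a * v * a⁻¹) * a⁻¹⁻¹ = v by group] at h1
    exact h1.symm

theorem mem_lineStab {N : Subgroup G} {v g : G} :
    g ∈ lineStab N v ↔ g ∈ N ∧ fixPts N (g * v * g⁻¹) = fixPts N v := Iff.rfl

namespace NormalGame

theorem lineGrp_conj_mem (e : NormalGame S A N n) {v g l : G}
    (hg : fixPts N (g * v * g⁻¹) = fixPts N v) (hl : l ∈ lineGrp A N v) :
    g * l * g⁻¹ ∈ lineGrp A N v := by
  have hle : lineGrp A N v ≤ (lineGrp A N v).comap (MulAut.conj g).toMonoidHom := by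
    refine iSup₂_le fun P hP a ha => ?_
    have hmem : g • P ∈ fixPts N v := hg ▸ smul_mem_fixPts hP
    refine le_iSup₂ (f := fun P (_ : P ∈ fixPts N v) => ptA A P) (g • P) hmem ?_
    rw [e.ptA_smul]
    exact cj_mem.2 ha
  exact hle hl

/-- The action of the stabilizer of a line on its line group. -/
noncomputable def lineAut (e : NormalGame S A N n) (v : G) :
    lineStab N v →* MulAut (lineGrp A N v) :=
  MonoidHom.mk' (fun g =>
    { toFun := fun l => ⟨(g : G) * l * (g : G)⁻¹, e.lineGrp_conj_mem g.2.2 l.2⟩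
      invFun := fun l => ⟨(g : G)⁻¹ * l * g, by
        have h1 := e.lineGrp_conj_mem ((lineStab N v).inv_mem g.2).2 l.2
        rwa [inv_inv] at h1⟩
      left_inv := fun l => Subtype.ext (by simp [mul_assoc])
      right_inv := fun l => Subtype.ext (by simp [mul_assoc])
      map_mul' := fun a b => Subtype.ext (by simp [mul_assoc]) })
    fun a b => MulEquiv.ext fun l => Subtype.ext (by
      show (a * b : G) * l * (a * b : G)⁻¹ = (a : G) * ((b : G) * l * (b : G)⁻¹) * (a : G)⁻¹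
      group)

theorem lineAut_apply (e : NormalGame S A N n) {v : G} (g : lineStab N v) (l : lineGrp A N v) :
    (e.lineAut v g l : G) = (g : G) * l * (g : G)⁻¹ := rfl

variable {w h : G} {P : Subgroup G}

/-- An element of odd order acting on `A` as a torus element of a line it stabilizes modulo `W` fixes
only points collinear with `N`. -/
theorem torus_collinear (e : NormalGame S A N n) (us : UShape A N n w h P) {y : G} (hy : y ∈ A)
    {T : Sylow 2 (lineGrp A N (w * y))} {h₀ : lineGrp A N (w * y)}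
    (d : SzData (lineGrp A N (w * y)) n T (A.subgroupOf (lineGrp A N (w * y))) h₀)
    {g x : G} (hg : g ∈ N) (hodd : Odd (orderOf g)) (hx : x ∈ coreN N)
    (hst : x * g ∈ lineStab N (w * y)) {j : ℕ} (hj : h₀ ^ j ≠ 1)
    (hact : ∀ a ∈ A, g * a * g⁻¹ = (h₀ : G) ^ j * a * ((h₀ : G) ^ j)⁻¹)
    {R : G ⧸ N} (hR : R ≠ ((1 : G) : G ⧸ N)) (hgR : g • R = R) : R ∈ collinear N := by
  classical
  haveI : Fact (Nat.Prime 2) := ⟨Nat.prime_two⟩
  have hv : Bad N (w * y) := e.bad_label us hy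
  obtain ⟨hAL, hLv, -, hcen, -, -, horb⟩ := e.lineGrp_props hv
  have hh0N : (h₀ : G) ∈ N := by
    refine e.eq_norm.ge (mem_normalizer_fintype fun a ha => ?_)
    exact mem_subgroupOf.1
      ((mem_normalizer_iff.1 (d.norm_Z.symm ▸ d.h_mem) ⟨a, hAL ha⟩).1 (mem_subgroupOf.2 ha))
  set H := h₀ ^ j with hH
  have hHG : (H : G) = (h₀ : G) ^ j := by rw [hH, SubmonoidClass.coe_pow]
  have hHN : (H : G) ∈ N := hHG ▸ pow_mem hh0N j
  have hHst : (H : G) ∈ lineStab N (w * y) := mem_lineStab.2 ⟨hHN, by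
    rw [mem_cent.1 (hLv H.2), mul_inv_cancel_right]⟩
  -- the element centralizing `A`
  set j' : G := x * g * (H : G)⁻¹ with hj'
  have hj'A : j' ∈ centralizer (A : Set G) := by
    refine mem_centralizer_iff.2 fun a ha => ?_
    have ha' : (H : G)⁻¹ * a * H ∈ A := by simpa using e.conj_mem_A (inv_mem hHN) ha
    have h1 : g * ((H : G)⁻¹ * a * H) * g⁻¹ = a := by
      rw [hact _ ha', ← hHG]
      group
    calc a * j' = a * x * g * (H : G)⁻¹ := by rw [hj']; group
      _ = x * a * g * (H : G)⁻¹ := by rw [mem_centralizer_iff.1 (us.core_le hx) a ha]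
      _ = x * (g * ((H : G)⁻¹ * a * H) * g⁻¹) * g * (H : G)⁻¹ := by rw [h1]
      _ = _ := by rw [hj']; group
  have hj'st : j' ∈ lineStab N (w * y) := mul_mem hst (inv_mem hHst)
  obtain ⟨t, ht, hα⟩ := d.aut_fixZ (e.lineAut (w * y) ⟨j', hj'st⟩) fun z hz => Subtype.ext (by
    rw [lineAut_apply, ← mem_centralizer_iff.1 hj'A _ (mem_subgroupOf.1 hz), mul_inv_cancel_right])
  set c : G := (t : G)⁻¹ * j' with hc
  have hcL : c ∈ centralizer (lineGrp A N (w * y) : Set G) := by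
    refine mem_centralizer_iff.2 fun l hl => ?_
    have h1 : j' * l * j'⁻¹ = t * l * (t : G)⁻¹ :=
      congrArg Subtype.val (DFunLike.congr_fun hα (⟨l, hl⟩ : lineGrp A N (w * y)))
    calc l * c = (t : G)⁻¹ * ((t : G) * l * (t : G)⁻¹) * j' := by rw [hc]; group
      _ = (t : G)⁻¹ * (j' * l * j'⁻¹) * j' := by rw [h1]
      _ = _ := by rw [hc]; group
  have hcA : c ∈ centralizer (A : Set G) := centralizer_le (SetLike.coe_subset_coe.2 hAL) hcL
  have hcN : c ∈ N := e.mem_N_of_cent_A hcA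
  obtain ⟨i, m, hm, hordc⟩ := Nat.exists_eq_two_pow_mul_odd (orderOf_pos c).ne'
  have hc2 : c ^ 2 ^ i = 1 := by
    by_contra hne
    have hodd' : Odd (orderOf (c ^ 2 ^ i)) := by
      rw [orderOf_pow, hordc, Nat.gcd_mul_right_left, Nat.mul_div_cancel_left _ (by positivity)]
      exact hm
    obtain ⟨l, hl, hlN⟩ := e.exists_off_base hv
    exact hlN (e.cent_le_of_core us (e.odd_mem_core us (pow_mem hcA _) hodd') hne
      (mem_cent.2 ((show Commute l c from mem_centralizer_iff.1 hcL l hl).pow_right _).eq))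
  have hcom : ∀ l : lineGrp A N (w * y), Commute (l : G) c := fun l =>
    mem_centralizer_iff.1 hcL l l.2
  -- conjugate the part in `T`
  let ψ : ↥(T : Subgroup (lineGrp A N (w * y))) → ↥(T : Subgroup (lineGrp A N (w * y))) := fun u =>
    ⟨u * (h₀ ^ j * (u : lineGrp A N (w * y))⁻¹ * (h₀ ^ j)⁻¹),
      mul_mem u.2 (d.h_pow_conj_mem_T j (inv_mem u.2))⟩
  have hψ : Function.Injective ψ := by
    rintro ⟨u, hu⟩ ⟨u', hu'⟩ huu
    have h1 : u * (h₀ ^ j * u⁻¹ * (h₀ ^ j)⁻¹) = u' * (h₀ ^ j * u'⁻¹ * (h₀ ^ j)⁻¹) :=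
      congrArg Subtype.val huu
    have h2 : h₀ ^ j * (u'⁻¹ * u) = u'⁻¹ * u * h₀ ^ j := by
      calc h₀ ^ j * (u'⁻¹ * u)
          = u'⁻¹ * (u' * (h₀ ^ j * u'⁻¹ * (h₀ ^ j)⁻¹)) * (h₀ ^ j * u) := by group
        _ = u'⁻¹ * (u * (h₀ ^ j * u⁻¹ * (h₀ ^ j)⁻¹)) * (h₀ ^ j * u) := by rw [h1]
        _ = _ := by group
    exact Subtype.ext (inv_mul_eq_one.1 (d.h_fpf j hj _ (mul_mem (inv_mem hu') hu) h2)).symm
  obtain ⟨⟨u, hu⟩, hψu⟩ := (Finite.injective_iff_surjective.1 hψ) ⟨t, ht⟩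
  have ht' : (u : G) * H * (u : G)⁻¹ = t * H := by
    have h1 : u * (h₀ ^ j * u⁻¹ * (h₀ ^ j)⁻¹) = t := congrArg Subtype.val hψu
    have h2 : (t : G) = u * (H * (u : G)⁻¹ * (H : G)⁻¹) := by
      rw [← h1]; simp [hH]
    rw [h2]
    group
  have huN : (u : G) ∈ N := e.mem_N_of_cent_A ((e.mem_tGrp_iff d hAL u).1 hu)
  set a₀ : G := H * c with ha₀
  have hg' : x * g = u * a₀ * (u : G)⁻¹ := by
    calc x * g = j' * H := by rw [hj']; group
      _ = t * (c * H) := by rw [hc]; group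
      _ = t * H * c := by rw [← (hcom H).eq, mul_assoc]
      _ = (u : G) * H * (u : G)⁻¹ * c := by rw [ht']
      _ = (u : G) * H * (c * (u : G)⁻¹) := by
          rw [mul_assoc ((u : G) * H), (hcom u).inv_left.eq]
      _ = _ := by rw [ha₀]; group
  have ha₀N : a₀ ∈ N := mul_mem hHN hcN
  -- a torus element centralizes no element of `W`
  have hfree : ∀ z ∈ coreN N, z * a₀ = a₀ * z → z = 1 := by
    intro z hz hza
    set H' := h₀ ^ (j * 2 ^ i) with hH'
    have hH'1 : H' ≠ 1 := by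
      intro h1
      refine hj (orderOf_dvd_iff_pow_eq_one.1 (Nat.Coprime.dvd_of_dvd_mul_right ?_
        (orderOf_dvd_of_pow_eq_one h1)))
      refine Nat.Coprime.pow_right i (Nat.coprime_two_right.2 ?_)
      rw [d.h_order]
      exact Nat.Even.sub_odd (by have := e.one_lt; omega)
        (Nat.even_pow.2 ⟨even_two, by have := e.base.three_le; omega⟩) odd_one
    have hzH : z * (H' : G) = H' * z := by
      have h1 : Commute z (a₀ ^ 2 ^ i) := (show Commute z a₀ from hza).pow_right _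
      rwa [ha₀, (hcom H).mul_pow, hc2, mul_one, hH, ← SubmonoidClass.coe_pow, ← pow_mul] at h1
    -- a second point of the line fixed by the torus element
    obtain ⟨q, hq, hq1⟩ : ∃ q : lineGrp A N (w * y) ⧸
        normalizer ((T : Subgroup (lineGrp A N (w * y))) : Set (lineGrp A N (w * y))),
        H' • q = q ∧ q ≠ ((1 : lineGrp A N (w * y)) : _ ⧸ _) := by
      obtain ⟨q, hq, hq1⟩ := Set.exists_ne_of_one_lt_ncard
        (by rw [d.fix_h (j * 2 ^ i) hH'1]; norm_num :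
          1 < {c : lineGrp A N (w * y) ⧸
            normalizer ((T : Subgroup (lineGrp A N (w * y))) : Set (lineGrp A N (w * y))) |
              h₀ ^ (j * 2 ^ i) • c = c}.ncard)
        ((1 : lineGrp A N (w * y)) : _ ⧸ _)
      exact ⟨q, hq, hq1⟩
    obtain ⟨l, rfl⟩ := QuotientGroup.mk_surjective q
    have hnorm : ∀ k : lineGrp A N (w * y),
        k ∈ normalizer ((T : Subgroup (lineGrp A N (w * y))) : Set (lineGrp A N (w * y))) →
        (k : G) ∈ N := by
      intro k hk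
      refine e.eq_norm.ge (mem_normalizer_fintype fun a ha => ?_)
      rw [← d.norm_Z] at hk
      exact mem_subgroupOf.1 ((mem_normalizer_iff.1 hk ⟨a, hAL ha⟩).1 (mem_subgroupOf.2 ha))
    have hlN : (l : G) ∉ N := by
      intro hl
      refine hq1 (QuotientGroup.eq.2 ?_)
      rw [mul_one]
      refine inv_mem ?_
      rw [← d.norm_Z]
      exact mem_normalizer_fintype fun a ha =>
        mem_subgroupOf.2 (e.conj_mem_A hl (mem_subgroupOf.1 ha))
    have hQ : (l : G) • ((1 : G) : G ⧸ N) ∈ fixPts N (w * y) :=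
      smul_fix_of_comm (mem_cent.1 (hLv l.2)) (base_mem_fixPts.2 hv.mem)
    have hH'Q : (H' : G) • ((l : G) : G ⧸ N) = (l : G) := by
      rw [MulAction.Quotient.smul_coe, smul_eq_mul, QuotientGroup.eq]
      have h1 : H' • (l : lineGrp A N (w * y) ⧸
          normalizer ((T : Subgroup (lineGrp A N (w * y))) : Set (lineGrp A N (w * y)))) = l := hq
      rw [MulAction.Quotient.smul_coe, smul_eq_mul, QuotientGroup.eq] at h1
      simpa using hnorm _ h1
    rw [smul_base] at hQ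
    have hzQ : z • ((l : G) : G ⧸ N) ∈ fixPts N (w * y) := by
      by_contra hout
      refine hH'1 (Subtype.ext (e.semiregular hv H'.2 hout ?_))
      rw [← mul_smul, ← hzH, mul_smul, hH'Q]
    have hzne : z • ((l : G) : G ⧸ N) ≠ ((1 : G) : G ⧸ N) := by
      rw [← coe_eq_base.2 (e.coreN_le_N hz), ← smul_base z]
      intro h1
      exact hlN (coe_eq_base.1 (MulAction.injective z h1))
    have heq := e.lines (hv.conj (e.coreN_le_N hz)) hv hzne (smul_mem_fixPts hQ) hzQ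
    refine (e.label_unique us hz (one_mem _) hy hy ?_).1
    rw [heq, one_mul, inv_one, mul_one]
  set x' : G := (u : G)⁻¹ * x⁻¹ * u with hx'
  have hx'W : x' ∈ coreN N := by
    have h1 := e.coreN_conj (inv_mem huN) (inv_mem hx)
    rwa [inv_inv] at h1
  let ω : coreN N → coreN N := fun z => ⟨z * (a₀ * (z : G)⁻¹ * a₀⁻¹),
    mul_mem z.2 (e.coreN_conj ha₀N (inv_mem z.2))⟩
  have hω : Function.Injective ω := by
    rintro ⟨z, hz⟩ ⟨z', hz'⟩ hzz
    have h1 : z * (a₀ * z⁻¹ * a₀⁻¹) = z' * (a₀ * z'⁻¹ * a₀⁻¹) := congrArg Subtype.val hzz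
    refine Subtype.ext (inv_mul_eq_one.1 (hfree _ (mul_mem (inv_mem hz') hz) ?_)).symm
    calc z'⁻¹ * z * a₀ = z'⁻¹ * (z * (a₀ * z⁻¹ * a₀⁻¹)) * (a₀ * z) := by group
      _ = z'⁻¹ * (z' * (a₀ * z'⁻¹ * a₀⁻¹)) * (a₀ * z) := by rw [h1]
      _ = a₀ * (z'⁻¹ * z) := by group
  obtain ⟨⟨z, hz⟩, hωz⟩ := (Finite.injective_iff_surjective.1 hω) ⟨x', hx'W⟩
  have hgz : g = (u : G) * z * a₀ * ((u : G) * z)⁻¹ := by
    have h1 : z * (a₀ * z⁻¹ * a₀⁻¹) = x' := congrArg Subtype.val hωz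
    calc g = x⁻¹ * (x * g) := by group
      _ = (u : G) * x' * a₀ * (u : G)⁻¹ := by rw [hg', hx']; group
      _ = _ := by rw [← h1]; group
  have hc1 : c = 1 := by
    have hord : orderOf a₀ = orderOf g := by
      rw [hgz, CfsgLib.Involutions.orderOf_conj_eq]
    have h1 : a₀ ^ orderOf a₀ = 1 := pow_orderOf_eq_one a₀
    rw [hord, ha₀, (hcom H).mul_pow] at h1
    have h2 : c ^ orderOf g = 1 := by
      have h3 : c ^ orderOf g ∈
          lineGrp A N (w * y) ⊓ centralizer (lineGrp A N (w * y) : Set G) :=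
        Subgroup.mem_inf.2 ⟨by
          rw [eq_inv_of_mul_eq_one_right h1]
          exact inv_mem (pow_mem H.2 _), pow_mem hcL _⟩
      rwa [hcen, Subgroup.mem_bot] at h3
    exact e.eq_one_of_odd_two (hodd.of_dvd_nat (orderOf_dvd_of_pow_eq_one h2)) hc2
  rw [ha₀, hc1, mul_one] at hgz
  set u' : G := (u : G) * z with hu'
  have hu'N : u' ∈ N := mul_mem huN (e.coreN_le_N hz)
  have hfix : (H : G) • u'⁻¹ • R = u'⁻¹ • R := by
    conv_rhs => rw [← hgR, hgz]
    rw [← mul_smul, ← mul_smul]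
    congr 1
    group
  refine ⟨hR, _, hv.conj hu'N, ?_⟩
  have hmem : u'⁻¹ • R ∈ fixPts N (w * y) := by
    by_contra hout
    exact hj (Subtype.ext (e.semiregular hv H.2 hout hfix))
  simpa using smul_mem_fixPts (x := u') hmem

/-- The shape of `C(A)` is impossible. -/
theorem false_of_shape (e : NormalGame S A N n) (us : UShape A N n w h P) : False := by
  classical
  haveI : Fact (Nat.Prime 2) := ⟨Nat.prime_two⟩
  obtain ⟨R, hR, hRc, hcount⟩ := e.exists_swap_point us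
  set D : Subgroup G := N ⊓ MulAction.stabilizer G R with hD
  have hDodd : Odd (Nat.card D) := by
    by_contra hev
    rw [Nat.not_odd_iff_even] at hev
    obtain ⟨i, hi⟩ := exists_prime_orderOf_dvd_card' (G := D) 2 hev.two_dvd
    obtain ⟨hiN, hiR⟩ := Subgroup.mem_inf.1 i.2
    exact hRc ⟨hR, i, e.axial_bad ⟨by rw [Subgroup.orderOf_coe]; exact hi, R, _, hR, hiR,
      base_mem_fixPts.2 hiN⟩ hiN, hiR⟩
  have hordD : ∀ d ∈ D, Odd (orderOf d) := fun d hd =>
    hDodd.of_dvd_nat ((Subgroup.orderOf_mk d hd) ▸ orderOf_dvd_natCard (⟨d, hd⟩ : D))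
  obtain ⟨y, hy, hlbl⟩ := e.exists_fixed_label us inf_le_left hDodd
  obtain ⟨hAL, -, -, -, ⟨T, h₀, d⟩, -, -⟩ := e.lineGrp_props (e.bad_label us hy)
  -- the group of automorphisms
  set K : Subgroup (MulAut (lineGrp A N (w * y))) :=
    ((D ⊔ coreN N).subgroupOf (lineStab N (w * y))).map (e.lineAut (w * y)) with hK
  have hKT : ∀ α ∈ K, ∀ l ∈ (T : Subgroup (lineGrp A N (w * y))),
      α l ∈ (T : Subgroup (lineGrp A N (w * y))) := by
    rintro _ ⟨g, -, rfl⟩ l hl
    refine (e.mem_tGrp_iff d hAL _).2 (mem_centralizer_iff.2 fun a ha => ?_)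
    rw [lineAut_apply]
    have hgN : (g : G) ∈ N := g.2.1
    have ha' : (g : G)⁻¹ * a * g ∈ A := by simpa using e.conj_mem_A (inv_mem hgN) ha
    have hc := mem_centralizer_iff.1 ((e.mem_tGrp_iff d hAL l).1 hl) _ ha'
    calc a * ((g : G) * l * (g : G)⁻¹) = g * ((g : G)⁻¹ * a * g * l) * (g : G)⁻¹ := by group
      _ = g * ((l : G) * ((g : G)⁻¹ * a * g)) * (g : G)⁻¹ := by rw [hc]
      _ = _ := by group
  have hno : ∀ α ∈ K, ∀ k : ℕ, h₀ ^ k ≠ 1 →
      ∃ z ∈ A.subgroupOf (lineGrp A N (w * y)), α z ≠ h₀ ^ k * z * (h₀ ^ k)⁻¹ := by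
    rintro _ ⟨g, hg, rfl⟩ k hk
    by_contra hcon
    push Not at hcon
    obtain ⟨δ, hδ, x, hx, hgx⟩ := CfsgLib.Coprime.exists_mul_of_mem_sup
      (fun δ hδ => mem_normalizer_fintype fun x hx =>
        e.coreN_conj ((inf_le_left : D ≤ N) hδ) hx) (mem_subgroupOf.1 hg)
    have hx' : δ * x * δ⁻¹ ∈ coreN N := e.coreN_conj ((inf_le_left : D ≤ N) hδ) hx
    refine hRc (e.torus_collinear us hy d ((inf_le_left : D ≤ N) hδ) (hordD δ hδ) hx'
      (by rw [inv_mul_cancel_right, ← hgx]; exact g.2) hk (fun a ha => ?_) hR hδ.2)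
    have h1 := congrArg Subtype.val (hcon ⟨a, hAL ha⟩ (mem_subgroupOf.2 ha))
    rw [lineAut_apply, hgx] at h1
    simp only [Subgroup.coe_mul, InvMemClass.coe_inv, SubmonoidClass.coe_pow] at h1
    rw [← h1, show δ * x * a * (δ * x)⁻¹ = δ * (x * a * x⁻¹) * δ⁻¹ by group,
      ← mem_centralizer_iff.1 (us.core_le hx) a ha, mul_inv_cancel_right]
  -- the automorphisms of the swappers
  obtain ⟨a₀, ha₀⟩ : (swappers A N R).Nonempty := by
    refine Set.nonempty_of_ncard_ne_zero ?_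
    have := e.one_lt
    omega
  have hdD : ∀ a : swappers A N R, (a : G) * a₀ ∈ D := fun a =>
    Subgroup.mem_inf.2 ⟨(e.swapper_mul a.2 ha₀).1,
      MulAction.mem_stabilizer_iff.2 (e.swapper_mul a.2 ha₀).2⟩
  choose x hxW hx using fun a : swappers A N R => hlbl _ (hdD a)
  have hst : ∀ a : swappers A N R, (x a)⁻¹ * ((a : G) * a₀) ∈ lineStab N (w * y) := fun a => by
    refine mem_lineStab.2 ⟨mul_mem (inv_mem (e.coreN_le_N (hxW a))) (e.swapper_mul a.2 ha₀).1, ?_⟩
    have h1 := fixPts_conj_congr (x a)⁻¹ (hx a)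
    rwa [show (x a)⁻¹ * (x a * (w * y) * (x a)⁻¹) * (x a)⁻¹⁻¹ = w * y by group,
      show (x a)⁻¹ * ((a : G) * a₀ * (w * y) * ((a : G) * a₀)⁻¹) * (x a)⁻¹⁻¹ =
        (x a)⁻¹ * ((a : G) * a₀) * (w * y) * ((x a)⁻¹ * ((a : G) * a₀))⁻¹ by group] at h1
  let F : swappers A N R → A.subgroupOf (lineGrp A N (w * y)) → lineGrp A N (w * y) :=
    fun a z => e.lineAut (w * y) ⟨_, hst a⟩ z
  have hFinj : Function.Injective F := by
    intro a b hab
    have hsame : ∀ p ∈ A, ((a : G) * a₀) * p * ((a : G) * a₀)⁻¹ =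
        ((b : G) * a₀) * p * ((b : G) * a₀)⁻¹ := by
      intro p hp
      have h1 : (x a)⁻¹ * ((a : G) * a₀) * p * ((x a)⁻¹ * ((a : G) * a₀))⁻¹ =
          (x b)⁻¹ * ((b : G) * a₀) * p * ((x b)⁻¹ * ((b : G) * a₀))⁻¹ :=
        congrArg Subtype.val (congrFun hab ⟨⟨p, hAL hp⟩, mem_subgroupOf.2 hp⟩)
      have h2 : ∀ s : swappers A N R, (x s)⁻¹ * ((s : G) * a₀) * p * ((x s)⁻¹ * ((s : G) * a₀))⁻¹ =
          (s : G) * a₀ * p * ((s : G) * a₀)⁻¹ := by
        intro s
        have hp' := e.conj_mem_A ((e.swapper_mul s.2 ha₀).1) hp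
        calc (x s)⁻¹ * ((s : G) * a₀) * p * ((x s)⁻¹ * ((s : G) * a₀))⁻¹
            = (x s)⁻¹ * (((s : G) * a₀ * p * ((s : G) * a₀)⁻¹) * x s) := by group
          _ = (x s)⁻¹ * (x s * ((s : G) * a₀ * p * ((s : G) * a₀)⁻¹)) := by
              rw [mem_centralizer_iff.1 (us.core_le (hxW s)) _ hp']
          _ = _ := by group
      rw [h2, h2] at h1
      exact h1
    set δ : G := (a : G) * b with hδdef
    obtain ⟨-, -, haa, haN⟩ := e.swapper_moves a.2
    obtain ⟨-, -, hbb, -⟩ := e.swapper_moves b.2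
    obtain ⟨-, -, ha₀a₀, -⟩ := e.swapper_moves ha₀
    have hδD : δ ∈ D := Subgroup.mem_inf.2 ⟨(e.swapper_mul a.2 b.2).1,
      MulAction.mem_stabilizer_iff.2 (e.swapper_mul a.2 b.2).2⟩
    have hδ' : δ = (a : G) * a₀ * ((b : G) * a₀)⁻¹ := by
      rw [hδdef, mul_inv_rev, ← mul_assoc, mul_inv_cancel_right,
        inv_eq_of_mul_eq_one_right hbb]
    have hδA : δ ∈ centralizer (A : Set G) := by
      refine mem_centralizer_iff.2 fun p hp => ?_
      have hp' : ((b : G) * a₀)⁻¹ * p * ((b : G) * a₀) ∈ A := by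
        simpa using e.conj_mem_A (inv_mem (e.swapper_mul b.2 ha₀).1) hp
      have h1 := hsame _ hp'
      rw [show (b : G) * a₀ * (((b : G) * a₀)⁻¹ * p * ((b : G) * a₀)) * ((b : G) * a₀)⁻¹ = p
        by group] at h1
      calc p * δ = (a : G) * a₀ * (((b : G) * a₀)⁻¹ * p * ((b : G) * a₀)) * ((a : G) * a₀)⁻¹ * δ := by
            rw [h1]
        _ = _ := by rw [hδ']; group
    have hδW : δ ∈ coreN N := e.odd_mem_core us hδA (hordD δ hδD)
    have hinv : (a : G) * δ * (a : G)⁻¹ = δ⁻¹ := by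
      rw [hδdef, mul_inv_rev, inv_eq_of_mul_eq_one_right haa, inv_eq_of_mul_eq_one_right hbb,
        ← mul_assoc, haa, one_mul]
    by_contra hne
    have hδ1 : δ ≠ 1 := fun h1 => hne (Subtype.ext ((eq_inv_of_mul_eq_one_left h1).trans
      (inv_eq_of_mul_eq_one_right hbb)))
    obtain ⟨p, hp, hp1⟩ := e.exists_ne_one ((1 : G) : G ⧸ N)
    rw [e.ptA_base] at hp
    refine haN (e.setup.mem_of_conj_mem hp hp1 (e.cent_le_of_core us hδW hδ1 (mem_cent.2 ?_)))
    have h3 : Commute ((a : G) * p * (a : G)⁻¹) δ⁻¹ := by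
      rw [← hinv]
      show (a : G) * p * (a : G)⁻¹ * ((a : G) * δ * (a : G)⁻¹) =
        (a : G) * δ * (a : G)⁻¹ * ((a : G) * p * (a : G)⁻¹)
      calc (a : G) * p * (a : G)⁻¹ * ((a : G) * δ * (a : G)⁻¹) = a * (p * δ) * (a : G)⁻¹ := by group
        _ = a * (δ * p) * (a : G)⁻¹ := by rw [mem_centralizer_iff.1 hδA p hp]
        _ = _ := by group
    simpa using h3.inv_right.eq
  have hbound := d.aut_bound K hKT hno
  have hle : Nat.card (swappers A N R) ≤ n := by
    refine le_trans ?_ hbound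
    haveI : Finite (A.subgroupOf (lineGrp A N (w * y)) → lineGrp A N (w * y)) := Pi.finite
    rw [← Nat.card_coe_set_eq]
    refine Nat.card_le_card_of_injective (fun a => ⟨F a, ?_⟩)
      fun a b hab => hFinj (congrArg Subtype.val hab :)
    refine ⟨e.lineAut (w * y) ⟨_, hst a⟩, mem_map_of_mem _ (mem_subgroupOf.2 ?_), rfl⟩
    exact mul_mem (mem_sup_right (inv_mem (hxW a))) (mem_sup_left (hdD a))
  rw [← Nat.card_coe_set_eq] at hcount
  have hn : n + 2 ≤ 2 ^ n := by
    have key : ∀ m, 3 ≤ m → m + 2 ≤ 2 ^ m := by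
      intro m hm
      induction m, hm using Nat.le_induction with
      | base => norm_num
      | succ m _ ih => rw [pow_succ]; omega
    exact key n e.base.three_le
  omega

end NormalGame

end CfsgLib.ThreeFree
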