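import Cfsg.Agent.Lib.ThreeFree.SwapBase

/-!
The lines through `N`: `O(N)` times `A` many; points off them exist; a subgroup of odd order of `N`
fixes the `O(N)`-class of one of these lines.
-/

set_option autoImplicit false
set_option linter.style.haveILetI false
set_option linter.unusedSectionVars false

namespace CfsgLib.ThreeFree

open Subgroup

universe u

variable {G : Type u} [Group G] [Finite G] {S : Sylow 2 G} {A N : Subgroup G} {n : ℕ}

theorem fixPts_conj_congr {N : Subgroup G} {u v : G} (g : G) (h : fixPts N u = fixPts N v) :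
    fixPts N (g * u * g⁻¹) = fixPts N (g * v * g⁻¹) := by
  rw [fixPts_conj, fixPts_conj, h]

/-- The points joined to `N` by a line. -/
def collinear (N : Subgroup G) : Set (G ⧸ N) :=
  {R | R ≠ ((1 : G) : G ⧸ N) ∧ ∃ v, Bad N v ∧ R ∈ fixPts N v}

namespace NormalGame

/-- An element fixing a line through `N` pointwise centralizes its line group. -/
theorem fix_all (e : NormalGame S A N n) {v g : G} (hv : Bad N v)
    (hfix : ∀ P ∈ fixPts N v, g • P = P) :
    g ∈ centralizer (A : Set G) ∧ g ∈ centralizer (lineGrp A N v : Set G) := by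
  obtain ⟨hAL, hLv, -, -, -, -, horb⟩ := e.lineGrp_props hv
  have key : ∀ g : G, (∀ P ∈ fixPts N v, g • P = P) → g ∈ centralizer (A : Set G) := by
    intro g hfix
    have hgN : g ∈ N := by
      rw [← coe_eq_base, ← smul_base]
      exact hfix _ (base_mem_fixPts.2 hv.mem)
    obtain ⟨-, -, q, hq, hqv⟩ := e.setup.bad_iff.1 hv
    have hQ : (q : G ⧸ N) ∈ fixPts N v := mem_fixPts.2 hqv
    refine mem_centralizer_iff.2 fun a ha => ?_
    have hav : a⁻¹ * v = v * a⁻¹ := mem_cent.1 (inv_mem (e.bad_centralizes hv ha))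
    set Q := a⁻¹ • (q : G ⧸ N) with hQdef
    have hQ' : Q ∈ fixPts N v := smul_fix_of_comm hav hQ
    have hgQ : g⁻¹ • Q = Q := by
      rw [inv_smul_eq_iff]
      exact (hfix Q hQ').symm
    have hc : (q : G ⧸ N) ∈ fixPts N (g * a * g⁻¹ * a⁻¹) := by
      show (g * a * g⁻¹ * a⁻¹) • (q : G ⧸ N) = q
      rw [mul_smul, mul_smul, mul_smul, ← hQdef, hgQ, hQdef, smul_inv_smul]
      exact hfix _ hQ
    by_contra hne
    have hne' : g * a * g⁻¹ * a⁻¹ ≠ 1 := fun h1 => hne
      (mul_inv_eq_iff_eq_mul.1 (mul_inv_eq_one.1 h1)).symm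
    exact hq (coe_eq_base.1 (e.eq_of_ptA_fix
      (by rw [e.ptA_base]; exact mul_mem (e.conj_mem_A hgN ha) (inv_mem ha)) hne' hc))
  refine ⟨key g hfix, ?_⟩
  have hle : lineGrp A N v ≤ centralizer ({g} : Set G) := by
    refine iSup₂_le fun P hP => ?_
    obtain ⟨l, hl, rfl⟩ := horb P hP
    rw [e.ptA_mk]
    refine cj_le_of_forall fun a ha => mem_centralizer_singleton_iff.2 ?_
    have hg' : ∀ R ∈ fixPts N v, (l⁻¹ * g * l) • R = R := by
      intro R hR
      rw [mul_smul, mul_smul, hfix _ (smul_fix_of_comm (mem_cent.1 (hLv hl)) hR), inv_smul_smul]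
    have h1 : a * (l⁻¹ * g * l) = l⁻¹ * g * l * a := mem_centralizer_iff.1 (key _ hg') a ha
    calc l * a * l⁻¹ * g = l * (a * (l⁻¹ * g * l)) * l⁻¹ := by group
      _ = l * (l⁻¹ * g * l * a) * l⁻¹ := by rw [h1]
      _ = _ := by group
  exact mem_centralizer_iff.2 fun l hl => mem_centralizer_singleton_iff.1 (hle hl)

theorem exists_off_base (e : NormalGame S A N n) {v : G} (hv : Bad N v) :
    ∃ l ∈ lineGrp A N v, l ∉ N := by
  obtain ⟨-, -, -, -, -, -, horb⟩ := e.lineGrp_props hv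
  obtain ⟨-, -, q, hq, hqv⟩ := e.setup.bad_iff.1 hv
  obtain ⟨l, hl, he⟩ := horb _ (mem_fixPts.2 hqv)
  refine ⟨l, hl, fun h1 => hq ?_⟩
  rw [← coe_eq_base, ← he, coe_eq_base]
  exact h1

variable {w h : G} {P : Subgroup G}

/-- An element of `W` fixing a line pointwise is trivial. -/
theorem core_fix_all (e : NormalGame S A N n) (us : UShape A N n w h P) {v x : G} (hv : Bad N v)
    (hx : x ∈ coreN N) (hfix : ∀ R ∈ fixPts N v, x • R = R) : x = 1 := by
  by_contra hx1
  obtain ⟨l, hl, hlN⟩ := e.exists_off_base hv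
  exact hlN (e.cent_le_of_core us hx hx1
    (mem_cent.2 (mem_centralizer_iff.1 (e.fix_all hv hfix).2 l hl)))

theorem bad_label (e : NormalGame S A N n) (us : UShape A N n w h P) {y : G} (hy : y ∈ A) :
    Bad N (w * y) :=
  e.base.star w us.maxLine.line.bad (e.bad_centralizes us.maxLine.line.bad) y hy

/-- Labels are unique. -/
theorem label_unique (e : NormalGame S A N n) (us : UShape A N n w h P) {x x' y y' : G}
    (hx : x ∈ coreN N) (hx' : x' ∈ coreN N) (hy : y ∈ A) (hy' : y' ∈ A)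
    (heq : fixPts N (x * (w * y) * x⁻¹) = fixPts N (x' * (w * y') * x'⁻¹)) : x = x' ∧ y = y' := by
  have hw := us.maxLine.line.bad
  set z := x'⁻¹ * x with hz
  have hzW : z ∈ coreN N := mul_mem (inv_mem hx') hx
  have heq' : fixPts N (z * (w * y) * z⁻¹) = fixPts N (w * y') := by
    have h1 := fixPts_conj_congr x'⁻¹ heq
    rwa [show x'⁻¹ * (x * (w * y) * x⁻¹) * x'⁻¹⁻¹ = z * (w * y) * z⁻¹ by rw [hz]; group,
      show x'⁻¹ * (x' * (w * y') * x'⁻¹) * x'⁻¹⁻¹ = w * y' by group] at h1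
  have hyz : y * z = z * y := mem_centralizer_iff.1 (us.core_le hzW) y hy
  have hy'z : y' * z = z * y' := mem_centralizer_iff.1 (us.core_le hzW) y' hy'
  have hyw : y * w = w * y := mem_cent.1 (e.bad_centralizes hw hy)
  have hy'w : y' * w = w * y' := mem_cent.1 (e.bad_centralizes hw hy')
  have hwz : w * z * w⁻¹ = z⁻¹ := us.core_inv w hw z hzW
  have hw2 : w * w = 1 := (e.bad_axial hw).sq
  have hwi : w⁻¹ = w := inv_eq_of_mul_eq_one_right hw2
  -- the product of the two involutions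
  have hprod : z * (w * y) * z⁻¹ * (w * y') = z * z * (y * y') := by
    calc z * (w * y) * z⁻¹ * (w * y') = z * w * (y * z⁻¹) * w * y' := by group
      _ = z * w * (z⁻¹ * y) * w * y' := by
          rw [(show Commute y z from hyz).inv_right.eq]
      _ = z * w * z⁻¹ * (y * w) * y' := by group
      _ = z * w * z⁻¹ * (w * y) * y' := by rw [hyw]
      _ = z * (w * z⁻¹ * w⁻¹) * (y * y') := by rw [hwi]; group
      _ = z * z * (y * y') := by
          rw [show w * z⁻¹ * w⁻¹ = (w * z * w⁻¹)⁻¹ by group, hwz, inv_inv]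
  have hall : ∀ R ∈ fixPts N (w * y'), (z * z * (y * y')) • R = R := by
    intro R hR
    rw [← hprod]
    exact fix_mul (heq'.symm ▸ hR) hR
  have hyy : y = y' := by
    have hb := e.bad_label us hy'
    obtain ⟨-, -, q, hq, hqv⟩ := e.setup.bad_iff.1 hb
    have hQ : (q : G ⧸ N) ∈ fixPts N (w * y') := mem_fixPts.2 hqv
    set m := orderOf z
    have hm : Odd m := e.coreN_orderOf_odd hzW
    have hc : Commute (z * z) (y * y') := by
      have h1 : Commute z y := (show z * y = y * z from hyz.symm)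
      have h2 : Commute z y' := (show z * y' = y' * z from hy'z.symm)
      exact (h1.mul_left h1).mul_right (h2.mul_left h2)
    have hpow : (z * z * (y * y')) ^ m = y * y' := by
      obtain ⟨r, hr⟩ := hm
      rw [hc.mul_pow, (Commute.refl z).mul_pow, pow_orderOf_eq_one, one_mul, one_mul, hr, pow_succ,
        pow_mul, pow_two, e.setup.mul_self_eq_one (mul_mem hy hy'), one_pow, one_mul]
    have hfix : (q : G ⧸ N) ∈ fixPts N (y * y') := by
      rw [← hpow]
      show (z * z * (y * y')) ^ m • (q : G ⧸ N) = q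
      clear_value m
      clear hpow hm
      induction m with
      | zero => rw [pow_zero, one_smul]
      | succ i ih => rw [pow_succ, mul_smul, hall _ hQ, ih]
    by_contra hne
    have hne' : y * y' ≠ 1 := fun h1 => hne ((eq_inv_of_mul_eq_one_left h1).trans
      (inv_eq_of_mul_eq_one_right (e.setup.mul_self_eq_one hy')))
    exact hq (coe_eq_base.1 (e.eq_of_ptA_fix (by rw [e.ptA_base]; exact mul_mem hy hy') hne' hfix))
  subst hyy
  have hzz : z * z = 1 := e.core_fix_all us (e.bad_label us hy) (mul_mem hzW hzW) fun R hR => by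
    have h1 := hall R hR
    rwa [e.setup.mul_self_eq_one hy, mul_one] at h1
  have hz1 : z = 1 := e.eq_one_of_odd_two (e.coreN_orderOf_odd hzW) (k := 1)
    (by rw [pow_one, pow_two, hzz])
  exact ⟨(inv_mul_eq_one.1 hz1).symm, rfl⟩

/-- Labels exist. -/
theorem label_exists (e : NormalGame S A N n) (us : UShape A N n w h P) {v : G} (hv : Bad N v) :
    ∃ x ∈ coreN N, ∃ y ∈ A, fixPts N v = fixPts N (x * (w * y) * x⁻¹) := by
  obtain ⟨x, hx, hxv⟩ := us.bad_conj v hv
  have ld := us.maxLine.line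
  have hb := hv.conj (e.coreN_le_N hx)
  obtain ⟨y, hy, he⟩ := ld.lbl_exists _ hb
    (ld.E_central _ hxv w (ld.K_le_J ld.w_mem_K))
  refine ⟨x⁻¹, inv_mem hx, y, hy, ?_⟩
  have h1 := fixPts_conj_congr x⁻¹ he
  rwa [show x⁻¹ * (x * v * x⁻¹) * x⁻¹⁻¹ = v by group] at h1

theorem card_collinear (e : NormalGame S A N n) (us : UShape A N n w h P) :
    (collinear N).ncard = Nat.card (coreN N) * 2 ^ n * (2 ^ n) ^ 2 := by
  classical
  haveI : Fintype (G ⧸ N) := Fintype.ofFinite _
  haveI : Fintype G := Fintype.ofFinite _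
  haveI : Fintype (coreN N × A) := Fintype.ofFinite _
  let piece : coreN N × A → Finset (G ⧸ N) := fun p =>
    ((fixPts N ((p.1 : G) * (w * p.2) * (p.1 : G)⁻¹)).toFinset).erase ((1 : G) : G ⧸ N)
  have hbad : ∀ p : coreN N × A, Bad N ((p.1 : G) * (w * p.2) * (p.1 : G)⁻¹) := fun p =>
    (e.bad_label us p.2.2).conj (e.coreN_le_N p.1.2)
  have hdisj : ((Finset.univ : Finset (coreN N × A)) : Set (coreN N × A)).PairwiseDisjoint piece := by
    intro p _ p' _ hne
    rw [Function.onFun, Finset.disjoint_left]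
    intro R hR hR'
    refine hne ?_
    obtain ⟨hR1, hRp⟩ := Finset.mem_erase.1 hR
    obtain ⟨-, hRp'⟩ := Finset.mem_erase.1 hR'
    have heq := e.lines (hbad p) (hbad p') hR1 (Set.mem_toFinset.1 hRp) (Set.mem_toFinset.1 hRp')
    obtain ⟨h1, h2⟩ := e.label_unique us p.1.2 p'.1.2 p.2.2 p'.2.2 heq
    exact Prod.ext (Subtype.ext h1) (Subtype.ext h2)
  have hset : (collinear N).toFinset = Finset.univ.biUnion piece := by
    ext R
    rw [Set.mem_toFinset, Finset.mem_biUnion]
    constructor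
    · rintro ⟨hR1, v, hv, hRv⟩
      obtain ⟨x, hx, y, hy, he⟩ := e.label_exists us hv
      exact ⟨(⟨x, hx⟩, ⟨y, hy⟩), Finset.mem_univ _,
        Finset.mem_erase.2 ⟨hR1, Set.mem_toFinset.2 (he ▸ hRv)⟩⟩
    · rintro ⟨p, -, hp⟩
      obtain ⟨hR1, hRp⟩ := Finset.mem_erase.1 hp
      exact ⟨hR1, _, hbad p, Set.mem_toFinset.1 hRp⟩
  have hcard : ∀ p ∈ (Finset.univ : Finset (coreN N × A)), (piece p).card = (2 ^ n) ^ 2 := by
    intro p _
    rw [Finset.card_erase_of_mem (Set.mem_toFinset.2 (base_mem_fixPts.2 (hbad p).mem)),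
      ← Set.ncard_eq_toFinset_card', e.base.ncard_fix _ (hbad p), Nat.add_sub_cancel]
  rw [Set.ncard_eq_toFinset_card', hset, Finset.card_biUnion hdisj, Finset.sum_congr rfl hcard,
    Finset.sum_const, smul_eq_mul, Finset.card_univ, ← Nat.card_eq_fintype_card, Nat.card_prod,
    e.base.card_A]

/-- Not all points are collinear with `N`. -/
theorem collinear_lt (e : NormalGame S A N n) (us : UShape A N n w h P) :
    (collinear N).ncard + 1 < Nat.card (G ⧸ N) := by
  have hn0 := us.maxLine.line.card_points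
  rw [e.card_collinear us]
  set W := Nat.card (coreN N) with hW
  set q := 2 ^ n with hq
  have hq8 : 8 ≤ q := e.one_lt
  have hle : (collinear N).ncard + 1 ≤ Nat.card (G ⧸ N) := by
    have h1 : collinear N ⊆ {((1 : G) : G ⧸ N)}ᶜ := fun R hR => hR.1
    have h2 := Set.ncard_le_ncard h1 (Set.toFinite _)
    rw [Set.ncard_compl, Set.ncard_singleton] at h2
    have : 0 < Nat.card (G ⧸ N) := Nat.card_pos
    omega
  rw [e.card_collinear us, ← hW, ← hq] at hle
  refine lt_of_le_of_ne hle fun heq => ?_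
  have h1 : q ^ 3 * (W + q) = q ^ 3 * (q ^ 2 + 1) := by
    rw [← heq] at hn0
    calc q ^ 3 * (W + q) = W * q * q ^ 2 + q ^ 4 := by ring
      _ = q ^ 5 + q ^ 3 := by omega
      _ = _ := by ring
  have h2 : W + q = q ^ 2 + 1 := Nat.eq_of_mul_eq_mul_left (by positivity) h1
  obtain ⟨r, hr⟩ := e.base.odd_n
  have h3 : q % 3 = 2 := by
    rw [hq, hr, pow_succ, pow_mul, Nat.mul_mod, Nat.pow_mod]
    norm_num
  have h4 : 3 ∣ W := by
    have h5 : q ^ 2 % 3 = 1 := by rw [Nat.pow_mod, h3]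
    omega
  exact e.setup.three (h4.trans ((Subgroup.card_subgroup_dvd_card _)))

/-- The action on the labels is affine. -/
theorem label_map (e : NormalGame S A N n) (us : UShape A N n w h P) {g : G} (hg : g ∈ N) :
    ∃ f : A → A, (∀ y : A, ∃ x ∈ coreN N,
        fixPts N (g * (w * (y : G)) * g⁻¹) = fixPts N (x * (w * (f y : G)) * x⁻¹)) ∧
      ∀ a b c : A, f (a * b * c) = f a * f b * f c := by
  obtain ⟨v, hv, m, hm, rfl, -, hmE⟩ := us.frattini g hg
  have ld := us.maxLine.line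
  have hwE : w ∈ eGrp A N w := (ld.mem_E w).2 ⟨ld.K_le_J ld.w_mem_K, (e.bad_axial ld.bad).sq⟩
  obtain ⟨c, hc, k, hk⟩ := ld.affine m hm (hmE w hwE)
  have hmem : ∀ y : A, h ^ k * (c * (m * y * m⁻¹)) * (h ^ k)⁻¹ ∈ A := fun y =>
    e.conj_mem_A (pow_mem ld.h_mem_N k) (mul_mem hc (e.conj_mem_A hm y.2))
  refine ⟨fun y => ⟨_, hmem y⟩, fun y => ⟨v, hv, ?_⟩, fun a b d => Subtype.ext ?_⟩
  · have h1 := fixPts_conj_congr v (hk y y.2)
    rwa [show v * (m * (w * y) * m⁻¹) * v⁻¹ = v * m * (w * y) * (v * m)⁻¹ by group] at h1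
  · show h ^ k * (c * (m * ((a : G) * b * d) * m⁻¹)) * (h ^ k)⁻¹ =
      h ^ k * (c * (m * a * m⁻¹)) * (h ^ k)⁻¹ * (h ^ k * (c * (m * b * m⁻¹)) * (h ^ k)⁻¹) *
        (h ^ k * (c * (m * d * m⁻¹)) * (h ^ k)⁻¹)
    have ha := e.conj_mem_A hm a.2
    have hb := e.conj_mem_A hm b.2
    have hcc : c * c = 1 := e.setup.mul_self_eq_one hc
    have h2 : c * (m * ((a : G) * b * d) * m⁻¹) =
        c * (m * a * m⁻¹) * (c * (m * b * m⁻¹)) * (c * (m * d * m⁻¹)) := by
      rw [show m * ((a : G) * b * d) * m⁻¹ = m * a * m⁻¹ * (m * b * m⁻¹) * (m * d * m⁻¹) by group]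
      generalize m * (a : G) * m⁻¹ = a' at ha ⊢
      generalize m * (b : G) * m⁻¹ = b' at hb ⊢
      generalize m * (d : G) * m⁻¹ = d'
      rw [show c * a' * (c * b') * (c * d') = c * (a' * c) * (b' * c) * d' by group,
        e.setup.comm ha hc, e.setup.comm hb hc,
        show c * (c * a') * (c * b') * d' = c * c * a' * c * b' * d' by group, hcc, one_mul,
        e.setup.comm ha hc]
      group
    rw [h2]
    group

/-- A subgroup of odd order of `N` fixes the class of a line. -/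
theorem exists_fixed_label (e : NormalGame S A N n) (us : UShape A N n w h P) {D : Subgroup G}
    (hD : D ≤ N) (hodd : Odd (Nat.card D)) :
    ∃ y ∈ A, ∀ d ∈ D, ∃ x ∈ coreN N,
      fixPts N (d * (w * y) * d⁻¹) = fixPts N (x * (w * y) * x⁻¹) := by
  classical
  letI : CommGroup A :=
    { (inferInstance : Group A) with mul_comm := fun a b => Subtype.ext (e.setup.comm a.2 b.2) }
  haveI : Fintype D := Fintype.ofFinite D
  choose f hf haff using fun d : D => e.label_map us (hD d.2)
  have hcomp : ∀ (d d' : D) (y : A), f (d * d') y = f d (f d' y) := by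
    intro d d' y
    obtain ⟨x₁, hx₁, h1⟩ := hf (d * d') y
    obtain ⟨x₂, hx₂, h2⟩ := hf d' y
    obtain ⟨x₃, hx₃, h3⟩ := hf d (f d' y)
    have h4 := fixPts_conj_congr (d : G) h2
    have h5 := fixPts_conj_congr ((d : G) * x₂ * (d : G)⁻¹) h3
    have hx : (d : G) * x₂ * (d : G)⁻¹ * x₃ ∈ coreN N :=
      mul_mem (e.coreN_conj (hD d.2) hx₂) hx₃
    refine Subtype.ext (e.label_unique us hx₁ hx (f (d * d') y).2 (f d (f d' y)).2 ?_).2
    refine h1.symm.trans ?_
    rw [show ((d * d' : D) : G) * (w * y) * ((d * d' : D) : G)⁻¹ =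
      d * (d' * (w * y) * (d' : G)⁻¹) * (d : G)⁻¹ by simp only [Subgroup.coe_mul]; group, h4,
      show (d : G) * (x₂ * (w * f d' y) * x₂⁻¹) * (d : G)⁻¹ =
        d * x₂ * (d : G)⁻¹ * (d * (w * f d' y) * (d : G)⁻¹) * (d * x₂ * (d : G)⁻¹)⁻¹ by group, h5]
    congr 1
    group
  set z : A := ∏ d : D, f d 1 with hz
  have hsum : ∀ (s : Finset D), Odd s.card → ∀ d : D,
      f d (∏ i ∈ s, f i 1) = ∏ i ∈ s, f d (f i 1) := by
    intro s
    induction s using Finset.strongInduction with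
    | H s ih =>
      intro hs d
      obtain ⟨i, hi⟩ := Finset.card_pos.1 hs.pos
      rcases (Finset.erase s i).eq_empty_or_nonempty with h0 | ⟨j, hj⟩
      · rw [← Finset.insert_erase hi, h0]
        simp
      · have hcard : Odd ((Finset.erase (Finset.erase s i) j).card) := by
          have h1 := Finset.card_erase_add_one hi
          have h2 := Finset.card_erase_add_one hj
          rw [Nat.odd_iff] at hs ⊢
          omega
        have hss : Finset.erase (Finset.erase s i) j ⊂ s :=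
          (Finset.erase_subset j _).trans_ssubset (Finset.erase_ssubset hi)
        rw [← Finset.mul_prod_erase s _ hi, ← Finset.mul_prod_erase _ _ hj,
          ← Finset.mul_prod_erase s (fun i => f d (f i 1)) hi,
          ← Finset.mul_prod_erase _ (fun i => f d (f i 1)) hj, ← mul_assoc, haff, ih _ hss hcard,
          mul_assoc]
  refine ⟨z, z.2, fun d hd => ?_⟩
  have hfix : f ⟨d, hd⟩ z = z := by
    rw [hz, hsum Finset.univ (by rwa [Finset.card_univ, ← Nat.card_eq_fintype_card]) ⟨d, hd⟩]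
    exact Fintype.prod_equiv (Equiv.mulLeft (⟨d, hd⟩ : D)) _ _ fun i => (hcomp _ i 1).symm
  obtain ⟨x, hx, he⟩ := hf ⟨d, hd⟩ z
  exact ⟨x, hx, by rwa [hfix] at he⟩

end NormalGame

end CfsgLib.ThreeFree
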