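import Cfsg.Agent.Lib.ThreeFree.LineMax
import Cfsg.Agent.Lib.ThreeFree.UShape

/-!
The shape of `C(A)` from the factorisation `C(A) = O(N) P` and the position of the involutions of `P`.
-/

set_option autoImplicit false
set_option linter.style.haveILetI false
set_option linter.unusedSectionVars false

namespace CfsgLib.ThreeFree

open Subgroup

universe u

variable {G : Type u} [Group G] [Finite G] {S : Sylow 2 G} {A N : Subgroup G} {n : ℕ}

theorem mem_coreN_conj {g x : G} (hg : g ∈ N) (hx : x ∈ coreN N) : g * x * g⁻¹ ∈ coreN N := by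
  obtain ⟨y, hy, rfl⟩ := hx
  exact ⟨⟨g, hg⟩ * y * ⟨g, hg⟩⁻¹, (Cfsg.pPrimeCore_normal 2 N).conj_mem y hy _, rfl⟩

theorem odd_orderOf_coreN {x : G} (hx : x ∈ coreN N) : Odd (orderOf x) := by
  haveI : Fact (Nat.Prime 2) := ⟨Nat.prime_two⟩
  have hodd : Odd (Nat.card (coreN N)) := by
    rw [Subgroup.card_map_of_injective N.subtype_injective]
    exact Nat.coprime_two_right.1 CfsgLib.PCore.pPrimeCore_coprime
  exact hodd.of_dvd_nat ((Subgroup.orderOf_mk x hx) ▸ orderOf_dvd_natCard (⟨x, hx⟩ : coreN N))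

theorem eq_one_of_odd_of_two_pow {x : G} (hodd : Odd (orderOf x)) {k : ℕ} (h : x ^ 2 ^ k = 1) :
    x = 1 := by
  rw [← orderOf_eq_one_iff, ← Nat.dvd_one,
    ← (Nat.Coprime.pow_right k (Nat.coprime_two_right.2 hodd)).gcd_eq_one]
  exact Nat.dvd_gcd dvd_rfl (orderOf_dvd_of_pow_eq_one h)

namespace NormalGame

theorem coreN_le_cent (e : NormalGame S A N n) : coreN N ≤ centralizer (A : Set G) := by
  intro x hx
  refine mem_centralizer_iff.2 fun a ha => ?_
  have hxN : x ∈ N := (map_subtype_le _ : coreN N ≤ N) hx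
  have hW : x * a * x⁻¹ * a⁻¹ ∈ coreN N := by
    have h1 := mul_mem hx (mem_coreN_conj (e.setup.A_le ha) (inv_mem hx))
    rwa [show x * (a * x⁻¹ * a⁻¹) = x * a * x⁻¹ * a⁻¹ by group] at h1
  have hA : x * a * x⁻¹ * a⁻¹ ∈ A := mul_mem (e.conj_mem_A hxN ha) (inv_mem ha)
  have h1 := eq_one_of_odd_of_two_pow (odd_orderOf_coreN hW) (k := 1)
    (by rw [pow_one, pow_two, e.setup.mul_self_eq_one hA])
  exact (mul_inv_eq_iff_eq_mul.1 (mul_inv_eq_one.1 h1)).symm

theorem coreN_cent_bad (e : NormalGame S A N n) {v x : G} (hv : Bad N v) (hx : x ∈ coreN N)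
    (hxv : x * v = v * x) : x = 1 := by
  obtain ⟨k, hk⟩ := (e.jGrp_card_two hv).1
    ⟨x, Subgroup.mem_inf.2 ⟨e.coreN_le_cent hx, mem_cent.2 hxv⟩⟩
  exact eq_one_of_odd_of_two_pow (odd_orderOf_coreN hx) (congrArg Subtype.val hk)

theorem coreN_inverted (e : NormalGame S A N n) {v x : G} (hv : Bad N v) (hx : x ∈ coreN N) :
    v * x * v⁻¹ = x⁻¹ := by
  let ω : coreN N → coreN N := fun z => ⟨z * (v * (z : G)⁻¹ * v⁻¹),
    mul_mem z.2 (mem_coreN_conj hv.mem (inv_mem z.2))⟩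
  have hω : Function.Injective ω := by
    rintro ⟨z, hz⟩ ⟨z', hz'⟩ hzz
    have h1 : z * (v * z⁻¹ * v⁻¹) = z' * (v * z'⁻¹ * v⁻¹) := congrArg Subtype.val hzz
    refine Subtype.ext (inv_mul_eq_one.1
      (e.coreN_cent_bad hv (mul_mem (inv_mem hz') hz) ?_)).symm
    calc z'⁻¹ * z * v = z'⁻¹ * (z * (v * z⁻¹ * v⁻¹)) * (v * z) := by group
      _ = z'⁻¹ * (z' * (v * z'⁻¹ * v⁻¹)) * (v * z) := by rw [h1]
      _ = v * (z'⁻¹ * z) := by group
  obtain ⟨⟨z, hz⟩, hωz⟩ := (Finite.injective_iff_surjective.1 hω) ⟨x, hx⟩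
  have h1 : z * (v * z⁻¹ * v⁻¹) = x := congrArg Subtype.val hωz
  have hv2 : v⁻¹ = v := inv_eq_of_mul_eq_one_right (e.bad_axial hv).sq
  rw [← h1]
  simp only [mul_inv_rev, inv_inv, hv2]
  calc v * (z * (v * z⁻¹ * v)) * v = v * z * v * z⁻¹ * (v * v) := by group
    _ = v * (z * (v * z⁻¹)) := by rw [(e.bad_axial hv).sq]; group
    _ = v * (z * v) * z⁻¹ := by group
    _ = _ := by group

theorem coreN_comm (e : NormalGame S A N n) {x y : G} (hx : x ∈ coreN N) (hy : y ∈ coreN N) :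
    x * y = y * x := by
  obtain ⟨v, hv⟩ := e.base.exists_bad
  have h1 := e.coreN_inverted hv (mul_mem hx hy)
  rw [show v * (x * y) * v⁻¹ = v * x * v⁻¹ * (v * y * v⁻¹) by group, e.coreN_inverted hv hx,
    e.coreN_inverted hv hy, ← mul_inv_rev, inv_inj] at h1
  exact h1.symm

theorem coreN_or (e : NormalGame S A N n) :
    coreN N = ⊥ ∨ ∀ v, Bad N v → Nat.card (kInv A N v) = 2 := by
  refine (Subgroup.bot_or_exists_ne_one (coreN N)).imp_right fun ⟨x, hx, hx1⟩ v hv => ?_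
  have hmem := fun k => e.mem_kInv_iff hv (k := k)
  have hvK : v ∈ kInv A N v := (hmem v).2 ⟨e.w_mem_kerK hv, (e.bad_axial hv).sq⟩
  have key : ∀ k ∈ kInv A N v, k = 1 ∨ k = v := by
    intro k hk
    by_contra hcon
    push Not at hcon
    obtain ⟨hk1, hkv⟩ := hcon
    obtain ⟨hkK, hk2⟩ := (hmem k).1 hk
    obtain ⟨huK, hu2⟩ := (hmem _).1 (mul_mem hk hvK)
    have hu1 : k * v ≠ 1 := fun h => hkv ((eq_inv_of_mul_eq_one_left h).trans
      (inv_eq_of_mul_eq_one_right (e.bad_axial hv).sq))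
    have hku := e.coreN_inverted (e.kerK_invol_bad hv huK hu2 hu1).1 hx
    have hkx := e.coreN_inverted (e.kerK_invol_bad hv hkK hk2 hk1).1 (inv_mem hx)
    rw [show k * v * x * (k * v)⁻¹ = k * (v * x * v⁻¹) * k⁻¹ by group, e.coreN_inverted hv hx,
      hkx, inv_inv] at hku
    exact hx1 (eq_one_of_odd_of_two_pow (odd_orderOf_coreN hx) (k := 1)
      (by rw [pow_one, pow_two]; exact eq_inv_iff_mul_eq_one.1 hku))
  have heq : kInv A N v = zpowers v := by
    refine le_antisymm (fun k hk => ?_) (zpowers_le.2 hvK)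
    rcases key k hk with rfl | rfl
    · exact one_mem _
    · exact mem_zpowers _
  rw [heq, Nat.card_zpowers, hv.two]

variable {w h : G} {P : Subgroup G}

/-- `UShape` from the factorisation and the position of the involutions. -/
theorem uShape_of_factor (e : NormalGame S A N n) (hm : MaxLine A N n w h)
    (hP2 : IsPGroup 2 P) (hPU : P ≤ centralizer (A : Set G)) (hJ : jGrp A w ≤ P)
    (hcases : P = jGrp A w ∨ P = t1Grp A w)
    (hinv : ∀ x ∈ P, x * x = 1 → x ∈ eGrp A N w)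
    (hfac : ∀ x ∈ centralizer (A : Set G), ∃ v ∈ coreN N, ∃ p ∈ P, x = v * p) :
    UShape A N n w h P := by
  haveI : Fact (Nat.Prime 2) := ⟨Nat.prime_two⟩
  set U := centralizer (A : Set G) with hU
  -- `P` is a maximal 2-subgroup of `C(A)`
  have hmax : ∀ Q : Subgroup G, IsPGroup 2 Q → Q ≤ U → P ≤ Q → Q ≤ P := by
    intro Q hQ hQU hPQ q hq
    obtain ⟨v, hv, p, hp, rfl⟩ := hfac q (hQU hq)
    have hvQ : v ∈ Q := by simpa using mul_mem hq (inv_mem (hPQ hp))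
    obtain ⟨k, hk⟩ := hQ ⟨v, hvQ⟩
    rw [eq_one_of_odd_of_two_pow (odd_orderOf_coreN hv) (congrArg Subtype.val hk), one_mul]
    exact hp
  -- every 2-subgroup is conjugate into `P` by the odd core
  have hconj : ∀ R : Subgroup G, IsPGroup 2 R → R ≤ U →
      ∃ x ∈ coreN N, ∀ r ∈ R, x * r * x⁻¹ ∈ P := by
    intro R hR hRU
    obtain ⟨Q, hQ⟩ := (hP2.comap_subtype (K := U)).exists_le_sylow
    have hQP : ∀ q ∈ (Q : Subgroup U), (q : G) ∈ P := fun q hq =>
      hmax ((Q : Subgroup U).map U.subtype) (Q.2.map _) (map_subtype_le _)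
        (fun p hp => ⟨⟨p, hPU hp⟩, hQ hp, rfl⟩) ⟨q, hq, rfl⟩
    obtain ⟨Q', hQ'⟩ := (hR.comap_subtype (K := U)).exists_le_sylow
    obtain ⟨g, hg⟩ := MulAction.exists_smul_eq U Q' Q
    obtain ⟨v, hv, p, hp, hgp⟩ := hfac _ (inv_mem g.2)
    refine ⟨v⁻¹, inv_mem hv, fun r hr => ?_⟩
    have h1 : g * ⟨r, hRU hr⟩ * g⁻¹ ∈ (Q : Subgroup U) := by
      rw [← hg]
      exact Subgroup.smul_mem_pointwise_smul _ (MulAut.conj g) _ (hQ' hr)
    have h2 : (g : G) * r * (g : G)⁻¹ ∈ P := hQP _ h1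
    have h3 := mul_mem (mul_mem hp h2) (inv_mem hp)
    have hgv : (g : G) = p⁻¹ * v⁻¹ := by
      rw [← mul_inv_rev, ← hgp, inv_inv]
    rwa [hgv, show p * (p⁻¹ * v⁻¹ * r * (p⁻¹ * v⁻¹)⁻¹) * p⁻¹ = v⁻¹ * r * v⁻¹⁻¹ by group] at h3
  refine
    { maxLine := hm
      core_le := e.coreN_le_cent
      core_inv := fun v hv x hx => e.coreN_inverted hv hx
      core_comm := fun x hx y hy => e.coreN_comm hx hy
      core_or := e.coreN_or
      P_two := hP2
      P_le := hPU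
      J_le := hJ
      P_cases := hcases
      P_invol := hinv
      factor := hfac
      frattini := fun g hg => ?_
      bad_conj := fun v hv => ?_ }
  · have hUn : cj g P ≤ U := cj_le_of_forall fun p hp => mem_centralizer_iff.2 fun a ha => by
      have ha' : g⁻¹ * a * g ∈ A := by simpa using e.conj_mem_A (inv_mem hg) ha
      calc a * (g * p * g⁻¹) = g * (g⁻¹ * a * g * p) * g⁻¹ := by group
        _ = g * (p * (g⁻¹ * a * g)) * g⁻¹ := by rw [mem_centralizer_iff.1 (hPU hp) _ ha']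
        _ = _ := by group
    obtain ⟨x, hx, hxR⟩ := hconj (cj g P) (hP2.map _) hUn
    have hxN : x ∈ N := (map_subtype_le _ : coreN N ≤ N) hx
    have hP : ∀ p ∈ P, x * g * p * (x * g)⁻¹ ∈ P := fun p hp => by
      have h1 := hxR _ (cj_mem.2 hp : g * p * g⁻¹ ∈ cj g P)
      rwa [show x * (g * p * g⁻¹) * x⁻¹ = x * g * p * (x * g)⁻¹ by group] at h1
    refine ⟨x⁻¹, inv_mem hx, x * g, mul_mem hxN hg, by group, hP, fun y hy => ?_⟩
    obtain ⟨hyJ, hy2⟩ := (hm.line.mem_E y).1 hy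
    refine hinv _ (hP y (hJ hyJ)) ?_
    rw [show x * g * y * (x * g)⁻¹ * (x * g * y * (x * g)⁻¹) = x * g * (y * y) * (x * g)⁻¹ by group,
      hy2, mul_one, mul_inv_cancel]
  · have hvU : v ∈ U := mem_centralizer_iff.2 fun a ha => mem_cent.1 (e.bad_centralizes hv ha)
    obtain ⟨x, hx, hxv⟩ := hconj (zpowers v) (Setup.isPGroup_zpowers_of_orderOf hv.two)
      (zpowers_le.2 hvU)
    refine ⟨x, hx, hinv _ (hxv v (mem_zpowers v)) ?_⟩
    rw [show x * v * x⁻¹ * (x * v * x⁻¹) = x * (v * v) * x⁻¹ by group, (e.bad_axial hv).sq,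
      mul_one, mul_inv_cancel]

end NormalGame

end CfsgLib.ThreeFree
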