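import Cfsg.Agent.Lib.ThreeFree.UStructPartner
import Cfsg.Agent.Lib.Involutions.BrauerSuzuki

/-!
`C(A) = O(N) P` when the involutions of `P` lie in `E` and `P` is the normalizer of `J` in `C(A)`:
the image of `w` in `C(A) / A` is isolated.
-/

set_option autoImplicit false
set_option linter.style.haveILetI false
set_option linter.unusedSectionVars false

namespace CfsgLib.ThreeFree.UStr

open Subgroup Cfsg

universe u

variable {G : Type u} [Group G] [Finite G] {S : Sylow 2 G} {A N : Subgroup G} {n : ℕ}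
  {w h : G} {P : Subgroup G}

/-- A Sylow 2-subgroup of `C(A)`: every 2-subgroup is conjugate into it. -/
theorem Syl.exists_conj (s : Syl A N n w h P) {Q : Subgroup G} (hQ : IsPGroup 2 Q)
    (hQA : Q ≤ centralizer (A : Set G)) :
    ∃ u ∈ centralizer (A : Set G), ∀ y ∈ Q, u * y * u⁻¹ ∈ P := by
  haveI : Fact (Nat.Prime 2) := ⟨Nat.prime_two⟩
  set U := centralizer (A : Set G)
  let PU : Sylow 2 U :=
    { toSubgroup := P.subgroupOf U
      isPGroup' := IsPGroup.comap_subtype s.P_two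
      is_maximal' := fun {Q'} hQ' hle => by
        have hP : P ≤ Q'.map U.subtype := fun x hx =>
          ⟨⟨x, s.P_le hx⟩, hle (mem_subgroupOf.2 hx), rfl⟩
        have h1 := s.maxi _ (hQ'.map U.subtype) (map_subtype_le _) hP
        refine le_antisymm (fun x hx => mem_subgroupOf.2 ?_) hle
        rw [← h1]
        exact ⟨x, hx, rfl⟩ }
  obtain ⟨R, hR⟩ := (IsPGroup.comap_subtype (H := Q) (K := U) hQ).exists_le_sylow
  obtain ⟨g, hg⟩ := MulAction.exists_smul_eq U R PU
  refine ⟨g, g.2, fun y hy => ?_⟩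
  have h1 : g * ⟨y, hQA hy⟩ * g⁻¹ ∈ (PU : Subgroup U) := by
    rw [← SetLike.mem_coe, ← hg]
    exact ⟨⟨y, hQA hy⟩, hR (mem_subgroupOf.2 hy), rfl⟩
  exact h1

theorem Syl.card_le (s : Syl A N n w h P) {Q : Subgroup G} (hQ : IsPGroup 2 Q)
    (hQA : Q ≤ centralizer (A : Set G)) : Nat.card Q ≤ Nat.card P := by
  obtain ⟨u, -, hu⟩ := s.exists_conj hQ hQA
  exact Nat.card_le_card_of_injective (fun y : Q => (⟨u * y * u⁻¹, hu y y.2⟩ : P))
    fun y z hyz => Subtype.ext (mul_left_cancel (mul_right_cancel (congrArg Subtype.val hyz)))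

/-- `P` is the normalizer of `J` in `C(A)` if that normalizes `P` and has no odd elements. -/
theorem Syl.norm_mem (s : Syl A N n w h P)
    (hodd : ∀ η ∈ centralizer (A : Set G), Odd (orderOf η) →
      (∀ x ∈ jGrp A w, η * x * η⁻¹ ∈ jGrp A w) → η = 1)
    (hconj : ∀ g ∈ centralizer (A : Set G), cj g (jGrp A w) = jGrp A w →
      ∀ x ∈ P, g * x * g⁻¹ ∈ P)
    {g : G} (hg : g ∈ centralizer (A : Set G)) (hgJ : cj g (jGrp A w) = jGrp A w) : g ∈ P := by
  haveI : Fact (Nat.Prime 2) := ⟨Nat.prime_two⟩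
  obtain ⟨k, r, hr, hkr⟩ := Nat.exists_eq_two_pow_mul_odd (orderOf_pos g).ne'
  have hn : g ∈ normalizer (jGrp A w : Set G) := mem_normalizer_fintype fun x hx => by
    have := cj_mem (m := g).2 hx
    rwa [hgJ] at this
  have h1 : g ^ 2 ^ k = 1 := by
    refine hodd _ (pow_mem hg _) (hr.of_dvd_nat (orderOf_dvd_of_pow_eq_one ?_))
      fun x hx => (mem_normalizer_iff.1 (pow_mem hn _) x).1 hx
    rw [← pow_mul, ← hkr, pow_orderOf_eq_one]
  have h2 : IsPGroup 2 (zpowers g) := by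
    obtain ⟨i, -, hi⟩ := (Nat.dvd_prime_pow Nat.prime_two).1 (orderOf_dvd_of_pow_eq_one h1)
    exact IsPGroup.of_card (n := i) (by rw [Nat.card_zpowers, hi])
  have h3 := IsPGroup.to_sup_of_normal_right' h2 s.P_two
    (zpowers_le.2 (mem_normalizer_fintype (hconj g hg hgJ)))
  rw [← s.maxi _ h3 (sup_le (zpowers_le.2 hg) s.P_le) le_sup_right]
  exact mem_sup_left (mem_zpowers g)

/-- The odd core of `C(A)` lies in that of `N`. -/
theorem core_cent_le_coreN (e : NormalGame S A N n) :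
    (pPrimeCore 2 (centralizer (A : Set G))).map (centralizer (A : Set G)).subtype ≤ coreN N := by
  haveI : Fact (Nat.Prime 2) := ⟨Nat.prime_two⟩
  set U := centralizer (A : Set G)
  set O := (pPrimeCore 2 U).map U.subtype
  have hON : O ≤ N := (map_subtype_le _).trans (cent_le_N e)
  have hinv : ∀ g ∈ N, ∀ x ∈ O, g * x * g⁻¹ ∈ O := by
    rintro g hg _ ⟨x, hx, rfl⟩
    let φ : U ≃* U :=
      { toFun := fun y => ⟨g * y * g⁻¹, conj_mem_cent e hg y.2⟩
        invFun := fun y => ⟨g⁻¹ * y * g, by simpa using conj_mem_cent e (inv_mem hg) y.2⟩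
        left_inv := fun y => Subtype.ext (by simp [mul_assoc])
        right_inv := fun y => Subtype.ext (by simp [mul_assoc])
        map_mul' := fun a b => Subtype.ext (by simp [mul_assoc]) }
    exact ⟨φ x, (CfsgLib.PCore.map_pPrimeCore_equiv (p := 2) φ).le (mem_map_of_mem _ hx), rfl⟩
  intro x hx
  refine ⟨⟨x, hON hx⟩, CfsgLib.PCore.le_pPrimeCore (p := 2) (N := O.subgroupOf N) ?_ ?_
    (mem_subgroupOf.2 hx), rfl⟩
  · exact ⟨fun y hy g => mem_subgroupOf.2 (hinv g g.2 y (mem_subgroupOf.1 hy))⟩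
  · rw [Nat.card_congr (subgroupOfEquivOfLe hON).toEquiv,
      Subgroup.card_map_of_injective U.subtype_injective]
    exact CfsgLib.PCore.pPrimeCore_coprime

/-- `C(A) = O(N) P`. -/
theorem Syl.factor (e : NormalGame S A N n) (s : Syl A N n w h P)
    (hInv : ∀ x ∈ P, x * x = 1 → x ∈ eGrp A N w)
    (hnorm : ∀ g ∈ centralizer (A : Set G), cj g (jGrp A w) = jGrp A w → g ∈ P)
    {x : G} (hx : x ∈ centralizer (A : Set G)) : ∃ v ∈ coreN N, ∃ p ∈ P, x = v * p := by
  classical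
  haveI : Fact (Nat.Prime 2) := ⟨Nat.prime_two⟩
  have hw := s.base.line.bad
  set U := centralizer (A : Set G) with hU
  set A' := A.subgroupOf U with hA'
  haveI hAn : A'.Normal := ⟨fun a ha g => by
    rw [mem_subgroupOf] at ha ⊢
    show (g : G) * a * (g : G)⁻¹ ∈ A
    rw [conj_A ha g.2]
    exact ha⟩
  set π := QuotientGroup.mk' A' with hπ
  have hmk : ∀ {y z : U}, π y = π z ↔ (y : G)⁻¹ * z ∈ A := fun {y z} => by
    rw [show π y = π z ↔ (y : U ⧸ A') = z from Iff.rfl, QuotientGroup.eq, mem_subgroupOf]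
    simp
  have hmk1 : ∀ {y : U}, π y = 1 ↔ (y : G) ∈ A := fun {y} => by
    rw [show π y = 1 ↔ (y : U ⧸ A') = 1 from Iff.rfl, QuotientGroup.eq_one_iff, mem_subgroupOf]
  let w' : U := ⟨w, bad_mem e hw⟩
  have hiso : IsIsolatedInvolution (π w') := by
    refine ⟨orderOf_two (by rw [← map_mul, hmk1]; show w * w ∈ A; rw [bad_sq hw]; exact one_mem A)
      fun h1 => bad_notMem e hw (hmk1.1 h1), fun q hq => ?_⟩
    obtain ⟨g, rfl⟩ := QuotientGroup.mk'_surjective A' q
    rw [← map_inv, ← map_mul, ← map_mul] at hq ⊢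
    set v := g * w' * g⁻¹ with hv
    have hvG : (v : G) = g * w * (g : G)⁻¹ := rfl
    have hvb : Bad N (v : G) := hvG ▸ hw.conj (cent_le_N e g.2)
    have hc : π (w' * v) = π (v * w') := by rw [map_mul, map_mul]; exact hq.eq
    have hcA : (w : G)⁻¹ * ((v : G) * w * (v : G)⁻¹) ∈ A := by
      have h1 := hmk.1 hc
      have h2 : (v : G)⁻¹⁻¹ * ((w * v)⁻¹ * (v * w)) * (v : G)⁻¹ = (w : G)⁻¹ * (v * w * (v : G)⁻¹) :=
        by group
      rw [← h2, inv_inv]
      rw [conj_A (show (w * (v : G))⁻¹ * (v * w) ∈ A from h1) v.2]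
      exact h1
    have hvP : (v : G) ∈ P := (s.mem_iff _).2 ⟨v.2, _, hcA, (mul_inv_cancel_left _ _).symm⟩
    have hvJ : (v : G) ∈ jGrp A w :=
      ((e.mem_eGrp_iff hw).1 (hInv _ hvP (bad_sq hvb))).1
    have hgP : (g : G) ∈ P := hnorm g g.2 (normJ e s.base (cent_le_N e g.2) (hvG ▸ hvJ))
    obtain ⟨a, ha, hga⟩ := s.label hgP
    rw [hmk, hvG, hga, mul_inv_rev, mul_assoc, inv_mul_cancel, mul_one]
    exact inv_mem ha
  -- the commutator
  have hz := CfsgLib.Involutions.zstar _ _ hiso (π ⟨x, hx⟩)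
  rw [← map_inv, ← map_mul, ← map_mul, ← map_inv, ← map_mul] at hz
  set u : U := ⟨x, hx⟩ * w' * ⟨x, hx⟩⁻¹ * w'⁻¹ with hu
  set X := (pPrimeCore 2 (U ⧸ A')).comap π with hX
  have hodd1 : Odd (orderOf (π u)) :=
    (Nat.coprime_two_right.1 CfsgLib.PCore.pPrimeCore_coprime).of_dvd_nat
      ((Subgroup.orderOf_mk (π u) hz) ▸ orderOf_dvd_natCard (⟨π u, hz⟩ : pPrimeCore 2 (U ⧸ A')))
  set r := orderOf (π u) with hr
  have hur : (u : G) ^ r ∈ A := by
    have h1 : π (u ^ r) = 1 := by rw [map_pow, hr, pow_orderOf_eq_one]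
    simpa using hmk1.1 h1
  obtain ⟨l, hl⟩ := hodd1
  set uo := u ^ (r + 1) with huo
  have huoodd : Odd (orderOf uo) := by
    refine (show Odd r from ⟨l, hl⟩).of_dvd_nat (orderOf_dvd_of_pow_eq_one (Subtype.ext ?_))
    show ((uo ^ r : U) : G) = 1
    rw [huo, ← pow_mul, Subgroup.coe_pow, mul_comm, pow_mul, hl,
      show 2 * l + 1 + 1 = 2 * (l + 1) by ring, pow_mul, pow_two, ← hl, A_sq e hur, one_pow]
  -- an element of odd order of `X` lies in `O(N)`
  have hcore : ∀ y : U, y ∈ X → Odd (orderOf y) → (y : G) ∈ coreN N := by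
    have hA'X : A' ≤ X := fun a ha => by
      rw [hX, mem_comap, show π a = 1 from (QuotientGroup.eq_one_iff a).2 ha]
      exact one_mem _
    have hAcent : ∀ a ∈ A', ∀ z : U, z * a = a * z := fun a ha z =>
      Subtype.ext (A_central (mem_subgroupOf.1 ha) z.2)
    have hA2 : ∀ a ∈ A', a * a = 1 := fun a ha => Subtype.ext (A_sq e (mem_subgroupOf.1 ha))
    have hXodd : Odd (A'.subgroupOf X).index := by
      rw [← Nat.coprime_two_right]
      have h1 : A'.relIndex X = Nat.card (pPrimeCore 2 (U ⧸ A')) := by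
        rw [hX]
        have h2 := Subgroup.relIndex_comap (⊥ : Subgroup (U ⧸ A')) π X
        rw [MonoidHom.comap_bot, QuotientGroup.ker_mk', hX,
          Subgroup.map_comap_eq_self_of_surjective (QuotientGroup.mk'_surjective A'),
          Subgroup.relIndex_bot_left] at h2
        exact h2
      rw [show (A'.subgroupOf X).index = A'.relIndex X from rfl, h1]
      exact CfsgLib.PCore.pPrimeCore_coprime
    have hA'card : ∃ i, Nat.card (A'.subgroupOf X) = 2 ^ i :=
      IsPGroup.iff_card.1 fun a => ⟨1, Subtype.ext (Subtype.ext (by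
        rw [pow_one, pow_two]
        exact hA2 _ (mem_subgroupOf.1 a.2)))⟩
    haveI : (A'.subgroupOf X).Normal := ⟨fun a ha z => by
      rw [mem_subgroupOf] at ha ⊢
      show (z : U) * a * (z : U)⁻¹ ∈ A'
      rw [hAcent _ ha, mul_inv_cancel_right]
      exact ha⟩
    obtain ⟨i, hi⟩ := hA'card
    obtain ⟨C, hC⟩ := exists_right_complement'_of_coprime (N := A'.subgroupOf X)
      (by rw [hi]; exact ((Nat.coprime_two_left).2 hXodd).pow_left i)
    have hCodd : Odd (Nat.card C) := by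
      rw [← hC.symm.index_eq_card]
      exact hXodd
    have hCmem : ∀ z : X, Odd (orderOf z) → z ∈ C := by
      intro z hz
      obtain ⟨⟨a, c⟩, hac⟩ := (hC.existsUnique z).exists
      have hac' : (a : X) * c = z := hac
      have hcomm : Commute (a : X) c := Subtype.ext (hAcent _ (mem_subgroupOf.1 a.2) _).symm
      have ha2 : ((a : X)) ^ 2 = 1 := by
        rw [pow_two]; exact Subtype.ext (hA2 _ (mem_subgroupOf.1 a.2))
      obtain ⟨j, hj⟩ := exists_pow_of_odd hz 1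
      rw [← hj, ← hac', hcomm.mul_pow, pow_one, ha2, one_mul]
      exact pow_mem (pow_mem c.2 _) _
    intro y hy hyo
    refine core_cent_le_coreN e ⟨y, ?_, rfl⟩
    haveI : X.Normal := (pPrimeCore_normal 2 (U ⧸ A')).comap π
    have hcl : (C.map X.subtype).Normal := by
      refine ⟨?_⟩
      rintro _ ⟨c, hc, rfl⟩ g
      have hgc : g * (c : U) * g⁻¹ ∈ X := ‹X.Normal›.conj_mem _ c.2 g
      refine ⟨⟨_, hgc⟩, hCmem _ ?_, rfl⟩
      rw [Subgroup.orderOf_mk, CfsgLib.Involutions.orderOf_conj_eq, Subgroup.orderOf_coe]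
      exact hCodd.of_dvd_nat
        ((Subgroup.orderOf_mk c hc) ▸ orderOf_dvd_natCard (⟨c, hc⟩ : C))
    refine CfsgLib.PCore.le_pPrimeCore (p := 2) hcl ?_
      ⟨⟨y, hy⟩, hCmem _ (by rwa [Subgroup.orderOf_mk]), rfl⟩
    rw [Subgroup.card_map_of_injective X.subtype_injective]
    exact Nat.coprime_two_right.2 hCodd
  have hW : (uo : G) ∈ coreN N := hcore uo (pow_mem (show u ∈ X from hz) _) huoodd
  obtain ⟨k, hk⟩ := e.coreN_orderOf_odd hW
  set s₀ := (uo : G) ^ (k + 1) with hs₀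
  have hs₀W : s₀ ∈ coreN N := pow_mem hW _
  have hsw : s₀ * w * s₀⁻¹ = (uo : G) * w := by
    have h1 := core_inv e hw (inv_mem hs₀W)
    rw [inv_inv] at h1
    calc s₀ * w * s₀⁻¹ = s₀ * (w * s₀⁻¹ * w⁻¹) * w := by group
      _ = s₀ * s₀ * w := by rw [h1]
      _ = (uo : G) * w := by
          rw [hs₀, ← pow_add, show k + 1 + (k + 1) = orderOf (uo : G) + 1 by omega, pow_succ,
            pow_orderOf_eq_one, one_mul]
  set a₀ := (u : G) ^ r with ha₀
  have hxw : x * w * x⁻¹ = (uo : G) * w * a₀ := by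
    have hue : (u : G) = (uo : G) * a₀ := by
      rw [huo, ha₀, Subgroup.coe_pow, ← pow_add, show r + 1 + r = 1 + 2 * r by ring, pow_add,
        pow_one, mul_comm 2 r, pow_mul, pow_two, A_sq e hur, mul_one]
    calc x * w * x⁻¹ = (u : G) * w := by
          rw [hu]; show x * w * x⁻¹ = x * w * x⁻¹ * w⁻¹ * w
          group
      _ = (uo : G) * w * a₀ := by
          rw [hue, mul_assoc, ← A_central hur (bad_mem e hw), ← mul_assoc]
  have hs₀A : s₀ ∈ centralizer (A : Set G) := core_le e hs₀W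
  refine ⟨s₀, hs₀W, s₀⁻¹ * x, (s.mem_iff _).2 ⟨mul_mem (inv_mem hs₀A) hx, a₀, hur, ?_⟩,
    (mul_inv_cancel_left _ _).symm⟩
  calc s₀⁻¹ * x * w * (s₀⁻¹ * x)⁻¹ = s₀⁻¹ * (x * w * x⁻¹) * s₀ := by group
    _ = s₀⁻¹ * (s₀ * w * s₀⁻¹) * (a₀ * s₀) := by rw [hxw, ← hsw]; group
    _ = s₀⁻¹ * (s₀ * w * s₀⁻¹) * (s₀ * a₀) := by rw [A_central hur hs₀A]
    _ = _ := by group

end CfsgLib.ThreeFree.UStr
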