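import Cfsg.Agent.Lib.ThreeFree.UStructPartner

/-!
Elements of odd order normalising `J` and fixing the line of `w` produce involutions in every
translation class; consequences of an involution of `P` outside `E`.
-/

set_option autoImplicit false
set_option linter.style.haveILetI false
set_option linter.unusedSectionVars false

namespace CfsgLib.ThreeFree.UStr

open Subgroup

universe u

variable {G : Type u} [Group G] [Finite G] {S : Sylow 2 G} {A N : Subgroup G} {n : ℕ}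
  {w h : G} {P : Subgroup G}

section Trans

variable (e : NormalGame S A N n) (t : Trans A N n w h P)
include e t

/-- `P` centralizes `J / E`. -/
theorem Trans.conj_mod_E {x j : G} (hx : x ∈ P) (hj : j ∈ jGrp A w) :
    j⁻¹ * (x * j * x⁻¹) ∈ eGrp A N w := by
  obtain ⟨u, hu, c, hc, rfl⟩ := t.syl.base.line.J_decomp j hj
  obtain ⟨a, ha, c₁, hc₁, huc⟩ := t.conj_T e hx hu
  have h1 := t.conj_K e hx hc
  have hcE := t.K_le_E e hc
  rw [show x * (u * c) * x⁻¹ = x * u * x⁻¹ * (x * c * x⁻¹) by group, huc,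
    show (u * c)⁻¹ * (u * a * c₁ * (x * c * x⁻¹)) =
      c⁻¹ * a * c₁ * c * (c⁻¹ * (x * c * x⁻¹)) by group]
  exact mul_mem (mul_mem (mul_mem (mul_mem (inv_mem hcE) (mem_sup_left ha)) (t.K_le_E e hc₁)) hcE)
    (mem_sup_left h1)

/-- If the squares of `P` lie in `A`, then `P` centralizes `J / A`. -/
theorem Trans.comm_J (hsq : ∀ x ∈ P, x * x ∈ A) {x j : G} (hx : x ∈ P) (hj : j ∈ jGrp A w) :
    j⁻¹ * (x * j * x⁻¹) ∈ A := by
  have hjP : j ∈ P := t.syl.J_le hj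
  have hxx := hsq x hx
  have h2 : x * j * x⁻¹ * j ∈ A := by
    have h3 := hsq _ (mul_mem hx hjP)
    have h4 : x * j * (x * j) = x * j * x⁻¹ * j * (x * x) := by
      rw [mul_assoc (x * j * x⁻¹), A_central hxx hj.1]; group
    rw [h4] at h3
    have h5 := mul_mem h3 (inv_mem hxx)
    rwa [mul_inv_cancel_right] at h5
  rw [show j⁻¹ * (x * j * x⁻¹) = j⁻¹ * (x * j * x⁻¹ * j) * j⁻¹ by group,
    A_central h2 (inv_mem hj.1), mul_assoc, ← mul_inv_rev]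
  exact mul_mem h2 (inv_mem (hsq j hjP))

end Trans

section Eta

variable (e : NormalGame S A N n) (t : Trans A N n w h P) {η : G}
include e t

theorem Trans.eta_label (hη : η ∈ centralizer (A : Set G))
    (hJ : ∀ x ∈ jGrp A w, η * x * η⁻¹ ∈ jGrp A w) {m : ℕ}
    (hφ : ∀ y ∈ A, Maps A N w η y (h ^ m * y * (h ^ m)⁻¹))
    {x a : G} (hx : x ∈ P) (ha : a ∈ A) (hxa : x * w * x⁻¹ = w * a) :
    η * x * η⁻¹ ∈ P ∧ η * x * η⁻¹ * w * (η * x * η⁻¹)⁻¹ = w * (h ^ m * a * (h ^ m)⁻¹) := by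
  have hw := t.syl.base.line.bad
  have hP := t.conj_P e (cent_le_N e hη) (normJ e t.syl.base (cent_le_N e hη)
    (hJ w (mem_jGrp_self e hw))) hx
  obtain ⟨b, hb, hyb⟩ := t.syl.label hP
  have h1 : Maps A N w η 1 1 := by simpa using hφ 1 (one_mem A)
  have h2 : Maps A N w x 1 a := ⟨one_mem A, ha, by rw [mul_one, hxa]⟩
  have h3 : Maps A N w (η * (x * η⁻¹)) 1 (h ^ m * a * (h ^ m)⁻¹) :=
    (h1.symm.comp h2).comp (hφ a ha)
  have h4 : Maps A N w (η * (x * η⁻¹)) 1 b :=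
    ⟨one_mem A, hb, by rw [mul_one, ← mul_assoc, hyb]⟩
  rw [← Maps.unique e hw h4 h3]
  exact ⟨hP, hyb⟩

theorem Trans.eta_K (hL : η ∈ centralizer (lineGrp A N w : Set G))
    (hJ : ∀ x ∈ jGrp A w, η * x * η⁻¹ ∈ jGrp A w) {c : G} (hc : c ∈ kerK A N w) :
    η * c * η⁻¹ ∈ kerK A N w :=
  ⟨(hJ c (t.syl.base.line.K_le_J hc)).2,
    mul_mem (mul_mem hL hc.2) ((centralizer (lineGrp A N w : Set G)).inv_mem hL)⟩

omit e t in
theorem eta_T (hL : η ∈ centralizer (lineGrp A N w : Set G)) {u : G} (hu : u ∈ tGrp A N w) :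
    η * u * η⁻¹ = u := by
  rw [← mem_centralizer_iff.1 hL u hu.1, mul_inv_cancel_right]

variable (hη : η ∈ centralizer (A : Set G)) (hodd : Odd (orderOf η))
  (hJ : ∀ x ∈ jGrp A w, η * x * η⁻¹ ∈ jGrp A w) (hL : η ∈ centralizer (lineGrp A N w : Set G))
  (hne : η ≠ 1) {m : ℕ} (hm : h ^ m ≠ 1)
  (hφ : ∀ y ∈ A, Maps A N w η y (h ^ m * y * (h ^ m)⁻¹))
include hη hJ hL hm hφ

/-- All squares of `P` lie in `A`. -/
theorem Trans.eta_sq {x : G} (hx : x ∈ P) : x * x ∈ A := by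
  have s := t.syl
  have d := s.base.line
  have hw := d.bad
  obtain ⟨a, ha, hxa⟩ := s.label hx
  by_cases ha1 : a = 1
  · exact t.J_sq e (s.mem_J e hx (by rw [hxa, ha1, mul_one]))
  have hxxJ : x * x ∈ jGrp A w := s.mem_J e (mul_mem hx hx)
    (by rw [s.label_mul hx hxa ha hxa, A_sq e ha, mul_one])
  obtain ⟨u, hu, c, hc, hxx⟩ := d.J_decomp _ hxxJ
  obtain ⟨hyP, hy⟩ := s.h_conj e hx ha hxa m
  obtain ⟨hy'P, hy'⟩ := t.eta_label e hη hJ hφ hx ha hxa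
  set y := h ^ m * x * (h ^ m)⁻¹ with hydef
  set y' := η * x * η⁻¹ with hy'def
  have hj := s.same_label e hyP hy'P hy hy'
  set j := y⁻¹ * y'
  have hε : j⁻¹ * (y⁻¹ * j * y⁻¹⁻¹) ∈ eGrp A N w := t.conj_mod_E e (inv_mem hyP) hj
  have hrel : (y * y)⁻¹ * (y' * y') ∈ eGrp A N w := by
    have hjj : j * j ∈ eGrp A N w := mem_sup_left (t.J_sq e hj)
    have h1 : (y * y)⁻¹ * (y' * y') = j * (j⁻¹ * (y⁻¹ * j * y⁻¹⁻¹)) * j := by
      simp only [j]; group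
    rw [h1, mul_assoc j, e.eGrp_central hw hε hj, ← mul_assoc]
    exact mul_mem hjj hε
  set c' := η * c * η⁻¹
  have hc' : c' ∈ kerK A N w := t.eta_K e hL hJ hc
  have e1 : y' * y' = u * c' := by
    rw [hy'def, show η * x * η⁻¹ * (η * x * η⁻¹) = η * (x * x) * η⁻¹ by group, hxx,
      show η * (u * c) * η⁻¹ = η * u * η⁻¹ * (η * c * η⁻¹) by group, eta_T hL hu]
  have e2 : y * y = h ^ m * u * (h ^ m)⁻¹ * c := by
    rw [hydef, show h ^ m * x * (h ^ m)⁻¹ * (h ^ m * x * (h ^ m)⁻¹) =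
        h ^ m * (x * x) * (h ^ m)⁻¹ by group, hxx,
      show h ^ m * (u * c) * (h ^ m)⁻¹ = h ^ m * u * (h ^ m)⁻¹ * (h ^ m * c * (h ^ m)⁻¹) by group,
      h_comm_K d m hc, mul_inv_cancel_right]
  rw [e1, e2] at hrel
  set u' := h ^ m * u * (h ^ m)⁻¹
  have hu' : u' ∈ tGrp A N w := h_conj_T d m hu
  have hr : u'⁻¹ * u ∈ eGrp A N w := by
    have := mul_mem (mul_mem (t.K_le_E e hc) hrel) (inv_mem (t.K_le_E e hc'))
    simpa [mul_assoc] using this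
  have hrA : u'⁻¹ * u ∈ A :=
    d.T_invol _ (mul_mem (inv_mem hu') hu) ((e.mem_eGrp_iff hw).1 hr).2
  obtain ⟨a₀, ha₀, c₀, hc₀, hu₀⟩ := cent_h e d hm (d.T_le_J hu) (by
    show u⁻¹ * u' ∈ A
    simpa using inv_mem hrA)
  have huA : u ∈ A := by
    obtain ⟨rfl, -⟩ := tk_unique e hw hu (A_le_T d e ha₀) (one_mem _) hc₀
      (show u * 1 = a₀ * c₀ by rw [mul_one, hu₀])
    exact ha₀
  have hfix : c⁻¹ * (x * c * x⁻¹) = 1 := by
    have hcx : c = u⁻¹ * (x * x) := by rw [hxx, inv_mul_cancel_left]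
    rw [inv_mul_eq_one]
    calc c = u⁻¹ * (x * x) := hcx
      _ = x * u⁻¹ * x⁻¹ * (x * x) := by rw [conj_A (inv_mem huA) (s.P_le hx)]
      _ = x * (u⁻¹ * (x * x)) * x⁻¹ := by group
      _ = x * c * x⁻¹ := by rw [← hcx]
  have hc1 : c = 1 := by
    by_contra hc1
    exact t.tau_ne_one e ha hxa ha1 hc hc1 hfix
  rw [hxx, hc1, mul_one]
  exact huA

include hodd hne

/-- Every translation is that of an involution moved by `η` like by the torus. -/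
theorem Trans.exists_fixed {a : G} (ha : a ∈ A) (ha1 : a ≠ 1) :
    ∃ x ∈ P, x * w * x⁻¹ = w * a ∧ x * x = 1 ∧
      (h ^ m * x * (h ^ m)⁻¹)⁻¹ * (η * x * η⁻¹) ∈ A := by
  classical
  have s := t.syl
  have d := s.base.line
  have hw := d.bad
  set p := h ^ m with hp
  have hpN : p ∈ N := pow_mem d.h_mem_N m
  set ψ : G →* G := (MulAut.conj (p⁻¹ * η)).toMonoidHom with hψdef
  have hψ : ∀ z, ψ z = p⁻¹ * (η * z * η⁻¹) * p := fun z => by
    simp [hψdef, mul_assoc]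
  have hpw : p * w = w * p := h_comm_w d m
  have hpJ : cj p⁻¹ (jGrp A w) = jGrp A w := cj_inv_eq (normJ e s.base hpN
    (by rw [hpw, mul_inv_cancel_right]; exact mem_jGrp_self e hw))
  have hψJ : ∀ j ∈ jGrp A w, ψ j ∈ jGrp A w := fun j hj => by
    rw [hψ]
    have := cj_mem (m := p⁻¹).2 (hJ j hj)
    rwa [hpJ, inv_inv] at this
  -- the class of `A` in `J`
  haveI : (A.subgroupOf (jGrp A w)).Normal := ⟨fun z hz j => by
    rw [mem_subgroupOf] at hz ⊢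
    show (j : G) * z * (j : G)⁻¹ ∈ A
    rw [conj_A hz j.2.1]
    exact hz⟩
  let π := QuotientGroup.mk' (A.subgroupOf (jGrp A w))
  have hπ : ∀ {i j : jGrp A w}, π i = π j ↔ (i : G)⁻¹ * j ∈ A := fun {i j} => by
    rw [show π i = π j ↔ (i : jGrp A w ⧸ A.subgroupOf (jGrp A w)) = j from Iff.rfl,
      QuotientGroup.eq, mem_subgroupOf]
    simp
  let F : jGrp A w ⧸ A.subgroupOf (jGrp A w) → jGrp A w ⧸ A.subgroupOf (jGrp A w) := fun q =>
    π (q.out⁻¹ * ⟨ψ q.out, hψJ _ q.out.2⟩)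
  have hcomm : ∀ i j : jGrp A w, π i * π j = π j * π i := fun i j => by
    rw [← map_mul, ← map_mul, hπ]
    simp only [Subgroup.coe_mul]
    have := t.J_comm e (inv_mem j.2) (inv_mem i.2)
    simpa [mul_assoc] using this
  have hker : ∀ r ∈ jGrp A w, r⁻¹ * ψ r ∈ A → r ∈ A := by
    intro r hr hrA
    obtain ⟨u, hu, c, hc, rfl⟩ := d.J_decomp r hr
    set u' := p⁻¹ * u * p
    set c' := η * c * η⁻¹ with hc'def
    have hc' : c' ∈ kerK A N w := t.eta_K e hL hJ hc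
    have hu' : u' ∈ tGrp A N w := by
      have := (mem_normalizer_iff.1 (inv_mem (pow_mem d.T_conj_h m)) u).1 hu
      rwa [inv_inv] at this
    have e1 : ψ (u * c) = u' * c' := by
      rw [hψ, show η * (u * c) * η⁻¹ = η * u * η⁻¹ * c' by rw [hc'def]; group, eta_T hL hu,
        show p⁻¹ * (u * c') * p = u' * (p⁻¹ * (c' * p)) by simp only [u']; group,
        ← h_comm_K d m hc', inv_mul_cancel_left]
    set z := (u * c)⁻¹ * ψ (u * c)
    have e2 : u * z * c = u' * c' := by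
      rw [mul_assoc, ← A_central hrA (d.K_le_J hc).1, ← mul_assoc, ← e1]
      exact mul_inv_cancel_left _ _
    obtain ⟨h2, h3⟩ := tk_unique e hw (mul_mem hu (A_le_T d e hrA)) hu' hc hc' e2
    have hc1 : c = 1 := by
      by_contra hc1
      exact hne (odd_cent_eq_one e (e.kerK_invol_bad hw hc (t.K_sq e hc) hc1).1 hη hodd
        (mul_inv_eq_iff_eq_mul.1 h3.symm))
    have h4 : u⁻¹ * (p * u * p⁻¹) = (p * z * p⁻¹)⁻¹ := by
      have h5 : p * (u * z) * p⁻¹ = u := by rw [h2]; simp only [u']; group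
      calc u⁻¹ * (p * u * p⁻¹) = (p * (u * z) * p⁻¹)⁻¹ * (p * u * p⁻¹) := by rw [h5]
        _ = _ := by group
    obtain ⟨a₀, ha₀, c₀, hc₀, hu₀⟩ := cent_h e d hm (d.T_le_J hu)
      (h4 ▸ inv_mem (e.conj_mem_A hpN hrA))
    obtain ⟨rfl, -⟩ := tk_unique e hw hu (A_le_T d e ha₀) (one_mem _) hc₀
      (show u * 1 = a₀ * c₀ by rw [mul_one, hu₀])
    rw [hc1, mul_one]
    exact ha₀
  have hFinj : Function.Injective F := by
    intro q q' hqq
    rw [← Quotient.out_eq q, ← Quotient.out_eq q']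
    show π q.out = π q'.out
    rw [hπ]
    refine hker _ (mul_mem (inv_mem q.out.2) q'.out.2) ?_
    set i := q.out with hi
    set j := q'.out with hj
    set ψi : jGrp A w := ⟨ψ i, hψJ _ i.2⟩
    set ψj : jGrp A w := ⟨ψ j, hψJ _ j.2⟩
    have h1 : π i⁻¹ * π ψi = π j⁻¹ * π ψj := by rw [← map_mul, ← map_mul]; exact hqq
    have h2 : π ((i⁻¹ * j)⁻¹ * (ψi⁻¹ * ψj)) = 1 := by
      have h3 : π j * (π i⁻¹ * π ψi) = π ψj := by rw [h1, map_inv, mul_inv_cancel_left]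
      rw [map_mul, map_inv, map_mul, map_mul, map_inv, map_inv, ← h3, mul_inv_rev, inv_inv]
      have hc1 := hcomm j i⁻¹
      rw [map_inv] at hc1
      have hc2 := hcomm i ψi⁻¹
      rw [map_inv] at hc2
      calc (π j)⁻¹ * π i * ((π ψi)⁻¹ * (π j * (π i⁻¹ * π ψi)))
          = (π j)⁻¹ * (π i * (π ψi)⁻¹) * (π j * (π i)⁻¹ * π ψi) := by rw [map_inv]; group
        _ = (π j)⁻¹ * ((π ψi)⁻¹ * π i) * ((π i)⁻¹ * π j * π ψi) := by rw [hc2, hc1]
        _ = (π j)⁻¹ * ((π ψi)⁻¹ * (π j * π ψi)) := by group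
        _ = (π j)⁻¹ * ((π ψi)⁻¹ * (π ψi * π j)) := by rw [hcomm j ψi]
        _ = 1 := by group
    have h4 : ((i⁻¹ * j)⁻¹ * (ψi⁻¹ * ψj) : jGrp A w) ∈ A.subgroupOf (jGrp A w) :=
      (QuotientGroup.eq_one_iff _).1 h2
    have h5 : ψ ((i : G)⁻¹ * j) = (ψ i)⁻¹ * ψ j := by rw [map_mul, map_inv]
    rw [h5]
    simpa [mem_subgroupOf, ψi, ψj] using h4
  obtain ⟨x₀, hx₀, hx₀a⟩ := t.surj a ha
  have hψx : ψ x₀ ∈ P ∧ ψ x₀ * w * (ψ x₀)⁻¹ = w * a := by
    obtain ⟨hq, hqa⟩ := t.eta_label e hη hJ hφ hx₀ ha hx₀a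
    rw [hψ]
    have hpi : p⁻¹ ∈ N := inv_mem hpN
    have h1 := t.conj_P e hpi hpJ hq
    rw [inv_inv] at h1
    refine ⟨h1, ?_⟩
    have hc1 : p⁻¹ * w = w * p⁻¹ := (show Commute p w from hpw).inv_left
    calc p⁻¹ * (η * x₀ * η⁻¹) * p * w * (p⁻¹ * (η * x₀ * η⁻¹) * p)⁻¹
        = p⁻¹ * (η * x₀ * η⁻¹) * (p * w) * p⁻¹ * (η * x₀ * η⁻¹)⁻¹ * p := by group
      _ = p⁻¹ * (η * x₀ * η⁻¹ * w * (η * x₀ * η⁻¹)⁻¹) * p := by rw [hpw]; group
      _ = p⁻¹ * w * (p * a * p⁻¹) * p := by rw [hqa, ← hp, mul_assoc p⁻¹ w]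
      _ = w * a := by rw [hc1]; group
  have hd₀ := s.same_label e hx₀ hψx.1 hx₀a hψx.2
  obtain ⟨q, hq⟩ := Finite.surjective_of_injective hFinj (π ⟨_, hd₀⟩)
  set j₀ := q.out
  have hjP : (j₀ : G) ∈ P := s.J_le j₀.2
  have hxa : x₀ * j₀ * w * (x₀ * j₀)⁻¹ = w * a := by
    have h1 := s.label_mul (b := 1) hx₀ hx₀a (one_mem A) (y := (j₀ : G))
      (by rw [mem_cent.1 j₀.2.2, mul_inv_cancel_right, mul_one])
    rwa [mul_one] at h1
  have hxP : x₀ * j₀ ∈ P := mul_mem hx₀ hjP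
  have hfixA : (x₀ * j₀)⁻¹ * ψ (x₀ * j₀) ∈ A := by
    set ψ₀ : jGrp A w := ⟨ψ (j₀ : G), hψJ _ j₀.2⟩
    set d₀ : jGrp A w := ⟨_, hd₀⟩
    have h1 : π (j₀⁻¹ * d₀ * ψ₀) = 1 := by
      have hsq : π d₀ * π d₀ = 1 := by
        rw [← map_mul]
        exact (QuotientGroup.eq_one_iff _).2 (mem_subgroupOf.2 (t.J_sq e hd₀))
      have h2 : π j₀⁻¹ * π ψ₀ = π d₀ := by rw [← map_mul]; exact hq
      rw [map_mul, map_mul, hcomm, mul_assoc, h2, hsq]
    have h3 := mem_subgroupOf.1 ((QuotientGroup.eq_one_iff _).1 h1)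
    rw [map_mul ψ]
    simpa [ψ₀, d₀, mul_assoc] using h3
  set x := x₀ * j₀
  set z := x⁻¹ * ψ x
  have hpz : p * z * p⁻¹ ∈ A := e.conj_mem_A hpN hfixA
  have hrel : (p * x * p⁻¹)⁻¹ * (η * x * η⁻¹) = p * z * p⁻¹ := by
    simp only [z, hψ]
    group
  refine ⟨x, hxP, hxa, ?_, hrel ▸ hpz⟩
  set b := p * z * p⁻¹
  have hxx : x * x ∈ A := t.eta_sq e hη hJ hL hm hφ hxP
  have e1 : η * x * η⁻¹ = p * x * p⁻¹ * b := by rw [← hrel, mul_inv_cancel_left]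
  have hyP : p * x * p⁻¹ ∈ P := (s.h_conj e hxP ha hxa m).1
  have e2 : η * (x * x) * η⁻¹ = p * (x * x) * p⁻¹ := by
    rw [show η * (x * x) * η⁻¹ = η * x * η⁻¹ * (η * x * η⁻¹) by group, e1]
    calc p * x * p⁻¹ * b * (p * x * p⁻¹ * b)
        = p * x * p⁻¹ * (b * (p * x * p⁻¹)) * b := by group
      _ = p * x * p⁻¹ * (p * x * p⁻¹ * b) * b := by rw [A_central hpz (s.P_le hyP)]
      _ = p * (x * x) * p⁻¹ * (b * b) := by group
      _ = _ := by rw [A_sq e hpz, mul_one]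
  rw [conj_A hxx hη] at e2
  exact d.h_fpf m hm _ hxx (mul_inv_eq_iff_eq_mul.1 e2.symm)

end Eta

section Invol

variable (e : NormalGame S A N n) (t : Trans A N n w h P) {p : G}
  (hp : p ∈ P) (hp2 : p * p = 1) (hpE : p ∉ eGrp A N w)
include e t hp hp2 hpE

/-- Every translation class has an involution. -/
theorem Trans.exists_invol {a : G} (ha : a ∈ A) (ha1 : a ≠ 1) :
    ∃ x ∈ P, x * w * x⁻¹ = w * a ∧ x * x = 1 := by
  have s := t.syl
  have d := s.base.line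
  obtain ⟨b, hb, hpb⟩ := s.label hp
  have hb1 : b ≠ 1 := fun h0 => hpE ((e.mem_eGrp_iff d.bad).2
    ⟨s.mem_J e hp (by rw [hpb, h0, mul_one]), hp2⟩)
  obtain ⟨k, hk⟩ := d.h_trans b hb hb1 a ha ha1
  obtain ⟨h1, h2⟩ := s.h_conj e hp hb hpb k
  refine ⟨_, h1, hk ▸ h2, ?_⟩
  rw [show h ^ k * p * (h ^ k)⁻¹ * (h ^ k * p * (h ^ k)⁻¹) = h ^ k * (p * p) * (h ^ k)⁻¹ by group,
    hp2, mul_one, mul_inv_cancel]

omit hp hp2 hpE in
theorem Trans.invol_conj_T {x a : G} (hx : x ∈ P) (ha : a ∈ A) (ha1 : a ≠ 1)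
    (hxa : x * w * x⁻¹ = w * a) (hx2 : x * x = 1) {u : G} (hu : u ∈ tGrp A N w) :
    u⁻¹ * (x * u * x⁻¹) ∈ A := by
  have s := t.syl
  obtain ⟨b, hb, c, hc, huc⟩ := t.conj_T e hx hu
  have h2 : u = u * c * (x * c * x⁻¹) := by
    calc u = (x * x) * u * (x * x)⁻¹ := by rw [hx2]; group
      _ = x * (x * u * x⁻¹) * x⁻¹ := by group
      _ = x * (u * b * c) * x⁻¹ := by rw [huc]
      _ = x * u * x⁻¹ * (x * b * x⁻¹) * (x * c * x⁻¹) := by group
      _ = u * b * (c * b) * (x * c * x⁻¹) := by rw [conj_A hb (s.P_le hx), huc]; group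
      _ = u * (b * b) * c * (x * c * x⁻¹) := by
          rw [A_central hb (s.base.line.K_le_J hc).1]; group
      _ = _ := by rw [A_sq e hb, mul_one]
  have h3 : c⁻¹ * (x * c * x⁻¹) = 1 := by
    rw [inv_eq_of_mul_eq_one_right (t.K_sq e hc)]
    rw [mul_assoc] at h2
    exact mul_eq_left.1 h2.symm
  have hc1 : c = 1 := by
    by_contra hc1
    exact t.tau_ne_one e ha hxa ha1 hc hc1 h3
  rw [huc, hc1, mul_one, inv_mul_cancel_left]
  exact hb

/-- All squares of `P` lie in `A`. -/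
theorem Trans.sq_mem_A {x : G} (hx : x ∈ P) : x * x ∈ A := by
  have s := t.syl
  obtain ⟨a, ha, hxa⟩ := s.label hx
  by_cases ha1 : a = 1
  · exact t.J_sq e (s.mem_J e hx (by rw [hxa, ha1, mul_one]))
  obtain ⟨y, hy, hya, hy2⟩ := t.exists_invol e hp hp2 hpE ha ha1
  have hj := s.same_label e hy hx hya hxa
  set j := y⁻¹ * x
  obtain ⟨u, hu, c, hc, hjd⟩ := s.base.line.J_decomp j hj
  have hu' := t.invol_conj_T e hy ha ha1 hya hy2 hu
  have hc' := t.conj_K e hy hc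
  have hyi : y⁻¹ = y := inv_eq_of_mul_eq_one_right hy2
  set a₁ := u⁻¹ * (y * u * y⁻¹)
  set a₂ := c⁻¹ * (y * c * y⁻¹)
  have h1 : y * j * y⁻¹ = j * (a₁ * a₂) := by
    calc y * j * y⁻¹ = (u * a₁) * (c * a₂) := by rw [hjd]; simp only [a₁, a₂]; group
      _ = u * (a₁ * c) * a₂ := by group
      _ = j * (a₁ * a₂) := by
          rw [← A_central hu' (s.base.line.K_le_J hc).1, hjd]; group
  have h2 : x * x = j * (a₁ * a₂) * j := by
    rw [← h1, hyi, show x = y * j by simp only [j, mul_inv_cancel_left]]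
    group
  have h3 : a₁ * a₂ ∈ A := mul_mem hu' hc'
  rw [h2, mul_assoc, ← A_central h3 hj.1, ← mul_assoc]
  exact mul_mem (t.J_sq e hj) h3

end Invol

end CfsgLib.ThreeFree.UStr
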