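import Cfsg.Agent.Lib.ThreeFree.UStructNP
import Cfsg.Agent.Lib.ThreeFree.UStructShift
import Cfsg.Agent.Lib.ThreeFree.UStructFusion

/-!
The shape of `C(A)`, given that the Sylow 2-subgroup of `C(A)` has no involution outside `E`.
-/

set_option autoImplicit false
set_option linter.style.haveILetI false
set_option linter.unusedSectionVars false

namespace CfsgLib.ThreeFree.UStr

open Subgroup

universe u

variable {G : Type u} [Group G] [Finite G] {S : Sylow 2 G} {A N : Subgroup G} {n : ℕ}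
  {w h : G} {P : Subgroup G}

/-- The same Sylow 2-subgroup belongs to the lines of the `w y`. -/
theorem Trans.rebase (e : NormalGame S A N n) (t : Trans A N n w h P) {y : G} (hy : y ∈ A) :
    ∃ h', Trans A N n (w * y) h' P ∧ jGrp A (w * y) = jGrp A w ∧
      eGrp A N (w * y) = eGrp A N w := by
  have s := t.syl
  obtain ⟨h', B', hJ, hE⟩ := UStr.rebase e s.base (bad_mul e s.base.line.bad hy)
    (mul_mem (mem_jGrp_self e s.base.line.bad) (A_le_jGrp' e s.base.line.bad hy))
  have hsh : ∀ x ∈ centralizer (A : Set G), ∀ a ∈ A,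
      (x * (w * y) * x⁻¹ = w * y * a ↔ x * w * x⁻¹ = w * a) := by
    intro x hx a ha
    rw [show x * (w * y) * x⁻¹ = x * w * x⁻¹ * (x * y * x⁻¹) by group, conj_A hy hx, mul_assoc w y a,
      e.setup.comm hy ha, ← mul_assoc, mul_left_inj]
  refine ⟨h', ⟨⟨B', s.P_two, s.P_le, s.maxi, fun x => (s.mem_iff x).trans ?_⟩, fun a ha => ?_⟩,
    hJ, hE⟩
  · constructor
    · rintro ⟨hx, a, ha, he⟩
      exact ⟨hx, a, ha, (hsh x hx a ha).2 he⟩
    · rintro ⟨hx, a, ha, he⟩
      exact ⟨hx, a, ha, (hsh x hx a ha).1 he⟩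
  · obtain ⟨x, hx, he⟩ := t.surj a ha
    exact ⟨x, hx, (hsh x (s.P_le hx) a ha).2 he⟩

/-- No element of odd order normalizes `J` if the involutions of `P` lie in `E`. -/
theorem Trans.odd_trivial (e : NormalGame S A N n) (t : Trans A N n w h P)
    (hInv : ∀ x ∈ P, x * x = 1 → x ∈ eGrp A N w) {η : G} (hη : η ∈ centralizer (A : Set G))
    (hodd : Odd (orderOf η)) (hJ : ∀ x ∈ jGrp A w, η * x * η⁻¹ ∈ jGrp A w) : η = 1 := by
  by_contra hne
  obtain ⟨y, hy, hyy⟩ := odd_fixed e t.syl.base hη hodd hJ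
  obtain ⟨h', t', hJ', hE'⟩ := t.rebase e hy
  rw [← hJ'] at hJ
  have h1 : Maps A N (w * y) η 1 1 := ⟨one_mem A, one_mem A, by rw [mul_one]; exact hyy.2.2⟩
  obtain ⟨m, hm, hφ⟩ := odd_linear e t'.syl.base hη hodd hJ hne h1
  have hL := odd_cent_of_fix e t'.syl.base.line hη hodd h1
  obtain ⟨a, ha, ha1⟩ := e.exists_ne_one ((1 : G) : G ⧸ N)
  rw [e.ptA_base] at ha
  obtain ⟨x, hx, hxa, hx2, -⟩ := t'.exists_fixed e hη hodd hJ hL hne hm hφ ha ha1
  have hxE : x ∈ eGrp A N (w * y) := hE'.symm ▸ hInv x hx hx2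
  have hxJ := ((e.mem_eGrp_iff t'.syl.base.line.bad).1 hxE).1
  rw [mem_cent.1 hxJ.2, mul_inv_cancel_right] at hxa
  exact ha1 (mul_eq_left.1 hxa.symm)

theorem uShape_of (e : NormalGame S A N n) (M : MaxLine A N n w h) (s : Syl A N n w h P)
    (hcases : P = jGrp A w ∨ P = t1Grp A w)
    (hInv : ∀ x ∈ P, x * x = 1 → x ∈ eGrp A N w)
    (hnorm : ∀ g ∈ centralizer (A : Set G), cj g (jGrp A w) = jGrp A w → g ∈ P) :
    UShape A N n w h P := by
  haveI : Fact (Nat.Prime 2) := ⟨Nat.prime_two⟩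
  have hfac := fun x (hx : x ∈ centralizer (A : Set G)) => s.factor e hInv hnorm hx
  have hw := s.base.line.bad
  refine
    { maxLine := M
      core_le := core_le e
      core_inv := fun v hv x hx => core_inv e hv hx
      core_comm := fun x hx y hy => core_comm e hx hy
      core_or := core_or e
      P_two := s.P_two
      P_le := s.P_le
      J_le := s.J_le
      P_cases := hcases
      P_invol := hInv
      factor := hfac
      frattini := fun g hg => ?_
      bad_conj := fun v hv => ?_ }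
  · obtain ⟨u, hu, huP⟩ := s.exists_conj (Q := cj g P) (s.P_two.map _)
      (cj_le_of_forall fun x hx => conj_mem_cent e hg (s.P_le hx))
    obtain ⟨v, hv, p, hp, rfl⟩ := hfac u hu
    have hvN : v ∈ N := e.coreN_le_N hv
    have hpN : p ∈ N := cent_le_N e (s.P_le hp)
    set v' := p⁻¹ * v⁻¹ * p with hv'
    have hv'W : v' ∈ coreN N := by
      simpa [hv'] using e.coreN_conj (inv_mem hpN) (inv_mem hv)
    set m := v'⁻¹ * g with hm
    have hmP : ∀ x ∈ P, m * x * m⁻¹ ∈ P := by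
      intro x hx
      have h1 := huP _ (cj_mem.2 hx)
      rw [show v * p * (g * x * g⁻¹) * (v * p)⁻¹ = p * (m * x * m⁻¹) * p⁻¹ by
        simp only [hm, hv']; group] at h1
      simpa [mul_assoc] using mul_mem (mul_mem (inv_mem hp) h1) hp
    refine ⟨v', hv'W, m, mul_mem (inv_mem (e.coreN_le_N hv'W)) hg,
      (mul_inv_cancel_left _ _).symm, hmP, fun x hx => ?_⟩
    obtain ⟨hxJ, hx2⟩ := (e.mem_eGrp_iff hw).1 hx
    refine hInv _ (hmP x (s.J_le hxJ)) ?_
    rw [show m * x * m⁻¹ * (m * x * m⁻¹) = m * (x * x) * m⁻¹ by group, hx2, mul_one, mul_inv_cancel]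
  · have hvA := bad_mem e hv
    obtain ⟨u, hu, huP⟩ := s.exists_conj (Setup.isPGroup_zpowers_of_orderOf hv.two)
      (zpowers_le.2 hvA)
    obtain ⟨v', hv', p, hp, rfl⟩ := hfac u hu
    have hpN : p ∈ N := cent_le_N e (s.P_le hp)
    set x := p⁻¹ * v' * p with hx
    have hxW : x ∈ coreN N := by simpa [hx] using e.coreN_conj (inv_mem hpN) hv'
    refine ⟨x, hxW, hInv _ ?_ ?_⟩
    · have h1 := huP v (mem_zpowers v)
      rw [show x * v * x⁻¹ = p⁻¹ * (v' * p * v * (v' * p)⁻¹) * p by rw [hx]; group]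
      exact mul_mem (mul_mem (inv_mem hp) h1) hp
    · rw [show x * v * x⁻¹ * (x * v * x⁻¹) = x * (v * v) * x⁻¹ by group, bad_sq hv, mul_one,
        mul_inv_cancel]

/-- The shape of `C(A)`, given that case II does not occur. -/
theorem exists_uShape_of (e : NormalGame S A N n)
    (hII : ∀ {w h : G} {P : Subgroup G}, Trans A N n w h P →
      ∀ x ∈ P, x * x = 1 → x ∈ eGrp A N w) :
    ∃ w h P, UShape A N n w h P := by
  haveI : Fact (Nat.Prime 2) := ⟨Nat.prime_two⟩
  obtain ⟨w, h, M⟩ := e.exists_maxLine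
  have d := M.line
  have hw := d.bad
  have B : Base A N n w h := ⟨d, fun v hv => by
    rw [(e.jGrp_card_two hv).2, d.J_card]
    exact Nat.mul_le_mul_left _ (M.max v hv)⟩
  rcases M.sylow with hmax | ⟨h2, -, hsurj, hmax⟩
  · have hsmem : ∀ x, x ∈ jGrp A w ↔ x ∈ centralizer (A : Set G) ∧ Shift A w x := by
      refine fun x => ⟨fun hx =>
        ⟨hx.1, 1, one_mem A, by rw [mul_one, mem_cent.1 hx.2, mul_inv_cancel_right]⟩, ?_⟩
      rintro ⟨hx, a, ha, hxa⟩
      have hxx : x * x ∈ jGrp A w := ⟨mul_mem hx hx, mem_cent.2 (mul_inv_eq_iff_eq_mul.1 (by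
        calc x * x * w * (x * x)⁻¹ = x * (x * w * x⁻¹) * x⁻¹ := by group
          _ = x * (w * a) * x⁻¹ := by rw [hxa]
          _ = x * w * x⁻¹ * (x * a * x⁻¹) := by group
          _ = w := by rw [hxa, conj_A ha hx, mul_assoc, A_sq e ha, mul_one]))⟩
      obtain ⟨j, hj⟩ := d.J_two ⟨_, hxx⟩
      have h1 : x ^ 2 ^ (j + 1) = 1 := by
        rw [pow_succ', pow_mul, pow_two]
        exact congrArg Subtype.val hj
      have h2 : IsPGroup 2 (zpowers x) := by
        obtain ⟨i, -, hi⟩ := (Nat.dvd_prime_pow Nat.prime_two).1 (orderOf_dvd_of_pow_eq_one h1)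
        exact IsPGroup.of_card (n := i) (by rw [Nat.card_zpowers, hi])
      have hnJ : x ∈ normalizer (jGrp A w : Set G) := mem_normalizer_fintype fun z hz => by
        have h3 := normJ e B (cent_le_N e hx)
          (by rw [hxa]; exact mul_mem (mem_jGrp_self e hw) (A_le_jGrp' e hw ha))
        have h4 := cj_mem (m := x).2 hz
        rwa [h3] at h4
      have h3 := IsPGroup.to_sup_of_normal_right' h2 d.J_two (zpowers_le.2 hnJ)
      rw [← hmax _ h3 (sup_le (zpowers_le.2 hx) inf_le_left) le_sup_right]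
      exact mem_sup_left (mem_zpowers x)
    have s : Syl A N n w h (jGrp A w) := ⟨B, d.J_two, inf_le_left, hmax, hsmem⟩
    refine ⟨w, h, jGrp A w, uShape_of e M s (Or.inl rfl)
      (fun x hx hx2 => (e.mem_eGrp_iff hw).2 ⟨hx, hx2⟩) fun g hg hgJ => ?_⟩
    refine s.norm_mem (fun η hη hodd hJ => np_odd e B hmax hη hodd hJ)
      (fun g' _ hg'J x hx => ?_) hg hgJ
    have h5 := cj_mem (m := g').2 hx
    rwa [hg'J] at h5
  · have hsmem : ∀ x, x ∈ t1Grp A w ↔ x ∈ centralizer (A : Set G) ∧ Shift A w x := by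
      refine fun x => (e.mem_t1Grp_iff hw).trans (and_congr_right fun _ => ?_)
      exact ⟨fun hA => ⟨_, hA, (mul_inv_cancel_left _ _).symm⟩,
        fun ⟨a, ha, he⟩ => by rw [he, inv_mul_cancel_left]; exact ha⟩
    have s : Syl A N n w h (t1Grp A w) :=
      ⟨B, h2, inf_le_left, hmax, hsmem⟩
    have t : Trans A N n w h (t1Grp A w) := ⟨s, hsurj⟩
    refine ⟨w, h, t1Grp A w, uShape_of e M s (Or.inr rfl) (hII t) fun g hg hgJ => ?_⟩
    exact s.norm_mem (fun η hη hodd hJ => t.odd_trivial e (hII t) hη hodd hJ)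
      (fun g' hg' hg'J x hx => t.conj_P e (cent_le_N e hg') hg'J hx) hg hgJ

end CfsgLib.ThreeFree.UStr
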