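import Cfsg.Agent.Lib.ThreeFree.LineCenter
import Cfsg.Agent.Lib.ThreeFree.SzFacts

/-!
The centre of the Sylow 2-subgroup of a group with Suzuki data is `Z`, provided the non-abelian
simple sections of the group are Suzuki groups: the group is simple, hence a Suzuki group, whose
Sylow 2-subgroups are non-abelian.
-/

set_option autoImplicit false
set_option linter.style.haveILetI false

open scoped MatrixGroups Matrix Pointwise

namespace CfsgLib.ThreeFree

open Subgroup Cfsg.Lie CfsgLib.SuzukiGroup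

universe u

namespace SzData

variable {Q : Type u} [Group Q] [Finite Q] {n : ℕ} {T : Sylow 2 Q} {Z : Subgroup Q} {h : Q}

theorem ustr_exists_notMem (d : SzData Q n T Z h) :
    ∃ g : Q, g ∉ normalizer ((T : Subgroup Q) : Set Q) := by
  by_contra! hcon
  have h1 := d.index_R
  rw [show normalizer ((T : Subgroup Q) : Set Q) = ⊤ from eq_top_iff.2 fun g _ => hcon g,
    index_top] at h1
  have : 0 < (2 ^ n) ^ 2 := by positivity
  omega

theorem ustr_h_ne_one (d : SzData Q n T Z h) : h ≠ 1 := by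
  intro e
  have h1 := d.h_order
  rw [e, orderOf_one] at h1
  have := d.two_pow_large
  omega

/-- A 2-element of `N(T)` lies in `T`. -/
theorem ustr_mem_T_of_conj (d : SzData Q n T Z h) {y g : Q} (hy : y ∈ (T : Subgroup Q))
    (hg : g⁻¹ * y * g ∈ normalizer ((T : Subgroup Q) : Set Q)) :
    g⁻¹ * y * g ∈ (T : Subgroup Q) := by
  haveI : Fact (Nat.Prime 2) := ⟨Nat.prime_two⟩
  obtain ⟨j, hj⟩ := T.2 ⟨y, hy⟩
  have h2 : IsPGroup 2 (zpowers (g⁻¹ * y * g)) := by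
    obtain ⟨i, -, hi⟩ := (Nat.dvd_prime_pow Nat.prime_two).1
      (orderOf_dvd_of_pow_eq_one (x := g⁻¹ * y * g) (n := 2 ^ j) (by
        rw [show g⁻¹ * y * g = g⁻¹ * y * g⁻¹⁻¹ by group, conj_pow,
          show y ^ 2 ^ j = 1 from congrArg Subtype.val hj]
        group))
    exact IsPGroup.of_card (n := i) (by rw [Nat.card_zpowers, hi])
  have h3 := IsPGroup.to_sup_of_normal_right' h2 T.2 (zpowers_le.2 hg)
  exact (T.is_maximal' h3 le_sup_right) ▸ mem_sup_left (mem_zpowers _)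

/-- A group with Suzuki data is simple. -/
theorem ustr_isSimpleGroup (d : SzData Q n T Z h) : IsSimpleGroup Q := by
  set R := normalizer ((T : Subgroup Q) : Set Q)
  obtain ⟨g, hg⟩ := d.ustr_exists_notMem
  haveI : Nontrivial Q := ⟨h, 1, d.ustr_h_ne_one⟩
  refine ⟨fun X hX => ?_⟩
  by_contra! hcon
  obtain ⟨hbot, htop⟩ := hcon
  rcases d.maximal (X ⊔ R) le_sup_right with e | e
  · -- `X ≤ N(T)`
    have hXR : X ≤ R := le_sup_left.trans e.le
    have hinf : ∀ x ∈ X, x ∈ (T : Subgroup Q) → x = 1 := fun x hx hxT =>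
      d.ti g hg x hxT (d.ustr_mem_T_of_conj hxT (hXR (by
        simpa using hX.conj_mem x hx g⁻¹)))
    refine hbot ((Subgroup.eq_bot_iff_forall _).2 fun x hx => ?_)
    have hc : ∀ t ∈ (T : Subgroup Q), x * t = t * x := by
      intro t ht
      have h1 : x * t * x⁻¹ * t⁻¹ = 1 := by
        refine hinf _ ?_ (mul_mem ((mem_normalizer_iff.1 (hXR hx) t).1 ht) (inv_mem ht))
        rw [mul_assoc (x * t), mul_assoc x]
        refine mul_mem hx ?_
        rw [← mul_assoc]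
        exact hX.conj_mem _ (inv_mem hx) t
      exact mul_inv_eq_iff_eq_mul.1 (mul_inv_eq_one.1 h1)
    obtain ⟨z, hz, hz1⟩ : ∃ z ∈ Z, z ≠ 1 := by
      refine (Subgroup.bot_or_exists_ne_one Z).resolve_left fun e' => ?_
      have := d.card_Z
      rw [e', Subgroup.card_bot] at this
      have := d.two_pow_large
      omega
    refine hinf x hx ?_
    rw [← d.cent z hz hz1, mem_centralizer_singleton_iff]
    exact hc z (d.Z_le hz)
  · -- `Q = X Z`
    have hXZ : X ⊔ Z = ⊤ := by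
      rw [eq_top_iff, ← d.gen g hg]
      refine sup_le le_sup_right ?_
      rintro _ ⟨z, hz, rfl⟩
      obtain ⟨x, hx, r, hr, hxr⟩ := (Subgroup.mem_sup_of_normal_left (s := X) (t := R)).1
        (e ▸ mem_top g)
      show g * z * g⁻¹ ∈ X ⊔ Z
      rw [← hxr, show x * r * z * (x * r)⁻¹ = x * (r * z * r⁻¹) * x⁻¹ by group]
      exact mul_mem (mul_mem (mem_sup_left hx)
        (mem_sup_right ((mem_normalizer_iff.1 (d.norm_Z.symm ▸ hr) z).1 hz)))
        (mem_sup_left (inv_mem hx))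
    refine htop (top_le_iff.1 (hXZ ▸ sup_le le_rfl fun z hz => ?_))
    -- `z = [h, z']` lies in `X`
    have hcom : ∀ z' ∈ Z, h * z' * h⁻¹ * z'⁻¹ ∈ X := by
      intro z' hz'
      obtain ⟨x, hx, y, hy, hxy⟩ := (Subgroup.mem_sup_of_normal_left (s := X) (t := Z)).1
        (hXZ ▸ mem_top h)
      rw [← hxy]
      have hc := d.Z_mul_comm hy hz'
      rw [show x * y * z' * (x * y)⁻¹ * z'⁻¹ = x * (y * z' * y⁻¹ * x⁻¹ * z'⁻¹) by group, hc,
        show x * (z' * y * y⁻¹ * x⁻¹ * z'⁻¹) = x * (z' * x⁻¹ * z'⁻¹) by group]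
      exact mul_mem hx (hX.conj_mem _ (inv_mem hx) z')
    let f : Z → Z := fun z' => ⟨h * z' * h⁻¹ * (z' : Q)⁻¹,
      mul_mem (by simpa using d.h_pow_conj_mem_Z 1 z'.2) (inv_mem z'.2)⟩
    have hf : Function.Injective f := by
      intro a b hab
      have e' : h * a * h⁻¹ * (a : Q)⁻¹ = h * b * h⁻¹ * (b : Q)⁻¹ := congrArg Subtype.val hab
      refine Subtype.ext (inv_mul_eq_one.1 (d.h_fpf 1 (by simpa using d.ustr_h_ne_one) _
        (d.Z_le (mul_mem (inv_mem a.2) b.2)) ?_))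
      rw [pow_one]
      have hc : (a : Q)⁻¹ * b = b * (a : Q)⁻¹ := d.Z_mul_comm (inv_mem a.2) b.2
      calc h * ((a : Q)⁻¹ * b)
          = (h * a * h⁻¹ * (a : Q)⁻¹ * a)⁻¹ * (h * b * h⁻¹ * (b : Q)⁻¹ * b) * h := by group
        _ = _ := by rw [e']; group
    obtain ⟨z', hz'⟩ := Finite.surjective_of_injective hf ⟨z, hz⟩
    rw [← show h * z' * h⁻¹ * (z' : Q)⁻¹ = z from congrArg Subtype.val hz']
    exact hcom z' z'.2

/-- A group with Suzuki data is not commutative. -/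
theorem ustr_not_comm (d : SzData Q n T Z h) : ¬ IsMulCommutative Q := by
  intro hc
  obtain ⟨g, hg⟩ := d.ustr_exists_notMem
  exact hg (mem_normalizer_iff.2 fun x => by
    rw [hc.is_comm.comm g x, mul_inv_cancel_right])

/-- The Sylow 2-subgroup is not commutative. -/
theorem ustr_T_not_comm (d : SzData Q n T Z h) (hQ : SzGood Q) :
    ∃ u ∈ (T : Subgroup Q), ∃ v ∈ (T : Subgroup Q), u * v ≠ v * u := by
  haveI := d.ustr_isSimpleGroup
  let e : (⊤ : Subgroup Q) ⧸ (⊥ : Subgroup (⊤ : Subgroup Q)) ≃* Q :=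
    QuotientGroup.quotientBot.trans topEquiv
  haveI : Nontrivial ((⊤ : Subgroup Q) ⧸ (⊥ : Subgroup (⊤ : Subgroup Q))) :=
    e.toEquiv.nontrivial
  have h1 : IsSimpleGroup ((⊤ : Subgroup Q) ⧸ (⊥ : Subgroup (⊤ : Subgroup Q))) :=
    IsSimpleGroup.isSimpleGroup_of_surjective e.symm.toMonoidHom e.symm.surjective
  have h2 : ¬ IsMulCommutative ((⊤ : Subgroup Q) ⧸ (⊥ : Subgroup (⊤ : Subgroup Q))) := fun hc =>
    d.ustr_not_comm ⟨⟨fun a b => e.symm.injective (by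
      rw [map_mul, map_mul, hc.is_comm.comm])⟩⟩
  obtain ⟨F, _, _, m, hm, hF, ⟨ψ₁⟩⟩ := hQ.sections ⊤ ⊥ h1 h2
  let ψ₀ := e.symm.trans ψ₁
  obtain ⟨hC, ⟨P⟩⟩ := exists_params hF
  haveI := hC
  haveI : Fact (Nat.Prime 2) := ⟨Nat.prime_two⟩
  let S : Sylow 2 ↥(Sz F (2 ^ (m + 1))) := T.mapSurjective (f := ψ₀.toMonoidHom) ψ₀.surjective
  obtain ⟨g, hg⟩ := MulAction.exists_smul_eq ↥(Sz F (2 ^ (m + 1))) S (sylowTwo P)
  have hq := two_lt_card hm hF
  obtain ⟨y, hy, hne⟩ : ∃ y ∈ unip P, uEl P 1 0 * y ≠ y * uEl P 1 0 := by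
    by_contra! hcon
    obtain ⟨b, hb⟩ := (SzModel.mem_zsub_iff P hq (g := uEl P 1 0)).2 ⟨⟨1, 0, rfl⟩, hcon⟩
    exact one_ne_zero (uEl_inj P hb).1
  by_contra! hcon
  have hpre : ∀ u ∈ unip P, ∃ x ∈ (T : Subgroup Q), u = g * ψ₀ x * g⁻¹ := by
    intro u hu
    rw [← coe_sylowTwo P, ← hg, Sylow.coe_subgroup_smul,
      Subgroup.mem_pointwise_smul_iff_inv_smul_mem] at hu
    obtain ⟨x, hx, hxu⟩ := hu
    refine ⟨x, hx, ?_⟩
    have hxu' : ψ₀ x = g⁻¹ * u * g := by simpa using hxu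
    rw [hxu']
    group
  obtain ⟨x, hx, ex⟩ := hpre _ (show uEl P 1 0 ∈ unip P from ⟨1, 0, rfl⟩)
  obtain ⟨x', hx', ex'⟩ := hpre y hy
  refine hne ?_
  rw [ex, ex']
  calc g * ψ₀ x * g⁻¹ * (g * ψ₀ x' * g⁻¹) = g * (ψ₀ x * ψ₀ x') * g⁻¹ := by group
    _ = g * (ψ₀ x' * ψ₀ x) * g⁻¹ := by rw [← map_mul, hcon x hx x' hx', map_mul]
    _ = _ := by group

/-- The centre of `T` is `Z`. -/
theorem ustr_center_T (d : SzData Q n T Z h) (hQ : SzGood Q) {t : Q}
    (ht : t ∈ (T : Subgroup Q)) (hc : ∀ t' ∈ (T : Subgroup Q), t * t' = t' * t) : t ∈ Z := by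
  by_contra htZ
  have hcen : ∀ u ∈ (T : Subgroup Q), ∀ v ∈ (T : Subgroup Q), u * v = v * u := by
    intro u hu v hv
    by_cases huZ : u ∈ Z
    · exact d.Z_comm u huZ v hv
    obtain ⟨k, z, hz, rfl⟩ := d.trans_mod_Z ht htZ hu huZ
    set u' := h ^ k * t * (h ^ k)⁻¹ with hu'
    have h1 : u' * v = v * u' := by
      have hv' : (h ^ k)⁻¹ * v * h ^ k ∈ (T : Subgroup Q) := by
        simpa using (mem_normalizer_iff.1 (inv_mem (pow_mem d.h_mem k)) v).1 hv
      calc u' * v = h ^ k * (t * ((h ^ k)⁻¹ * v * h ^ k)) * (h ^ k)⁻¹ := by rw [hu']; group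
        _ = h ^ k * ((h ^ k)⁻¹ * v * h ^ k * t) * (h ^ k)⁻¹ := by rw [hc _ hv']
        _ = v * u' := by rw [hu']; group
    calc u' * z * v = u' * (z * v) := mul_assoc _ _ _
      _ = u' * v * z := by rw [d.Z_comm z hz v hv, ← mul_assoc]
      _ = v * (u' * z) := by rw [h1, mul_assoc]
  obtain ⟨u, hu, v, hv, hne⟩ := d.ustr_T_not_comm hQ
  exact hne (hcen u hu v hv)

end SzData

end CfsgLib.ThreeFree
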