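import Cfsg.Agent.Lib.ThreeFree.SwapBase
import Cfsg.Agent.Lib.ThreeFree.UStructCenter

/-!
Basic facts on `C(A)`, on `O(N)` and on the subgroups `T`, `K`, `J`, `E` of a bad involution, used
to determine the shape of `C(A)`.
-/

set_option autoImplicit false
set_option linter.style.haveILetI false
set_option linter.unusedSectionVars false

namespace CfsgLib.ThreeFree.UStr

open Subgroup

universe u

variable {G : Type u} [Group G] [Finite G] {S : Sylow 2 G} {A N : Subgroup G} {n : ℕ}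

theorem orderOf_two {x : G} (h2 : x * x = 1) (h1 : x ≠ 1) : orderOf x = 2 :=
  orderOf_eq_prime (hp := ⟨Nat.prime_two⟩) (by rw [pow_two]; exact h2) h1

/-- An element of odd order of a 2-group is trivial. -/
theorem eq_one_of_mem_two {Q : Subgroup G} (hQ : IsPGroup 2 Q) {x : G} (hx : x ∈ Q)
    (hodd : Odd (orderOf x)) : x = 1 := by
  obtain ⟨j, hj⟩ := hQ ⟨x, hx⟩
  rw [← orderOf_eq_one_iff, ← Nat.dvd_one,
    ← (Nat.Coprime.pow_right j (Nat.coprime_two_right.2 hodd)).gcd_eq_one]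
  exact Nat.dvd_gcd dvd_rfl (orderOf_dvd_of_pow_eq_one (congrArg Subtype.val hj))

/-- An element of odd order is a power of its `2 ^ j`-th power. -/
theorem exists_pow_of_odd {x : G} (hodd : Odd (orderOf x)) (j : ℕ) :
    ∃ r : ℕ, (x ^ 2 ^ j) ^ r = x :=
  exists_pow_eq_self_of_coprime (n := 2 ^ j)
    ((Nat.coprime_two_left.2 hodd).pow_left j)

/-- `x` maps `w` into `w A`. -/
def Shift (A : Subgroup G) (w x : G) : Prop := ∃ a ∈ A, x * w * x⁻¹ = w * a

/-- A maximal line. -/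
structure Base (A N : Subgroup G) (n : ℕ) (w h : G) : Prop where
  line : LineData A N n w h
  jmax : ∀ v, Bad N v → Nat.card (jGrp A v) ≤ Nat.card (jGrp A w)

/-- A maximal line with the Sylow 2-subgroup of `C(A)` consisting of the elements shifting `w`. -/
structure Syl (A N : Subgroup G) (n : ℕ) (w h : G) (P : Subgroup G) : Prop where
  base : Base A N n w h
  P_two : IsPGroup 2 P
  P_le : P ≤ centralizer (A : Set G)
  maxi : ∀ Q : Subgroup G, IsPGroup 2 Q → Q ≤ centralizer (A : Set G) → P ≤ Q → Q = P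
  mem_iff : ∀ x, x ∈ P ↔ x ∈ centralizer (A : Set G) ∧ Shift A w x

/-- All translations occur. -/
structure Trans (A N : Subgroup G) (n : ℕ) (w h : G) (P : Subgroup G) : Prop where
  syl : Syl A N n w h P
  surj : ∀ a ∈ A, ∃ x ∈ P, x * w * x⁻¹ = w * a

section Central

variable (e : NormalGame S A N n)
include e

theorem cent_le_N : centralizer (A : Set G) ≤ N := fun _ hx => e.mem_N_of_cent_A hx

theorem conj_mem_cent {g x : G} (hg : g ∈ N) (hx : x ∈ centralizer (A : Set G)) :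
    g * x * g⁻¹ ∈ centralizer (A : Set G) := by
  refine mem_centralizer_iff.2 fun a ha => ?_
  have ha' : g⁻¹ * a * g ∈ A := by simpa using e.conj_mem_A (inv_mem hg) ha
  calc a * (g * x * g⁻¹) = g * (g⁻¹ * a * g * x) * g⁻¹ := by group
    _ = g * (x * (g⁻¹ * a * g)) * g⁻¹ := by rw [mem_centralizer_iff.1 hx _ ha']
    _ = _ := by group

omit e in
theorem A_central {a x : G} (ha : a ∈ A) (hx : x ∈ centralizer (A : Set G)) : x * a = a * x :=
  (mem_centralizer_iff.1 hx a ha).symm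

omit e in
theorem conj_A {a x : G} (ha : a ∈ A) (hx : x ∈ centralizer (A : Set G)) : x * a * x⁻¹ = a := by
  rw [A_central ha hx, mul_inv_cancel_right]

theorem A_le_centralizer : A ≤ centralizer (A : Set G) := fun _ ha =>
  mem_centralizer_iff.2 fun _ hb => e.setup.comm hb ha

theorem A_sq {a : G} (ha : a ∈ A) : a * a = 1 := e.setup.mul_self_eq_one ha

theorem A_inv {a : G} (ha : a ∈ A) : a⁻¹ = a := inv_eq_of_mul_eq_one_right (A_sq e ha)

theorem bad_mem {v : G} (hv : Bad N v) : v ∈ centralizer (A : Set G) :=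
  mem_centralizer_iff.2 fun _ ha => mem_cent.1 (e.bad_centralizes hv ha)

omit e in
theorem bad_sq {v : G} (hv : Bad N v) : v * v = 1 := by
  rw [← pow_two, ← hv.two, pow_orderOf_eq_one]

omit e in
theorem bad_ne_one {v : G} (hv : Bad N v) : v ≠ 1 := fun h => by simpa [h] using hv.two

theorem bad_notMem {v : G} (hv : Bad N v) : v ∉ A := fun h => e.setup.not_bad_of_mem_A h hv

theorem bad_of_sq {i : G} (hi : i ∈ N) (h2 : i * i = 1) (hA : i ∉ A) : Bad N i := by
  rcases e.base.dichotomy i hi (orderOf_two h2 fun h => hA (h ▸ one_mem A)) with h | ⟨g, hg, hgA⟩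
  · exact h
  · refine absurd ?_ hA
    have := e.conj_mem_A (inv_mem hg) hgA
    simpa [mul_assoc] using this

theorem mem_jGrp_self {v : G} (hv : Bad N v) : v ∈ jGrp A v := ⟨bad_mem e hv, mem_cent.2 rfl⟩

theorem A_le_jGrp' {v : G} (hv : Bad N v) : A ≤ jGrp A v := e.A_le_jGrp hv

omit e in
theorem jGrp_mul {w y : G} (hy : y ∈ A) : jGrp A (w * y) = jGrp A w := by
  ext x
  refine ⟨fun ⟨hxA, hx⟩ => ⟨hxA, mem_cent.2 ?_⟩, fun ⟨hxA, hx⟩ => ⟨hxA, mem_cent.2 ?_⟩⟩
  · have h1 := mem_cent.1 hx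
    refine mul_right_cancel (b := y) ?_
    rw [mul_assoc, h1, mul_assoc, mul_assoc, A_central hy hxA]
  · rw [← mul_assoc, mem_cent.1 hx, mul_assoc, mul_assoc, A_central hy hxA]

theorem bad_mul {w y : G} (hw : Bad N w) (hy : y ∈ A) : Bad N (w * y) :=
  e.base.star w hw (e.bad_centralizes hw) y hy

/-! ### The core of `N` -/

theorem core_eq_one_of_two {Q : Subgroup G} (hQ : IsPGroup 2 Q) {x : G} (hxW : x ∈ coreN N)
    (hxQ : x ∈ Q) : x = 1 :=
  eq_one_of_mem_two hQ hxQ (e.coreN_orderOf_odd hxW)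

theorem core_le : coreN N ≤ centralizer (A : Set G) := by
  intro x hx
  refine mem_centralizer_iff.2 fun a ha => ?_
  have hxN : x ∈ N := e.coreN_le_N hx
  have h1 : a * x * a⁻¹ * x⁻¹ = 1 := by
    refine core_eq_one_of_two e (e.setup.isPGroup_of_le le_rfl)
      (mul_mem (e.coreN_conj (e.setup.A_le ha) hx) (inv_mem hx)) ?_
    have h2 : x * a⁻¹ * x⁻¹ ∈ A := e.conj_mem_A hxN (inv_mem ha)
    simpa [mul_assoc] using mul_mem ha h2
  exact mul_inv_eq_iff_eq_mul.1 (mul_inv_eq_one.1 h1)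

theorem core_fix_eq_one {v x : G} (hv : Bad N v) (hx : x ∈ coreN N) (hc : v * x = x * v) :
    x = 1 :=
  core_eq_one_of_two e (e.jGrp_card_two hv).1 hx ⟨core_le e hx, mem_cent.2 hc.symm⟩

theorem core_inv {v : G} (hv : Bad N v) {x : G} (hx : x ∈ coreN N) : v * x * v⁻¹ = x⁻¹ := by
  have hvN : v ∈ N := hv.mem
  let φ : coreN N →* coreN N :=
    { toFun := fun y => ⟨v * y * v⁻¹, e.coreN_conj hvN y.2⟩
      map_one' := Subtype.ext (by simp)
      map_mul' := fun a b => Subtype.ext (by simp [mul_assoc]) }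
  have hfp : MonoidHom.FixedPointFree φ := fun y hy => Subtype.ext
    (core_fix_eq_one e hv y.2 (mul_inv_eq_iff_eq_mul.1 (congrArg Subtype.val hy)))
  have hinv : Function.Involutive φ := fun y => Subtype.ext (by
    show v * (v * y * v⁻¹) * v⁻¹ = y
    calc v * (v * y * v⁻¹) * v⁻¹ = (v * v) * y * (v * v)⁻¹ := by group
      _ = y := by rw [bad_sq hv]; simp)
  exact congrArg Subtype.val (congrFun (hfp.coe_eq_inv_of_involutive hinv) ⟨x, hx⟩)

theorem core_comm {x y : G} (hx : x ∈ coreN N) (hy : y ∈ coreN N) : x * y = y * x := by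
  obtain ⟨v, hv⟩ := e.base.exists_bad
  have h := core_inv e hv (mul_mem hx hy)
  rw [show v * (x * y) * v⁻¹ = (v * x * v⁻¹) * (v * y * v⁻¹) by group, core_inv e hv hx,
    core_inv e hv hy, mul_inv_rev] at h
  have := congrArg (fun t => x * (y * t) * x * y) h
  simpa [mul_assoc] using inv_injective (a₁ := x * y) (a₂ := y * x) (by
    rw [mul_inv_rev, mul_inv_rev, h])

theorem core_or : coreN N = ⊥ ∨ ∀ v, Bad N v → Nat.card (kInv A N v) = 2 := by
  classical
  by_contra! hcon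
  obtain ⟨hW, v, hv, hne⟩ := hcon
  obtain ⟨x, hx, hx1⟩ := (Subgroup.bot_or_exists_ne_one _).resolve_left hW
  refine hne ?_
  have hmem : ∀ k, k ∈ kInv A N v → k = 1 ∨ k = v := by
    intro k hk
    obtain ⟨hkK, hk2⟩ := (e.mem_kInv_iff hv).1 hk
    by_contra! hcon
    obtain ⟨hk1, hkv⟩ := hcon
    have hkb := (e.kerK_invol_bad hv hkK hk2 hk1).1
    have hkv1 : k * v ≠ 1 := fun h => hkv
      ((eq_inv_of_mul_eq_one_left h).trans (inv_eq_of_mul_eq_one_right (bad_sq hv)))
    have hcomm : k * v = v * k := mem_cent.1 hkK.1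
    have hkvK : k * v ∈ kerK A N v := mul_mem hkK (e.w_mem_kerK hv)
    have hkv2 : k * v * (k * v) = 1 := by
      calc k * v * (k * v) = k * (v * k) * v := by group
        _ = (k * k) * (v * v) := by rw [← hcomm]; group
        _ = 1 := by rw [hk2, bad_sq hv, one_mul]
    have hkvb := (e.kerK_invol_bad hv hkvK hkv2 hkv1).1
    refine hx1 (core_fix_eq_one e hkvb hx (mul_inv_eq_iff_eq_mul.1 ?_))
    rw [show k * v * x * (k * v)⁻¹ = k * (v * x * v⁻¹) * k⁻¹ by group, core_inv e hv hx,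
      core_inv e hkb (inv_mem hx), inv_inv]
  have hvK : v ∈ kInv A N v := (e.mem_kInv_iff hv).2 ⟨e.w_mem_kerK hv, bad_sq hv⟩
  have hset : (kInv A N v : Set G) = {1, v} := by
    ext k
    constructor
    · intro hk
      exact hmem k hk
    · rintro (rfl | rfl)
      · exact one_mem _
      · exact hvK
  rw [← SetLike.coe_sort_coe, Nat.card_coe_set_eq, hset, Set.ncard_pair (bad_ne_one hv).symm]

end Central

section Line

variable (e : NormalGame S A N n) {w h : G}

theorem h_comm_w (d : LineData A N n w h) (k : ℕ) : h ^ k * w = w * h ^ k :=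
  (show Commute h w from mem_cent.1 (d.le_cent d.h_mem)).pow_left k

theorem h_comm_K (d : LineData A N n w h) (k : ℕ) {c : G} (hc : c ∈ kerK A N w) :
    h ^ k * c = c * h ^ k :=
  (show Commute h c from (d.K_comm_L c hc h d.h_mem).symm).pow_left k

theorem h_pow_ne_one (d : LineData A N n w h) {k : ℕ} (h0 : 0 < k) (hk : k < 2 ^ n - 1) :
    h ^ k ≠ 1 := fun e1 => by
  have := Nat.le_of_dvd h0 (d.h_order ▸ orderOf_dvd_of_pow_eq_one e1)
  omega

theorem tk_comm {t c : G} (ht : t ∈ tGrp A N w) (hc : c ∈ kerK A N w) : c * t = t * c :=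
  tGrp_commute_kerK ht hc

theorem h_conj_T (d : LineData A N n w h) (k : ℕ) {t : G} (ht : t ∈ tGrp A N w) :
    h ^ k * t * (h ^ k)⁻¹ ∈ tGrp A N w :=
  (mem_normalizer_iff.1 (pow_mem d.T_conj_h k) t).1 ht

theorem A_le_T (d : LineData A N n w h) (e : NormalGame S A N n) : A ≤ tGrp A N w :=
  fun _ ha => ⟨d.A_le ha, A_le_centralizer e ha⟩

include e

theorem tk_unique (hw : Bad N w) {t t' c c' : G} (ht : t ∈ tGrp A N w) (ht' : t' ∈ tGrp A N w)
    (hc : c ∈ kerK A N w) (hc' : c' ∈ kerK A N w) (h : t * c = t' * c') : t = t' ∧ c = c' := by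
  have h1 : t'⁻¹ * t = 1 := e.inf_eq_one hw (mul_mem (inv_mem ht'.1) ht.1) (by
    rw [show t'⁻¹ * t = c' * c⁻¹ by
      rw [eq_mul_inv_iff_mul_eq, mul_assoc, h, inv_mul_cancel_left]]
    exact mul_mem hc' (inv_mem hc))
  have h2 : t = t' := (inv_mul_eq_one.1 h1).symm
  subst h2
  exact ⟨rfl, mul_left_cancel h⟩

/-- The product of squares. -/
theorem tk_sq {t c : G} (ht : t ∈ tGrp A N w) (hc : c ∈ kerK A N w) :
    t * c * (t * c) = t * t * (c * c) := by
  calc t * c * (t * c) = t * (c * t) * c := by group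
    _ = t * (t * c) * c := by rw [tk_comm ht hc]
    _ = _ := by group

/-- An element of `J` fixed modulo `A` by a nontrivial power of the torus lies in `A K`. -/
theorem cent_h (d : LineData A N n w h) {k : ℕ} (hk : h ^ k ≠ 1) {x : G} (hx : x ∈ jGrp A w)
    (hfix : x⁻¹ * (h ^ k * x * (h ^ k)⁻¹) ∈ A) : ∃ a ∈ A, ∃ c ∈ kerK A N w, x = a * c := by
  obtain ⟨t, ht, c, hc, rfl⟩ := d.J_decomp x hx
  refine ⟨t, ?_, c, hc, rfl⟩
  have hcc : h ^ k * c = c * h ^ k := h_comm_K d k hc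
  set a := (t * c)⁻¹ * (h ^ k * (t * c) * (h ^ k)⁻¹) with ha
  have h1 : h ^ k * t * (h ^ k)⁻¹ = t * a := by
    have h2 : h ^ k * (t * c) * (h ^ k)⁻¹ = h ^ k * t * (h ^ k)⁻¹ * c := by
      rw [show h ^ k * (t * c) * (h ^ k)⁻¹ = h ^ k * t * (h ^ k)⁻¹ * (h ^ k * c * (h ^ k)⁻¹) by
        group, hcc, mul_inv_cancel_right]
    have hac : c * a = a * c := A_central hfix ((d.K_le_J hc).1)
    calc h ^ k * t * (h ^ k)⁻¹ = t * c * a * c⁻¹ := by
          rw [ha, mul_inv_cancel_left, h2, mul_inv_cancel_right]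
      _ = t * a := by rw [mul_assoc t c a, hac]; group
  have h3 : h ^ k * (t * t) * (h ^ k)⁻¹ = t * t := by
    have hat : a * t = t * a := (A_central hfix ht.2).symm
    calc h ^ k * (t * t) * (h ^ k)⁻¹
        = (h ^ k * t * (h ^ k)⁻¹) * (h ^ k * t * (h ^ k)⁻¹) := by group
      _ = t * (a * t) * a := by rw [h1]; group
      _ = t * t * (a * a) := by rw [hat]; group
      _ = t * t := by rw [A_sq e hfix, mul_one]
  exact d.T_invol t ht (d.h_fpf k hk _ (d.T_sq t ht) (mul_inv_eq_iff_eq_mul.1 h3))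

/-- Squaring is injective on `T / A`. -/
theorem sq_inj (d : LineData A N n w h) {t t' : G} (ht : t ∈ tGrp A N w)
    (ht' : t' ∈ tGrp A N w) (hsq : t * t = t' * t') : t⁻¹ * t' ∈ A := by
  obtain ⟨T, hT, dd⟩ := d.sz
  by_cases htA : t ∈ A
  · exact mul_mem (inv_mem htA) (d.T_invol t' ht' (by rw [← hsq, A_sq e htA]))
  have htA' : t' ∉ A := fun h' => htA (d.T_invol t ht (by rw [hsq, A_sq e h']))
  have hmem : ∀ {s : G} (hs : s ∈ tGrp A N w), (⟨s, hs.1⟩ : lineGrp A N w) ∈ (T : Subgroup (lineGrp A N w)) := fun hs =>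
    (e.mem_tGrp_iff dd d.A_le _).2 hs.2
  obtain ⟨k, z, hz, hk⟩ := dd.trans_mod_Z (hmem ht) (fun hm => htA (mem_subgroupOf.1 hm))
    (hmem ht') (fun hm => htA' (mem_subgroupOf.1 hm))
  set u : G := (hT : G) ^ k * t * ((hT : G) ^ k)⁻¹ with hu
  have hk' : t' = u * z := by simpa [hu] using congrArg Subtype.val hk
  have hzA : (z : G) ∈ A := mem_subgroupOf.1 hz
  have hu' : u ∈ centralizer (A : Set G) := by
    rw [show u = t' * (z : G)⁻¹ by rw [hk', mul_inv_cancel_right]]
    exact mul_mem ht'.2 (inv_mem (A_le_centralizer e hzA))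
  by_cases h1 : hT ^ k = 1
  · have : (hT : G) ^ k = 1 := by simpa using congrArg Subtype.val h1
    have hut : u = t := by rw [hu, this]; simp
    rw [hk', hut, inv_mul_cancel_left]
    exact hzA
  refine absurd (d.T_invol t ht ?_) htA
  have h2 : u * u = t * t := by
    rw [hsq, hk']
    calc u * u = u * u * ((z : G) * z) := by rw [A_sq e hzA, mul_one]
      _ = u * (u * z) * z := by group
      _ = u * (z * u) * z := by rw [A_central hzA hu']
      _ = u * z * (u * z) := by group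
  have h3 : (hT : G) ^ k * (t * t) = t * t * (hT : G) ^ k := by
    calc (hT : G) ^ k * (t * t) = u * u * (hT : G) ^ k := by rw [hu]; group
      _ = _ := by rw [h2]
  have h4 := dd.h_fpf k h1 ⟨t * t, mul_mem ht.1 ht.1⟩
    (dd.Z_le (mem_subgroupOf.2 (d.T_sq t ht))) (Subtype.ext (by simpa using h3))
  exact congrArg Subtype.val h4

/-- An element of `T` central in `T` lies in `A`. -/
theorem T_center (d : LineData A N n w h) {t : G} (ht : t ∈ tGrp A N w)
    (hc : ∀ t' ∈ tGrp A N w, t * t' = t' * t) : t ∈ A := by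
  obtain ⟨T, hT, dd⟩ := d.sz
  have hL : lineGrp A N w ≠ ⊤ := fun h =>
    e.setup.cent_ne_top d.bad.two (top_le_iff.1 (h ▸ d.le_cent))
  exact mem_subgroupOf.1 (dd.ustr_center_T (e.setup.proper _ hL) (t := ⟨t, ht.1⟩)
    ((e.mem_tGrp_iff dd d.A_le _).2 ht.2) fun t' ht' => Subtype.ext
      (hc t' ⟨t'.2, (e.mem_tGrp_iff dd d.A_le t').1 ht'⟩))

omit [Finite G] e in
theorem lineGrp_le_conj {g v : G} (e : NormalGame S A N n) (l : G) (hl : l ∈ lineGrp A N v)
    [Finite G] : g * l * g⁻¹ ∈ lineGrp A N (g * v * g⁻¹) := by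
  have hle : lineGrp A N v ≤ (lineGrp A N (g * v * g⁻¹)).comap (MulAut.conj g).toMonoidHom := by
    refine iSup₂_le fun P hP a ha => ?_
    refine le_iSup₂ (f := fun P (_ : P ∈ fixPts N (g * v * g⁻¹)) => ptA A P) (g • P)
      (smul_mem_fixPts hP) ?_
    rw [e.ptA_smul]
    exact cj_mem.2 ha
  exact hle hl

theorem lineGrp_conj (g v : G) : lineGrp A N (g * v * g⁻¹) = cj g (lineGrp A N v) := by
  refine le_antisymm (fun l hl => mem_cj.2 ?_)
    (cj_le_of_forall fun l hl => lineGrp_le_conj e l hl)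
  have := lineGrp_le_conj (g := g⁻¹) e l hl
  rwa [inv_inv, show g⁻¹ * (g * v * g⁻¹) * g = v by group] at this

theorem jGrp_conj {g v : G} (hg : g ∈ N) : jGrp A (g * v * g⁻¹) = cj g (jGrp A v) := by
  ext x
  rw [mem_cj]
  constructor
  · rintro ⟨hxA, hx⟩
    refine ⟨?_, mem_cent.2 ?_⟩
    · simpa using conj_mem_cent e (inv_mem hg) hxA
    · calc g⁻¹ * x * g * v = g⁻¹ * (x * (g * v * g⁻¹)) * g := by group
        _ = g⁻¹ * (g * v * g⁻¹ * x) * g := by rw [mem_cent.1 hx]
        _ = _ := by group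
  · rintro ⟨hxA, hx⟩
    refine ⟨?_, mem_cent.2 ?_⟩
    · simpa [mul_assoc] using conj_mem_cent e hg hxA
    · calc x * (g * v * g⁻¹) = g * (g⁻¹ * x * g * v) * g⁻¹ := by group
        _ = g * (v * (g⁻¹ * x * g)) * g⁻¹ := by rw [mem_cent.1 hx]
        _ = _ := by group

/-- An element of odd order of `C(A)` normalising a line group centralizes it. -/
theorem odd_cent_line (d : LineData A N n w h) {η : G} (hη : η ∈ centralizer (A : Set G))
    (hodd : Odd (orderOf η)) (hn : η ∈ normalizer (lineGrp A N w : Set G)) :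
    η ∈ centralizer (lineGrp A N w : Set G) := by
  obtain ⟨T, hT, dd⟩ := d.sz
  let α : MulAut (lineGrp A N w) :=
    { toFun := fun l => ⟨η * l * η⁻¹, (mem_normalizer_iff.1 hn _).1 l.2⟩
      invFun := fun l => ⟨η⁻¹ * l * η, by
        have := (mem_normalizer_iff.1 (inv_mem hn) _).1 l.2
        rwa [inv_inv] at this⟩
      left_inv := fun l => Subtype.ext (by simp [mul_assoc])
      right_inv := fun l => Subtype.ext (by simp [mul_assoc])
      map_mul' := fun a b => Subtype.ext (by simp [mul_assoc]) }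
  obtain ⟨t, ht, hα⟩ := dd.aut_fixZ α fun z hz =>
    Subtype.ext (conj_A (mem_subgroupOf.1 hz) hη)
  obtain ⟨j, hj⟩ := T.2 ⟨t, ht⟩
  have hj' : (t : G) ^ 2 ^ j = 1 := by
    simpa using congrArg (fun x : (T : Subgroup (lineGrp A N w)) => ((x : lineGrp A N w) : G)) hj
  have hc : (t : G)⁻¹ * η ∈ centralizer (lineGrp A N w : Set G) := mem_centralizer_iff.2 fun l hl => by
    have h1 : η * l * η⁻¹ = t * l * (t : G)⁻¹ :=
      congrArg Subtype.val (DFunLike.congr_fun hα ⟨l, hl⟩)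
    calc l * ((t : G)⁻¹ * η) = (t : G)⁻¹ * ((t : G) * l * (t : G)⁻¹) * η := by group
      _ = (t : G)⁻¹ * (η * l * η⁻¹) * η := by rw [h1]
      _ = _ := by group
  have hcomm : Commute (t : G) ((t : G)⁻¹ * η) := mem_centralizer_iff.1 hc t t.2
  obtain ⟨r, hr⟩ := exists_pow_of_odd hodd j
  rw [← hr]
  refine pow_mem ?_ r
  have := pow_mem hc (2 ^ j)
  rwa [show η = (t : G) * ((t : G)⁻¹ * η) by group, hcomm.mul_pow, hj', one_mul]

/-- An element of odd order of `C(A)` centralizing a bad involution is trivial. -/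
theorem odd_cent_eq_one {v η : G} (hv : Bad N v) (hη : η ∈ centralizer (A : Set G))
    (hodd : Odd (orderOf η)) (hc : η * v = v * η) : η = 1 :=
  eq_one_of_mem_two (e.jGrp_card_two hv).1 ⟨hη, mem_cent.2 hc⟩ hodd

/-- A bad involution commuting with `w` on the line of `w` lies in `kInv`. -/
theorem mem_kInv_of_fix (hw : Bad N w) {v : G} (hv : Bad N v) (hc : v * w = w * v)
    (hf : fixPts N v = fixPts N w) : v ∈ kInv A N w :=
  (e.mem_kInv_iff hw).2 ⟨⟨mem_cent.2 hc, mem_centralizer_iff.2 fun _ hl => by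
    rw [← NormalGame.lineGrp_congr hf] at hl
    exact mem_cent.1 ((e.lineGrp_props hv).2.1 hl)⟩, bad_sq hv⟩

/-- The kernels of two lines of `w` meet trivially. -/
theorem kerK_inter (hw : Bad N w) {y c : G} (hy : y ∈ A) (hy1 : y ≠ 1) (hc : c ∈ kerK A N w)
    (hc' : c ∈ kerK A N (w * y)) : c = 1 := by
  haveI : Fact (Nat.Prime 2) := ⟨Nat.prime_two⟩
  by_contra hc1
  obtain ⟨i, hi⟩ := (IsPGroup.iff_orderOf.1 (e.kerK_two hw).1) ⟨c, hc⟩
  rw [Subgroup.orderOf_mk] at hi
  obtain ⟨j, rfl⟩ : ∃ j, i = j + 1 := ⟨i - 1, by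
    have : i ≠ 0 := fun h0 => hc1 (orderOf_eq_one_iff.1 (by rw [hi, h0, pow_zero]))
    omega⟩
  have hd1 : c ^ 2 ^ j ≠ 1 := fun h1 => by
    have := Nat.le_of_dvd (by positivity) (hi ▸ orderOf_dvd_of_pow_eq_one h1)
    rw [pow_succ] at this
    have : 0 < 2 ^ j := by positivity
    omega
  have hd2 : c ^ 2 ^ j * c ^ 2 ^ j = 1 := by
    rw [← pow_add, ← two_mul, ← pow_succ', ← hi, pow_orderOf_eq_one]
  have h1 := (e.kerK_invol_bad hw (pow_mem hc _) hd2 hd1).2
  have h2 := (e.kerK_invol_bad (bad_mul e hw hy) (pow_mem hc' _) hd2 hd1).2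
  exact hy1 (e.lbl_inj hw hy (one_mem A) (by rw [mul_one, ← h2, h1]))

/-- A bad involution in `J` is again the centre of a maximal line with the same `J` and `E`. -/
theorem rebase (B : Base A N n w h) {v : G} (hv : Bad N v) (hvJ : v ∈ jGrp A w) :
    ∃ h', Base A N n v h' ∧ jGrp A v = jGrp A w ∧ eGrp A N v = eGrp A N w := by
  obtain ⟨h', d'⟩ := e.exists_lineData hv
  have hvE : v ∈ eGrp A N w := (e.mem_eGrp_iff B.line.bad).2 ⟨hvJ, bad_sq hv⟩
  have hJ : jGrp A v = jGrp A w := by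
    refine (Subgroup.eq_of_le_of_card_ge ?_ (B.jmax v hv)).symm
    exact fun j hj => ⟨hj.1, mem_cent.2 (B.line.E_central v hvE j hj).symm⟩
  refine ⟨h', ⟨d', fun u hu => (B.jmax u hu).trans (le_of_eq ?_)⟩, hJ, ?_⟩
  · rw [hJ]
  · ext x
    rw [e.mem_eGrp_iff hv, e.mem_eGrp_iff B.line.bad, hJ]

end Line

end CfsgLib.ThreeFree.UStr
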