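import Cfsg.Agent.Lib.ThreeFree.UStructBasic

/-!
The action on the labels `y ∈ A` of the lines of the involutions `w y`: it is affine, an element
fixing two labels centralizes `w`, an element of odd order fixes a label.
-/

set_option autoImplicit false
set_option linter.style.haveILetI false
set_option linter.unusedSectionVars false

namespace CfsgLib.ThreeFree.UStr

open Subgroup

universe u

variable {G : Type u} [Group G] [Finite G] {S : Sylow 2 G} {A N : Subgroup G} {n : ℕ} {w h : G}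

/-- `g` maps the line of `w y` to the line of `w y'`. -/
def Maps (A N : Subgroup G) (w g y y' : G) : Prop :=
  y ∈ A ∧ y' ∈ A ∧ fixPts N (g * (w * y) * g⁻¹) = fixPts N (w * y')

theorem maps_one {y : G} (hy : y ∈ A) : Maps A N w 1 y y := ⟨hy, hy, by rw [one_mul, inv_one, mul_one]⟩

theorem Maps.comp {g g' y y' y'' : G} (h' : Maps A N w g' y y') (h : Maps A N w g y' y'') :
    Maps A N w (g * g') y y'' := by
  refine ⟨h'.1, h.2.1, ?_⟩
  rw [show g * g' * (w * y) * (g * g')⁻¹ = g * (g' * (w * y) * g'⁻¹) * g⁻¹ by group, fixPts_conj,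
    h'.2.2, ← fixPts_conj, h.2.2]

theorem Maps.symm {g y y' : G} (hm : Maps A N w g y y') : Maps A N w g⁻¹ y' y := by
  refine ⟨hm.2.1, hm.1, ?_⟩
  rw [fixPts_conj, ← hm.2.2, ← fixPts_conj]
  congr 1
  group

section

variable (e : NormalGame S A N n)
include e

theorem Maps.unique (hw : Bad N w) {g y y' y'' : G} (h1 : Maps A N w g y y')
    (h2 : Maps A N w g y y'') : y' = y'' :=
  e.lbl_inj hw h1.2.1 h2.2.1 (h1.2.2.symm.trans h2.2.2)

theorem conj_bad (hw : Bad N w) {g y : G} (hg : g ∈ centralizer (A : Set G)) (hy : y ∈ A) :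
    g * (w * y) * g⁻¹ = g * w * g⁻¹ * y := by
  rw [show g * (w * y) * g⁻¹ = g * w * g⁻¹ * (g * y * g⁻¹) by group, conj_A hy hg]

/-- The action on the labels is affine. -/
theorem exists_affine (d : LineData A N n w h) {g : G} (hg : g ∈ centralizer (A : Set G))
    (hgw : g * w * g⁻¹ ∈ eGrp A N w) :
    ∃ a ∈ A, ∃ m : ℕ, ∀ y ∈ A, Maps A N w g y (a * (h ^ m * y * (h ^ m)⁻¹)) := by
  obtain ⟨c, hc, m, hm⟩ := d.affine g (cent_le_N e hg) hgw
  have hcA := e.conj_mem_A (pow_mem d.h_mem_N m) hc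
  refine ⟨_, hcA, m, fun y hy => ⟨hy, mul_mem hcA (e.conj_mem_A (pow_mem d.h_mem_N m) hy), ?_⟩⟩
  rw [hm y hy, conj_A hy hg]
  congr 2
  group

/-- The translations add up along the powers. -/
theorem maps_pow {g a : G} (ha : a ∈ A) (hg : ∀ y ∈ A, Maps A N w g y (a * y)) (i : ℕ) :
    ∀ y ∈ A, Maps A N w (g ^ i) y (a ^ i * y) := by
  induction i with
  | zero =>
    intro y hy
    rw [pow_zero, pow_zero, one_mul]
    exact maps_one hy
  | succ i ih =>
    intro y hy
    have h2 := (ih y hy).comp (hg _ (mul_mem (pow_mem ha i) hy))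
    rwa [← pow_succ', ← mul_assoc, ← pow_succ'] at h2

/-- A translation by an element of odd order is trivial. -/
theorem translation_odd (hw : Bad N w) {g a : G} (ha : a ∈ A)
    (hg : ∀ y ∈ A, Maps A N w g y (a * y)) (hodd : Odd (orderOf g)) : a = 1 := by
  have h1 := maps_pow e ha hg (orderOf g) 1 (one_mem A)
  rw [pow_orderOf_eq_one, mul_one] at h1
  obtain ⟨j, hj⟩ := hodd
  have h2 : 1 = a ^ orderOf g := Maps.unique e hw (maps_one (one_mem A)) h1
  rw [hj, pow_succ, pow_mul, pow_two, A_sq e ha, one_pow, one_mul] at h2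
  exact h2.symm

/-- An element fixing two labels centralizes `w`. -/
theorem fix_two (d : LineData A N n w h) {g y₁ y₂ : G} (hg : g ∈ centralizer (A : Set G))
    (hgw : g * w * g⁻¹ ∈ jGrp A w) (h1 : Maps A N w g y₁ y₁) (h2 : Maps A N w g y₂ y₂)
    (hne : y₁ ≠ y₂) : g * w = w * g := by
  have hy1 := h1.1
  have hy2 := h2.1
  have hw := d.bad
  have hgN := cent_le_N e hg
  -- membership in the kernel at a fixed label
  have key : ∀ y, Maps A N w g y y → g * w * g⁻¹ * w ∈ kerK A N (w * y) := by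
    intro y hm
    have hy := hm.1
    have hb : Bad N (w * y) := bad_mul e hw hy
    have hJ : g * (w * y) * g⁻¹ ∈ jGrp A (w * y) := by
      rw [jGrp_mul hy, conj_bad e hw hg hy]
      exact mul_mem hgw (A_le_jGrp' e hw hy)
    have hk : g * (w * y) * g⁻¹ ∈ kerK A N (w * y) :=
      ((e.mem_kInv_iff hb).1 (mem_kInv_of_fix e hb (hb.conj hgN) (mem_cent.1 hJ.2) hm.2.2)).1
    have := mul_mem hk (e.w_mem_kerK hb)
    rwa [conj_bad e hw hg hy, mul_assoc (g * w * g⁻¹), ← mul_assoc y w y,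
      mem_cent.1 (e.bad_centralizes hw hy), mul_assoc w y y, A_sq e hy, mul_one] at this
  have h3 : g * w * g⁻¹ * w = 1 := by
    refine kerK_inter e (bad_mul e hw hy1) (mul_mem hy1 hy2) ?_ (key y₁ h1) ?_
    · exact fun h => hne ((eq_inv_of_mul_eq_one_left h).trans (A_inv e hy2))
    · rw [show w * y₁ * (y₁ * y₂) = w * (y₁ * y₁) * y₂ by group, A_sq e hy1, mul_one]
      exact key y₂ h2
  exact mul_inv_eq_iff_eq_mul.1
    ((eq_inv_of_mul_eq_one_left h3).trans (inv_eq_of_mul_eq_one_right (bad_sq hw)))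

/-- Conjugation into `J` normalizes `J`. -/
theorem normJ (B : Base A N n w h) {g : G} (hg : g ∈ N) (hgw : g * w * g⁻¹ ∈ jGrp A w) :
    cj g (jGrp A w) = jGrp A w := by
  obtain ⟨h', -, hJ, -⟩ := rebase e B (B.line.bad.conj hg) hgw
  rw [← jGrp_conj e hg, hJ]

theorem conj_mem_E (B : Base A N n w h) {g x : G} (hgJ : ∀ x ∈ jGrp A w, g * x * g⁻¹ ∈ jGrp A w)
    (hx : x ∈ eGrp A N w) : g * x * g⁻¹ ∈ eGrp A N w := by
  obtain ⟨hxJ, hx2⟩ := (e.mem_eGrp_iff B.line.bad).1 hx
  refine (e.mem_eGrp_iff B.line.bad).2 ⟨hgJ x hxJ, ?_⟩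
  rw [show g * x * g⁻¹ * (g * x * g⁻¹) = g * (x * x) * g⁻¹ by group, hx2, mul_one, mul_inv_cancel]

theorem w_mem_E (d : LineData A N n w h) : w ∈ eGrp A N w :=
  (e.mem_eGrp_iff d.bad).2 ⟨mem_jGrp_self e d.bad, bad_sq d.bad⟩

/-- An element of odd order normalising `J` fixes a label. -/
theorem odd_fixed (B : Base A N n w h) {η : G} (hη : η ∈ centralizer (A : Set G))
    (hodd : Odd (orderOf η)) (hJ : ∀ x ∈ jGrp A w, η * x * η⁻¹ ∈ jGrp A w) :
    ∃ y ∈ A, Maps A N w η y y := by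
  have d := B.line
  obtain ⟨a, ha, m, hm⟩ := exists_affine e d hη (conj_mem_E e B hJ (w_mem_E e d))
  by_cases h1 : h ^ m = 1
  · have h2 : ∀ y ∈ A, Maps A N w η y (a * y) := fun y hy => by
      have := hm y hy
      rwa [h1, one_mul, inv_one, mul_one] at this
    have ha1 := translation_odd e d.bad ha h2 hodd
    refine ⟨1, one_mem A, ?_⟩
    have h3 := h2 1 (one_mem A)
    rwa [ha1, one_mul] at h3
  let f : A → A := fun y => ⟨(y : G) * (h ^ m * y * (h ^ m)⁻¹),
    mul_mem y.2 (e.conj_mem_A (pow_mem d.h_mem_N m) y.2)⟩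
  have hf : Function.Injective f := by
    intro y z hyz
    have e1 : (y : G) * (h ^ m * y * (h ^ m)⁻¹) = z * (h ^ m * z * (h ^ m)⁻¹) :=
      congrArg Subtype.val hyz
    have hyA := e.conj_mem_A (pow_mem d.h_mem_N m) y.2
    have h2 : h ^ m * ((y : G) * z) * (h ^ m)⁻¹ = y * z := by
      calc h ^ m * ((y : G) * z) * (h ^ m)⁻¹
          = (h ^ m * y * (h ^ m)⁻¹) * (h ^ m * z * (h ^ m)⁻¹) := by group
        _ = (y * y) * (h ^ m * y * (h ^ m)⁻¹) * (h ^ m * z * (h ^ m)⁻¹) := by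
            rw [A_sq e y.2, one_mul]
        _ = y * (y * (h ^ m * y * (h ^ m)⁻¹)) * (h ^ m * z * (h ^ m)⁻¹) := by group
        _ = y * z * ((h ^ m * z * (h ^ m)⁻¹) * (h ^ m * z * (h ^ m)⁻¹)) := by rw [e1]; group
        _ = y * z := by rw [A_sq e (e.conj_mem_A (pow_mem d.h_mem_N m) z.2), mul_one]
    have h3 := d.h_fpf m h1 _ (mul_mem y.2 z.2) (mul_inv_eq_iff_eq_mul.1 h2)
    exact Subtype.ext ((eq_inv_of_mul_eq_one_left h3).trans (A_inv e z.2))
  obtain ⟨⟨y, hy⟩, hye⟩ := Finite.surjective_of_injective hf ⟨a, ha⟩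
  refine ⟨y, hy, ?_⟩
  have h4 := hm y hy
  rwa [show a * (h ^ m * y * (h ^ m)⁻¹) = y by
    rw [← show y * (h ^ m * y * (h ^ m)⁻¹) = a from congrArg Subtype.val hye, mul_assoc,
      A_sq e (e.conj_mem_A (pow_mem d.h_mem_N m) hy), mul_one]] at h4

/-- A nontrivial element of odd order fixes one label only. -/
theorem odd_fix_unique (B : Base A N n w h) {η y₁ y₂ : G} (hη : η ∈ centralizer (A : Set G))
    (hodd : Odd (orderOf η)) (hJ : ∀ x ∈ jGrp A w, η * x * η⁻¹ ∈ jGrp A w) (hne : η ≠ 1)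
    (h1 : Maps A N w η y₁ y₁) (h2 : Maps A N w η y₂ y₂) : y₁ = y₂ := by
  by_contra hy
  exact hne (odd_cent_eq_one e B.line.bad hη hodd
    (fix_two e B.line hη (hJ w (mem_jGrp_self e B.line.bad)) h1 h2 hy))

/-- A nontrivial element of odd order fixing the label `1` is fixed-point-free on the labels. -/
theorem odd_linear (B : Base A N n w h) {η : G} (hη : η ∈ centralizer (A : Set G))
    (hodd : Odd (orderOf η)) (hJ : ∀ x ∈ jGrp A w, η * x * η⁻¹ ∈ jGrp A w) (hne : η ≠ 1)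
    (h1 : Maps A N w η 1 1) :
    ∃ m : ℕ, h ^ m ≠ 1 ∧ ∀ y ∈ A, Maps A N w η y (h ^ m * y * (h ^ m)⁻¹) := by
  have d := B.line
  obtain ⟨a, ha, m, hm⟩ := exists_affine e d hη (conj_mem_E e B hJ (w_mem_E e d))
  have ha1 : a = 1 := by
    have h2 := Maps.unique e d.bad (hm 1 (one_mem A)) h1
    rwa [mul_one (h ^ m), mul_inv_cancel, mul_one] at h2
  refine ⟨m, fun hm1 => ?_, fun y hy => by simpa [ha1] using hm y hy⟩
  obtain ⟨y, hy, hy1⟩ := e.exists_ne_one ((1 : G) : G ⧸ N)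
  rw [e.ptA_base] at hy
  have h2 := hm y hy
  rw [ha1, hm1, one_mul, one_mul, inv_one, mul_one] at h2
  exact hy1 (odd_fix_unique e B hη hodd hJ hne h2 h1)

/-- An element of odd order fixing the label `1` centralizes the line group of `w`. -/
theorem odd_cent_of_fix (d : LineData A N n w h) {η : G} (hη : η ∈ centralizer (A : Set G))
    (hodd : Odd (orderOf η)) (h1 : Maps A N w η 1 1) :
    η ∈ centralizer (lineGrp A N w : Set G) := by
  refine odd_cent_line e d hη hodd (mem_normalizer_fintype fun l hl => ?_)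
  have h2 : fixPts N (η * w * η⁻¹) = fixPts N w := by
    have := h1.2.2
    rwa [mul_one] at this
  rw [← NormalGame.lineGrp_congr h2, lineGrp_conj e]
  exact cj_mem.2 hl

end

end CfsgLib.ThreeFree.UStr
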