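import Cfsg.Agent.Lib.ThreeFree.UStructLabels

/-!
When `J` is a Sylow 2-subgroup of `C(A)`: no nontrivial element of odd order of `C(A)` normalizes
`J`. The affine maps of such elements commute, so they have a common fixed label, but the tori of
the lines move it.
-/

set_option autoImplicit false
set_option linter.style.haveILetI false
set_option linter.unusedSectionVars false

namespace CfsgLib.ThreeFree.UStr

open Subgroup

universe u

variable {G : Type u} [Group G] [Finite G] {S : Sylow 2 G} {A N : Subgroup G} {n : ℕ} {w h : G}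

theorem np_odd_aux (e : NormalGame S A N n) (B : Base A N n w h)
    (hmax : ∀ Q : Subgroup G, IsPGroup 2 Q → Q ≤ centralizer (A : Set G) → jGrp A w ≤ Q →
      Q = jGrp A w) {η : G} (hη : η ∈ centralizer (A : Set G)) (hodd : Odd (orderOf η))
    (hJ : ∀ x ∈ jGrp A w, η * x * η⁻¹ ∈ jGrp A w) (h1 : Maps A N w η 1 1) : η = 1 := by
  haveI : Fact (Nat.Prime 2) := ⟨Nat.prime_two⟩
  by_contra hne
  have d := B.line
  have hw := d.bad
  obtain ⟨m, hm, hφ⟩ := odd_linear e B hη hodd hJ hne h1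
  -- the torus of another line
  obtain ⟨y, hy, hy1⟩ := e.exists_ne_one ((1 : G) : G ⧸ N)
  rw [e.ptA_base] at hy
  have hwy := bad_mul e hw hy
  obtain ⟨g, d'⟩ := e.exists_lineData hwy
  have hgN := d'.h_mem_N
  have hgy : g * (w * y) * g⁻¹ = w * y := by
    rw [mem_cent.1 (d'.le_cent d'.h_mem), mul_inv_cancel_right]
  have hgA : g * y * g⁻¹ ∈ A := e.conj_mem_A hgN hy
  have hgw : g * w * g⁻¹ = w * (y * (g * y * g⁻¹)) := by
    calc g * w * g⁻¹ = g * (w * y) * g⁻¹ * (g * y * g⁻¹)⁻¹ := by group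
      _ = _ := by rw [hgy, A_inv e hgA, mul_assoc]
  set b := y * (g * y * g⁻¹) with hb
  have hbA : b ∈ A := mul_mem hy hgA
  have hb1 : b ≠ 1 := fun h0 => by
    have hg1 : g ^ 1 ≠ 1 := h_pow_ne_one d' one_pos (by have := e.one_lt; omega)
    refine hy1 (d'.h_fpf 1 hg1 y hy ?_)
    rw [pow_one]
    refine mul_inv_eq_iff_eq_mul.1 ?_
    exact (eq_inv_of_mul_eq_one_right h0).trans (A_inv e hy)
  have hgm : Maps A N w g 1 b := ⟨one_mem A, hbA, by rw [mul_one, hgw]⟩
  have hgJ : cj g (jGrp A w) = jGrp A w :=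
    normJ e B hgN (by rw [hgw]; exact mul_mem (mem_jGrp_self e hw) (A_le_jGrp' e hw hbA))
  have hgJ' : cj g⁻¹ (jGrp A w) = jGrp A w := cj_inv_eq hgJ
  -- the conjugate element
  set η' := g * η * g⁻¹ with hη'
  have hη'A : η' ∈ centralizer (A : Set G) := conj_mem_cent e hgN hη
  have hη'o : Odd (orderOf η') := by rwa [hη', CfsgLib.Involutions.orderOf_conj_eq]
  have hη'J : ∀ x ∈ jGrp A w, η' * x * η'⁻¹ ∈ jGrp A w := by
    intro x hx
    rw [← hgJ, mem_cj] at hx ⊢
    have := hJ _ hx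
    simpa [hη', mul_assoc] using this
  have hη'1 : η' ≠ 1 := fun h0 => hne (by simpa [hη'] using h0)
  have hbb : Maps A N w η' b b := by
    rw [hη', mul_assoc]
    exact (hgm.symm.comp h1).comp hgm
  obtain ⟨a, ha, m', hφ'⟩ := exists_affine e d hη'A (conj_mem_E e B hη'J (w_mem_E e d))
  -- the commutator is a translation by `φ a * a`
  set p := h ^ m with hp
  set p' := h ^ m' with hp'
  have hpN : p ∈ N := pow_mem d.h_mem_N m
  have hp'N : p' ∈ N := pow_mem d.h_mem_N m'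
  have hpp : p * p' = p' * p := by rw [hp, hp', ← pow_add, ← pow_add, add_comm]
  have hη1 : η ∈ centralizer (A : Set G) := hη
  set g₀ := η * η' * (η' * η)⁻¹ with hg₀
  have htr : ∀ v ∈ A, Maps A N w g₀ v (p * a * p⁻¹ * a * v) := by
    intro v hv
    set z := (p' * p)⁻¹ * (a * v) * (p' * p) with hz
    have hzA : z ∈ A := by
      have := e.conj_mem_A (inv_mem (mul_mem hp'N hpN)) (mul_mem ha hv)
      simpa [hz, mul_assoc] using this
    have hpz : p * z * p⁻¹ ∈ A := e.conj_mem_A hpN hzA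
    have hp'z : p' * z * p'⁻¹ ∈ A := e.conj_mem_A hp'N hzA
    have h3 : Maps A N w (η * η') z (p * (a * (p' * z * p'⁻¹)) * p⁻¹) :=
      (hφ' z hzA).comp (hφ _ (mul_mem ha hp'z))
    have h4 : Maps A N w (η' * η) z (a * (p' * (p * z * p⁻¹) * p'⁻¹)) :=
      (hφ z hzA).comp (hφ' _ hpz)
    have e4 : a * (p' * (p * z * p⁻¹) * p'⁻¹) = v := by
      rw [show p' * (p * z * p⁻¹) * p'⁻¹ = (p' * p) * z * (p' * p)⁻¹ by group,
        show (p' * p) * z * (p' * p)⁻¹ = a * v by rw [hz]; group, ← mul_assoc, A_sq e ha, one_mul]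
    have e3 : p * (a * (p' * z * p'⁻¹)) * p⁻¹ = p * a * p⁻¹ * a * v := by
      rw [show p * (a * (p' * z * p'⁻¹)) * p⁻¹ = p * a * p⁻¹ * ((p * p') * z * (p * p')⁻¹) by group,
        hpp, show (p' * p) * z * (p' * p)⁻¹ = a * v by rw [hz]; group, ← mul_assoc]
    rw [e3] at h3
    rw [e4] at h4
    exact h4.symm.comp h3
  set c := p * a * p⁻¹ * a with hc
  have hcA : c ∈ A := mul_mem (e.conj_mem_A hpN ha) ha
  have hg₀A : g₀ ∈ centralizer (A : Set G) :=
    mul_mem (mul_mem hη hη'A) (inv_mem (mul_mem hη'A hη))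
  have hg₀n : g₀ ∈ normalizer (jGrp A w : Set G) := by
    have h5 : η ∈ normalizer (jGrp A w : Set G) := mem_normalizer_fintype hJ
    have h6 : η' ∈ normalizer (jGrp A w : Set G) := mem_normalizer_fintype hη'J
    exact mul_mem (mul_mem h5 h6) (inv_mem (mul_mem h6 h5))
  -- the 2-part of the commutator lies in `J`
  obtain ⟨s, r, hr, hsr⟩ := Nat.exists_eq_two_pow_mul_odd (orderOf_pos g₀).ne'
  have h2grp : IsPGroup 2 (zpowers (g₀ ^ r)) := by
    obtain ⟨i, -, hi⟩ := (Nat.dvd_prime_pow Nat.prime_two).1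
      (orderOf_dvd_of_pow_eq_one (x := g₀ ^ r) (n := 2 ^ s)
        (by rw [← pow_mul, mul_comm, ← hsr, pow_orderOf_eq_one]))
    exact IsPGroup.of_card (n := i) (by rw [Nat.card_zpowers, hi])
  have hrJ : g₀ ^ r ∈ jGrp A w := by
    have h7 := IsPGroup.to_sup_of_normal_right' h2grp d.J_two (zpowers_le.2 (pow_mem hg₀n r))
    rw [← hmax _ h7 (sup_le (zpowers_le.2 (pow_mem hg₀A r)) inf_le_left) le_sup_right]
    exact mem_sup_left (mem_zpowers _)
  have hfix : Maps A N w (g₀ ^ r) 1 1 := ⟨one_mem A, one_mem A, by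
    rw [mul_one, mem_cent.1 hrJ.2, mul_inv_cancel_right]⟩
  have hc1 : c = 1 := by
    have h8 : 1 = c ^ r * 1 := Maps.unique e hw hfix (maps_pow e hcA htr r 1 (one_mem A))
    obtain ⟨j, hj⟩ := hr
    rw [mul_one, hj, pow_succ, pow_mul, pow_two, A_sq e hcA, one_pow, one_mul] at h8
    exact h8.symm
  have ha1 : a = 1 := d.h_fpf m hm a ha (mul_inv_eq_iff_eq_mul.1
    ((eq_inv_of_mul_eq_one_left hc1).trans (A_inv e ha)))
  have h11 : Maps A N w η' 1 1 := by
    have := hφ' 1 (one_mem A)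
    rwa [ha1, mul_one, mul_inv_cancel, mul_one] at this
  exact hb1 (odd_fix_unique e B hη'A hη'o hη'J hη'1 hbb h11)

/-- In the case `P = J` no nontrivial element of odd order normalizes `J`. -/
theorem np_odd (e : NormalGame S A N n) (B : Base A N n w h)
    (hmax : ∀ Q : Subgroup G, IsPGroup 2 Q → Q ≤ centralizer (A : Set G) → jGrp A w ≤ Q →
      Q = jGrp A w) {η : G} (hη : η ∈ centralizer (A : Set G)) (hodd : Odd (orderOf η))
    (hJ : ∀ x ∈ jGrp A w, η * x * η⁻¹ ∈ jGrp A w) : η = 1 := by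
  obtain ⟨y, hy, hyy⟩ := odd_fixed e B hη hodd hJ
  obtain ⟨h', B', hJ', -⟩ := rebase e B (bad_mul e B.line.bad hy)
    (mul_mem (mem_jGrp_self e B.line.bad) (A_le_jGrp' e B.line.bad hy))
  refine np_odd_aux e B' (fun Q h1 h2 h3 => ?_) hη hodd (by rwa [hJ'])
    ⟨one_mem A, one_mem A, by rw [mul_one]; exact hyy.2.2⟩
  rw [hJ'] at h3 ⊢
  exact hmax Q h1 h2 h3

end CfsgLib.ThreeFree.UStr
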