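import Cfsg.Agent.Lib.ThreeFree.UStructLabels

/-!
When all translations occur in the Sylow 2-subgroup `P` of `C(A)`: the kernel `K` is elementary
abelian and `P` acts trivially on `E / A` and on `J / E`.
-/

set_option autoImplicit false
set_option linter.style.haveILetI false
set_option linter.unusedSectionVars false

namespace CfsgLib.ThreeFree.UStr

open Subgroup

universe u

variable {G : Type u} [Group G] [Finite G] {S : Sylow 2 G} {A N : Subgroup G} {n : ℕ}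
  {w h : G} {P : Subgroup G}

/-- Commutators lie where squares lie. -/
theorem comm_mem_of_sq {H A : Subgroup G} (hA : ∀ a ∈ A, ∀ x ∈ H, x * a = a * x)
    (hsq : ∀ x ∈ H, x * x ∈ A) {a b : G} (ha : a ∈ H) (hb : b ∈ H) :
    a * b * a⁻¹ * b⁻¹ ∈ A := by
  have h1 : (a * a)⁻¹ * b = b * (a * a)⁻¹ := (hA _ (inv_mem (hsq a ha)) b hb).symm
  rw [show a * b * a⁻¹ * b⁻¹ = (a * b) * (a * b) * (b⁻¹ * ((a * a)⁻¹ * b)) * (b * b)⁻¹ by group, h1,
    inv_mul_cancel_left]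
  exact mul_mem (mul_mem (hsq _ (mul_mem ha hb)) (inv_mem (hsq a ha))) (inv_mem (hsq b hb))

section General

variable (e : NormalGame S A N n)
include e

theorem conj_kerK {g v c : G} (hc : c ∈ kerK A N v) :
    g * c * g⁻¹ ∈ kerK A N (g * v * g⁻¹) := by
  refine Subgroup.mem_inf.2 ⟨mem_cent.2 ?_, mem_centralizer_iff.2 fun l hl => ?_⟩
  · calc g * c * g⁻¹ * (g * v * g⁻¹) = g * (c * v) * g⁻¹ := by group
      _ = g * (v * c) * g⁻¹ := by rw [mem_cent.1 hc.1]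
      _ = _ := by group
  · rw [SetLike.mem_coe, lineGrp_conj e, mem_cj] at hl
    calc l * (g * c * g⁻¹) = g * (g⁻¹ * l * g * c) * g⁻¹ := by group
      _ = g * (c * (g⁻¹ * l * g)) * g⁻¹ := by rw [mem_centralizer_iff.1 hc.2 _ hl]
      _ = _ := by group

theorem conj_tGrp {g v t : G} (hg : g ∈ N) (ht : t ∈ tGrp A N v) :
    g * t * g⁻¹ ∈ tGrp A N (g * v * g⁻¹) :=
  ⟨(lineGrp_conj e g v).ge (cj_mem.2 ht.1), conj_mem_cent e hg ht.2⟩

end General

section Sylow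

variable (e : NormalGame S A N n) (s : Syl A N n w h P)
include s

theorem Syl.J_le : jGrp A w ≤ P := fun x hx => (s.mem_iff x).2
  ⟨hx.1, 1, one_mem A, by rw [mul_one, mem_cent.1 hx.2, mul_inv_cancel_right]⟩

theorem Syl.P_le_N (e : NormalGame S A N n) : P ≤ N := s.P_le.trans (cent_le_N e)

theorem Syl.label {x : G} (hx : x ∈ P) : ∃ a ∈ A, x * w * x⁻¹ = w * a := ((s.mem_iff x).1 hx).2

theorem Syl.label_mul {x y a b : G} (hx : x ∈ P) (ha : x * w * x⁻¹ = w * a) (hb : b ∈ A)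
    (hy : y * w * y⁻¹ = w * b) : x * y * w * (x * y)⁻¹ = w * (a * b) := by
  calc x * y * w * (x * y)⁻¹ = x * (y * w * y⁻¹) * x⁻¹ := by group
    _ = x * w * x⁻¹ * (x * b * x⁻¹) := by rw [hy]; group
    _ = _ := by rw [ha, conj_A hb (s.P_le hx), mul_assoc]

include e

theorem Syl.mem_J {x : G} (hx : x ∈ P) (hw : x * w * x⁻¹ = w) : x ∈ jGrp A w :=
  ⟨s.P_le hx, mem_cent.2 (mul_inv_eq_iff_eq_mul.1 hw)⟩

/-- Elements with the same label differ by an element of `J`. -/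
theorem Syl.same_label {x y a : G} (hx : x ∈ P) (hy : y ∈ P) (ha : x * w * x⁻¹ = w * a)
    (ha' : y * w * y⁻¹ = w * a) : x⁻¹ * y ∈ jGrp A w := by
  refine s.mem_J e (mul_mem (inv_mem hx) hy) ?_
  calc x⁻¹ * y * w * (x⁻¹ * y)⁻¹ = x⁻¹ * (y * w * y⁻¹) * x := by group
    _ = x⁻¹ * (x * w * x⁻¹) * x := by rw [ha', ← ha]
    _ = w := by group

theorem Syl.h_conj {x a : G} (hx : x ∈ P) (ha : a ∈ A) (hxa : x * w * x⁻¹ = w * a) (k : ℕ) :
    h ^ k * x * (h ^ k)⁻¹ ∈ P ∧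
      h ^ k * x * (h ^ k)⁻¹ * w * (h ^ k * x * (h ^ k)⁻¹)⁻¹ =
        w * (h ^ k * a * (h ^ k)⁻¹) := by
  have d := s.base.line
  have hN : h ^ k ∈ N := pow_mem d.h_mem_N k
  have h1 : (h ^ k)⁻¹ * w = w * (h ^ k)⁻¹ := (show Commute (h ^ k) w from h_comm_w d k).inv_left
  have h2 : h ^ k * x * (h ^ k)⁻¹ * w * (h ^ k * x * (h ^ k)⁻¹)⁻¹ =
      w * (h ^ k * a * (h ^ k)⁻¹) := by
    calc h ^ k * x * (h ^ k)⁻¹ * w * (h ^ k * x * (h ^ k)⁻¹)⁻¹
        = h ^ k * x * ((h ^ k)⁻¹ * w) * h ^ k * x⁻¹ * (h ^ k)⁻¹ := by group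
      _ = h ^ k * (x * w * x⁻¹) * (h ^ k)⁻¹ := by rw [h1]; group
      _ = h ^ k * w * a * (h ^ k)⁻¹ := by rw [hxa]; group
      _ = w * (h ^ k * a * (h ^ k)⁻¹) := by rw [h_comm_w d k]; group
  exact ⟨(s.mem_iff _).2 ⟨conj_mem_cent e hN (s.P_le hx), _, e.conj_mem_A hN ha, h2⟩, h2⟩

theorem Syl.conj_J {x : G} (hx : x ∈ P) {j : G} (hj : j ∈ jGrp A w) :
    x * j * x⁻¹ ∈ jGrp A w := by
  obtain ⟨a, ha, hxa⟩ := s.label hx
  have h1 := normJ e s.base (s.P_le_N e hx) (by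
    rw [hxa]; exact mul_mem (mem_jGrp_self e s.base.line.bad) (A_le_jGrp' e s.base.line.bad ha))
  have h2 := cj_mem (m := x).2 hj
  rwa [h1] at h2

theorem Syl.conj_E {x : G} (hx : x ∈ P) {c : G} (hc : c ∈ eGrp A N w) :
    x * c * x⁻¹ ∈ eGrp A N w :=
  conj_mem_E e s.base (fun _ hj => s.conj_J e hx hj) hc

end Sylow

section Translations

variable (e : NormalGame S A N n) (t : Trans A N n w h P)
include e t

theorem Trans.card_P : Nat.card P = 2 ^ n * Nat.card (jGrp A w) := by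
  have s := t.syl
  choose x hxP hx using fun a : A => t.surj a a.2
  let f : A × jGrp A w → P := fun p => ⟨x p.1 * p.2, mul_mem (hxP p.1) (s.J_le p.2.2)⟩
  have hlab : ∀ p : A × jGrp A w, (f p : G) * w * (f p : G)⁻¹ = w * p.1 := by
    intro p
    show x p.1 * p.2 * w * (x p.1 * p.2)⁻¹ = _
    have hj := s.label_mul (b := 1) (hxP p.1) (hx p.1) (one_mem A) (y := (p.2 : G))
      (by rw [mem_cent.1 p.2.2.2, mul_inv_cancel_right, mul_one])
    rwa [mul_one] at hj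
  have hf : Function.Bijective f := by
    refine ⟨fun p q hpq => ?_, fun y => ?_⟩
    · have h1 : p.1 = q.1 := Subtype.ext (mul_left_cancel ((hlab p).symm.trans (hpq ▸ hlab q)))
      have h2 : x p.1 * p.2 = x q.1 * q.2 := congrArg Subtype.val hpq
      rw [h1] at h2
      exact Prod.ext h1 (Subtype.ext (mul_left_cancel h2))
    · obtain ⟨a, ha, hya⟩ := s.label y.2
      refine ⟨(⟨a, ha⟩, ⟨_, s.same_label e (hxP ⟨a, ha⟩) y.2 (hx ⟨a, ha⟩) hya⟩), Subtype.ext ?_⟩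
      exact mul_inv_cancel_left _ _
  rw [← Nat.card_eq_of_bijective f hf, Nat.card_prod, e.base.card_A]

/-- A translation moves every nontrivial element of `K` out of `K`. -/
theorem Trans.K_inter {x a c : G} (ha : a ∈ A) (hxa : x * w * x⁻¹ = w * a) (ha1 : a ≠ 1)
    (hc : c ∈ kerK A N w) (hc' : x * c * x⁻¹ ∈ kerK A N w) : c = 1 := by
  have h1 := conj_kerK e (g := x) hc
  rw [hxa] at h1
  exact conj_eq_one_iff.1 (kerK_inter e t.syl.base.line.bad ha ha1 hc' h1)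

/-- `K` is elementary abelian. -/
theorem Trans.K_sq {c : G} (hc : c ∈ kerK A N w) : c * c = 1 := by
  have s := t.syl
  have d := s.base.line
  have hw := d.bad
  obtain ⟨a, ha, ha1⟩ := e.exists_ne_one ((1 : G) : G ⧸ N)
  rw [e.ptA_base] at ha
  obtain ⟨x, hx, hxa⟩ := t.surj a ha
  choose T' hT' K' hK' hdec using fun j : jGrp A w => d.J_decomp j j.2
  let π : tGrp A N w → tGrp A N w := fun u =>
    ⟨T' ⟨_, s.conj_J e hx (d.T_le_J u.2)⟩, hT' _⟩
  have hπ : Function.Injective π := by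
    intro u u' huu
    set j : jGrp A w := ⟨_, s.conj_J e hx (d.T_le_J u.2)⟩
    set j' : jGrp A w := ⟨_, s.conj_J e hx (d.T_le_J u'.2)⟩
    have h1 : T' j = T' j' := congrArg Subtype.val huu
    have h2 : x * ((u : G)⁻¹ * u') * x⁻¹ ∈ kerK A N w := by
      rw [show x * ((u : G)⁻¹ * u') * x⁻¹ = (j : G)⁻¹ * (j' : G) by simp only [j, j']; group,
        hdec j, hdec j', h1, mul_inv_rev, mul_assoc, inv_mul_cancel_left]
      exact mul_mem (inv_mem (hK' j)) (hK' j')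
    set r := (u : G)⁻¹ * u'
    have hr : r ∈ tGrp A N w := mul_mem (inv_mem u.2) u'.2
    have h3 : r * r ∈ kerK A N w := by
      have h4 := mul_mem h2 h2
      rwa [show x * r * x⁻¹ * (x * r * x⁻¹) = x * (r * r) * x⁻¹ by group,
        conj_A (d.T_sq r hr) (s.P_le hx)] at h4
    have h5 : r ∈ A := d.T_invol r hr (e.inf_eq_one hw (d.A_le (d.T_sq r hr)) h3)
    rw [conj_A h5 (s.P_le hx)] at h2
    exact Subtype.ext (inv_mul_eq_one.1 (e.inf_eq_one hw (d.A_le h5) h2))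
  set j₀ : jGrp A w := ⟨_, s.conj_J e hx (d.K_le_J hc)⟩
  have hA' : T' j₀ ∈ A := by
    refine T_center e d (hT' j₀) fun t' ht' => ?_
    obtain ⟨u, hu⟩ := Finite.surjective_of_injective hπ ⟨t', ht'⟩
    set j : jGrp A w := ⟨_, s.conj_J e hx (d.T_le_J u.2)⟩
    have hj : T' j = t' := congrArg Subtype.val hu
    have h1 : (j₀ : G) * j = j * j₀ := by
      show x * c * x⁻¹ * (x * u * x⁻¹) = x * u * x⁻¹ * (x * c * x⁻¹)
      calc x * c * x⁻¹ * (x * u * x⁻¹) = x * (c * u) * x⁻¹ := by group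
        _ = x * (u * c) * x⁻¹ := by rw [tk_comm u.2 hc]
        _ = _ := by group
    rw [hdec j₀, hdec j, hj, mul_assoc, ← mul_assoc (K' j₀), tk_comm ht' (hK' j₀), mul_assoc t',
      ← mul_assoc, mul_assoc t' (K' j), ← mul_assoc (K' j), tk_comm (hT' j₀) (hK' j),
      mul_assoc (T' j₀) (K' j), ← mul_assoc t'] at h1
    exact (tk_unique e hw (mul_mem (hT' j₀) ht') (mul_mem ht' (hT' j₀))
      (mul_mem (hK' j₀) (hK' j)) (mul_mem (hK' j) (hK' j₀)) h1).1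
  refine t.K_inter e ha hxa ha1 (mul_mem hc hc) ?_
  rw [show x * (c * c) * x⁻¹ = (j₀ : G) * j₀ by simp only [j₀]; group, hdec j₀,
    tk_sq e (hT' j₀) (hK' j₀), A_sq e hA', one_mul]
  exact mul_mem (hK' j₀) (hK' j₀)

theorem Trans.mem_kInv {c : G} (hc : c ∈ kerK A N w) : c ∈ kInv A N w :=
  (e.mem_kInv_iff t.syl.base.line.bad).2 ⟨hc, t.K_sq e hc⟩

theorem Trans.K_le_E {c : G} (hc : c ∈ kerK A N w) : c ∈ eGrp A N w :=
  mem_sup_right (t.mem_kInv e hc)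

theorem Trans.J_sq {j : G} (hj : j ∈ jGrp A w) : j * j ∈ A := by
  obtain ⟨u, hu, c, hc, rfl⟩ := t.syl.base.line.J_decomp j hj
  rw [tk_sq e hu hc, t.K_sq e hc, mul_one]
  exact t.syl.base.line.T_sq u hu

theorem Trans.J_comm {a b : G} (ha : a ∈ jGrp A w) (hb : b ∈ jGrp A w) :
    a * b * a⁻¹ * b⁻¹ ∈ A :=
  comm_mem_of_sq (H := jGrp A w) (fun _ h1 _ h2 => A_central h1 h2.1) (fun _ hx => t.J_sq e hx) ha hb

/-- `P` centralizes `E / A`. -/
theorem Trans.conj_K {x c : G} (hx : x ∈ P) (hc : c ∈ kerK A N w) :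
    c⁻¹ * (x * c * x⁻¹) ∈ A := by
  have s := t.syl
  have d := s.base.line
  have hw := d.bad
  have hcE := t.K_le_E e hc
  obtain ⟨a, ha, hxa⟩ := s.label hx
  by_cases ha1 : a = 1
  · have hxJ : x ∈ jGrp A w := s.mem_J e hx (by rw [hxa, ha1, mul_one])
    rw [← e.eGrp_central hw hcE hxJ, mul_inv_cancel_right, inv_mul_cancel]
    exact one_mem A
  -- the `K`-part of the conjugate does not depend on the translation
  have hpart : ∀ c ∈ kerK A N w, ∃ k ∈ kerK A N w, ∀ z ∈ P, z * w * z⁻¹ ≠ w →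
      k⁻¹ * (z * c * z⁻¹) ∈ A := by
    intro c hc
    obtain ⟨a', ha', k, hk, hck⟩ := e.eGrp_decomp hw (s.conj_E e hx (t.K_le_E e hc))
    have hkK := ((e.mem_kInv_iff hw).1 hk).1
    refine ⟨k, hkK, fun z hz hzw => ?_⟩
    obtain ⟨b, hb, hzb⟩ := s.label hz
    have hb1 : b ≠ 1 := fun h0 => hzw (by rw [hzb, h0, mul_one])
    obtain ⟨i, hi⟩ := d.h_trans a ha ha1 b hb hb1
    obtain ⟨hyP, hy⟩ := s.h_conj e hx ha hxa i
    rw [hi] at hy
    set y := h ^ i * x * (h ^ i)⁻¹ with hydef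
    have hyc : y * c * y⁻¹ = h ^ i * a' * (h ^ i)⁻¹ * k := by
      have h1 : (h ^ i)⁻¹ * c = c * (h ^ i)⁻¹ :=
        (show Commute (h ^ i) c from h_comm_K d i hc).inv_left
      calc y * c * y⁻¹ = h ^ i * x * ((h ^ i)⁻¹ * c) * h ^ i * x⁻¹ * (h ^ i)⁻¹ := by
            rw [hydef]; group
        _ = h ^ i * (x * c * x⁻¹) * (h ^ i)⁻¹ := by rw [h1]; group
        _ = h ^ i * a' * (h ^ i)⁻¹ * (h ^ i * k * (h ^ i)⁻¹) := by rw [hck]; group
        _ = _ := by rw [h_comm_K d i hkK, mul_inv_cancel_right]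
    have hj := s.same_label e hyP hz hy hzb
    have hzc : z * c * z⁻¹ = y * c * y⁻¹ := by
      rw [show z * c * z⁻¹ = y * ((y⁻¹ * z) * c * (y⁻¹ * z)⁻¹) * y⁻¹ by group,
        ← e.eGrp_central hw (t.K_le_E e hc) hj, mul_inv_cancel_right]
    have hA2 : h ^ i * a' * (h ^ i)⁻¹ ∈ A := e.conj_mem_A (pow_mem d.h_mem_N i) ha'
    rw [hzc, hyc, ← A_central hA2 (d.K_le_J hkK).1, inv_mul_cancel_left]
    exact hA2
  obtain ⟨k, hk, hkz⟩ := hpart c hc
  obtain ⟨k₂, hk₂, hk₂z⟩ := hpart k hk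
  have hne : ∀ {z b : G}, b ≠ 1 → z * w * z⁻¹ = w * b → z * w * z⁻¹ ≠ w := fun hb hz h0 =>
    hb (mul_eq_left.1 (hz.symm.trans h0))
  -- two translations with a nontrivial product
  obtain ⟨b, hb, hb1, hba⟩ : ∃ b ∈ A, b ≠ 1 ∧ b ≠ a := by
    by_contra! hcon
    have h1 : (A : Set G) ⊆ {1, a} := fun b hb => by
      by_cases h1 : b = 1
      · exact Or.inl h1
      · exact Or.inr (hcon b hb h1)
    have h2 := Set.ncard_le_ncard h1 (Set.toFinite _)
    rw [← Nat.card_coe_set_eq, SetLike.coe_sort_coe, e.base.card_A] at h2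
    have := e.one_lt
    have : ({1, a} : Set G).ncard ≤ 2 := (Set.ncard_insert_le _ _).trans (by simp)
    omega
  obtain ⟨y, hy, hyb⟩ := t.surj b hb
  have hab : a * b ≠ 1 := fun h0 =>
    hba ((eq_inv_of_mul_eq_one_right h0).trans (A_inv e ha))
  have hxy : x * y * w * (x * y)⁻¹ = w * (a * b) := s.label_mul hx hxa hb hyb
  have h1 := hkz _ (mul_mem hx hy) (hne hab hxy)
  have h2 := hkz y hy (hne hb1 hyb)
  have h3 := hk₂z x hx (hne ha1 hxa)
  set u := k⁻¹ * (y * c * y⁻¹) with hu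
  have e1 : x * y * c * (x * y)⁻¹ = x * k * x⁻¹ * u := by
    calc x * y * c * (x * y)⁻¹ = x * k * x⁻¹ * (x * u * x⁻¹) := by rw [hu]; group
      _ = _ := by rw [conj_A h2 (s.P_le hx)]
  rw [e1] at h1
  have h4 : k⁻¹ * (x * k * x⁻¹) ∈ A := by
    simpa [mul_assoc] using mul_mem h1 (inv_mem h2)
  have h6 : (x * k * x⁻¹)⁻¹ * (x * c * x⁻¹) ∈ A := by
    have := mul_mem (inv_mem h4) (hkz x hx (hne ha1 hxa))
    simpa [mul_assoc] using this
  have h7 : k⁻¹ * c ∈ A := by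
    have := conj_A h6 (inv_mem (s.P_le hx))
    have h8 : x⁻¹ * ((x * k * x⁻¹)⁻¹ * (x * c * x⁻¹)) * x⁻¹⁻¹ = k⁻¹ * c := by group
    rw [h8] at this
    exact this ▸ h6
  have hkc : k = c := inv_mul_eq_one.1
    (e.inf_eq_one hw (d.A_le h7) (mul_mem (inv_mem hk) hc))
  exact hkc ▸ hkz x hx (hne ha1 hxa)

/-- The translation of an element of `K` is nontrivial. -/
theorem Trans.tau_ne_one {x a c : G} (ha : a ∈ A) (hxa : x * w * x⁻¹ = w * a) (ha1 : a ≠ 1)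
    (hc : c ∈ kerK A N w) (hc1 : c ≠ 1) : c⁻¹ * (x * c * x⁻¹) ≠ 1 := fun h0 =>
  hc1 (t.K_inter e ha hxa ha1 hc ((inv_mul_eq_one.1 h0) ▸ hc))

/-- `P` centralizes `J / E`. -/
theorem Trans.conj_T {x u : G} (hx : x ∈ P) (hu : u ∈ tGrp A N w) :
    ∃ a ∈ A, ∃ c ∈ kerK A N w, x * u * x⁻¹ = u * a * c := by
  have d := t.syl.base.line
  obtain ⟨u', hu', c, hc, huc⟩ := d.J_decomp _ (t.syl.conj_J e hx (d.T_le_J hu))
  have hsq : u' * u' = u * u := by
    calc u' * u' = u' * c * (u' * c) := by rw [tk_sq e hu' hc, t.K_sq e hc, mul_one]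
      _ = x * (u * u) * x⁻¹ := by rw [← huc]; group
      _ = u * u := conj_A (d.T_sq u hu) (t.syl.P_le hx)
  exact ⟨u⁻¹ * u', sq_inj e d hu hu' hsq.symm, c, hc, by rw [huc, mul_inv_cancel_left]⟩

/-- An element of `N` normalising `J` normalizes `P`. -/
theorem Trans.conj_P {g : G} (hg : g ∈ N) (hgJ : cj g (jGrp A w) = jGrp A w) {x : G}
    (hx : x ∈ P) : g * x * g⁻¹ ∈ P := by
  have s := t.syl
  have hw := s.base.line.bad
  set v := g⁻¹ * w * g with hv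
  have hvE : v ∈ eGrp A N w := by
    refine (e.mem_eGrp_iff hw).2 ⟨?_, ?_⟩
    · have := mem_jGrp_self e hw
      rw [← hgJ, mem_cj] at this
      exact this
    · rw [hv, show g⁻¹ * w * g * (g⁻¹ * w * g) = g⁻¹ * (w * w) * g by group, bad_sq hw, mul_one,
        inv_mul_cancel]
  obtain ⟨a, ha, c, hc, hvc⟩ := e.eGrp_decomp hw hvE
  have hcK := ((e.mem_kInv_iff hw).1 hc).1
  have h1 := t.conj_K e hx hcK
  have h2 : x * v * x⁻¹ = v * (c⁻¹ * (x * c * x⁻¹)) := by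
    rw [hvc, show x * (a * c) * x⁻¹ = x * a * x⁻¹ * (x * c * x⁻¹) by group,
      conj_A ha (s.P_le hx), mul_assoc a c, mul_inv_cancel_left]
  refine (s.mem_iff _).2 ⟨conj_mem_cent e hg (s.P_le hx), _, e.conj_mem_A hg h1, ?_⟩
  calc g * x * g⁻¹ * w * (g * x * g⁻¹)⁻¹ = g * (x * v * x⁻¹) * g⁻¹ := by rw [hv]; group
    _ = g * v * g⁻¹ * (g * (c⁻¹ * (x * c * x⁻¹)) * g⁻¹) := by rw [h2]; group
    _ = _ := by rw [hv]; group

end Translations

end CfsgLib.ThreeFree.UStr
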