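import Cfsg.Agent.Lib.ThreeFree.UStructZero

/-!
No element of odd order of `C(A)` normalizes `J` and fixes the line of `w`: otherwise `|K| = q` and
exchanging the `K`-part and the translation of an involution makes `T` commutative modulo nothing.
-/

set_option autoImplicit false
set_option linter.style.haveILetI false
set_option linter.unusedSectionVars false

namespace CfsgLib.ThreeFree.UStr

open Subgroup

universe u

variable {G : Type u} [Group G] [Finite G] {S : Sylow 2 G} {A N : Subgroup G} {n : ℕ}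
  {w h : G} {P : Subgroup G}

/-- The involutions of `P` moved by `η` like by `p`. -/
def fixSub (A P : Subgroup G) (p η : G) (hP : P ≤ centralizer (A : Set G))
    (hp : ∀ x ∈ P, p * x * p⁻¹ ∈ P) : Subgroup G where
  carrier := {x | x ∈ P ∧ (p * x * p⁻¹)⁻¹ * (η * x * η⁻¹) ∈ A}
  one_mem' := ⟨one_mem P, by simp⟩
  mul_mem' := by
    rintro x y ⟨hx, hxa⟩ ⟨hy, hya⟩
    refine ⟨mul_mem hx hy, ?_⟩
    rw [show (p * (x * y) * p⁻¹)⁻¹ * (η * (x * y) * η⁻¹) =
      (p * y * p⁻¹)⁻¹ * ((p * x * p⁻¹)⁻¹ * (η * x * η⁻¹)) * (η * y * η⁻¹) by group,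
      A_central hxa (inv_mem (hP (hp y hy))), mul_assoc]
    exact mul_mem hxa hya
  inv_mem' := by
    rintro x ⟨hx, hxa⟩
    refine ⟨inv_mem hx, ?_⟩
    rw [show (p * x⁻¹ * p⁻¹)⁻¹ * (η * x⁻¹ * η⁻¹) =
      p * x * p⁻¹ * ((p * x * p⁻¹)⁻¹ * (η * x * η⁻¹))⁻¹ * (p * x * p⁻¹)⁻¹ by group,
      conj_A (inv_mem hxa) (hP (hp x hx))]
    exact inv_mem hxa

/-- The square of a product. -/
theorem sq_decomp {u c x : G} (hcu : c * u = u * c) (hxu : x * u = u * x) :
    u * c * x * (u * c * x) = u * u * (c * x * c * x) := by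
  calc u * c * x * (u * c * x) = u * c * (x * u) * c * x := by group
    _ = u * (c * u) * x * c * x := by rw [hxu]; group
    _ = u * u * (c * x * c * x) := by rw [hcu]; group

theorem Trans.swap_false (e : NormalGame S A N n) (t : Trans A N n w h P) {η : G}
    (hη : η ∈ centralizer (A : Set G)) (hodd : Odd (orderOf η))
    (hJ : ∀ x ∈ jGrp A w, η * x * η⁻¹ ∈ jGrp A w) (hL : η ∈ centralizer (lineGrp A N w : Set G))
    (hne : η ≠ 1) {m : ℕ} (hm : h ^ m ≠ 1)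
    (hφ : ∀ y ∈ A, Maps A N w η y (h ^ m * y * (h ^ m)⁻¹)) : False := by
  classical
  have s := t.syl
  have d := s.base.line
  have hw := d.bad
  set p := h ^ m with hp
  have hpN : p ∈ N := pow_mem d.h_mem_N m
  have hpw : p * w = w * p := h_comm_w d m
  have hpJ : cj p (jGrp A w) = jGrp A w :=
    normJ e s.base hpN (by rw [hpw, mul_inv_cancel_right]; exact mem_jGrp_self e hw)
  have hsq : ∀ x ∈ P, x * x ∈ A := fun x hx => t.eta_sq e hη hJ hL hm hφ hx
  have hpP : ∀ x ∈ P, p * x * p⁻¹ ∈ P := fun x hx => t.conj_P e hpN hpJ hx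
  have hpη : η * p = p * η := (mem_centralizer_iff.1 hL p (pow_mem d.h_mem m)).symm
  set X := fixSub A P p η s.P_le hpP with hXdef
  have hXmem : ∀ x, x ∈ X ↔ x ∈ P ∧ (p * x * p⁻¹)⁻¹ * (η * x * η⁻¹) ∈ A := fun x => Iff.rfl
  have hAX : A ≤ X := fun a ha => ⟨s.J_le (A_le_jGrp' e hw ha),
    mul_mem (inv_mem (e.conj_mem_A hpN ha)) (e.conj_mem_A (cent_le_N e hη) ha)⟩
  have hX2 : ∀ x ∈ X, x * x = 1 := by
    intro x hx
    obtain ⟨hxP, hxa⟩ := (hXmem x).1 hx
    have hxx : x * x ∈ A := hsq x hxP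
    set b := (p * x * p⁻¹)⁻¹ * (η * x * η⁻¹) with hb
    have e1 : η * x * η⁻¹ = p * x * p⁻¹ * b := by rw [hb, mul_inv_cancel_left]
    have e2 : η * (x * x) * η⁻¹ = p * (x * x) * p⁻¹ := by
      rw [show η * (x * x) * η⁻¹ = η * x * η⁻¹ * (η * x * η⁻¹) by group, e1]
      calc p * x * p⁻¹ * b * (p * x * p⁻¹ * b)
          = p * x * p⁻¹ * (b * (p * x * p⁻¹)) * b := by group
        _ = p * x * p⁻¹ * (p * x * p⁻¹ * b) * b := by rw [A_central hxa (s.P_le (hpP x hxP))]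
        _ = p * (x * x) * p⁻¹ * (b * b) := by group
        _ = _ := by rw [A_sq e hxa, mul_one]
    rw [conj_A hxx hη] at e2
    exact d.h_fpf m hm _ hxx (mul_inv_eq_iff_eq_mul.1 e2.symm)
  have hXinv : ∀ x ∈ X, x⁻¹ = x := fun x hx => inv_eq_of_mul_eq_one_right (hX2 x hx)
  have hXcomm : ∀ x ∈ X, ∀ y ∈ X, x * y = y * x := by
    intro x hx y hy
    rw [← hXinv _ (mul_mem hx hy), mul_inv_rev, hXinv x hx, hXinv y hy]
  have hXlab : ∀ a : A, ∃ x ∈ X, x * w * x⁻¹ = w * a := by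
    intro a
    by_cases ha1 : (a : G) = 1
    · exact ⟨1, one_mem X, by rw [ha1]; group⟩
    · obtain ⟨x, hx, hxa, -, hxA⟩ := t.exists_fixed e hη hodd hJ hL hne hm hφ a.2 ha1
      exact ⟨x, (hXmem x).2 ⟨hx, hxA⟩, hxa⟩
  choose xf hxf hxfl using hXlab
  have hxfP : ∀ a, xf a ∈ P := fun a => ((hXmem _).1 (hxf a)).1
  have hpX : ∀ x ∈ X, p * x * p⁻¹ ∈ X := by
    intro x hx
    obtain ⟨hxP, hxa⟩ := (hXmem x).1 hx
    refine (hXmem _).2 ⟨hpP x hxP, ?_⟩
    rw [show η * (p * x * p⁻¹) * η⁻¹ = (η * p) * x * (η * p)⁻¹ by group, hpη,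
      show (p * (p * x * p⁻¹) * p⁻¹)⁻¹ * (p * η * x * (p * η)⁻¹) =
        p * ((p * x * p⁻¹)⁻¹ * (η * x * η⁻¹)) * p⁻¹ by simp [mul_assoc, mul_inv_rev]]
    exact e.conj_mem_A hpN hxa
  -- elements of `X` with the same translation differ by an element of `A`
  have hXA : ∀ z ∈ X, z ∈ jGrp A w → z ∈ A := by
    intro z hz hzJ
    obtain ⟨a, ha, c, hc, rfl⟩ := e.eGrp_decomp hw ((e.mem_eGrp_iff hw).2 ⟨hzJ, hX2 z hz⟩)
    have hcK := ((e.mem_kInv_iff hw).1 hc).1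
    have hcX : c ∈ X := by
      have := mul_mem (inv_mem (hAX ha)) hz
      rwa [inv_mul_cancel_left] at this
    have hca := ((hXmem c).1 hcX).2
    rw [show p * c * p⁻¹ = c by rw [h_comm_K d m hcK, mul_inv_cancel_right]] at hca
    have h1 := e.inf_eq_one hw (d.A_le hca) (mul_mem (inv_mem hcK) (t.eta_K e hL hJ hcK))
    by_cases hc1 : c = 1
    · rw [hc1, mul_one]; exact ha
    · exact absurd (odd_cent_eq_one e (e.kerK_invol_bad hw hcK (t.K_sq e hcK) hc1).1 hη hodd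
        (mul_inv_eq_iff_eq_mul.1 (inv_mul_eq_one.1 h1).symm)) hne
  have hXeq : ∀ x ∈ X, ∀ y ∈ X, ∀ a, x * w * x⁻¹ = w * a → y * w * y⁻¹ = w * a →
      x⁻¹ * y ∈ A := fun x hx y hy a hxa hya =>
    hXA _ (mul_mem (inv_mem hx) hy)
      (s.same_label e ((hXmem x).1 hx).1 ((hXmem y).1 hy).1 hxa hya)
  -- `X` centralizes `T`
  have hTX : ∀ u ∈ tGrp A N w, ∀ x ∈ X, x * u = u * x := by
    intro u hu x hx
    obtain ⟨hxP, hxa⟩ := (hXmem x).1 hx
    have huJ := d.T_le_J hu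
    set β := fun z => u⁻¹ * (z * u * z⁻¹) with hβdef
    have hβ : ∀ z ∈ P, β z ∈ A := fun z hz => t.comm_J e hsq hz huJ
    have hβmul : ∀ z ∈ P, ∀ z' ∈ P, β (z * z') = β z * β z' := by
      intro z hz z' hz'
      simp only [hβdef]
      calc u⁻¹ * (z * z' * u * (z * z')⁻¹)
          = u⁻¹ * (z * u * z⁻¹) * (z * (u⁻¹ * (z' * u * z'⁻¹)) * z⁻¹) := by group
        _ = _ := by rw [conj_A (hβ z' hz') (s.P_le hz)]
    have hβA : ∀ z ∈ A, β z = 1 := fun z hz => by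
      simp only [hβdef]
      rw [← A_central hz hu.2, mul_inv_cancel_right, inv_mul_cancel]
    have hinv : ∀ z ∈ X, β (p * z * p⁻¹) = β z := by
      intro z hz
      obtain ⟨hzP, hza⟩ := (hXmem z).1 hz
      set b := (p * z * p⁻¹)⁻¹ * (η * z * η⁻¹) with hb
      have e1 : η * z * η⁻¹ = p * z * p⁻¹ * b := by rw [hb, mul_inv_cancel_left]
      have e2 : β (η * z * η⁻¹) = β z := by
        have h3 : β (η * z * η⁻¹) = η * β z * η⁻¹ := by
          simp only [hβdef]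
          calc u⁻¹ * (η * z * η⁻¹ * u * (η * z * η⁻¹)⁻¹)
              = u⁻¹ * (η * (z * (η⁻¹ * u * η) * z⁻¹) * η⁻¹) := by group
            _ = η * u⁻¹ * η⁻¹ * (η * (z * u * z⁻¹) * η⁻¹) := by
                rw [eta_T hL (inv_mem hu)]
                congr 1
                have h4 : η⁻¹ * u * η = u := by
                  calc η⁻¹ * u * η = η⁻¹ * (η * u * η⁻¹) * η := by rw [eta_T hL hu]
                    _ = u := by group
                rw [h4]
            _ = _ := by group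
        rw [h3, conj_A (hβ z hzP) hη]
      rw [← e2, e1, hβmul _ (hpP z hzP) b (s.J_le (A_le_jGrp' e hw hza)), hβA b hza, mul_one]
    obtain ⟨a, ha, hxl⟩ := s.label hxP
    let f : A → A := fun b => ⟨(b : G) * (p * b * p⁻¹), mul_mem b.2 (e.conj_mem_A hpN b.2)⟩
    have hf : Function.Injective f := by
      intro b c hbc
      have e1 : (b : G) * (p * b * p⁻¹) = c * (p * c * p⁻¹) := congrArg Subtype.val hbc
      have h2 : p * ((b : G) * c) * p⁻¹ = b * c := by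
        calc p * ((b : G) * c) * p⁻¹ = (p * b * p⁻¹) * (p * c * p⁻¹) := by group
          _ = (b * b) * (p * b * p⁻¹) * (p * c * p⁻¹) := by rw [A_sq e b.2, one_mul]
          _ = b * (b * (p * b * p⁻¹)) * (p * c * p⁻¹) := by group
          _ = b * c * ((p * c * p⁻¹) * (p * c * p⁻¹)) := by rw [e1]; group
          _ = b * c := by rw [A_sq e (e.conj_mem_A hpN c.2), mul_one]
      have h3 := d.h_fpf m hm _ (mul_mem b.2 c.2) (mul_inv_eq_iff_eq_mul.1 h2)
      exact Subtype.ext ((eq_inv_of_mul_eq_one_left h3).trans (A_inv e c.2))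
    obtain ⟨b, hb⟩ := Finite.surjective_of_injective hf ⟨a, ha⟩
    set y := xf b
    have hyX : y ∈ X := hxf b
    have hzX : y * (p * y * p⁻¹) ∈ X := mul_mem hyX (hpX y hyX)
    have hzl : y * (p * y * p⁻¹) * w * (y * (p * y * p⁻¹))⁻¹ = w * a := by
      obtain ⟨h1, h2⟩ := s.h_conj e (hxfP b) b.2 (hxfl b) m
      rw [← hp] at h1 h2
      rw [s.label_mul (hxfP b) (hxfl b) (e.conj_mem_A hpN b.2) h2,
        show (b : G) * (p * b * p⁻¹) = a from congrArg Subtype.val hb]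
    set a' := (y * (p * y * p⁻¹))⁻¹ * x
    have ha' : a' ∈ A := hXeq _ hzX x hx a hzl hxl
    have hx1 : β x = 1 := by
      have hxe : x = y * (p * y * p⁻¹) * a' := by simp only [a', mul_inv_cancel_left]
      rw [hxe, hβmul _ ((hXmem _).1 hzX).1 _ (s.J_le (A_le_jGrp' e hw ha')), hβA a' ha', mul_one,
        hβmul y (hxfP b) _ (hpP y (hxfP b)), hinv y hyX, A_sq e (hβ y (hxfP b))]
    exact mul_inv_eq_iff_eq_mul.1 (inv_mul_eq_one.1 hx1).symm
  obtain ⟨a₁, ha₁, ha₁1⟩ := e.exists_ne_one ((1 : G) : G ⧸ N)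
  rw [e.ptA_base] at ha₁
  -- `|K| = q`
  have hKq : Nat.card (kerK A N w) = 2 ^ n := by
    refine le_antisymm ?_ ?_
    · refine le_trans (Subgroup.card_le_of_le fun c hc => ?_) d.kInv_card_le
      exact t.mem_kInv e hc
    set x := xf ⟨a₁, ha₁⟩ with hxdef
    have hxl := hxfl ⟨a₁, ha₁⟩
    have hxX := hxf ⟨a₁, ha₁⟩
    have hxb : Bad N x := bad_of_sq e (s.P_le_N e (hxfP _)) (hX2 x hxX) fun hA => ha₁1 (by
      rw [← hxdef, A_central hA (bad_mem e hw) |>.symm, mul_inv_cancel_right] at hxl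
      exact mul_eq_left.1 hxl.symm)
    obtain ⟨h', t', hcard⟩ := t.rebase_zero e hsq hxb (hxfP _)
    have hXE : X ≤ eGrp A N x := fun z hz => (e.mem_eGrp_iff hxb).2
      ⟨⟨s.P_le ((hXmem z).1 hz).1, mem_cent.2 (hXcomm z hz x hxX)⟩, hX2 z hz⟩
    let f : A × A → eGrp A N x := fun q => ⟨xf q.1 * q.2, hXE (mul_mem (hxf _) (hAX q.2.2))⟩
    have hf : Function.Injective f := by
      rintro ⟨a, b⟩ ⟨a', b'⟩ hab
      have h1 : xf a * b = xf a' * b' := congrArg Subtype.val hab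
      have key : ∀ a : A, ∀ b : A, xf a * b * w * (xf a * b)⁻¹ = w * a := fun a b => by
        have h2 := s.label_mul (b := 1) (hxfP a) (hxfl a) (one_mem A) (y := (b : G))
          (by rw [← A_central b.2 (bad_mem e hw), mul_inv_cancel_right, mul_one])
        rwa [mul_one] at h2
      have h2 : a = a' := Subtype.ext (mul_left_cancel ((key a b).symm.trans (h1 ▸ key a' b')))
      subst h2
      exact Prod.ext rfl (Subtype.ext (mul_left_cancel h1))
    have h1 := Nat.card_le_card_of_injective f hf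
    rw [Nat.card_prod, e.base.card_A, e.eGrp_card hxb] at h1
    have h2 : Nat.card (kerK A N x) = Nat.card (kerK A N w) := by
      rw [(e.jGrp_card_two hxb).2, (e.jGrp_card_two hw).2] at hcard
      exact Nat.eq_of_mul_eq_mul_left (by positivity) hcard
    rw [← h2]
    refine (Nat.le_of_mul_le_mul_left h1 (Nat.two_pow_pos n)).trans (Subgroup.card_le_of_le ?_)
    exact fun c hc => ((e.mem_kInv_iff hxb).1 hc).1
  -- the pairing of `K` with the translations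
  set B : G → A → G := fun c a => c⁻¹ * (xf a * c * (xf a)⁻¹) with hBdef
  have hBA : ∀ c ∈ kerK A N w, ∀ a, B c a ∈ A := fun c hc a => t.conj_K e (hxfP a) hc
  have hBone : ∀ c ∈ kerK A N w, ∀ a : A, (a : G) = 1 → B c a = 1 := fun c hc a ha => by
    have hJ' : xf a ∈ jGrp A w := s.mem_J e (hxfP a) (by rw [hxfl a, ha, mul_one])
    simp only [hBdef]
    rw [← e.eGrp_central hw (t.K_le_E e hc) hJ', mul_inv_cancel_right, inv_mul_cancel]
  have hBone' : ∀ a, B 1 a = 1 := fun a => by simp [hBdef]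
  have hBne : ∀ c ∈ kerK A N w, c ≠ 1 → ∀ a : A, (a : G) ≠ 1 → B c a ≠ 1 := fun c hc hc1 a ha =>
    t.tau_ne_one e a.2 (hxfl a) ha hc hc1
  have hBmul : ∀ c ∈ kerK A N w, ∀ c' ∈ kerK A N w, ∀ a, B (c * c') a = B c a * B c' a := by
    intro c hc c' hc' a
    simp only [hBdef]
    have h1 := hBA c hc a
    calc (c * c')⁻¹ * (xf a * (c * c') * (xf a)⁻¹)
        = c'⁻¹ * (c⁻¹ * (xf a * c * (xf a)⁻¹)) * (xf a * c' * (xf a)⁻¹) := by group
      _ = _ := by rw [A_central h1 (inv_mem (d.K_le_J hc').1), mul_assoc]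
  have hBequiv : ∀ c ∈ kerK A N w, ∀ (a : A) (i : ℕ),
      B c ⟨h ^ i * a * (h ^ i)⁻¹, e.conj_mem_A (pow_mem d.h_mem_N i) a.2⟩ =
        h ^ i * B c a * (h ^ i)⁻¹ := by
    intro c hc a i
    set a' : A := ⟨h ^ i * a * (h ^ i)⁻¹, e.conj_mem_A (pow_mem d.h_mem_N i) a.2⟩
    obtain ⟨hyP, hy⟩ := s.h_conj e (hxfP a) a.2 (hxfl a) i
    have hj := s.same_label e hyP (hxfP a') hy (hxfl a')
    set y := h ^ i * xf a * (h ^ i)⁻¹ with hydef
    have h1 : xf a' * c * (xf a')⁻¹ = y * c * y⁻¹ := by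
      rw [show xf a' * c * (xf a')⁻¹ = y * ((y⁻¹ * xf a') * c * (y⁻¹ * xf a')⁻¹) * y⁻¹ by group,
        ← e.eGrp_central hw (t.K_le_E e hc) hj, mul_inv_cancel_right]
    have h2 : h ^ i * c * (h ^ i)⁻¹ = c := by rw [h_comm_K d i hc, mul_inv_cancel_right]
    show c⁻¹ * (xf a' * c * (xf a')⁻¹) = h ^ i * (c⁻¹ * (xf a * c * (xf a)⁻¹)) * (h ^ i)⁻¹
    rw [h1]
    calc c⁻¹ * (y * c * y⁻¹)
        = (h ^ i * c * (h ^ i)⁻¹)⁻¹ * (y * (h ^ i * c * (h ^ i)⁻¹) * y⁻¹) := by rw [h2]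
      _ = _ := by rw [hydef]; group
  have hBpow : ∀ c ∈ kerK A N w, c ≠ 1 → ∃ k : ℕ, ∀ a : A,
      B c a = h ^ k * a * (h ^ k)⁻¹ := by
    intro c hc hc1
    obtain ⟨k, hk⟩ := d.h_trans a₁ ha₁ ha₁1 _ (hBA c hc ⟨a₁, ha₁⟩) (hBne c hc hc1 ⟨a₁, ha₁⟩ ha₁1)
    refine ⟨k, fun a => ?_⟩
    by_cases ha : (a : G) = 1
    · rw [hBone c hc a ha, ha, mul_one, mul_inv_cancel]
    obtain ⟨i, hi⟩ := d.h_trans a₁ ha₁ ha₁1 a a.2 ha
    have h1 := hBequiv c hc ⟨a₁, ha₁⟩ i
    simp only [hi] at h1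
    rw [h1, ← hk, ← hi]
    group
  have hBcomm : ∀ c, ∀ hc : c ∈ kerK A N w, ∀ c', ∀ hc' : c' ∈ kerK A N w, ∀ a : A,
      B c ⟨B c' a, hBA c' hc' a⟩ = B c' ⟨B c a, hBA c hc a⟩ := by
    intro c hc c' hc' a
    rcases eq_or_ne c 1 with rfl | hc1
    · rw [hBone']
      exact (hBone c' hc' _ (hBone' a)).symm
    rcases eq_or_ne c' 1 with rfl | hc'1
    · rw [hBone' ⟨B c a, hBA c hc a⟩]
      exact hBone c hc _ (hBone' a)
    obtain ⟨k, hk⟩ := hBpow c hc hc1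
    obtain ⟨k', hk'⟩ := hBpow c' hc' hc'1
    refine (hk _).trans (Eq.trans ?_ (hk' _).symm)
    show h ^ k * B c' a * (h ^ k)⁻¹ = h ^ k' * B c a * (h ^ k')⁻¹
    rw [hk, hk']
    group
  have hBinj : ∀ c, ∀ hc : c ∈ kerK A N w, c ≠ 1 → Function.Injective
      (fun a => (⟨B c a, hBA c hc a⟩ : A)) := by
    intro c hc hc1 a b hab
    obtain ⟨k, hk⟩ := hBpow c hc hc1
    have h1 : B c a = B c b := congrArg Subtype.val hab
    rw [hk, hk] at h1
    exact Subtype.ext (mul_left_cancel (mul_right_cancel h1))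
  have hBsurjK : ∀ a : A, (a : G) ≠ 1 → ∀ v ∈ A, ∃ c ∈ kerK A N w, B c a = v := by
    intro a ha v hv
    let f : kerK A N w → A := fun c => ⟨B c a, hBA c c.2 a⟩
    have hf : Function.Injective f := by
      intro c c' hcc
      have h1 : B c a = B c' a := congrArg Subtype.val hcc
      have h2 : B ((c : G) * c') a = 1 := by
        rw [hBmul c c.2 c' c'.2, h1, A_sq e (hBA c' c'.2 a)]
      have h3 : (c : G) * c' = 1 := by
        by_contra hne'
        exact hBne _ (mul_mem c.2 c'.2) hne' a ha h2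
      exact Subtype.ext ((eq_inv_of_mul_eq_one_left h3).trans
        (inv_eq_of_mul_eq_one_right (t.K_sq e c'.2)))
    obtain ⟨c, hc⟩ := (hf.bijective_of_nat_card_le (by rw [hKq, e.base.card_A])).2 ⟨v, hv⟩
    exact ⟨c, c.2, congrArg Subtype.val hc⟩
  have hBcx : ∀ c ∈ kerK A N w, ∀ a, c * xf a * c * xf a = B c a := fun c hc a => by
    simp only [hBdef]
    rw [inv_eq_of_mul_eq_one_right (t.K_sq e hc), hXinv _ (hxf a)]
    group
  have hxc : ∀ c ∈ kerK A N w, ∀ a, xf a * c = c * xf a * B c a := fun c hc a => by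
    rw [mul_assoc c, A_central (hBA c hc a) (s.P_le (hxfP a))]
    simp only [hBdef]
    group
  -- an element of `T` outside `A`
  obtain ⟨t₁, ht₁, ht₁A⟩ : ∃ t₁ ∈ tGrp A N w, t₁ ∉ A := by
    by_contra! hcon
    have h1 := Subgroup.card_le_of_le (H := tGrp A N w) (K := A) hcon
    rw [d.T_card, e.base.card_A, pow_two] at h1
    have h2 := Nat.le_of_mul_le_mul_left (h1.trans (mul_one _).ge) (Nat.two_pow_pos n)
    have := e.one_lt
    omega
  have ht₁sq : t₁ * t₁ ≠ 1 := fun h0 => ht₁A (d.T_invol t₁ ht₁ h0)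
  obtain ⟨c₁, hc₁, hB₁⟩ := hBsurjK ⟨a₁, ha₁⟩ ha₁1 (t₁ * t₁) (d.T_sq t₁ ht₁)
  have hc₁1 : c₁ ≠ 1 := fun h0 => ht₁sq (by rw [← hB₁, h0, hBone'])
  set x₁ := xf ⟨a₁, ha₁⟩ with hx₁
  set u := t₁ * c₁ * x₁ with hu
  have hsqz : ∀ r ∈ tGrp A N w, ∀ c ∈ kerK A N w, ∀ a,
      r * c * xf a * (r * c * xf a) = r * r * B c a := fun r hr c hc a => by
    rw [sq_decomp (tk_comm hr hc) (hTX r hr _ (hxf a)), hBcx c hc a]
  have hlab : ∀ r ∈ tGrp A N w, ∀ c ∈ kerK A N w, ∀ a : A,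
      r * c * xf a * w * (r * c * xf a)⁻¹ = w * a := by
    intro r hr c hc a
    have hj : r * c ∈ jGrp A w := mul_mem (d.T_le_J hr) (d.K_le_J hc)
    have h2 := s.label_mul (a := 1) (s.J_le hj)
      (by rw [mem_cent.1 hj.2, mul_inv_cancel_right, mul_one]) a.2 (hxfl a)
    rwa [one_mul] at h2
  have hzP : ∀ r ∈ tGrp A N w, ∀ c ∈ kerK A N w, ∀ a, r * c * xf a ∈ P := fun r hr c hc a =>
    mul_mem (mul_mem (s.J_le (d.T_le_J hr)) (s.J_le (d.K_le_J hc))) (hxfP a)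
  have huP : u ∈ P := hzP t₁ ht₁ c₁ hc₁ _
  have hu2 : u * u = 1 := by
    rw [hu, hsqz t₁ ht₁ c₁ hc₁, hB₁]
    exact A_sq e (d.T_sq t₁ ht₁)
  have hub : Bad N u := bad_of_sq e (s.P_le_N e huP) hu2 fun hA => ha₁1 (by
    have h1 := hlab t₁ ht₁ c₁ hc₁ ⟨a₁, ha₁⟩
    rw [← hx₁, ← hu, ← A_central hA (bad_mem e hw), mul_inv_cancel_right] at h1
    exact mul_eq_left.1 h1.symm)
  obtain ⟨hu', tu, hucard⟩ := t.rebase_zero e hsq hub huP
  -- multiplication by `u`
  have hcommu : ∀ r ∈ tGrp A N w, ∀ c ∈ kerK A N w, ∀ a,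
      (u * (r * c * xf a) = r * c * xf a * u ↔
        t₁ * r * B c ⟨a₁, ha₁⟩ = r * t₁ * B c₁ a) := by
    intro r hr c hc a
    have e1 : u * (r * c * xf a) = t₁ * r * (c₁ * c) * (x₁ * xf a) * B c ⟨a₁, ha₁⟩ := by
      calc u * (r * c * xf a) = t₁ * c₁ * (x₁ * r) * c * xf a := by rw [hu]; group
        _ = t₁ * (c₁ * r) * (x₁ * c) * xf a := by rw [hTX r hr x₁ (hxf _)]; group
        _ = t₁ * r * c₁ * c * x₁ * (B c ⟨a₁, ha₁⟩ * xf a) := by
            rw [tk_comm hr hc₁, hxc c hc, ← hx₁]; group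
        _ = _ := by rw [← A_central (hBA c hc _) (s.P_le (hxfP a))]; group
    have e2 : r * c * xf a * u = r * t₁ * (c₁ * c) * (x₁ * xf a) * B c₁ a := by
      calc r * c * xf a * u = r * c * (xf a * t₁) * c₁ * x₁ := by rw [hu]; group
        _ = r * (c * t₁) * (xf a * c₁) * x₁ := by rw [hTX t₁ ht₁ (xf a) (hxf a)]; group
        _ = r * t₁ * (c * c₁) * xf a * (B c₁ a * x₁) := by rw [tk_comm ht₁ hc, hxc c₁ hc₁]; group
        _ = r * t₁ * (c₁ * c) * (xf a * x₁) * B c₁ a := by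
            rw [← A_central (hBA c₁ hc₁ a) (s.P_le (hxfP _)),
              e.kerK_invol_central hw hc (t.K_sq e hc) hc₁, ← hx₁]
            group
        _ = _ := by rw [hXcomm (xf a) (hxf a) x₁ (hxf _)]
    set M := c₁ * c * (x₁ * xf a) with hM
    have hMc : M ∈ centralizer (A : Set G) :=
      mul_mem (mul_mem (d.K_le_J hc₁).1 (d.K_le_J hc).1)
        (mul_mem (s.P_le (hxfP _)) (s.P_le (hxfP a)))
    have e1' : u * (r * c * xf a) = t₁ * r * B c ⟨a₁, ha₁⟩ * M := by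
      calc u * (r * c * xf a) = t₁ * r * (M * B c ⟨a₁, ha₁⟩) := by rw [e1, hM]; group
        _ = _ := by rw [A_central (hBA c hc _) hMc]; group
    have e2' : r * c * xf a * u = r * t₁ * B c₁ a * M := by
      calc r * c * xf a * u = r * t₁ * (M * B c₁ a) := by rw [e2, hM]; group
        _ = _ := by rw [A_central (hBA c₁ hc₁ a) hMc]; group
    rw [e1', e2', mul_left_inj]
  -- decomposition of the elements of `E_u`
  have hdec : ∀ z : eGrp A N u, ∃ r : tGrp A N w, ∃ c : kerK A N w, ∃ a : A,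
      (z : G) = r * c * xf a := by
    intro z
    obtain ⟨hzJ, -⟩ := (e.mem_eGrp_iff hub).1 z.2
    have hzP' : (z : G) ∈ P := tu.syl.J_le hzJ
    obtain ⟨a, ha, hza⟩ := s.label hzP'
    have hj : (z : G) * xf ⟨a, ha⟩ ∈ jGrp A w := by
      refine s.mem_J e (mul_mem hzP' (hxfP _)) ?_
      rw [s.label_mul hzP' hza ha (hxfl ⟨a, ha⟩), A_sq e ha, mul_one]
    obtain ⟨r, hr, c, hc, hrc⟩ := d.J_decomp _ hj
    exact ⟨⟨r, hr⟩, ⟨c, hc⟩, ⟨a, ha⟩, by
      rw [← hrc, mul_assoc, hX2 _ (hxf _), mul_one]⟩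
  choose F cf af hFd using hdec
  have huniq : ∀ {r r' c c' : G} {a a' : A}, r ∈ tGrp A N w → r' ∈ tGrp A N w →
      c ∈ kerK A N w → c' ∈ kerK A N w → r * c * xf a = r' * c' * xf a' →
      r = r' ∧ c = c' ∧ a = a' := by
    intro r r' c c' a a' hr hr' hc hc' heq
    have h1 : a = a' := Subtype.ext (mul_left_cancel
      ((hlab r hr c hc a).symm.trans (heq ▸ hlab r' hr' c' hc' a')))
    subst h1
    obtain ⟨h2, h3⟩ := tk_unique e hw hr hr' hc hc' (mul_right_cancel heq)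
    exact ⟨h2, h3, rfl⟩
  have hAE : ∀ b ∈ A, b ∈ eGrp A N u := fun b hb => mem_sup_left hb
  have hEeq : ∀ z z' : eGrp A N u, F z = F z' → z = z' := by
    intro z z' hFF
    set r := (F z : G)
    set c := (cf z : G)
    set c' := (cf z' : G)
    set a := af z
    set a' := af z'
    have hr : r ∈ tGrp A N w := (F z).2
    have hc : c ∈ kerK A N w := (cf z).2
    have hc' : c' ∈ kerK A N w := (cf z').2
    have hz : (z : G) = r * c * xf a := hFd z
    have hz' : (z' : G) = r * c' * xf a' := by rw [hFd z', ← hFF]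
    have h1 : u * (z : G) = z * u :=
      (mem_cent.1 ((e.mem_eGrp_iff hub).1 z.2).1.2).symm
    have h2 : u * (z' : G) = z' * u :=
      (mem_cent.1 ((e.mem_eGrp_iff hub).1 z'.2).1.2).symm
    rw [hz, hcommu r hr c hc a] at h1
    rw [hz', hcommu r hr c' hc' a'] at h2
    have h3 := ((e.mem_eGrp_iff hub).1 z.2).2
    have h4 := ((e.mem_eGrp_iff hub).1 z'.2).2
    rw [hz, hsqz r hr c hc] at h3
    rw [hz', hsqz r hr c' hc'] at h4
    -- the difference is an involution commuting with `u` with trivial `T`-part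
    have hzz : (z : G)⁻¹ * z' ∈ eGrp A N u := mul_mem (inv_mem z.2) z'.2
    set a'' : A := a * a'
    obtain ⟨hzzJ, hzz2⟩ := (e.mem_eGrp_iff hub).1 hzz
    have hcc : c * c' ∈ kerK A N w := mul_mem hc hc'
    obtain ⟨b, hb, hbeq⟩ : ∃ b ∈ A, (z : G)⁻¹ * z' = b * (c * c') * xf a'' := by
      have h5 : (xf a * xf a')⁻¹ * xf a'' ∈ A := hXeq _ (mul_mem (hxf a) (hxf a')) _ (hxf a'')
        ((a : G) * a') (s.label_mul (hxfP a) (hxfl a) a'.2 (hxfl a')) (hxfl a'')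
      set b₀ := (xf a * xf a')⁻¹ * xf a''
      have hB' := hBA _ hcc a
      have hinvc : c⁻¹ = c := inv_eq_of_mul_eq_one_right (t.K_sq e hc)
      refine ⟨B (c * c') a * b₀⁻¹, mul_mem hB' (inv_mem h5), ?_⟩
      rw [hz, hz']
      calc (r * c * xf a)⁻¹ * (r * c' * xf a')
          = (xf a)⁻¹ * (c⁻¹ * c') * xf a' := by group
        _ = xf a * (c * c') * xf a' := by rw [hXinv _ (hxf a), hinvc]
        _ = c * c' * xf a * (B (c * c') a * xf a') := by rw [hxc _ hcc a]; group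
        _ = c * c' * (xf a * xf a') * B (c * c') a := by
            rw [← A_central hB' (s.P_le (hxfP a'))]; group
        _ = c * c' * (xf a'' * b₀⁻¹) * B (c * c') a := by
            congr 2
            simp only [b₀, mul_inv_rev, inv_inv]
            group
        _ = c * c' * xf a'' * (B (c * c') a * b₀⁻¹) := by
            rw [e.setup.comm hB' (inv_mem h5)]; group
        _ = _ := by
            rw [A_central (mul_mem hB' (inv_mem h5))
              (mul_mem (d.K_le_J hcc).1 (s.P_le (hxfP a''))), ← mul_assoc]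
    rw [hbeq] at hzzJ hzz2
    have hbT : b ∈ tGrp A N w := A_le_T d e hb
    rw [hsqz b hbT _ hcc, A_sq e hb, one_mul] at hzz2
    have h5 := (hcommu b hbT _ hcc a'').1 (mem_cent.1 hzzJ.2).symm
    rw [← A_central hb ht₁.2, mul_assoc, mul_assoc, mul_right_inj, mul_right_inj] at h5
    have hzero : c * c' = 1 ∧ (a'' : G) = 1 := by
      by_cases hc0 : c * c' = 1
      · refine ⟨hc0, ?_⟩
        rw [hc0, hBone'] at h5
        by_contra ha0
        exact hBne c₁ hc₁ hc₁1 a'' ha0 h5.symm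
      · exfalso
        have ha0 : (a'' : G) = 1 := by
          by_contra ha0
          exact hBne _ hcc hc0 a'' ha0 hzz2
        rw [hBone c₁ hc₁ a'' ha0] at h5
        exact hBne _ hcc hc0 ⟨a₁, ha₁⟩ ha₁1 h5
    obtain ⟨hc0, ha0⟩ := hzero
    have hce : c = c' := (eq_inv_of_mul_eq_one_left hc0).trans
      (inv_eq_of_mul_eq_one_right (t.K_sq e hc'))
    have hae : a = a' := Subtype.ext ((eq_inv_of_mul_eq_one_left
      (show (a : G) * a' = 1 from ha0)).trans (A_inv e a'.2))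
    exact Subtype.ext (by rw [hz, hz', hce, hae])
  have hbij : Function.Bijective F := by
    refine Function.Injective.bijective_of_nat_card_le (fun z z' h0 => hEeq z z' h0) ?_
    have hKu : Nat.card (kerK A N u) = 2 ^ n := by
      rw [(e.jGrp_card_two hub).2, (e.jGrp_card_two hw).2] at hucard
      rw [← hKq]
      exact Nat.eq_of_mul_eq_mul_left (by positivity) hucard
    have hKI : kInv A N u = kerK A N u :=
      le_antisymm (fun c hc => ((e.mem_kInv_iff hub).1 hc).1) fun c hc => tu.mem_kInv e hc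
    rw [e.eGrp_card hub, hKI, hKu, d.T_card, pow_two]
  -- exchange
  refine ht₁A (T_center e d ht₁ fun r hr => ?_)
  obtain ⟨z, hz⟩ := hbij.2 ⟨r, hr⟩
  set c' := (cf z : G)
  set a' := af z
  have hc' : c' ∈ kerK A N w := (cf z).2
  have hze : (z : G) = r * c' * xf a' := by rw [hFd z, hz]
  obtain ⟨hzJ, hz2⟩ := (e.mem_eGrp_iff hub).1 z.2
  rw [hze, hsqz r hr c' hc'] at hz2
  have hzc := (hcommu r hr c' hc' a').1 (by rw [← hze]; exact (mem_cent.1 hzJ.2).symm)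
  obtain ⟨c'', hc'', hB''⟩ := hBsurjK ⟨a₁, ha₁⟩ ha₁1 (B c₁ a') (hBA c₁ hc₁ a')
  obtain ⟨a'', ha''⟩ := Finite.surjective_of_injective (hBinj c₁ hc₁ hc₁1)
    ⟨B c' ⟨a₁, ha₁⟩, hBA c' hc' _⟩
  have hB2 : B c₁ a'' = B c' ⟨a₁, ha₁⟩ := congrArg Subtype.val ha''
  have hkey : B c'' a'' = B c' a' := by
    have h1 : B c₁ ⟨B c'' a'', hBA c'' hc'' a''⟩ = B c₁ ⟨B c' a', hBA c' hc' a'⟩ := by
      rw [hBcomm c₁ hc₁ c'' hc'' a'', hBcomm c₁ hc₁ c' hc' a',
        show (⟨B c₁ a'', hBA c₁ hc₁ a''⟩ : A) = ⟨B c' ⟨a₁, ha₁⟩, hBA c' hc' _⟩ from Subtype.ext hB2,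
        hBcomm c'' hc'' c' hc' ⟨a₁, ha₁⟩,
        show (⟨B c'' ⟨a₁, ha₁⟩, hBA c'' hc'' _⟩ : A) = ⟨B c₁ a', hBA c₁ hc₁ a'⟩ from Subtype.ext hB'']
    exact congrArg Subtype.val ((hBinj c₁ hc₁ hc₁1) (Subtype.ext h1))
  have hz'' : r * c'' * xf a'' ∈ eGrp A N u := by
    refine (e.mem_eGrp_iff hub).2 ⟨⟨s.P_le (hzP r hr c'' hc'' a''), mem_cent.2 (Eq.symm ?_)⟩, ?_⟩
    · rw [hcommu r hr c'' hc'' a'', hB'', hB2]
      have key : ∀ g g' X Y : G, X ∈ A → Y ∈ A → g * X = g' * Y → g * Y = g' * X := by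
        intro g g' X Y hX hY hXY
        calc g * Y = g * (X * X) * Y := by rw [A_sq e hX, mul_one]
          _ = g * X * (X * Y) := by group
          _ = g' * Y * (Y * X) := by rw [hXY, e.setup.comm hX hY]
          _ = g' * (Y * Y) * X := by group
          _ = g' * X := by rw [A_sq e hY, mul_one]
      exact key _ _ _ _ (hBA c' hc' _) (hBA c₁ hc₁ a') hzc
    · rw [hsqz r hr c'' hc'', hkey]
      exact hz2
  set z'' : eGrp A N u := ⟨_, hz''⟩
  obtain ⟨hF'', hc2, ha2⟩ := huniq (F z'').2 hr (cf z'').2 hc'' (hFd z'').symm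
  have hzz : z = z'' := hEeq z z'' (hz.trans (Subtype.ext hF''.symm))
  obtain ⟨-, hc3, -⟩ := huniq hr hr hc'' hc'
    ((congrArg Subtype.val hzz).symm.trans hze)
  have h7 : B c' ⟨a₁, ha₁⟩ = B c₁ a' := by rw [← hc3]; exact hB''
  rw [← h7] at hzc
  exact mul_right_cancel hzc

/-- No nontrivial element of odd order of `C(A)` normalizes `J`. -/
theorem Trans.no_odd_norm_J (e : NormalGame S A N n) (t : Trans A N n w h P) {η : G}
    (hη : η ∈ centralizer (A : Set G)) (hodd : Odd (orderOf η))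
    (hJ : ∀ x ∈ jGrp A w, η * x * η⁻¹ ∈ jGrp A w) : η = 1 := by
  by_contra hne
  obtain ⟨y, hy, hyy⟩ := odd_fixed e t.syl.base hη hodd hJ
  have hwy := bad_mul e t.syl.base.line.bad hy
  obtain ⟨h', B', hJ', -⟩ := UStr.rebase e t.syl.base hwy
    (mul_mem (mem_jGrp_self e t.syl.base.line.bad) (A_le_jGrp' e t.syl.base.line.bad hy))
  have t' : Trans A N n (w * y) h' P := by
    have hsh : ∀ x ∈ centralizer (A : Set G), ∀ a ∈ A,
        (x * (w * y) * x⁻¹ = w * y * a ↔ x * w * x⁻¹ = w * a) := by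
      intro x hx a ha
      rw [show x * (w * y) * x⁻¹ = x * w * x⁻¹ * (x * y * x⁻¹) by group, conj_A hy hx,
        mul_assoc w y a, e.setup.comm hy ha, ← mul_assoc, mul_left_inj]
    refine ⟨⟨B', t.syl.P_two, t.syl.P_le, t.syl.maxi, fun x => (t.syl.mem_iff x).trans ?_⟩,
      fun a ha => ?_⟩
    · exact ⟨fun ⟨hx, a, ha, he⟩ => ⟨hx, a, ha, (hsh x hx a ha).2 he⟩,
        fun ⟨hx, a, ha, he⟩ => ⟨hx, a, ha, (hsh x hx a ha).1 he⟩⟩
    · obtain ⟨x, hx, he⟩ := t.surj a ha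
      exact ⟨x, hx, (hsh x (t.syl.P_le hx) a ha).2 he⟩
  rw [← hJ'] at hJ
  have h1 : Maps A N (w * y) η 1 1 := ⟨one_mem A, one_mem A, by rw [mul_one]; exact hyy.2.2⟩
  obtain ⟨m, hm, hφ⟩ := odd_linear e B' hη hodd hJ hne h1
  exact t'.swap_false e hη hodd hJ (odd_cent_of_fix e B'.line hη hodd h1) hne hm hφ

end CfsgLib.ThreeFree.UStr
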