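import Cfsg.Agent.Lib.ThreeFree.UStructShift

/-!
When the squares of `P` lie in `A`, every bad involution of `P` has `P` as its group of translations.
-/

set_option autoImplicit false
set_option linter.style.haveILetI false
set_option linter.unusedSectionVars false

namespace CfsgLib.ThreeFree.UStr

open Subgroup

universe u

variable {G : Type u} [Group G] [Finite G] {S : Sylow 2 G} {A N : Subgroup G} {n : ℕ}
  {w h : G} {P : Subgroup G}

/-- A bad involution of `P` is a maximal line with the same Sylow 2-subgroup. -/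
theorem Trans.rebase_zero (e : NormalGame S A N n) (t : Trans A N n w h P)
    (hsq : ∀ x ∈ P, x * x ∈ A) {v : G} (hv : Bad N v) (hvP : v ∈ P) :
    ∃ h', Trans A N n v h' P ∧ Nat.card (jGrp A v) = Nat.card (jGrp A w) := by
  classical
  haveI : Fact (Nat.Prime 2) := ⟨Nat.prime_two⟩
  have s := t.syl
  obtain ⟨h', d'⟩ := e.exists_lineData hv
  have hshift : ∀ x ∈ P, v⁻¹ * (x * v * x⁻¹) ∈ A := by
    intro x hx
    have h1 := comm_mem_of_sq (H := P) (fun a ha y hy => A_central ha (s.P_le hy)) hsq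
      (inv_mem hvP) hx
    simpa [mul_assoc] using h1
  have hsh : ∀ x, x ∈ t1Grp A v ↔ x ∈ centralizer (A : Set G) ∧ Shift A v x := by
    refine fun x => (e.mem_t1Grp_iff hv).trans (and_congr_right fun _ => ?_)
    exact ⟨fun hA => ⟨_, hA, (mul_inv_cancel_left _ _).symm⟩,
      fun ⟨a, ha, he⟩ => by rw [he, inv_mul_cancel_left]; exact ha⟩
  have hle : P ≤ t1Grp A v := fun x hx =>
    (e.mem_t1Grp_iff hv).2 ⟨s.P_le hx, hshift x hx⟩
  have h2grp : IsPGroup 2 (t1Grp A v) := by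
    intro x
    obtain ⟨hxA, a, ha, hxa⟩ := (hsh x).1 x.2
    have hxx : (x : G) * x ∈ jGrp A v := ⟨mul_mem hxA hxA, mem_cent.2 (mul_inv_eq_iff_eq_mul.1 (by
      calc (x : G) * x * v * ((x : G) * x)⁻¹ = (x : G) * ((x : G) * v * (x : G)⁻¹) * (x : G)⁻¹ := by
            group
        _ = (x : G) * (v * a) * (x : G)⁻¹ := by rw [hxa]
        _ = (x : G) * v * (x : G)⁻¹ * ((x : G) * a * (x : G)⁻¹) := by group
        _ = v := by rw [hxa, conj_A ha hxA, mul_assoc, A_sq e ha, mul_one]))⟩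
    obtain ⟨j, hj⟩ := d'.J_two ⟨_, hxx⟩
    refine ⟨j + 1, Subtype.ext ?_⟩
    rw [pow_succ', pow_mul, pow_two]
    simpa using congrArg Subtype.val hj
  have hPv : t1Grp A v = P := s.maxi _ h2grp inf_le_left hle
  -- the homomorphism to the translations
  let φ : P →* A := MonoidHom.mk' (fun x => ⟨v⁻¹ * ((x : G) * v * (x : G)⁻¹), hshift x x.2⟩)
    fun x y => by
      refine Subtype.ext ?_
      show v⁻¹ * ((x : G) * y * v * ((x : G) * y)⁻¹) =
        v⁻¹ * ((x : G) * v * (x : G)⁻¹) * (v⁻¹ * ((y : G) * v * (y : G)⁻¹))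
      calc v⁻¹ * ((x : G) * y * v * ((x : G) * y)⁻¹)
          = v⁻¹ * ((x : G) * v * (x : G)⁻¹) *
              ((x : G) * (v⁻¹ * ((y : G) * v * (y : G)⁻¹)) * (x : G)⁻¹) := by group
        _ = _ := by rw [conj_A (hshift y y.2) (s.P_le x.2)]
  have hker : φ.ker.map P.subtype = jGrp A v := by
    ext x
    constructor
    · rintro ⟨y, hy, rfl⟩
      refine ⟨s.P_le y.2, mem_cent.2 ?_⟩
      exact mul_inv_eq_iff_eq_mul.1 (inv_mul_eq_one.1 (congrArg Subtype.val hy)).symm
    · rintro ⟨hxA, hxv⟩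
      have h1 : v⁻¹ * (x * v * x⁻¹) = 1 := by
        rw [mem_cent.1 hxv, mul_inv_cancel_right, inv_mul_cancel]
      have hxP : x ∈ P := hPv ▸ (e.mem_t1Grp_iff hv).2 ⟨hxA, h1 ▸ one_mem A⟩
      exact ⟨⟨x, hxP⟩, Subtype.ext h1, rfl⟩
  have hcard : Nat.card (jGrp A v) * Nat.card φ.range = 2 ^ n * Nat.card (jGrp A w) := by
    rw [← t.card_P e, ← Subgroup.card_mul_index φ.ker, Subgroup.index_ker, ← hker,
      Subgroup.card_map_of_injective P.subtype_injective]
  have hrange : Nat.card φ.range ≤ 2 ^ n := e.base.card_A ▸ Subgroup.card_le_card_group φ.range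
  have hJv := s.base.jmax v hv
  have hJpos : 0 < Nat.card (jGrp A w) := Nat.card_pos
  have heq : Nat.card (jGrp A v) = Nat.card (jGrp A w) := by
    refine le_antisymm hJv (Nat.le_of_mul_le_mul_left ?_ (Nat.two_pow_pos n))
    rw [← hcard, mul_comm (2 ^ n)]
    exact Nat.mul_le_mul_left _ hrange
  have htop : φ.range = ⊤ := by
    refine Subgroup.eq_top_of_card_eq _ ?_
    rw [heq, mul_comm] at hcard
    rw [e.base.card_A]
    exact Nat.eq_of_mul_eq_mul_right hJpos hcard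
  refine ⟨h', ⟨⟨⟨d', fun u hu => (s.base.jmax u hu).trans heq.ge⟩, s.P_two, s.P_le, s.maxi,
    fun x => ?_⟩, fun a ha => ?_⟩, heq⟩
  · rw [← hPv]
    exact hsh x
  · obtain ⟨x, hx⟩ := MonoidHom.range_eq_top.1 htop ⟨a, ha⟩
    refine ⟨x, x.2, ?_⟩
    rw [← show v⁻¹ * ((x : G) * v * (x : G)⁻¹) = a from congrArg Subtype.val hx,
      mul_inv_cancel_left]

end CfsgLib.ThreeFree.UStr
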